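import Mathlib.RepresentationTheory.Character
import Mathlib.RepresentationTheory.Maschke
import Mathlib.Analysis.Complex.Polynomial.Basic
import Mathlib.GroupTheory.OrderOfElement
import Mathlib.LinearAlgebra.Projection
import Cfsg.Prelude.Def_Characters

/-!
# Foundations of ordinary character theory for `Cfsg.IsCharacter` / `Cfsg.IsIrrCharacter`

Contents: transport to coordinate spaces, the induction principle by complete reducibility,
eigenvalues of group elements, sums, products and conjugates of characters, orthonormality of the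
irreducible characters, decomposition of characters, equal characters give equivalent representations.
-/

set_option linter.style.haveILetI false

namespace Cfsg.Agent.Char

open scoped ComplexConjugate
open Module

universe u v w

variable {G : Type u} [Group G]
variable {V : Type v} [AddCommGroup V] [Module ℂ V]
variable {W : Type w} [AddCommGroup W] [Module ℂ W]

/-! ## Coordinates -/

/-- The transport of a representation along a linear equivalence. -/
noncomputable def transport (ρ : Representation ℂ G V) (e : V ≃ₗ[ℂ] W) : Representation ℂ G W where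
  toFun g := e.conj (ρ g)
  map_one' := by ext x; simp [LinearEquiv.conj_apply]
  map_mul' g h := by ext x; simp [LinearEquiv.conj_apply]

@[simp] theorem transport_apply (ρ : Representation ℂ G V) (e : V ≃ₗ[ℂ] W) (g : G) (x : W) :
    transport ρ e g x = e (ρ g (e.symm x)) := rfl

/-- The equivalence between a representation and its transport. -/
noncomputable def transportEquiv (ρ : Representation ℂ G V) (e : V ≃ₗ[ℂ] W) :
    ρ.Equiv (transport ρ e) :=
  Representation.Equiv.mk e (fun g => by ext x; simp)

theorem character_transport (ρ : Representation ℂ G V) (e : V ≃ₗ[ℂ] W) :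
    (transport ρ e).character = ρ.character := by
  funext g
  exact LinearMap.trace_conj' (ρ g) e

/-- Equivalent representations have isomorphic lattices of subrepresentations. -/
def subrepOrderIso {ρ : Representation ℂ G V} {σ : Representation ℂ G W} (e : ρ.Equiv σ) :
    Subrepresentation ρ ≃o Subrepresentation σ where
  toFun a := ⟨a.toSubmodule.map e.toLinearEquiv.toLinearMap, by
    rintro g _ ⟨x, hx, rfl⟩
    exact ⟨ρ g x, a.apply_mem_toSubmodule g hx, e.toIntertwiningMap.isIntertwining ρ σ g x⟩⟩
  invFun b := ⟨b.toSubmodule.comap e.toLinearEquiv.toLinearMap, by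
    intro g x hx
    change e.toIntertwiningMap (ρ g x) ∈ b.toSubmodule
    rw [e.toIntertwiningMap.isIntertwining ρ σ g x]
    exact b.apply_mem_toSubmodule g hx⟩
  left_inv a := Subrepresentation.toSubmodule_injective
    (Submodule.comap_map_eq_of_injective e.toLinearEquiv.injective _)
  right_inv b := Subrepresentation.toSubmodule_injective
    (Submodule.map_comap_eq_of_surjective e.toLinearEquiv.surjective _)
  map_rel_iff' {a b} := Submodule.map_le_map_iff_of_injective e.toLinearEquiv.injective _ _

theorem isIrreducible_of_equiv {ρ : Representation ℂ G V} {σ : Representation ℂ G W}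
    (e : ρ.Equiv σ) [ρ.IsIrreducible] : σ.IsIrreducible :=
  (subrepOrderIso e).isSimpleOrder_iff.mp inferInstance

/-- The coordinate form of a finite dimensional representation. -/
noncomputable def coordRep [FiniteDimensional ℂ V] (ρ : Representation ℂ G V) :
    Representation ℂ G (Fin (finrank ℂ V) → ℂ) :=
  transport ρ (Module.finBasis ℂ V).equivFun

theorem isCharacter_of_rep [FiniteDimensional ℂ V] (ρ : Representation ℂ G V) :
    Cfsg.IsCharacter G ρ.character :=
  ⟨_, coordRep ρ, character_transport _ _⟩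

theorem isIrrCharacter_of_rep [FiniteDimensional ℂ V] (ρ : Representation ℂ G V)
    [ρ.IsIrreducible] : Cfsg.IsIrrCharacter G ρ.character :=
  ⟨_, coordRep ρ, isIrreducible_of_equiv (transportEquiv _ _), character_transport _ _⟩

theorem IsIrrCharacter.isCharacter {χ : G → ℂ} (h : Cfsg.IsIrrCharacter G χ) :
    Cfsg.IsCharacter G χ := by
  obtain ⟨n, ρ, -, h⟩ := h
  exact ⟨n, ρ, h⟩

/-! ## Complete reducibility -/

theorem isCompl_toSubmodule {ρ : Representation ℂ G V} {a b : Subrepresentation ρ}
    (h : IsCompl a b) : IsCompl a.toSubmodule b.toSubmodule := by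
  constructor
  · rw [disjoint_iff, ← Subrepresentation.toSubmodule_inf, h.inf_eq_bot]; rfl
  · rw [codisjoint_iff, ← Subrepresentation.toSubmodule_sup, h.sup_eq_top]; rfl

/-- A representation split by complementary subrepresentations is their product. -/
noncomputable def prodEquiv {ρ : Representation ℂ G V} {a b : Subrepresentation ρ}
    (h : IsCompl a b) :
    (a.toRepresentation.prod b.toRepresentation).Equiv ρ :=
  Representation.Equiv.mk (Submodule.prodEquivOfIsCompl _ _ (isCompl_toSubmodule h))
    (fun g => by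
      refine LinearMap.ext fun x => ?_
      simp only [LinearMap.comp_apply, LinearEquiv.coe_coe, Submodule.coe_prodEquivOfIsCompl',
        map_add]
      rfl)

/-- Induction over complete reducibility. -/
theorem rep_induction [Finite G]
    {P : ∀ (V : Type v) [AddCommGroup V] [Module ℂ V] [FiniteDimensional ℂ V],
      Representation ℂ G V → Prop}
    (zero : ∀ (V : Type v) [AddCommGroup V] [Module ℂ V] [FiniteDimensional ℂ V] [Subsingleton V]
      (ρ : Representation ℂ G V), P V ρ)
    (irr : ∀ (V : Type v) [AddCommGroup V] [Module ℂ V] [FiniteDimensional ℂ V]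
      (ρ : Representation ℂ G V) [ρ.IsIrreducible], P V ρ)
    (split : ∀ (V : Type v) [AddCommGroup V] [Module ℂ V] [FiniteDimensional ℂ V]
      (ρ : Representation ℂ G V) (a b : Subrepresentation ρ), IsCompl a b →
        P a.toSubmodule a.toRepresentation → P b.toSubmodule b.toRepresentation → P V ρ)
    (V : Type v) [AddCommGroup V] [Module ℂ V] [FiniteDimensional ℂ V]
    (ρ : Representation ℂ G V) : P V ρ := by
  suffices H : ∀ (n : ℕ) (V : Type v) [AddCommGroup V] [Module ℂ V] [FiniteDimensional ℂ V]
      (ρ : Representation ℂ G V), finrank ℂ V ≤ n → P V ρ from H _ V ρ le_rfl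
  intro n
  induction n with
  | zero =>
    intro V _ _ _ ρ h
    have : Subsingleton V := (Module.finrank_zero_iff (R := ℂ)).mp (Nat.le_zero.mp h)
    exact zero V ρ
  | succ n ih =>
    intro V _ _ _ ρ h
    by_cases hs : Subsingleton V
    · exact zero V ρ
    by_cases hirr : ρ.IsIrreducible
    · exact irr V ρ
    have hne : (⊥ : Subrepresentation ρ) ≠ ⊤ := by
      intro hbt
      have h2 := congrArg Subrepresentation.toSubmodule hbt
      exact hs (Submodule.subsingleton_iff ℂ |>.mp (subsingleton_of_bot_eq_top h2))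
    haveI : Nontrivial (Subrepresentation ρ) := ⟨⟨⊥, ⊤, hne⟩⟩
    obtain ⟨a, ha0, ha1⟩ : ∃ a : Subrepresentation ρ, a ≠ ⊥ ∧ a ≠ ⊤ := by
      by_contra hc
      push Not at hc
      exact hirr ⟨fun a => (em (a = ⊥)).imp_right (hc a)⟩
    haveI : NeZero (Nat.card G : ℂ) := ⟨Nat.cast_ne_zero.mpr Nat.card_pos.ne'⟩
    obtain ⟨b, hb⟩ := exists_isCompl a
    have hfr := Submodule.finrank_add_eq_of_isCompl (isCompl_toSubmodule hb)
    have hb0 : b.toSubmodule ≠ ⊥ := by
      intro hb0
      have hb' : b = ⊥ := Subrepresentation.toSubmodule_injective hb0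
      rw [hb'] at hb
      exact ha1 (eq_top_of_isCompl_bot hb)
    have ha0' : a.toSubmodule ≠ ⊥ := fun h' => ha0 (Subrepresentation.toSubmodule_injective h')
    have := Submodule.one_le_finrank_iff.mpr ha0'
    have := Submodule.one_le_finrank_iff.mpr hb0
    exact split V ρ a b hb (ih _ _ (by omega)) (ih _ _ (by omega))

theorem character_prod [FiniteDimensional ℂ V] [FiniteDimensional ℂ W]
    (ρ : Representation ℂ G V) (σ : Representation ℂ G W) :
    (ρ.prod σ).character = ρ.character + σ.character := by
  funext g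
  exact LinearMap.trace_prodMap' (ρ g) (σ g)

theorem character_split [FiniteDimensional ℂ V] {ρ : Representation ℂ G V}
    {a b : Subrepresentation ρ} (h : IsCompl a b) :
    ρ.character = a.toRepresentation.character + b.toRepresentation.character := by
  rw [← Representation.char_iso (prodEquiv h), character_prod]

theorem eq_zero_of_split {ρ : Representation ℂ G V} {a b : Subrepresentation ρ} (h : IsCompl a b)
    {T : V →ₗ[ℂ] W} (ha : ∀ x ∈ a.toSubmodule, T x = 0) (hb : ∀ x ∈ b.toSubmodule, T x = 0) :
    T = 0 := by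
  ext x
  obtain ⟨p, hp, q, hq, rfl⟩ := Submodule.mem_sup.mp
    ((isCompl_toSubmodule h).sup_eq_top ▸ Submodule.mem_top : x ∈ a.toSubmodule ⊔ b.toSubmodule)
  simp [ha p hp, hb q hq]

/-- Schur: an intertwining endomorphism of an irreducible representation is a scalar. -/
theorem schur_scalar [FiniteDimensional ℂ V] (ρ : Representation ℂ G V) [ρ.IsIrreducible]
    (T : V →ₗ[ℂ] V) (hT : ∀ g x, T (ρ g x) = ρ g (T x)) : ∃ c : ℂ, T = c • LinearMap.id := by
  let f : Representation.IntertwiningMap ρ ρ := T.intertwiningMap_of_isIntertwiningMap ρ ρ hT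
  obtain ⟨c, hc⟩ :=
    (Representation.IsIrreducible.algebraMap_intertwiningMap_bijective_of_isAlgClosed (ρ := ρ)).2 f
  refine ⟨c, ?_⟩
  have := congrArg Representation.IntertwiningMap.toLinearMap hc
  ext x
  exact (LinearMap.congr_fun this x).symm

theorem nontrivial_of_irreducible (ρ : Representation ℂ G V) [ρ.IsIrreducible] : Nontrivial V := by
  by_contra h
  rw [not_nontrivial_iff_subsingleton] at h
  refine bot_ne_top (α := Subrepresentation ρ) (Subrepresentation.toSubmodule_injective ?_)
  exact Subsingleton.elim _ _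

theorem finrank_pos_of_irreducible [FiniteDimensional ℂ V] (ρ : Representation ℂ G V)
    [ρ.IsIrreducible] : 0 < finrank ℂ V :=
  haveI := nontrivial_of_irreducible ρ
  finrank_pos

/-! ## Eigenvalues -/

/-- The eigenvalues of one element in a representation. -/
theorem exists_eigenvalues [Finite G] [FiniteDimensional ℂ V] (ρ : Representation ℂ G V) (g : G) :
    ∃ M : Multiset ℂ, Multiset.card M = finrank ℂ V ∧ (∀ z ∈ M, z ^ orderOf g = 1) ∧
      (∀ k : ℕ, ρ.character (g ^ k) = (M.map (fun z => z ^ k)).sum) ∧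
      ∀ c : ℂ, (∀ z ∈ M, z = c) → ρ g = c • LinearMap.id := by
  let H := Subgroup.zpowers g
  let gH : H := ⟨g, Subgroup.mem_zpowers g⟩
  let σ : Representation ℂ H V := ρ.comp H.subtype
  have key := rep_induction (G := H) (P := fun U _ _ _ τ =>
    ∃ M : Multiset ℂ, Multiset.card M = finrank ℂ U ∧ (∀ z ∈ M, z ^ orderOf g = 1) ∧
      (∀ k : ℕ, τ.character (gH ^ k) = (M.map (fun z => z ^ k)).sum) ∧
      ∀ c : ℂ, (∀ z ∈ M, z = c) → τ gH = c • LinearMap.id) ?_ ?_ ?_ V σ
  · obtain ⟨M, h1, h2, h3, h4⟩ := key
    exact ⟨M, h1, h2, fun k => by simpa [Representation.character, σ, gH] using h3 k, h4⟩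
  · intro U _ _ _ _ τ
    refine ⟨0, by simp [finrank_zero_of_subsingleton], by simp, fun k => ?_,
      fun c _ => Subsingleton.elim _ _⟩
    simp [Representation.character, Subsingleton.elim (τ (gH ^ k)) 0]
  · intro U _ _ _ τ _
    have h1 : finrank ℂ U = 1 := Representation.IsIrreducible.finrank_eq_one_of_isMulCommutative τ
    obtain ⟨c, hc⟩ := schur_scalar τ (τ gH) (fun x u => by
      rw [← Module.End.mul_apply, ← map_mul, ← Module.End.mul_apply, ← map_mul]
      congr 2
      exact Subtype.ext (Subgroup.mem_zpowers_iff.mp x.2 |>.elim fun k hk => by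
        show g * (x : G) = x * g
        rw [← hk]; exact ((Commute.refl g).zpow_right k).eq))
    have hord : orderOf gH = orderOf g := by
      rw [← Subgroup.orderOf_coe gH]
    have hcpow : ∀ k : ℕ, τ (gH ^ k) = (c ^ k) • LinearMap.id := by
      intro k
      rw [map_pow, hc, smul_pow]
      simp [← Module.End.one_eq_id]
    refine ⟨{c}, by simp [h1], ?_, fun k => ?_, fun d hd => ?_⟩
    · intro z hz
      rw [Multiset.mem_singleton] at hz
      subst hz
      have h' := hcpow (orderOf gH)
      rw [pow_orderOf_eq_one, map_one, hord] at h'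
      have h'' := congrArg (LinearMap.trace ℂ U) h'
      simpa [h1, LinearMap.trace_id, Module.End.one_eq_id] using h''.symm
    · simp [Representation.character, hcpow k, h1, LinearMap.trace_id]
    · rw [hc, hd c (Multiset.mem_singleton_self c)]
  · intro U _ _ _ τ a b hab ⟨M, hM1, hM2, hM3, hM4⟩ ⟨N, hN1, hN2, hN3, hN4⟩
    refine ⟨M + N, ?_, ?_, fun k => ?_, fun c hc => ?_⟩
    · rw [Multiset.card_add, hM1, hN1, Submodule.finrank_add_eq_of_isCompl (isCompl_toSubmodule hab)]
    · intro z hz
      rcases Multiset.mem_add.mp hz with h | h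
      exacts [hM2 z h, hN2 z h]
    · rw [character_split hab, Pi.add_apply, hM3, hN3, Multiset.map_add, Multiset.sum_add]
    · have ha := hM4 c (fun z hz => hc z (Multiset.mem_add.mpr (Or.inl hz)))
      have hb := hN4 c (fun z hz => hc z (Multiset.mem_add.mpr (Or.inr hz)))
      refine sub_eq_zero.mp (eq_zero_of_split hab ?_ ?_)
      · intro x hx
        have := congrArg Subtype.val (LinearMap.congr_fun ha ⟨x, hx⟩)
        simpa [sub_eq_zero, Subrepresentation.toRepresentation] using this
      · intro x hx
        have := congrArg Subtype.val (LinearMap.congr_fun hb ⟨x, hx⟩)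
        simpa [sub_eq_zero, Subrepresentation.toRepresentation] using this

theorem norm_eq_one_of_pow {z : ℂ} {m : ℕ} (hm : m ≠ 0) (hz : z ^ m = 1) : ‖z‖ = 1 :=
  Complex.norm_eq_one_of_pow_eq_one hz hm

theorem char_inv [Finite G] [FiniteDimensional ℂ V] (ρ : Representation ℂ G V) (g : G) :
    ρ.character g⁻¹ = conj (ρ.character g) := by
  obtain ⟨M, -, h2, h3, -⟩ := exists_eigenvalues ρ g
  have hpos := (isOfFinOrder_of_finite g).orderOf_pos
  have hinv : g⁻¹ = g ^ (orderOf g - 1) := by
    refine inv_eq_of_mul_eq_one_right ?_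
    rw [← pow_succ', Nat.sub_add_cancel hpos, pow_orderOf_eq_one]
  have h1 := h3 1
  simp only [pow_one, Multiset.map_id'] at h1
  rw [hinv, h3, h1, map_multiset_sum]
  congr 1
  refine Multiset.map_congr rfl fun z hz => ?_
  have hn := norm_eq_one_of_pow hpos.ne' (h2 z hz)
  have hz0 : z ≠ 0 := by intro h; simp [h] at hn
  rw [← Complex.inv_eq_conj hn]
  refine eq_inv_of_mul_eq_one_left ?_
  rw [← pow_succ, Nat.sub_add_cancel hpos, h2 z hz]

theorem IsCharacter.inv [Finite G] {χ : G → ℂ} (h : Cfsg.IsCharacter G χ) (g : G) :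
    χ g⁻¹ = conj (χ g) := by
  obtain ⟨n, ρ, rfl⟩ := h
  exact char_inv ρ g

/-! ## Closure properties -/

theorem IsCharacter.isClassFunction {χ : G → ℂ} (h : Cfsg.IsCharacter G χ) :
    Cfsg.IsClassFunction G χ := by
  obtain ⟨n, ρ, rfl⟩ := h
  exact fun g x => Representation.char_conj ρ g x

theorem isCharacter_zero : Cfsg.IsCharacter G 0 := by
  refine ⟨0, 1, funext fun g => ?_⟩
  simp [Representation.character]

theorem isIrreducible_of_finrank_eq_one [FiniteDimensional ℂ V] (ρ : Representation ℂ G V)
    (h : finrank ℂ V = 1) : ρ.IsIrreducible := by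
  have hn : Nontrivial V := Module.nontrivial_of_finrank_eq_succ h
  haveI : Nontrivial (Subrepresentation ρ) := ⟨⟨⊥, ⊤, fun e => by
    exact bot_ne_top (congrArg Subrepresentation.toSubmodule e)⟩⟩
  refine ⟨fun a => ?_⟩
  rcases Nat.eq_zero_or_pos (finrank ℂ a.toSubmodule) with h0 | h0
  · left
    exact Subrepresentation.toSubmodule_injective (Submodule.finrank_eq_zero.mp h0)
  · right
    apply Subrepresentation.toSubmodule_injective
    exact Submodule.eq_top_of_finrank_eq (le_antisymm (Submodule.finrank_le _) (h ▸ h0))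

/-- The one-dimensional representation of a linear character. -/
noncomputable def linRep (f : G →* ℂˣ) : Representation ℂ G ℂ :=
  ((Algebra.lmul ℂ ℂ).toMonoidHom.comp (Units.coeHom ℂ)).comp f

theorem linRep_apply (f : G →* ℂˣ) (g : G) (x : ℂ) : linRep f g x = (f g : ℂ) * x := rfl

theorem character_linRep (f : G →* ℂˣ) : (linRep f).character = fun g => (f g : ℂ) := by
  funext g
  have : linRep f g = (f g : ℂ) • LinearMap.id := by ext; simp [linRep_apply]
  simp [Representation.character, this, LinearMap.trace_id]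

theorem isIrrCharacter_linear (f : G →* ℂˣ) : Cfsg.IsIrrCharacter G (fun g => (f g : ℂ)) := by
  have := isIrreducible_of_finrank_eq_one (linRep f) (Module.finrank_self ℂ)
  exact character_linRep f ▸ isIrrCharacter_of_rep _

theorem isIrrCharacter_one : Cfsg.IsIrrCharacter G (fun _ => 1) := by
  simpa using isIrrCharacter_linear (1 : G →* ℂˣ)

theorem isCharacter_one : Cfsg.IsCharacter G (fun _ => 1) :=
  IsIrrCharacter.isCharacter isIrrCharacter_one

theorem IsCharacter.add {χ ψ : G → ℂ} (h1 : Cfsg.IsCharacter G χ) (h2 : Cfsg.IsCharacter G ψ) :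
    Cfsg.IsCharacter G (χ + ψ) := by
  obtain ⟨n, ρ, rfl⟩ := h1
  obtain ⟨m, σ, rfl⟩ := h2
  exact character_prod ρ σ ▸ isCharacter_of_rep _

theorem IsCharacter.mul {χ ψ : G → ℂ} (h1 : Cfsg.IsCharacter G χ) (h2 : Cfsg.IsCharacter G ψ) :
    Cfsg.IsCharacter G (χ * ψ) := by
  obtain ⟨n, ρ, rfl⟩ := h1
  obtain ⟨m, σ, rfl⟩ := h2
  exact Representation.char_tensor ρ σ ▸ isCharacter_of_rep _

theorem IsCharacter.conj [Finite G] {χ : G → ℂ} (h : Cfsg.IsCharacter G χ) :
    Cfsg.IsCharacter G (fun g => conj (χ g)) := by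
  obtain ⟨n, ρ, rfl⟩ := h
  have : (fun g => (starRingEnd ℂ) (ρ.character g)) = ρ.dual.character := by
    funext g; rw [Representation.char_dual, char_inv]
  exact this ▸ isCharacter_of_rep _

theorem IsCharacter.comp {H : Type w} [Group H] {χ : G → ℂ} (h : Cfsg.IsCharacter G χ)
    (f : H →* G) : Cfsg.IsCharacter H (fun x => χ (f x)) := by
  obtain ⟨n, ρ, rfl⟩ := h
  exact ⟨n, ρ.comp f, rfl⟩

theorem IsCharacter.restrict {χ : G → ℂ} (h : Cfsg.IsCharacter G χ) (H : Subgroup G) :
    Cfsg.IsCharacter H (fun x : H => χ x) :=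
  IsCharacter.comp h H.subtype

theorem IsIrrCharacter.comp {H : Type w} [Group H] {χ : G → ℂ} (h : Cfsg.IsIrrCharacter G χ)
    (f : H →* G) (hf : Function.Surjective f) : Cfsg.IsIrrCharacter H (fun x => χ (f x)) := by
  obtain ⟨n, ρ, hρ, rfl⟩ := h
  refine ⟨n, ρ.comp f, ?_, rfl⟩
  have e : Subrepresentation ρ ≃o Subrepresentation (ρ.comp f : Representation ℂ H (Fin n → ℂ)) :=
    { toFun := fun a => ⟨a.toSubmodule, fun x => a.apply_mem_toSubmodule (f x)⟩
      invFun := fun a => ⟨a.toSubmodule, fun g v hv => by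
        obtain ⟨x, rfl⟩ := hf g
        exact a.apply_mem_toSubmodule x hv⟩
      left_inv := fun _ => rfl
      right_inv := fun _ => rfl
      map_rel_iff' := Iff.rfl }
  exact e.isSimpleOrder_iff.mp hρ

theorem IsCharacter.nsmul {χ : G → ℂ} (h : Cfsg.IsCharacter G χ) (m : ℕ) :
    Cfsg.IsCharacter G ((m : ℂ) • χ) := by
  induction m with
  | zero => simpa using isCharacter_zero
  | succ m ih =>
    have := IsCharacter.add ih h
    simpa [add_smul] using this

theorem isCharacter_sum {ι : Type*} (s : Finset ι) {χ : ι → G → ℂ}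
    (h : ∀ i ∈ s, Cfsg.IsCharacter G (χ i)) : Cfsg.IsCharacter G (∑ i ∈ s, χ i) := by
  classical
  induction s using Finset.induction with
  | empty => simpa using isCharacter_zero
  | insert a s ha ih =>
    rw [Finset.sum_insert ha]
    exact IsCharacter.add (h a (Finset.mem_insert_self _ _))
      (ih fun i hi => h i (Finset.mem_insert_of_mem hi))

theorem IsCharacter.exists_degree {χ : G → ℂ} (h : Cfsg.IsCharacter G χ) :
    ∃ d : ℕ, χ 1 = d := by
  obtain ⟨n, ρ, rfl⟩ := h
  exact ⟨_, Representation.char_one ρ⟩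

theorem IsIrrCharacter.exists_degree {χ : G → ℂ} (h : Cfsg.IsIrrCharacter G χ) :
    ∃ d : ℕ, 0 < d ∧ χ 1 = d := by
  obtain ⟨n, ρ, hρ, rfl⟩ := h
  exact ⟨_, finrank_pos_of_irreducible ρ, Representation.char_one ρ⟩

theorem IsIrrCharacter.one_ne_zero {χ : G → ℂ} (h : Cfsg.IsIrrCharacter G χ) : χ 1 ≠ 0 := by
  obtain ⟨d, hd, he⟩ := IsIrrCharacter.exists_degree h
  rw [he]
  exact Nat.cast_ne_zero.mpr hd.ne'

theorem IsCharacter.eq_zero_of_one [Finite G] {χ : G → ℂ} (h : Cfsg.IsCharacter G χ)
    (h0 : χ 1 = 0) : χ = 0 := by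
  obtain ⟨n, ρ, rfl⟩ := h
  rw [Representation.char_one, Nat.cast_eq_zero] at h0
  have : Subsingleton (Fin n → ℂ) := Module.finrank_zero_iff.mp h0
  funext g
  simp [Representation.character, Subsingleton.elim (ρ g) 0]

/-! ## The inner product -/

section inner

variable [Fintype G]

theorem classInner_add_left (a b c : G → ℂ) :
    Cfsg.classInner (a + b) c = Cfsg.classInner a c + Cfsg.classInner b c := by
  simp [Cfsg.classInner, add_mul, Finset.sum_add_distrib, mul_add]

theorem classInner_add_right (a b c : G → ℂ) :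
    Cfsg.classInner a (b + c) = Cfsg.classInner a b + Cfsg.classInner a c := by
  simp [Cfsg.classInner, mul_add, Finset.sum_add_distrib]

theorem classInner_smul_left (r : ℂ) (a b : G → ℂ) :
    Cfsg.classInner (r • a) b = r * Cfsg.classInner a b := by
  simp [Cfsg.classInner, Finset.mul_sum, mul_left_comm, mul_assoc]

theorem classInner_smul_right (r : ℂ) (a b : G → ℂ) :
    Cfsg.classInner a (r • b) = conj r * Cfsg.classInner a b := by
  simp [Cfsg.classInner, Finset.mul_sum, mul_left_comm]

@[simp] theorem classInner_zero_left (a : G → ℂ) : Cfsg.classInner 0 a = 0 := by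
  simp [Cfsg.classInner]

@[simp] theorem classInner_zero_right (a : G → ℂ) : Cfsg.classInner a 0 = 0 := by
  simp [Cfsg.classInner]

theorem classInner_neg_left (a b : G → ℂ) :
    Cfsg.classInner (-a) b = -Cfsg.classInner a b := by
  simp [Cfsg.classInner]

theorem classInner_neg_right (a b : G → ℂ) :
    Cfsg.classInner a (-b) = -Cfsg.classInner a b := by
  simp [Cfsg.classInner]

theorem classInner_sub_left (a b c : G → ℂ) :
    Cfsg.classInner (a - b) c = Cfsg.classInner a c - Cfsg.classInner b c := by
  rw [sub_eq_add_neg, classInner_add_left, classInner_neg_left, ← sub_eq_add_neg]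

theorem classInner_sub_right (a b c : G → ℂ) :
    Cfsg.classInner a (b - c) = Cfsg.classInner a b - Cfsg.classInner a c := by
  rw [sub_eq_add_neg, classInner_add_right, classInner_neg_right, ← sub_eq_add_neg]

theorem classInner_sum_left {ι : Type*} (s : Finset ι) (f : ι → G → ℂ) (b : G → ℂ) :
    Cfsg.classInner (∑ i ∈ s, f i) b = ∑ i ∈ s, Cfsg.classInner (f i) b := by
  classical
  induction s using Finset.induction with
  | empty => simp
  | insert a s ha ih => rw [Finset.sum_insert ha, Finset.sum_insert ha, classInner_add_left, ih]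

theorem classInner_sum_right {ι : Type*} (s : Finset ι) (a : G → ℂ) (f : ι → G → ℂ) :
    Cfsg.classInner a (∑ i ∈ s, f i) = ∑ i ∈ s, Cfsg.classInner a (f i) := by
  classical
  induction s using Finset.induction with
  | empty => simp
  | insert x s hx ih => rw [Finset.sum_insert hx, Finset.sum_insert hx, classInner_add_right, ih]

theorem classInner_conj_symm (a b : G → ℂ) :
    conj (Cfsg.classInner a b) = Cfsg.classInner b a := by
  simp [Cfsg.classInner, mul_comm]

theorem classInner_self_eq (a : G → ℂ) :
    Cfsg.classInner a a = (((Nat.card G : ℝ)⁻¹ * ∑ g : G, ‖a g‖ ^ 2 : ℝ) : ℂ) := by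
  simp [Cfsg.classInner, Complex.mul_conj, Complex.normSq_eq_norm_sq]

theorem classInner_self_nonneg (a : G → ℂ) : 0 ≤ (Cfsg.classInner a a).re := by
  rw [classInner_self_eq, Complex.ofReal_re]
  positivity

theorem classInner_self_eq_zero {a : G → ℂ} (h : Cfsg.classInner a a = 0) : a = 0 := by
  rw [classInner_self_eq, Complex.ofReal_eq_zero, mul_eq_zero] at h
  rcases h with h | h
  · exfalso
    simp at h
  · funext g
    have := (Finset.sum_eq_zero_iff_of_nonneg (fun x _ => sq_nonneg ‖a x‖)).mp h g (Finset.mem_univ g)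
    simpa using this

theorem classInner_char [FiniteDimensional ℂ V] [FiniteDimensional ℂ W]
    (ρ : Representation ℂ G V) (σ : Representation ℂ G W) :
    Cfsg.classInner σ.character ρ.character = finrank ℂ (Representation.IntertwiningMap ρ σ) := by
  haveI : Invertible (Nat.card G : ℂ) := invertibleOfNonzero (Nat.cast_ne_zero.mpr Nat.card_pos.ne')
  rw [← Representation.card_inv_mul_sum_char_mul_char_eq_finrank]
  simp [Cfsg.classInner, char_inv]

theorem IsCharacter.exists_classInner_nat {χ ψ : G → ℂ} (h1 : Cfsg.IsCharacter G χ)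
    (h2 : Cfsg.IsCharacter G ψ) : ∃ n : ℕ, Cfsg.classInner χ ψ = n := by
  obtain ⟨n, ρ, rfl⟩ := h1
  obtain ⟨m, σ, rfl⟩ := h2
  exact ⟨_, classInner_char σ ρ⟩

theorem classInner_comm_of_isCharacter {χ ψ : G → ℂ} (h1 : Cfsg.IsCharacter G χ)
    (h2 : Cfsg.IsCharacter G ψ) : Cfsg.classInner χ ψ = Cfsg.classInner ψ χ := by
  obtain ⟨n, hn⟩ := IsCharacter.exists_classInner_nat h1 h2
  rw [← classInner_conj_symm χ ψ, hn, map_natCast]

theorem classInner_self_irr {χ : G → ℂ} (h : Cfsg.IsIrrCharacter G χ) :
    Cfsg.classInner χ χ = 1 := by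
  obtain ⟨n, ρ, hρ, rfl⟩ := h
  rw [classInner_char, Representation.IsIrreducible.finrank_intertwiningMap_self, Nat.cast_one]

theorem classInner_rep_eq [FiniteDimensional ℂ V] [FiniteDimensional ℂ W]
    (ρ : Representation ℂ G V) (σ : Representation ℂ G W) [ρ.IsIrreducible] [σ.IsIrreducible]
    (h : IsEmpty (Representation.Equiv ρ σ)) :
    Cfsg.classInner σ.character ρ.character = 0 := by
  rw [classInner_char, finrank_zero_of_subsingleton, Nat.cast_zero]

theorem classInner_irr_of_ne {χ ψ : G → ℂ} (h1 : Cfsg.IsIrrCharacter G χ)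
    (h2 : Cfsg.IsIrrCharacter G ψ) (hne : χ ≠ ψ) : Cfsg.classInner χ ψ = 0 := by
  obtain ⟨n, ρ, hρ, rfl⟩ := h1
  obtain ⟨m, σ, hσ, rfl⟩ := h2
  exact classInner_rep_eq σ ρ ⟨fun e => hne (Representation.char_iso e).symm⟩

open scoped Classical in
/-- Row orthogonality. -/
theorem classInner_irr {χ ψ : G → ℂ} (h1 : Cfsg.IsIrrCharacter G χ)
    (h2 : Cfsg.IsIrrCharacter G ψ) : Cfsg.classInner χ ψ = if χ = ψ then 1 else 0 := by
  split_ifs with h
  · subst h; exact classInner_self_irr h1
  · exact classInner_irr_of_ne h1 h2 h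

theorem nonempty_equiv_of_irr [FiniteDimensional ℂ V] [FiniteDimensional ℂ W]
    (ρ : Representation ℂ G V) (σ : Representation ℂ G W) [ρ.IsIrreducible] [σ.IsIrreducible]
    (h : ρ.character = σ.character) : Nonempty (ρ.Equiv σ) := by
  by_contra hc
  rw [not_nonempty_iff] at hc
  have h0 := classInner_rep_eq ρ σ hc
  rw [← h, classInner_self_irr (isIrrCharacter_of_rep ρ)] at h0
  exact _root_.one_ne_zero h0

end inner

/-! ## The set of irreducible characters -/

theorem linearIndependent_irr [Finite G] :
    LinearIndependent ℂ (fun χ : Cfsg.IrrCharacter G => (χ : G → ℂ)) := by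
  classical
  haveI : Fintype G := Fintype.ofFinite G
  rw [linearIndependent_iff']
  intro s c hc χ hχ
  have := congrArg (fun f => Cfsg.classInner f (χ : G → ℂ)) hc
  simp only [classInner_sum_left, classInner_smul_left, classInner_zero_left] at this
  rw [Finset.sum_eq_single χ] at this
  · rwa [classInner_self_irr χ.2, mul_one] at this
  · intro b _ hb
    rw [classInner_irr_of_ne b.2 χ.2 (fun e => hb (Subtype.ext e)), mul_zero]
  · exact fun h => absurd hχ h

instance irrCharacter_finite [Finite G] : Finite (Cfsg.IrrCharacter G) :=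
  (linearIndependent_irr (G := G)).finite

noncomputable instance irrCharacter_fintype [Finite G] : Fintype (Cfsg.IrrCharacter G) :=
  Fintype.ofFinite _

/-- The principal character. -/
def principal (G : Type u) [Group G] : Cfsg.IrrCharacter G := ⟨fun _ => 1, isIrrCharacter_one⟩

/-- A character is a sum of irreducible characters with natural multiplicities. -/
theorem IsCharacter.exists_decomp [Finite G] {χ : G → ℂ} (h : Cfsg.IsCharacter G χ) :
    ∃ m : Cfsg.IrrCharacter G → ℕ, χ = ∑ ψ, (m ψ : ℂ) • (ψ : G → ℂ) := by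
  classical
  obtain ⟨n, ρ, rfl⟩ := h
  refine rep_induction (G := G) (P := fun U _ _ _ τ =>
    ∃ m : Cfsg.IrrCharacter G → ℕ, τ.character = ∑ ψ, (m ψ : ℂ) • (ψ : G → ℂ)) ?_ ?_ ?_ _ ρ
  · intro U _ _ _ _ τ
    refine ⟨0, funext fun g => ?_⟩
    simp [Representation.character, Subsingleton.elim (τ g) 0]
  · intro U _ _ _ τ _
    refine ⟨fun ψ => if ψ = ⟨_, isIrrCharacter_of_rep τ⟩ then 1 else 0, ?_⟩
    simp [ite_smul]
  · intro U _ _ _ τ a b hab ⟨m, hm⟩ ⟨m', hm'⟩
    refine ⟨m + m', ?_⟩
    rw [character_split hab, hm, hm', ← Finset.sum_add_distrib]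
    simp [add_smul]

theorem classInner_combination [Fintype G] (c : Cfsg.IrrCharacter G → ℂ)
    (ψ : Cfsg.IrrCharacter G) :
    Cfsg.classInner (∑ χ, c χ • (χ : G → ℂ)) ψ = c ψ := by
  classical
  rw [classInner_sum_left, Finset.sum_eq_single ψ]
  · rw [classInner_smul_left, classInner_self_irr ψ.2, mul_one]
  · intro b _ hb
    rw [classInner_smul_left, classInner_irr_of_ne b.2 ψ.2 (fun e => hb (Subtype.ext e)), mul_zero]
  · exact fun h => absurd (Finset.mem_univ _) h

theorem classInner_combination₂ [Fintype G] (c d : Cfsg.IrrCharacter G → ℂ) :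
    Cfsg.classInner (∑ χ, c χ • (χ : G → ℂ)) (∑ χ, d χ • (χ : G → ℂ)) = ∑ χ, c χ * conj (d χ) := by
  rw [classInner_sum_right]
  refine Finset.sum_congr rfl fun χ _ => ?_
  rw [classInner_smul_right, classInner_combination, mul_comm]

theorem IsCharacter.eq_sum [Fintype G] {χ : G → ℂ} (h : Cfsg.IsCharacter G χ) :
    χ = ∑ ψ : Cfsg.IrrCharacter G, Cfsg.classInner χ ψ • (ψ : G → ℂ) := by
  obtain ⟨m, hm⟩ := IsCharacter.exists_decomp h
  rw [hm]
  exact Finset.sum_congr rfl fun ψ _ => by rw [classInner_combination]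

theorem IsCharacter.exists_constituent [Fintype G] {χ : G → ℂ} (h : Cfsg.IsCharacter G χ)
    (h0 : χ ≠ 0) : ∃ ψ : Cfsg.IrrCharacter G, Cfsg.classInner χ ψ ≠ 0 := by
  by_contra hc
  push Not at hc
  exact h0 (by rw [IsCharacter.eq_sum h]; simp [hc])

/-- A character of norm one is irreducible. -/
theorem IsCharacter.isIrr_of_norm_one [Fintype G] {χ : G → ℂ} (h : Cfsg.IsCharacter G χ)
    (h1 : Cfsg.classInner χ χ = 1) : Cfsg.IsIrrCharacter G χ := by
  classical
  obtain ⟨m, hm⟩ := IsCharacter.exists_decomp h
  rw [hm, classInner_combination₂] at h1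
  simp only [map_natCast] at h1
  have h1' : ∑ ψ, m ψ * m ψ = 1 := by exact_mod_cast h1
  obtain ⟨ψ, hψ⟩ : ∃ ψ, m ψ ≠ 0 := by
    by_contra hc
    push Not at hc
    simp [hc] at h1'
  have key := Finset.add_sum_erase Finset.univ (fun ψ => m ψ * m ψ) (Finset.mem_univ ψ)
  have hpos : 1 ≤ m ψ * m ψ := Nat.one_le_iff_ne_zero.mpr (mul_ne_zero hψ hψ)
  have h2 : m ψ * m ψ = 1 := by omega
  have h3 : ∑ x ∈ Finset.univ.erase ψ, m x * m x = 0 := by omega
  have hψ1 : m ψ = 1 := Nat.eq_one_of_mul_eq_one_left h2
  rw [hm, Finset.sum_eq_single ψ]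
  · rw [hψ1, Nat.cast_one, one_smul]; exact ψ.2
  · intro b _ hb
    have := (Finset.sum_eq_zero_iff.mp h3) b (Finset.mem_erase.mpr ⟨hb, Finset.mem_univ _⟩)
    simp [mul_self_eq_zero.mp this]
  · exact fun hn => absurd (Finset.mem_univ _) hn

theorem isIrreducible_of_norm_one [Fintype G] [FiniteDimensional ℂ V] (ρ : Representation ℂ G V)
    (h : Cfsg.classInner ρ.character ρ.character = 1) : ρ.IsIrreducible := by
  haveI : Nontrivial V := by
    by_contra hc
    rw [not_nontrivial_iff_subsingleton] at hc
    have : ρ.character = 0 := funext fun g => by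
      simp [Representation.character, Subsingleton.elim (ρ g) 0]
    simp [this] at h
  haveI : Nontrivial (Subrepresentation ρ) := ⟨⟨⊥, ⊤, fun e =>
    bot_ne_top (congrArg Subrepresentation.toSubmodule e)⟩⟩
  refine ⟨fun a => ?_⟩
  by_contra hc
  push Not at hc
  haveI : NeZero (Nat.card G : ℂ) := ⟨Nat.cast_ne_zero.mpr Nat.card_pos.ne'⟩
  obtain ⟨b, hb⟩ := exists_isCompl a
  have hA := isCharacter_of_rep a.toRepresentation
  have hB := isCharacter_of_rep b.toRepresentation
  have key : ∀ c : Subrepresentation ρ, c ≠ ⊥ →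
      ∃ n : ℕ, 0 < n ∧ Cfsg.classInner c.toRepresentation.character c.toRepresentation.character = n := by
    intro c hc'
    obtain ⟨n, hn⟩ := IsCharacter.exists_classInner_nat (isCharacter_of_rep c.toRepresentation)
      (isCharacter_of_rep c.toRepresentation)
    refine ⟨n, Nat.pos_of_ne_zero ?_, hn⟩
    rintro rfl
    have h0 := congrFun (classInner_self_eq_zero (by simpa using hn)) (1 : G)
    rw [Representation.char_one, Pi.zero_apply, Nat.cast_eq_zero] at h0
    exact hc' (Subrepresentation.toSubmodule_injective (Submodule.finrank_eq_zero.mp h0))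
  have hb0 : b ≠ ⊥ := fun e => hc.2 (eq_top_of_isCompl_bot (e ▸ hb))
  obtain ⟨n1, hn1, e1⟩ := key a hc.1
  obtain ⟨n2, hn2, e2⟩ := key b hb0
  obtain ⟨n3, e3⟩ := IsCharacter.exists_classInner_nat hA hB
  obtain ⟨n4, e4⟩ := IsCharacter.exists_classInner_nat hB hA
  rw [character_split hb] at h
  simp only [classInner_add_left, classInner_add_right, e1, e2, e3, e4] at h
  have : n1 + n4 + (n3 + n2) = 1 := by exact_mod_cast h
  omega

/-- A nonzero representation has an irreducible subrepresentation. -/
theorem exists_irreducible_subrep [FiniteDimensional ℂ V] [Nontrivial V]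
    (ρ : Representation ℂ G V) :
    ∃ a : Subrepresentation ρ, a.toRepresentation.IsIrreducible := by
  classical
  have hex : ∃ n, ∃ a : Subrepresentation ρ, a ≠ ⊥ ∧ finrank ℂ a.toSubmodule = n :=
    ⟨_, ⊤, fun e => bot_ne_top (congrArg Subrepresentation.toSubmodule e).symm, rfl⟩
  obtain ⟨a, ha0, han⟩ := Nat.find_spec hex
  have ha0' : a.toSubmodule ≠ ⊥ := fun h => ha0 (Subrepresentation.toSubmodule_injective h)
  haveI : Nontrivial (Subrepresentation a.toRepresentation) := ⟨⟨⊥, ⊤, fun e => by
    have e' := congrArg Subrepresentation.toSubmodule e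
    exact ha0' (Submodule.subsingleton_iff_eq_bot.mp
      ((Submodule.subsingleton_iff ℂ).mp (subsingleton_of_bot_eq_top e')))⟩⟩
  refine ⟨a, ⟨fun b => ?_⟩⟩
  by_cases hb : b.toSubmodule = ⊥
  · exact Or.inl (Subrepresentation.toSubmodule_injective hb)
  right
  let c : Subrepresentation ρ := ⟨b.toSubmodule.map a.toSubmodule.subtype, by
    rintro g _ ⟨x, hx, rfl⟩
    exact ⟨_, b.apply_mem_toSubmodule g hx, rfl⟩⟩
  have hc : finrank ℂ c.toSubmodule = finrank ℂ b.toSubmodule :=
    Submodule.finrank_map_subtype_eq a.toSubmodule b.toSubmodule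
  have hc0 : c ≠ ⊥ := by
    intro e
    have := hc
    rw [show c.toSubmodule = ⊥ from congrArg Subrepresentation.toSubmodule e, finrank_bot] at this
    exact hb (Submodule.finrank_eq_zero.mp this.symm)
  have hmin := Nat.find_min' hex ⟨c, hc0, hc⟩
  apply Subrepresentation.toSubmodule_injective
  exact Submodule.eq_top_of_finrank_eq (le_antisymm (Submodule.finrank_le _) (han ▸ hmin))

/-- Representations with the same character are equivalent. -/
theorem nonempty_equiv_of_char_eq [Finite G] [FiniteDimensional ℂ V] [FiniteDimensional ℂ W]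
    (ρ : Representation ℂ G V) (σ : Representation ℂ G W) (h : ρ.character = σ.character) :
    Nonempty (ρ.Equiv σ) := by
  haveI : Fintype G := Fintype.ofFinite G
  haveI : NeZero (Nat.card G : ℂ) := ⟨Nat.cast_ne_zero.mpr Nat.card_pos.ne'⟩
  suffices H : ∀ (n : ℕ) (V : Type v) [AddCommGroup V] [Module ℂ V] [FiniteDimensional ℂ V]
      (W : Type w) [AddCommGroup W] [Module ℂ W] [FiniteDimensional ℂ W]
      (ρ : Representation ℂ G V) (σ : Representation ℂ G W), finrank ℂ V ≤ n →
      ρ.character = σ.character → Nonempty (ρ.Equiv σ) from H _ V W ρ σ le_rfl h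
  intro n
  induction n with
  | zero =>
    intro V _ _ _ W _ _ _ ρ σ hn h
    have h0 : finrank ℂ V = 0 := Nat.le_zero.mp hn
    have h1 := congrFun h 1
    simp only [Representation.char_one, h0, Nat.cast_inj] at h1
    haveI : Subsingleton V := Module.finrank_zero_iff.mp h0
    haveI : Subsingleton W := Module.finrank_zero_iff.mp h1.symm
    exact ⟨Representation.Equiv.mk (LinearEquiv.ofSubsingleton V W)
      (fun g => Subsingleton.elim _ _)⟩
  | succ n ih =>
    intro V _ _ _ W _ _ _ ρ σ hn h
    by_cases h0 : finrank ℂ V ≤ n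
    · exact ih V W ρ σ h0 h
    haveI : Nontrivial V := (Module.finrank_pos_iff (R := ℂ)).mp (by omega)
    obtain ⟨a, ha⟩ := exists_irreducible_subrep ρ
    obtain ⟨b, hab⟩ := exists_isCompl a
    rw [character_split hab] at h
    obtain ⟨k, hk⟩ := IsCharacter.exists_classInner_nat (isCharacter_of_rep b.toRepresentation)
      (isCharacter_of_rep a.toRepresentation)
    have hhom := classInner_char a.toRepresentation σ
    rw [← h, classInner_add_left, classInner_self_irr (isIrrCharacter_of_rep _), hk,
      ← Nat.cast_one, ← Nat.cast_add, Nat.cast_inj] at hhom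
    haveI : Nontrivial (Representation.IntertwiningMap a.toRepresentation σ) := by
      by_contra hs
      rw [not_nontrivial_iff_subsingleton] at hs
      rw [finrank_zero_of_subsingleton] at hhom
      omega
    obtain ⟨f, hf0⟩ := exists_ne (0 : Representation.IntertwiningMap a.toRepresentation σ)
    have hf : Function.Injective f :=
      (Representation.IsIrreducible.injective_or_eq_zero f).resolve_right hf0
    obtain ⟨d, hd⟩ := exists_isCompl f.range
    have e1 : a.toRepresentation.Equiv f.range.toRepresentation :=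
      Representation.Equiv.mk (LinearEquiv.ofInjective f.toLinearMap hf) (fun g => by
        refine LinearMap.ext fun x => Subtype.ext ?_
        exact f.isIntertwining _ _ g x)
    rw [character_split hd, Representation.char_iso e1] at h
    have hfa := finrank_pos_of_irreducible a.toRepresentation
    have hfr := Submodule.finrank_add_eq_of_isCompl (isCompl_toSubmodule hab)
    obtain ⟨e2⟩ := ih _ _ b.toRepresentation d.toRepresentation (by omega) (add_left_cancel h)
    refine ⟨((prodEquiv hab).symm.trans ?_).trans (prodEquiv hd)⟩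
    exact Representation.Equiv.mk (LinearEquiv.prodCongr e1.toLinearEquiv e2.toLinearEquiv)
      (fun g => by
        refine LinearMap.ext fun x => ?_
        exact Prod.ext (e1.toIntertwiningMap.isIntertwining _ _ g x.1)
          (e2.toIntertwiningMap.isIntertwining _ _ g x.2))

end Cfsg.Agent.Char
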