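import Cfsg.Agent.Lib.Char.Complete
import Mathlib.RingTheory.IntegralClosure.IntegrallyClosed
import Mathlib.RingTheory.IntegralClosure.IsIntegralClosure.Basic
import Mathlib.RingTheory.Polynomial.RationalRoot
import Mathlib.RingTheory.Norm.Transitivity
import Mathlib.GroupTheory.QuotientGroup.Basic
import Mathlib.GroupTheory.GroupAction.Quotient
import Mathlib.GroupTheory.GroupAction.ConjAct
import Mathlib.Analysis.Complex.Convex
import Mathlib.Analysis.Convex.StrictConvexSpace
import Mathlib.Analysis.InnerProductSpace.Convex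

/-!
# Kernels, integrality of characters, central characters
-/

set_option linter.style.haveILetI false

namespace Cfsg.Agent.Char

open scoped ComplexConjugate
open Module

universe u v w

variable {G : Type u} [Group G]
variable {V : Type v} [AddCommGroup V] [Module ℂ V] [FiniteDimensional ℂ V]

/-! ## Absolute values, kernels -/

theorem isIntegral_of_pow_eq_one {z : ℂ} {m : ℕ} (hm : 0 < m) (h : z ^ m = 1) : IsIntegral ℤ z :=
  ⟨Polynomial.X ^ m - Polynomial.C 1, Polynomial.monic_X_pow_sub_C 1 hm.ne',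
    by simp [h]⟩

theorem isIntegral_multiset_sum (M : Multiset ℂ) (h : ∀ z ∈ M, IsIntegral ℤ z) :
    IsIntegral ℤ M.sum := by
  induction M using Multiset.induction with
  | empty => simpa using isIntegral_zero
  | cons a M ih =>
    rw [Multiset.sum_cons]
    exact (h a (Multiset.mem_cons_self _ _)).add (ih fun z hz => h z (Multiset.mem_cons_of_mem hz))

theorem isIntegral_char [Finite G] (ρ : Representation ℂ G V) (g : G) :
    IsIntegral ℤ (ρ.character g) := by
  obtain ⟨M, -, h2, h3, -⟩ := exists_eigenvalues ρ g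
  have h1 := h3 1
  simp only [pow_one, Multiset.map_id'] at h1
  rw [h1]
  exact isIntegral_multiset_sum M fun z hz =>
    isIntegral_of_pow_eq_one (isOfFinOrder_of_finite g).orderOf_pos (h2 z hz)

theorem IsCharacter.isIntegral [Finite G] {χ : G → ℂ} (h : Cfsg.IsCharacter G χ) (g : G) :
    IsIntegral ℤ (χ g) := by
  obtain ⟨n, ρ, rfl⟩ := h
  exact isIntegral_char ρ g

theorem norm_sum_le_card (M : Multiset ℂ) (h : ∀ z ∈ M, ‖z‖ = 1) :
    ‖M.sum‖ ≤ (Multiset.card M : ℝ) := by
  induction M using Multiset.induction with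
  | empty => simp
  | cons a M ih =>
    rw [Multiset.sum_cons, Multiset.card_cons, Nat.cast_succ]
    have := ih fun z hz => h z (Multiset.mem_cons_of_mem hz)
    have := norm_add_le a M.sum
    have := h a (Multiset.mem_cons_self _ _)
    linarith

theorem eq_of_norm_sum_eq_card (M : Multiset ℂ) (h : ∀ z ∈ M, ‖z‖ = 1)
    (he : ‖M.sum‖ = (Multiset.card M : ℝ)) : ∃ w : ℂ, ∀ z ∈ M, z = w := by
  refine ⟨M.sum / ‖M.sum‖, fun z hz => ?_⟩
  obtain ⟨N, rfl⟩ := Multiset.exists_cons_of_mem hz
  rw [Multiset.sum_cons, Multiset.card_cons, Nat.cast_succ] at he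
  have hN := norm_sum_le_card N fun x hx => h x (Multiset.mem_cons_of_mem hx)
  have hz1 := h z (Multiset.mem_cons_self _ _)
  have htri := norm_add_le z N.sum
  have hsr : SameRay ℝ z N.sum := sameRay_iff_norm_add.mpr (by linarith)
  have hz0 : z ≠ 0 := by intro e; simp [e] at hz1
  obtain ⟨r, hr, hr'⟩ := hsr.exists_nonneg_left hz0
  rw [Multiset.sum_cons, ← hr', show z + r • z = (((1 + r : ℝ) : ℂ)) * z by
    rw [Complex.real_smul]; push_cast; ring, norm_mul, hz1, mul_one, Complex.norm_real,
    Real.norm_of_nonneg (by linarith)]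
  have hr0 : ((1 + r : ℝ) : ℂ) ≠ 0 := Complex.ofReal_ne_zero.mpr (by linarith)
  field_simp

theorem norm_char_le [Finite G] (ρ : Representation ℂ G V) (g : G) :
    ‖ρ.character g‖ ≤ (finrank ℂ V : ℝ) := by
  obtain ⟨M, h1, h2, h3, -⟩ := exists_eigenvalues ρ g
  have h := h3 1
  simp only [pow_one, Multiset.map_id'] at h
  rw [h, ← h1]
  exact norm_sum_le_card M fun z hz =>
    norm_eq_one_of_pow (isOfFinOrder_of_finite g).orderOf_pos.ne' (h2 z hz)

theorem norm_char_eq_iff [Finite G] (ρ : Representation ℂ G V) (g : G) :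
    ‖ρ.character g‖ = (finrank ℂ V : ℝ) ↔ ∃ ω : ℂ, ρ g = ω • LinearMap.id := by
  obtain ⟨M, h1, h2, h3, h4⟩ := exists_eigenvalues ρ g
  have h := h3 1
  simp only [pow_one, Multiset.map_id'] at h
  have hpos := (isOfFinOrder_of_finite g).orderOf_pos
  constructor
  · intro he
    rw [h, ← h1] at he
    obtain ⟨w, hw⟩ := eq_of_norm_sum_eq_card M (fun z hz => norm_eq_one_of_pow hpos.ne' (h2 z hz)) he
    exact ⟨w, h4 w hw⟩
  · rintro ⟨ω, hω⟩
    rcases Nat.eq_zero_or_pos (finrank ℂ V) with h0 | h0
    · simp [Representation.character, hω, LinearMap.trace_id, h0]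
    have hn : ω ^ orderOf g = 1 := by
      have hp := map_pow ρ g (orderOf g)
      rw [pow_orderOf_eq_one, map_one, hω, smul_pow, ← Module.End.one_eq_id, one_pow] at hp
      have := congrArg (LinearMap.trace ℂ V) hp
      simp only [map_smul, LinearMap.trace_one, smul_eq_mul] at this
      exact mul_right_cancel₀ (Nat.cast_ne_zero.mpr h0.ne') (by rw [one_mul]; exact this.symm)
    simp [Representation.character, hω, LinearMap.trace_id, norm_eq_one_of_pow hpos.ne' hn]

theorem char_eq_degree_iff [Finite G] (ρ : Representation ℂ G V) (g : G) :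
    ρ.character g = (finrank ℂ V : ℂ) ↔ ρ g = LinearMap.id := by
  constructor
  · intro h
    obtain ⟨ω, hω⟩ := (norm_char_eq_iff ρ g).mp (by rw [h]; simp)
    rcases Nat.eq_zero_or_pos (finrank ℂ V) with h0 | h0
    · haveI : Subsingleton V := (Module.finrank_zero_iff (R := ℂ)).mp h0
      exact Subsingleton.elim _ _
    rw [Representation.character, hω, map_smul, LinearMap.trace_id, smul_eq_mul] at h
    have : ω = 1 := mul_right_cancel₀ (Nat.cast_ne_zero.mpr h0.ne') (by rw [one_mul]; exact h)
    rw [hω, this, one_smul]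
  · intro h
    simp [Representation.character, h, LinearMap.trace_id]

/-- The kernel of a character. -/
theorem IsCharacter.exists_kernel [Finite G] {χ : G → ℂ} (h : Cfsg.IsCharacter G χ) :
    ∃ N : Subgroup G, N.Normal ∧ (∀ g, g ∈ N ↔ χ g = χ 1) ∧ ∀ n ∈ N, ∀ g, χ (n * g) = χ g := by
  obtain ⟨n, ρ, rfl⟩ := h
  refine ⟨ρ.ker, inferInstance, fun g => ?_, fun x hx g => ?_⟩
  · rw [MonoidHom.mem_ker, Representation.char_one, char_eq_degree_iff, Module.End.one_eq_id]
  · rw [MonoidHom.mem_ker] at hx
    simp [Representation.character, hx]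

/-- A character constant on a normal subgroup comes from the quotient. -/
theorem IsCharacter.deflate [Finite G] {χ : G → ℂ} (h : Cfsg.IsCharacter G χ) (N : Subgroup G)
    [N.Normal] (hN : ∀ x ∈ N, χ x = χ 1) :
    ∃ χ' : G ⧸ N → ℂ, Cfsg.IsCharacter (G ⧸ N) χ' ∧ (∀ g : G, χ' g = χ g) ∧
      (Cfsg.IsIrrCharacter G χ → Cfsg.IsIrrCharacter (G ⧸ N) χ') := by
  obtain ⟨n, ρ, rfl⟩ := h
  have hle : N ≤ ρ.ker := fun x hx => by
    have := hN x hx
    rwa [Representation.char_one, char_eq_degree_iff, ← Module.End.one_eq_id] at this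
  let ρ' : Representation ℂ (G ⧸ N) (Fin n → ℂ) := QuotientGroup.lift N ρ hle
  refine ⟨ρ'.character, isCharacter_of_rep ρ', fun g => rfl, ?_⟩
  rintro ⟨m, σ, hσ, hσχ⟩
  obtain ⟨e⟩ := nonempty_equiv_of_char_eq σ ρ hσχ
  haveI : ρ.IsIrreducible := isIrreducible_of_equiv e
  haveI : ρ'.IsIrreducible := by
    have iso : Subrepresentation ρ' ≃o Subrepresentation ρ :=
      { toFun := fun a => ⟨a.toSubmodule, fun g => a.apply_mem_toSubmodule (g : G ⧸ N)⟩
        invFun := fun a => ⟨a.toSubmodule, fun q v hv => by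
          obtain ⟨g, rfl⟩ := QuotientGroup.mk_surjective q
          exact a.apply_mem_toSubmodule g hv⟩
        left_inv := fun _ => rfl
        right_inv := fun _ => rfl
        map_rel_iff' := Iff.rfl }
    exact iso.isSimpleOrder_iff.mpr inferInstance
  exact isIrrCharacter_of_rep ρ'

theorem IsCharacter.inflate {χ' : G → ℂ} {H : Type w} [Group H] (h : Cfsg.IsCharacter G χ')
    (f : H →* G) : Cfsg.IsCharacter H (fun x => χ' (f x)) := IsCharacter.comp h f

/-! ## Central characters -/

section classSum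

variable [Fintype G]

open scoped Classical in
/-- The conjugacy class of `g` as a finset. -/
noncomputable def classFinset (g : G) : Finset G := Finset.univ.filter fun x => IsConj g x

@[simp] theorem mem_classFinset {g x : G} : x ∈ classFinset g ↔ IsConj g x := by
  simp [classFinset]

theorem card_classFinset (g : G) :
    (classFinset g).card = (Subgroup.centralizer ({g} : Set G)).index := by
  classical
  have hstab : Subgroup.centralizer ({g} : Set G) =
      (MulAction.stabilizer (ConjAct G) g).comap (ConjAct.toConjAct (G := G)).toMonoidHom := by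
    ext x
    simp [ConjAct.smul_def, Subgroup.mem_centralizer_singleton_iff, mul_inv_eq_iff_eq_mul]
  rw [hstab, Subgroup.index_comap_of_surjective _ (f := (ConjAct.toConjAct (G := G)).toMonoidHom)
    ConjAct.toConjAct.surjective, MulAction.index_stabilizer, ← Set.ncard_coe_finset]
  congr 1
  ext x
  simp only [Finset.mem_coe, mem_classFinset, ConjAct.mem_orbit_conjAct]
  exact isConj_comm

theorem sum_char_class {χ : G → ℂ} (h : Cfsg.IsClassFunction G χ) (g : G) :
    ∑ x ∈ classFinset g, χ x = ((Subgroup.centralizer ({g} : Set G)).index : ℂ) * χ g := by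
  rw [Finset.sum_congr rfl fun x hx => (isClassFunction_iff.mp h g x (mem_classFinset.mp hx)).symm,
    Finset.sum_const, card_classFinset, nsmul_eq_mul]

/-- The scalar by which a class sum acts in an irreducible representation. -/
theorem classSum_scalar (ρ : Representation ℂ G V) [ρ.IsIrreducible] (g : G) :
    ∑ x ∈ classFinset g, ρ x =
      (((Subgroup.centralizer ({g} : Set G)).index : ℂ) * ρ.character g / (finrank ℂ V : ℂ)) •
        LinearMap.id := by
  classical
  have hdiv : (finrank ℂ V : ℂ) ≠ 0 := Nat.cast_ne_zero.mpr (finrank_pos_of_irreducible ρ).ne'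
  have heq : ∑ x ∈ classFinset g, ρ x = groupSum (fun x => if IsConj g x then 1 else 0) ρ := by
    rw [classFinset, Finset.sum_filter, groupSum]
    exact Finset.sum_congr rfl fun x _ => by split_ifs <;> simp
  obtain ⟨c, hc⟩ := schur_scalar ρ (∑ x ∈ classFinset g, ρ x) (fun h v => by
    rw [heq]
    refine groupSum_comm (fun a b => ?_) ρ h v
    exact if_congr ⟨fun e => e.trans (isConj_iff.mpr ⟨b, rfl⟩).symm,
      fun e => e.trans (isConj_iff.mpr ⟨b, rfl⟩)⟩ rfl rfl)
  have ht := congrArg (LinearMap.trace ℂ V) hc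
  rw [map_sum, map_smul, LinearMap.trace_id, smul_eq_mul] at ht
  have ht' : ∑ x ∈ classFinset g, ρ.character x = c * (finrank ℂ V : ℂ) := ht
  rw [sum_char_class (fun a b => Representation.char_conj ρ a b) g] at ht'
  rw [hc]
  congr 1
  field_simp
  exact ht'.symm

theorem isIntegral_centralChar (ρ : Representation ℂ G V) [ρ.IsIrreducible] (g : G) :
    IsIntegral ℤ
      (((Subgroup.centralizer ({g} : Set G)).index : ℂ) * ρ.character g / (finrank ℂ V : ℂ)) := by
  haveI := nontrivial_of_irreducible ρ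
  let f : MonoidAlgebra ℤ G →ₐ[ℤ] Module.End ℂ V := MonoidAlgebra.lift ℤ (Module.End ℂ V) G ρ
  have hz : IsIntegral ℤ (∑ x ∈ classFinset g, MonoidAlgebra.single x (1 : ℤ)) :=
    IsIntegral.of_finite ℤ _
  have h2 := hz.map f
  rw [map_sum] at h2
  simp only [f, MonoidAlgebra.lift_single, one_smul] at h2
  rw [classSum_scalar] at h2
  rw [← Module.End.one_eq_id, ← Algebra.algebraMap_eq_smul_one] at h2
  exact (isIntegral_algHom_iff ((Algebra.ofId ℂ (Module.End ℂ V)).restrictScalars ℤ)
    (algebraMap ℂ (Module.End ℂ V)).injective).mp h2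

theorem IsIrrCharacter.isIntegral_centralChar {χ : G → ℂ} (h : Cfsg.IsIrrCharacter G χ) (g : G) :
    IsIntegral ℤ (((Subgroup.centralizer ({g} : Set G)).index : ℂ) * χ g / χ 1) := by
  obtain ⟨n, ρ, hρ, rfl⟩ := h
  rw [Representation.char_one]
  exact Char.isIntegral_centralChar ρ g

end classSum

/-! ## Rational algebraic integers -/

theorem exists_int_of_isIntegral {q : ℚ} (h : IsIntegral ℤ (q : ℂ)) : ∃ n : ℤ, q = n := by
  have h' : IsIntegral ℤ q :=
    (isIntegral_algebraMap_iff (A := ℚ) (B := ℂ) (Rat.cast_injective)).mp h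
  obtain ⟨n, hn⟩ := IsIntegrallyClosed.isIntegral_iff.mp h'
  exact ⟨n, hn.symm⟩

theorem dvd_of_isIntegral_div {a b : ℕ} (hb : b ≠ 0) (h : IsIntegral ℤ ((a : ℂ) / b)) : b ∣ a := by
  obtain ⟨n, hn⟩ := exists_int_of_isIntegral (q := (a : ℚ) / b) (by simpa using h)
  have hb' : (b : ℚ) ≠ 0 := Nat.cast_ne_zero.mpr hb
  rw [div_eq_iff hb'] at hn
  have : (a : ℤ) = n * b := by exact_mod_cast hn
  exact Int.natCast_dvd_natCast.mp ⟨n, by rw [this, mul_comm]⟩

/-- The order of the group divided by the degree is a sum of products of algebraic integers. -/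
theorem isIntegral_card_div [Finite G] {χ : G → ℂ} (h : Cfsg.IsIrrCharacter G χ) :
    IsIntegral ℤ ((Nat.card G : ℂ) / χ 1) := by
  classical
  haveI : Fintype G := Fintype.ofFinite G
  haveI : Finite (ConjClasses G) := Finite.of_surjective ConjClasses.mk ConjClasses.mk_surjective
  haveI : Fintype (ConjClasses G) := Fintype.ofFinite _
  have h1 := classInner_self_irr h
  simp only [Cfsg.classInner] at h1
  have hne : (Nat.card G : ℂ) ≠ 0 := Nat.cast_ne_zero.mpr Nat.card_pos.ne'
  rw [inv_mul_eq_one₀ hne] at h1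
  rw [h1, Finset.sum_div, ← Finset.sum_fiberwise Finset.univ ConjClasses.mk]
  refine IsIntegral.sum _ fun C _ => ?_
  obtain ⟨g, rfl⟩ := ConjClasses.mk_surjective C
  rw [show Finset.univ.filter (fun x => ConjClasses.mk x = ConjClasses.mk g) = classFinset g by
    ext x
    simp only [Finset.mem_filter, Finset.mem_univ, true_and, mem_classFinset,
      ConjClasses.mk_eq_mk_iff_isConj]
    exact isConj_comm]
  have hcl : Cfsg.IsClassFunction G (fun x => χ x * conj (χ x) / χ 1) := fun a b => by
    simp only [IsCharacter.isClassFunction (IsIrrCharacter.isCharacter h) a b]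
  rw [sum_char_class hcl g, mul_div_assoc', ← mul_assoc, mul_div_right_comm]
  refine (IsIrrCharacter.isIntegral_centralChar h g).mul ?_
  exact map_isIntegral_int (starRingEnd ℂ) (IsCharacter.isIntegral (IsIrrCharacter.isCharacter h) g)

theorem degree_dvd_card [Finite G] {χ : G → ℂ} (h : Cfsg.IsIrrCharacter G χ) {d : ℕ}
    (hd : χ 1 = d) : d ∣ Nat.card G := by
  have hd0 : d ≠ 0 := by rintro rfl; exact IsIrrCharacter.one_ne_zero h (by simp [hd])
  have := isIntegral_card_div h
  rw [hd] at this
  exact dvd_of_isIntegral_div hd0 this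

/-! ## Averages of roots of unity -/

/-- An algebraic integer which is an average of roots of unity and has absolute value less than
one is zero. -/
theorem eq_zero_of_avg_roots (M : Multiset ℂ) (hM : M ≠ 0) (h : ∀ z ∈ M, ∃ m : ℕ, 0 < m ∧ z ^ m = 1)
    {α : ℂ} (hα : α * (Multiset.card M : ℂ) = M.sum) (hint : IsIntegral ℤ α) (hlt : ‖α‖ < 1) :
    α = 0 := by
  classical
  set K := IntermediateField.adjoin ℚ (M.toFinset : Set ℂ) with hK
  haveI : FiniteDimensional ℚ K := by
    refine IntermediateField.finiteDimensional_adjoin fun z hz => ?_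
    obtain ⟨m, hm, hzm⟩ := h z (Multiset.mem_toFinset.mp hz)
    exact (isIntegral_of_pow_eq_one hm hzm).tower_top
  have hmem : ∀ z ∈ M, z ∈ K :=
    fun z hz => IntermediateField.subset_adjoin ℚ _ (Multiset.mem_toFinset.mpr hz)
  let N : Multiset K := M.attach.map fun z => ⟨z.1, hmem z.1 z.2⟩
  have hcard : (Multiset.card M : ℂ) ≠ 0 := by simpa using hM
  have hαK : α ∈ K := by
    rw [eq_div_of_mul_eq hcard hα]
    exact div_mem (multiset_sum_mem _ hmem) (by simpa using (algebraMap ℚ K (Multiset.card M)).2)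
  set a : K := ⟨α, hαK⟩
  have ha : a * (Multiset.card M : K) = N.sum := by
    apply Subtype.ext
    have : ((N.sum : K) : ℂ) = M.sum := by
      rw [show ((N.sum : K) : ℂ) = K.val N.sum from rfl, map_multiset_sum, Multiset.map_map]
      exact congrArg Multiset.sum (Multiset.attach_map_val M)
    rw [this]
    simpa using hα
  have hb : ∀ ψ : K →ₐ[ℚ] ℂ, ‖ψ a‖ ≤ 1 := by
    intro ψ
    have h' := congrArg ψ ha
    simp only [N, map_mul, map_natCast, map_multiset_sum, Multiset.map_map] at h'
    have hle := norm_sum_le_card (M.attach.map fun z => ψ ⟨z.1, hmem z.1 z.2⟩) (by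
      intro w hw
      obtain ⟨z, -, rfl⟩ := Multiset.mem_map.mp hw
      obtain ⟨m, hm, hzm⟩ := h z.1 z.2
      refine norm_eq_one_of_pow hm.ne' ?_
      rw [← map_pow, ← map_one ψ]
      exact congrArg ψ (Subtype.ext hzm))
    rw [show (Multiset.map (fun z => ψ ⟨z.1, hmem z.1 z.2⟩) M.attach).sum = ψ a * (Multiset.card M : ℂ)
      from h'.symm, norm_mul, Complex.norm_natCast, Multiset.card_map, Multiset.card_attach] at hle
    have hpos : (0 : ℝ) < Multiset.card M := by
      exact_mod_cast Multiset.card_pos.mpr hM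
    nlinarith [norm_nonneg (ψ a)]
  have haint : IsIntegral ℤ a :=
    (isIntegral_algHom_iff (K.val.restrictScalars ℤ) Subtype.val_injective).mp hint
  have hnorm : IsIntegral ℤ (Algebra.norm ℚ a) := Algebra.isIntegral_norm ℚ haint
  obtain ⟨n, hn⟩ := IsIntegrallyClosed.isIntegral_iff.mp hnorm
  have hprod : (algebraMap ℚ ℂ) (Algebra.norm ℚ a) = ∏ ψ : K →ₐ[ℚ] ℂ, ψ a :=
    Algebra.norm_eq_prod_embeddings ℚ ℂ a
  rw [← hn] at hprod
  have hlt' : ‖((n : ℚ) : ℂ)‖ < 1 := by
    rw [show ((n : ℚ) : ℂ) = algebraMap ℚ ℂ ((algebraMap ℤ ℚ) n) from rfl, hprod, norm_prod,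
      ← Finset.mul_prod_erase Finset.univ (fun ψ : K →ₐ[ℚ] ℂ => ‖ψ a‖) (Finset.mem_univ K.val)]
    calc ‖K.val a‖ * ∏ ψ ∈ Finset.univ.erase K.val, ‖ψ a‖ ≤ ‖K.val a‖ * 1 :=
          mul_le_mul_of_nonneg_left (Finset.prod_le_one (fun ψ _ => norm_nonneg _) fun ψ _ => hb ψ)
            (norm_nonneg _)
      _ < 1 := by rw [mul_one]; exact hlt
  have hn0 : n = 0 := by
    simp only [Rat.cast_intCast, Complex.norm_intCast] at hlt'
    have : |n| < 1 := by exact_mod_cast hlt'
    exact Int.abs_lt_one_iff.mp this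
  rw [hn0, map_zero, map_zero, eq_comm, Finset.prod_eq_zero_iff] at hprod
  obtain ⟨ψ, -, hψ⟩ := hprod
  have : a = 0 := ψ.toRingHom.injective (by simpa using hψ)
  exact congrArg Subtype.val this

/-- If the degree is prime to the class size, the value is zero or of full absolute value. -/
theorem eq_zero_or_norm_eq [Finite G] (ρ : Representation ℂ G V) [ρ.IsIrreducible] (g : G)
    (hcop : Nat.Coprime (finrank ℂ V) (Subgroup.centralizer ({g} : Set G)).index) :
    ρ.character g = 0 ∨ ‖ρ.character g‖ = (finrank ℂ V : ℝ) := by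
  haveI : Fintype G := Fintype.ofFinite G
  set d := finrank ℂ V with hd
  set k := (Subgroup.centralizer ({g} : Set G)).index with hk
  have hd0 : (d : ℂ) ≠ 0 := Nat.cast_ne_zero.mpr (finrank_pos_of_irreducible ρ).ne'
  obtain ⟨x, y, hxy⟩ : ∃ x y : ℤ, (d : ℤ) * x + (k : ℤ) * y = 1 := by
    refine ⟨Nat.gcdA d k, Nat.gcdB d k, ?_⟩
    rw [← Nat.gcd_eq_gcd_ab]
    exact_mod_cast hcop
  have hint : IsIntegral ℤ (ρ.character g / d) := by
    have : ρ.character g / (d : ℂ) = (x : ℂ) * ρ.character g +
        (y : ℂ) * ((k : ℂ) * ρ.character g / d) := by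
      have hc : (d : ℂ) * x + (k : ℂ) * y = 1 := by exact_mod_cast hxy
      field_simp
      linear_combination (-(ρ.character g)) * hc
    rw [this]
    exact ((isIntegral_algebraMap (R := ℤ) (A := ℂ)).mul (isIntegral_char ρ g)).add
      ((isIntegral_algebraMap (R := ℤ) (A := ℂ)).mul (isIntegral_centralChar ρ g))
  by_cases hlt : ‖ρ.character g / d‖ < 1
  · left
    obtain ⟨M, h1, h2, h3, -⟩ := exists_eigenvalues ρ g
    have hsum := h3 1
    simp only [pow_one, Multiset.map_id'] at hsum
    have := eq_zero_of_avg_roots M (by rintro rfl; simp only [Multiset.card_zero] at h1; exact hd0 (by simp [hd, ← h1])) (fun z hz => ⟨_, (isOfFinOrder_of_finite g).orderOf_pos, h2 z hz⟩)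
      (α := ρ.character g / d) (by rw [h1, div_mul_cancel₀ _ hd0, hsum]) hint hlt
    simpa [hd0] using this
  · right
    have hle := norm_char_le ρ g
    rw [norm_div, Complex.norm_natCast, not_lt, le_div_iff₀ (by
      exact_mod_cast finrank_pos_of_irreducible ρ), one_mul] at hlt
    exact le_antisymm hle hlt

end Cfsg.Agent.Char
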