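import Cfsg.Agent.Lib.Char.Complete
import Mathlib.GroupTheory.GroupAction.Quotient
import Mathlib.Algebra.BigOperators.Group.Finset.Basic

/-!
# Induction, restriction, generalized characters
-/

set_option linter.style.haveILetI false

namespace Cfsg.Agent.Char

open scoped ComplexConjugate

universe u v w

variable {G : Type u} [Group G]

/-! ## Extension by zero -/

theorem extendByZero_mem (H : Subgroup G) (θ : H → ℂ) {x : G} (hx : x ∈ H) :
    Cfsg.extendByZero H θ x = θ ⟨x, hx⟩ :=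
  Subtype.val_injective.extend_apply θ 0 ⟨x, hx⟩

theorem extendByZero_coe (H : Subgroup G) (θ : H → ℂ) (x : H) :
    Cfsg.extendByZero H θ x = θ x :=
  Subtype.val_injective.extend_apply θ 0 x

theorem extendByZero_not_mem (H : Subgroup G) (θ : H → ℂ) {x : G} (hx : x ∉ H) :
    Cfsg.extendByZero H θ x = 0 :=
  Function.extend_apply' θ (0 : G → ℂ) x (by rintro ⟨a, rfl⟩; exact hx a.2)

theorem extendByZero_one (H : Subgroup G) (θ : H → ℂ) : Cfsg.extendByZero H θ 1 = θ 1 :=
  extendByZero_coe H θ 1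

theorem sum_mul_extendByZero [Fintype G] (H : Subgroup G) [Fintype H] (θ : H → ℂ) (f : G → ℂ) :
    ∑ x : G, Cfsg.extendByZero H θ x * f x = ∑ h : H, θ h * f h := by
  classical
  rw [← Finset.sum_subset (Finset.subset_univ ((Finset.univ : Finset H).image Subtype.val))]
  · rw [Finset.sum_image fun a _ b _ h => Subtype.ext h]
    exact Finset.sum_congr rfl fun h _ => by rw [extendByZero_coe]
  · intro x _ hx
    rw [extendByZero_not_mem H θ (fun h => hx (Finset.mem_image.mpr ⟨⟨x, h⟩, Finset.mem_univ _, rfl⟩)),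
      zero_mul]

section ind

variable [Fintype G]

theorem indFun_apply (H : Subgroup G) (θ : H → ℂ) (g : G) :
    Cfsg.indFun H θ g = (Nat.card H : ℂ)⁻¹ * ∑ x : G, Cfsg.extendByZero H θ (x⁻¹ * g * x) := rfl

theorem isClassFunction_indFun (H : Subgroup G) (θ : H → ℂ) :
    Cfsg.IsClassFunction G (Cfsg.indFun H θ) := by
  intro g h
  simp only [indFun_apply]
  congr 1
  refine Fintype.sum_equiv (Equiv.mulLeft h⁻¹) _ _ fun x => ?_
  simp only [Equiv.coe_mulLeft]
  congr 1
  group

theorem extendByZero_add (H : Subgroup G) (θ φ : H → ℂ) (x : G) :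
    Cfsg.extendByZero H (θ + φ) x = Cfsg.extendByZero H θ x + Cfsg.extendByZero H φ x := by
  by_cases hx : x ∈ H
  · simp [extendByZero_mem H _ hx]
  · simp [extendByZero_not_mem H _ hx]

theorem extendByZero_smul (H : Subgroup G) (c : ℂ) (θ : H → ℂ) (x : G) :
    Cfsg.extendByZero H (c • θ) x = c * Cfsg.extendByZero H θ x := by
  by_cases hx : x ∈ H
  · simp [extendByZero_mem H _ hx]
  · simp [extendByZero_not_mem H _ hx]

theorem indFun_add (H : Subgroup G) (θ φ : H → ℂ) :
    Cfsg.indFun H (θ + φ) = Cfsg.indFun H θ + Cfsg.indFun H φ := by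
  funext g
  simp [indFun_apply, extendByZero_add, Finset.sum_add_distrib, mul_add]

theorem indFun_smul (H : Subgroup G) (c : ℂ) (θ : H → ℂ) :
    Cfsg.indFun H (c • θ) = c • Cfsg.indFun H θ := by
  funext g
  simp only [indFun_apply, extendByZero_smul, Pi.smul_apply, smul_eq_mul, Finset.mul_sum]
  exact Finset.sum_congr rfl fun x _ => by ring

theorem indFun_zero (H : Subgroup G) : Cfsg.indFun H (0 : H → ℂ) = 0 := by
  simpa using indFun_smul H 0 (0 : H → ℂ)

theorem indFun_neg (H : Subgroup G) (θ : H → ℂ) : Cfsg.indFun H (-θ) = -Cfsg.indFun H θ := by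
  simpa using indFun_smul H (-1) θ

theorem indFun_sub (H : Subgroup G) (θ φ : H → ℂ) :
    Cfsg.indFun H (θ - φ) = Cfsg.indFun H θ - Cfsg.indFun H φ := by
  rw [sub_eq_add_neg, indFun_add, indFun_neg, ← sub_eq_add_neg]

theorem indFun_sum (H : Subgroup G) {ι : Type*} (s : Finset ι) (θ : ι → H → ℂ) :
    Cfsg.indFun H (∑ i ∈ s, θ i) = ∑ i ∈ s, Cfsg.indFun H (θ i) := by
  classical
  induction s using Finset.induction with
  | empty => simpa using indFun_zero H
  | insert a s ha ih => rw [Finset.sum_insert ha, Finset.sum_insert ha, indFun_add, ih]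

theorem indFun_one_apply (H : Subgroup G) (θ : H → ℂ) :
    Cfsg.indFun H θ 1 = (H.index : ℂ) * θ 1 := by
  rw [indFun_apply]
  simp only [mul_one, inv_mul_cancel, extendByZero_one, Finset.sum_const, Finset.card_univ,
    nsmul_eq_mul]
  rw [← Nat.card_eq_fintype_card, ← Subgroup.card_mul_index H, Nat.cast_mul, ← mul_assoc,
    ← mul_assoc, inv_mul_cancel₀ (Nat.cast_ne_zero.mpr Nat.card_pos.ne'), one_mul]

theorem indFun_eq_zero_of_forall (H : Subgroup G) (θ : H → ℂ) {g : G}
    (hg : ∀ x : G, x⁻¹ * g * x ∉ H) : Cfsg.indFun H θ g = 0 := by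
  rw [indFun_apply, Finset.sum_eq_zero fun x _ => extendByZero_not_mem H θ (hg x), mul_zero]

theorem indFun_eq_zero_of_not_mem (H : Subgroup G) [H.Normal] (θ : H → ℂ) {g : G} (hg : g ∉ H) :
    Cfsg.indFun H θ g = 0 :=
  indFun_eq_zero_of_forall H θ fun x hx => hg (by
    have := Subgroup.Normal.conj_mem ‹_› _ hx x
    simpa [mul_assoc] using this)

/-- Frobenius reciprocity. -/
theorem classInner_indFun_left (H : Subgroup G) [Fintype H] (θ : H → ℂ) {χ : G → ℂ}
    (hχ : Cfsg.IsClassFunction G χ) :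
    Cfsg.classInner (Cfsg.indFun H θ) χ = Cfsg.classInner θ (fun h : H => χ h) := by
  simp only [Cfsg.classInner, indFun_apply]
  have key : ∀ x : G, ∑ g : G, Cfsg.extendByZero H θ (x⁻¹ * g * x) * conj (χ g)
      = ∑ h : H, θ h * conj (χ h) := by
    intro x
    rw [← sum_mul_extendByZero H θ (fun y => conj (χ y))]
    refine Fintype.sum_equiv (MulAut.conj x⁻¹).toEquiv _ _ fun g => ?_
    simp only [MulEquiv.toEquiv_eq_coe, MulEquiv.coe_toEquiv, MulAut.conj_apply, inv_inv]
    rw [show χ (x⁻¹ * g * x) = χ g by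
      have := hχ g x⁻¹
      rwa [inv_inv] at this]
  simp only [Finset.sum_mul, mul_assoc]
  rw [← Finset.mul_sum, Finset.sum_comm]
  simp only [← mul_assoc] at key ⊢
  rw [Finset.sum_congr rfl fun x _ => key x, Finset.sum_const, Finset.card_univ, nsmul_eq_mul,
    ← Nat.card_eq_fintype_card (α := G)]
  have : (Nat.card G : ℂ) ≠ 0 := Nat.cast_ne_zero.mpr Nat.card_pos.ne'
  field_simp

theorem classInner_indFun_right (H : Subgroup G) [Fintype H] (θ : H → ℂ) {χ : G → ℂ}
    (hχ : Cfsg.IsClassFunction G χ) :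
    Cfsg.classInner χ (Cfsg.indFun H θ) = Cfsg.classInner (fun h : H => χ h) θ := by
  rw [← classInner_conj_symm (Cfsg.indFun H θ) χ, classInner_indFun_left H θ hχ,
    classInner_conj_symm]

/-- A class function with natural inner products with all irreducible characters is a character. -/
theorem isCharacter_of_classInner {f : G → ℂ} (hf : Cfsg.IsClassFunction G f)
    (h : ∀ ψ : Cfsg.IrrCharacter G, ∃ n : ℕ, Cfsg.classInner f ψ = n) : Cfsg.IsCharacter G f := by
  choose n hn using h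
  rw [classFunction_eq_sum hf]
  refine isCharacter_sum _ fun ψ _ => ?_
  rw [hn]
  exact IsCharacter.nsmul (IsIrrCharacter.isCharacter ψ.2) _

theorem isCharacter_indFun (H : Subgroup G) {θ : H → ℂ} (hθ : Cfsg.IsCharacter H θ) :
    Cfsg.IsCharacter G (Cfsg.indFun H θ) := by
  haveI : Fintype H := Fintype.ofFinite H
  refine isCharacter_of_classInner (isClassFunction_indFun H θ) fun ψ => ?_
  have hψ := IsIrrCharacter.isCharacter ψ.2
  rw [classInner_indFun_left H θ (IsCharacter.isClassFunction hψ)]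
  exact IsCharacter.exists_classInner_nat hθ (IsCharacter.restrict hψ H)

/-- Transitivity of induction. -/
theorem indFun_trans (H K : Subgroup G) [Fintype K] (hHK : H ≤ K) (θ : H → ℂ) :
    Cfsg.indFun K (Cfsg.indFun (H.subgroupOf K)
      (fun x => θ ⟨(x : K), Subgroup.mem_subgroupOf.mp x.2⟩)) = Cfsg.indFun H θ := by
  classical
  funext g
  set θ' : H.subgroupOf K → ℂ := fun x => θ ⟨(x : K), Subgroup.mem_subgroupOf.mp x.2⟩
  have hinner : ∀ y : G, Cfsg.extendByZero K (Cfsg.indFun (H.subgroupOf K) θ') y =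
      (Nat.card H : ℂ)⁻¹ * ∑ k : K, Cfsg.extendByZero H θ ((k : G)⁻¹ * y * k) := by
    intro y
    by_cases hy : y ∈ K
    · rw [extendByZero_mem K _ hy, indFun_apply,
        show Nat.card (H.subgroupOf K) = Nat.card H from
          Nat.card_congr (Subgroup.subgroupOfEquivOfLe hHK).toEquiv]
      congr 1
      refine Finset.sum_congr rfl fun k _ => ?_
      by_cases hk : (k : G)⁻¹ * y * k ∈ H
      · rw [extendByZero_mem H θ hk, extendByZero_mem (H.subgroupOf K) θ'
          (x := k⁻¹ * ⟨y, hy⟩ * k) (Subgroup.mem_subgroupOf.mpr (by simpa using hk))]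
        exact congrArg θ (Subtype.ext (by simp))
      · rw [extendByZero_not_mem H θ hk, extendByZero_not_mem (H.subgroupOf K) θ'
          (x := k⁻¹ * ⟨y, hy⟩ * k) (fun h => hk (by simpa using Subgroup.mem_subgroupOf.mp h))]
    · rw [extendByZero_not_mem K _ hy, Finset.sum_eq_zero, mul_zero]
      intro k _
      refine extendByZero_not_mem H θ fun h => hy ?_
      have := K.mul_mem (K.mul_mem k.2 (hHK h)) (K.inv_mem k.2)
      simpa [mul_assoc] using this
  rw [indFun_apply, indFun_apply]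
  simp only [hinner, ← Finset.mul_sum]
  rw [Finset.sum_comm]
  have : ∀ k : K, ∑ x : G, Cfsg.extendByZero H θ ((k : G)⁻¹ * (x⁻¹ * g * x) * k) =
      ∑ x : G, Cfsg.extendByZero H θ (x⁻¹ * g * x) := by
    intro k
    refine Fintype.sum_equiv (Equiv.mulRight (k : G)) _ _ fun x => ?_
    simp [mul_assoc]
  rw [Finset.sum_congr rfl fun k _ => this k, Finset.sum_const, Finset.card_univ, nsmul_eq_mul,
    ← Nat.card_eq_fintype_card (α := K)]
  have : (Nat.card K : ℂ) ≠ 0 := Nat.cast_ne_zero.mpr Nat.card_pos.ne'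
  field_simp

/-- The permutation character of a transitive action is induced from a point stabilizer. -/
theorem indFun_stabilizer (X : Type v) [MulAction G X] [Finite X] [MulAction.IsPretransitive G X]
    (x : X) (g : G) :
    Cfsg.indFun (MulAction.stabilizer G x) (fun _ => 1) g =
      (Nat.card (MulAction.fixedBy X g) : ℂ) := by
  classical
  haveI : Fintype X := Fintype.ofFinite X
  have hext : ∀ y : G, Cfsg.extendByZero (MulAction.stabilizer G x) (fun _ => (1 : ℂ)) y =
      if y • x = x then 1 else 0 := by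
    intro y
    split_ifs with h
    · rw [extendByZero_mem _ _ (MulAction.mem_stabilizer_iff.mpr h)]
    · rw [extendByZero_not_mem _ _ (fun hh => h (MulAction.mem_stabilizer_iff.mp hh))]
  rw [indFun_apply, Finset.sum_congr rfl fun y _ => hext _, Finset.sum_boole]
  have hset : Finset.univ.filter (fun y : G => (y⁻¹ * g * y) • x = x) =
      Finset.univ.filter (fun y : G => y • x ∈ MulAction.fixedBy X g) := by
    ext y
    simp [mul_smul, inv_smul_eq_iff]
  have hfib : ∀ z : X, (Finset.univ.filter (fun y : G => y • x = z)).card =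
      Nat.card (MulAction.stabilizer G x) := by
    intro z
    obtain ⟨y₀, rfl⟩ := MulAction.exists_smul_eq G x z
    rw [← Fintype.card_subtype, ← Nat.card_eq_fintype_card]
    refine (Nat.card_congr ((Equiv.mulLeft y₀).subtypeEquiv fun y => ?_)).symm
    simp [MulAction.mem_stabilizer_iff, mul_smul]
  rw [hset, Finset.card_eq_sum_card_fiberwise (f := fun y : G => y • x)
    (t := (MulAction.fixedBy X g).toFinset) (fun y hy => by
      simpa using (Finset.mem_filter.mp hy).2)]
  rw [Finset.sum_congr rfl fun z hz => by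
    rw [Finset.filter_filter, Finset.filter_congr (q := fun y => y • x = z) (fun y _ => by
      simp only [and_iff_right_iff_imp]
      rintro rfl
      exact Set.mem_toFinset.mp hz), hfib z]]
  rw [Finset.sum_const, smul_eq_mul, Nat.cast_mul, Set.toFinset_card, ← Nat.card_eq_fintype_card,
    mul_comm (Nat.card (MulAction.fixedBy X g) : ℂ), ← mul_assoc,
    inv_mul_cancel₀ (Nat.cast_ne_zero.mpr Nat.card_pos.ne'), one_mul]

end ind

/-! ## Generalized characters -/

theorem IsGeneralizedCharacter.of_isCharacter {χ : G → ℂ} (h : Cfsg.IsCharacter G χ) :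
    Cfsg.IsGeneralizedCharacter G χ :=
  ⟨χ, 0, h, isCharacter_zero, (sub_zero χ).symm⟩

theorem IsGeneralizedCharacter.isClassFunction {θ : G → ℂ}
    (h : Cfsg.IsGeneralizedCharacter G θ) : Cfsg.IsClassFunction G θ := by
  obtain ⟨χ, ψ, hχ, hψ, rfl⟩ := h
  exact fun a b => by
    simp [IsCharacter.isClassFunction hχ a b, IsCharacter.isClassFunction hψ a b]

theorem isGeneralizedCharacter_zero : Cfsg.IsGeneralizedCharacter G 0 :=
  IsGeneralizedCharacter.of_isCharacter isCharacter_zero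

theorem IsGeneralizedCharacter.neg {θ : G → ℂ} (h : Cfsg.IsGeneralizedCharacter G θ) :
    Cfsg.IsGeneralizedCharacter G (-θ) := by
  obtain ⟨χ, ψ, hχ, hψ, rfl⟩ := h
  exact ⟨ψ, χ, hψ, hχ, neg_sub χ ψ⟩

theorem IsGeneralizedCharacter.add {a b : G → ℂ} (h1 : Cfsg.IsGeneralizedCharacter G a)
    (h2 : Cfsg.IsGeneralizedCharacter G b) : Cfsg.IsGeneralizedCharacter G (a + b) := by
  obtain ⟨χ, ψ, hχ, hψ, rfl⟩ := h1
  obtain ⟨χ', ψ', hχ', hψ', rfl⟩ := h2
  exact ⟨χ + χ', ψ + ψ', IsCharacter.add hχ hχ', IsCharacter.add hψ hψ', by abel⟩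

theorem IsGeneralizedCharacter.sub {a b : G → ℂ} (h1 : Cfsg.IsGeneralizedCharacter G a)
    (h2 : Cfsg.IsGeneralizedCharacter G b) : Cfsg.IsGeneralizedCharacter G (a - b) :=
  sub_eq_add_neg a b ▸ IsGeneralizedCharacter.add h1 (IsGeneralizedCharacter.neg h2)

theorem IsGeneralizedCharacter.int_smul {a : G → ℂ} (h : Cfsg.IsGeneralizedCharacter G a)
    (n : ℤ) : Cfsg.IsGeneralizedCharacter G ((n : ℂ) • a) := by
  obtain ⟨χ, ψ, hχ, hψ, rfl⟩ := h
  rcases Int.eq_nat_or_neg n with ⟨m, rfl | rfl⟩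
  · exact ⟨(m : ℂ) • χ, (m : ℂ) • ψ, IsCharacter.nsmul hχ m, IsCharacter.nsmul hψ m, by
      rw [smul_sub]; norm_cast⟩
  · exact ⟨(m : ℂ) • ψ, (m : ℂ) • χ, IsCharacter.nsmul hψ m, IsCharacter.nsmul hχ m, by
      push_cast; simp only [neg_smul, smul_sub]; abel⟩

theorem IsGeneralizedCharacter.zsmul {a : G → ℂ} (h : Cfsg.IsGeneralizedCharacter G a)
    (n : ℤ) : Cfsg.IsGeneralizedCharacter G (n • a) := by
  rw [← Int.cast_smul_eq_zsmul ℂ]
  exact IsGeneralizedCharacter.int_smul h n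

theorem isGeneralizedCharacter_sum {ι : Type*} (s : Finset ι) {χ : ι → G → ℂ}
    (h : ∀ i ∈ s, Cfsg.IsGeneralizedCharacter G (χ i)) :
    Cfsg.IsGeneralizedCharacter G (∑ i ∈ s, χ i) := by
  classical
  induction s using Finset.induction with
  | empty => simpa using isGeneralizedCharacter_zero
  | insert a s ha ih =>
    rw [Finset.sum_insert ha]
    exact IsGeneralizedCharacter.add (h a (Finset.mem_insert_self _ _))
      (ih fun i hi => h i (Finset.mem_insert_of_mem hi))

theorem IsGeneralizedCharacter.mul {a b : G → ℂ} (h1 : Cfsg.IsGeneralizedCharacter G a)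
    (h2 : Cfsg.IsGeneralizedCharacter G b) : Cfsg.IsGeneralizedCharacter G (a * b) := by
  obtain ⟨χ, ψ, hχ, hψ, rfl⟩ := h1
  obtain ⟨χ', ψ', hχ', hψ', rfl⟩ := h2
  exact ⟨χ * χ' + ψ * ψ', χ * ψ' + ψ * χ', IsCharacter.add (IsCharacter.mul hχ hχ')
    (IsCharacter.mul hψ hψ'), IsCharacter.add (IsCharacter.mul hχ hψ') (IsCharacter.mul hψ hχ'),
    by ring⟩

theorem IsGeneralizedCharacter.conj [Finite G] {a : G → ℂ} (h : Cfsg.IsGeneralizedCharacter G a) :
    Cfsg.IsGeneralizedCharacter G (fun g => conj (a g)) := by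
  obtain ⟨χ, ψ, hχ, hψ, rfl⟩ := h
  exact ⟨_, _, IsCharacter.conj hχ, IsCharacter.conj hψ, by funext g; simp⟩

theorem IsGeneralizedCharacter.comp {H : Type w} [Group H] {a : G → ℂ}
    (h : Cfsg.IsGeneralizedCharacter G a) (f : H →* G) :
    Cfsg.IsGeneralizedCharacter H (fun x => a (f x)) := by
  obtain ⟨χ, ψ, hχ, hψ, rfl⟩ := h
  exact ⟨_, _, IsCharacter.comp hχ f, IsCharacter.comp hψ f, rfl⟩

theorem IsGeneralizedCharacter.restrict {a : G → ℂ} (h : Cfsg.IsGeneralizedCharacter G a)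
    (H : Subgroup G) : Cfsg.IsGeneralizedCharacter H (fun x : H => a x) :=
  IsGeneralizedCharacter.comp h H.subtype

theorem IsGeneralizedCharacter.indFun [Fintype G] (H : Subgroup G) {θ : H → ℂ}
    (h : Cfsg.IsGeneralizedCharacter H θ) : Cfsg.IsGeneralizedCharacter G (Cfsg.indFun H θ) := by
  obtain ⟨χ, ψ, hχ, hψ, rfl⟩ := h
  exact ⟨_, _, isCharacter_indFun H hχ, isCharacter_indFun H hψ, indFun_sub H χ ψ⟩

theorem IsGeneralizedCharacter.exists_classInner_int [Fintype G] {a b : G → ℂ}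
    (h1 : Cfsg.IsGeneralizedCharacter G a) (h2 : Cfsg.IsGeneralizedCharacter G b) :
    ∃ n : ℤ, Cfsg.classInner a b = n := by
  obtain ⟨χ, ψ, hχ, hψ, rfl⟩ := h1
  obtain ⟨χ', ψ', hχ', hψ', rfl⟩ := h2
  obtain ⟨n1, e1⟩ := IsCharacter.exists_classInner_nat hχ hχ'
  obtain ⟨n2, e2⟩ := IsCharacter.exists_classInner_nat hχ hψ'
  obtain ⟨n3, e3⟩ := IsCharacter.exists_classInner_nat hψ hχ'
  obtain ⟨n4, e4⟩ := IsCharacter.exists_classInner_nat hψ hψ'
  refine ⟨(n1 : ℤ) - n2 - n3 + n4, ?_⟩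
  simp only [classInner_sub_left, classInner_sub_right, e1, e2, e3, e4]
  push_cast
  ring

theorem IsGeneralizedCharacter.exists_one_int {a : G → ℂ}
    (h : Cfsg.IsGeneralizedCharacter G a) : ∃ n : ℤ, a 1 = n := by
  obtain ⟨χ, ψ, hχ, hψ, rfl⟩ := h
  obtain ⟨c, hc⟩ := IsCharacter.exists_degree hχ
  obtain ⟨d, hd⟩ := IsCharacter.exists_degree hψ
  exact ⟨(c : ℤ) - d, by simp [hc, hd]⟩

theorem isGeneralizedCharacter_of_classInner [Fintype G] {f : G → ℂ}
    (hf : Cfsg.IsClassFunction G f)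
    (h : ∀ ψ : Cfsg.IrrCharacter G, ∃ n : ℤ, Cfsg.classInner f ψ = n) :
    Cfsg.IsGeneralizedCharacter G f := by
  choose n hn using h
  rw [classFunction_eq_sum hf]
  refine isGeneralizedCharacter_sum _ fun ψ _ => ?_
  rw [hn]
  exact IsGeneralizedCharacter.int_smul
    (IsGeneralizedCharacter.of_isCharacter (IsIrrCharacter.isCharacter ψ.2)) _

theorem IsGeneralizedCharacter.exists_coeff [Fintype G] {a : G → ℂ}
    (h : Cfsg.IsGeneralizedCharacter G a) :
    ∃ c : Cfsg.IrrCharacter G → ℤ, a = ∑ ψ, (c ψ : ℂ) • (ψ : G → ℂ) ∧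
      ∀ ψ : Cfsg.IrrCharacter G, Cfsg.classInner a ψ = c ψ := by
  choose c hc using fun ψ : Cfsg.IrrCharacter G =>
    IsGeneralizedCharacter.exists_classInner_int h
      (IsGeneralizedCharacter.of_isCharacter (IsIrrCharacter.isCharacter ψ.2))
  refine ⟨c, ?_, hc⟩
  conv_lhs => rw [classFunction_eq_sum (IsGeneralizedCharacter.isClassFunction h)]
  exact Finset.sum_congr rfl fun ψ _ => by rw [hc]

theorem IsGeneralizedCharacter.norm_eq [Fintype G] {a : G → ℂ}
    {c : Cfsg.IrrCharacter G → ℤ} (ha : a = ∑ ψ, (c ψ : ℂ) • (ψ : G → ℂ)) :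
    Cfsg.classInner a a = ((∑ ψ, c ψ * c ψ : ℤ) : ℂ) := by
  rw [ha, classInner_combination₂]
  simp

/-- A virtual character of norm one is an irreducible character up to sign. -/
theorem IsGeneralizedCharacter.of_norm_one [Fintype G] {a : G → ℂ}
    (h : Cfsg.IsGeneralizedCharacter G a) (h1 : Cfsg.classInner a a = 1) :
    Cfsg.IsIrrCharacter G a ∨ Cfsg.IsIrrCharacter G (-a) := by
  classical
  obtain ⟨c, hc, hcoef⟩ := IsGeneralizedCharacter.exists_coeff h
  rw [IsGeneralizedCharacter.norm_eq hc] at h1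
  have h1' : ∑ ψ, c ψ * c ψ = 1 := by exact_mod_cast h1
  obtain ⟨ψ, hψ⟩ : ∃ ψ, c ψ ≠ 0 := by
    by_contra hne
    push Not at hne
    simp [hne] at h1'
  have hsplit := Finset.add_sum_erase Finset.univ (fun x => c x * c x) (Finset.mem_univ ψ)
  have hrest : 0 ≤ ∑ x ∈ Finset.univ.erase ψ, c x * c x :=
    Finset.sum_nonneg fun x _ => mul_self_nonneg _
  have hpos : 0 < c ψ * c ψ := mul_self_pos.mpr hψ
  have hone : c ψ * c ψ = 1 := by linarith
  have hz : ∑ x ∈ Finset.univ.erase ψ, c x * c x = 0 := by linarith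
  have ha : a = (c ψ : ℂ) • (ψ : G → ℂ) := by
    rw [hc]
    refine Finset.sum_eq_single ψ (fun x _ hx => ?_) (fun hn => absurd (Finset.mem_univ _) hn)
    have := (Finset.sum_eq_zero_iff_of_nonneg fun y _ => mul_self_nonneg (c y)).mp hz x
      (Finset.mem_erase.mpr ⟨hx, Finset.mem_univ _⟩)
    simp [mul_self_eq_zero.mp this]
  rcases Int.eq_one_or_neg_one_of_mul_eq_one hone with h2 | h2
  · left; rw [ha, h2]; simpa using ψ.2
  · right; rw [ha, h2]; simpa using ψ.2

/-- A virtual character of norm two vanishing at one is a difference of two irreducible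
characters. -/
theorem IsGeneralizedCharacter.of_norm_two [Fintype G] {a : G → ℂ}
    (h : Cfsg.IsGeneralizedCharacter G a) (h2 : Cfsg.classInner a a = 2) (h0 : a 1 = 0) :
    ∃ μ ν : Cfsg.IrrCharacter G, μ ≠ ν ∧ a = (μ : G → ℂ) - (ν : G → ℂ) := by
  classical
  obtain ⟨c, hc, hcoef⟩ := IsGeneralizedCharacter.exists_coeff h
  rw [IsGeneralizedCharacter.norm_eq hc] at h2
  have h2' : ∑ ψ, c ψ * c ψ = 2 := by exact_mod_cast h2
  set s := Finset.univ.filter (fun ψ => c ψ ≠ 0) with hs
  have hsum : ∑ ψ ∈ s, c ψ * c ψ = 2 := by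
    rw [← h2']
    refine Finset.sum_subset (Finset.subset_univ _) fun x _ hx => ?_
    simp only [hs, Finset.mem_filter, Finset.mem_univ, true_and, not_not] at hx
    simp [hx]
  have hbound : ∀ ψ ∈ s, c ψ = 1 ∨ c ψ = -1 := by
    intro ψ hψ
    have hle : c ψ * c ψ ≤ 2 := hsum ▸
      Finset.single_le_sum (fun x _ => mul_self_nonneg (c x)) hψ
    have hne : c ψ ≠ 0 := (Finset.mem_filter.mp hψ).2
    have h3 : -2 < c ψ ∧ c ψ < 2 := ⟨by nlinarith, by nlinarith⟩
    omega
  have hcard : s.card = 2 := by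
    have : ∑ ψ ∈ s, c ψ * c ψ = s.card := by
      rw [Finset.card_eq_sum_ones, Nat.cast_sum]
      exact Finset.sum_congr rfl fun ψ hψ => by
        rcases hbound ψ hψ with e | e <;> simp [e]
    have h3 : (s.card : ℤ) = 2 := this.symm.trans hsum
    exact_mod_cast h3
  obtain ⟨μ, ν, hne, hμν⟩ := Finset.card_eq_two.mp hcard
  have ha : a = (c μ : ℂ) • (μ : G → ℂ) + (c ν : ℂ) • (ν : G → ℂ) := by
    rw [hc, ← Finset.sum_pair (f := fun ψ => (c ψ : ℂ) • (ψ : G → ℂ)) hne, ← hμν]
    refine (Finset.sum_subset (Finset.subset_univ _) fun x _ hx => ?_).symm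
    simp only [hs, Finset.mem_filter, Finset.mem_univ, true_and, not_not] at hx
    simp [hx]
  obtain ⟨dμ, hdμ, eμ⟩ := IsIrrCharacter.exists_degree μ.2
  obtain ⟨dν, hdν, eν⟩ := IsIrrCharacter.exists_degree ν.2
  have h1 : c μ * dμ + c ν * dν = 0 := by
    have := congrFun ha 1
    simp only [h0, Pi.add_apply, Pi.smul_apply, eμ, eν, smul_eq_mul] at this
    exact_mod_cast this.symm
  have hmμ := hbound μ (hμν ▸ Finset.mem_insert_self _ _)
  have hmν := hbound ν (hμν ▸ Finset.mem_insert_of_mem (Finset.mem_singleton_self _))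
  rcases hmμ with e | e <;> rcases hmν with e' | e' <;> rw [e, e'] at h1 ha
  · omega
  · exact ⟨μ, ν, hne, by rw [ha]; simp [sub_eq_add_neg]⟩
  · exact ⟨ν, μ, hne.symm, by rw [ha]; simp [sub_eq_neg_add]⟩
  · omega

/-! ## Trivial intersection sets -/

section TI

variable [Fintype G] (T : Set G)

theorem indFun_eq_on_TI (hTI : ∀ g : G, g ∉ Subgroup.normalizer T → ∀ t ∈ T, g * t * g⁻¹ ∈ T → t = 1)
    (ψ : Subgroup.normalizer T → ℂ) (hψ : Cfsg.IsClassFunction (Subgroup.normalizer T) ψ)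
    (hψT : ∀ x : Subgroup.normalizer T, (x : G) ∉ T → ψ x = 0)
    (t : Subgroup.normalizer T) (htT : (t : G) ∈ T) (ht1 : t ≠ 1) :
    Cfsg.indFun (Subgroup.normalizer T) ψ t = ψ t := by
  classical
  have key : ∀ x : G, Cfsg.extendByZero (Subgroup.normalizer T) ψ (x⁻¹ * t * x) = if x ∈ Subgroup.normalizer T then ψ t else 0 := by
    intro x
    split_ifs with hx
    · have hx' : x⁻¹ * t * x ∈ Subgroup.normalizer T := (Subgroup.normalizer T).mul_mem ((Subgroup.normalizer T).mul_mem ((Subgroup.normalizer T).inv_mem hx) t.2) hx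
      rw [extendByZero_mem (Subgroup.normalizer T) ψ hx', ← hψ t ⟨x⁻¹, (Subgroup.normalizer T).inv_mem hx⟩]
      congr 1
      ext
      simp
    · by_cases hc : x⁻¹ * t * x ∈ Subgroup.normalizer T
      · rw [extendByZero_mem (Subgroup.normalizer T) ψ hc]
        refine hψT _ fun hT => ht1 (Subtype.ext ?_)
        exact hTI x⁻¹ (fun h => hx (by simpa using (Subgroup.normalizer T).inv_mem h)) t htT (by simpa using hT)
      · exact extendByZero_not_mem (Subgroup.normalizer T) ψ hc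
  rw [indFun_apply, Finset.sum_congr rfl fun x _ => key x, Finset.sum_ite, Finset.sum_const_zero,
    add_zero, Finset.sum_const, nsmul_eq_mul, ← Fintype.card_subtype, ← Nat.card_eq_fintype_card,
    ← mul_assoc, inv_mul_cancel₀ (Nat.cast_ne_zero.mpr Nat.card_pos.ne'), one_mul]

theorem classInner_indFun_TI [Fintype (Subgroup.normalizer T)]
    (hTI : ∀ g : G, g ∉ Subgroup.normalizer T → ∀ t ∈ T, g * t * g⁻¹ ∈ T → t = 1)
    (ψ θ : Subgroup.normalizer T → ℂ) (hθ : Cfsg.IsClassFunction (Subgroup.normalizer T) θ)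
    (hψT : ∀ x : Subgroup.normalizer T, (x : G) ∉ T → ψ x = 0)
    (hθT : ∀ x : Subgroup.normalizer T, (x : G) ∉ T → θ x = 0) (hψ1 : ψ 1 = 0) :
    Cfsg.classInner (Cfsg.indFun (Subgroup.normalizer T) ψ)
      (Cfsg.indFun (Subgroup.normalizer T) θ) = Cfsg.classInner ψ θ := by
  rw [classInner_indFun_left _ _ (isClassFunction_indFun _ _)]
  simp only [Cfsg.classInner]
  congr 1
  refine Finset.sum_congr rfl fun x _ => ?_
  by_cases hx : (x : G) ∈ T ∧ x ≠ 1
  · rw [indFun_eq_on_TI T hTI θ hθ hθT x hx.1 hx.2]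
  · rw [not_and_or, not_not] at hx
    rcases hx with hx | hx
    · simp [hψT x hx]
    · simp [hx, hψ1]

end TI

end Cfsg.Agent.Char
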