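import Mathlib.FieldTheory.IsAlgClosed.Classification
import Mathlib.FieldTheory.IsAlgClosed.AlgebraicClosure
import Mathlib.FieldTheory.AlgebraicClosure
import Mathlib.FieldTheory.Normal.Basic
import Mathlib.RingTheory.Polynomial.Cyclotomic.Roots
import Mathlib.RingTheory.RootsOfUnity.Complex
import Mathlib.FieldTheory.Galois.Infinite
import Mathlib.RingTheory.Polynomial.Cyclotomic.Eval
import Mathlib.Analysis.SpecialFunctions.Log.Basic
import Mathlib.GroupTheory.PGroup
import Cfsg.Agent.Lib.Char.Integral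

/-!
# Galois action on character values

Field automorphisms of `ℂ` act on character values through coprime power maps of the group;
Galois-stable families of non-zero algebraic integers have average square norm at least one.
-/

set_option linter.style.haveILetI false

namespace Cfsg.Agent.CharGalois

open Cfsg.Agent.Char Polynomial Module
open scoped ComplexConjugate

universe u

/-- An automorphism of a subfield of algebraic numbers extends to an automorphism of `ℂ`. -/
theorem exists_aut_extending (e : algebraicClosure ℚ ℂ ≃+* algebraicClosure ℚ ℂ) :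
    ∃ σ : ℂ ≃+* ℂ, ∀ x : algebraicClosure ℚ ℂ, σ (x : ℂ) = (e x : ℂ) := by
  obtain ⟨s, hs⟩ := exists_isTranscendenceBasis (algebraicClosure ℚ ℂ) ℂ
  haveI := IsAlgClosed.isAlgClosure_of_transcendence_basis ((↑) : s → ℂ) hs
  let f : Algebra.adjoin (algebraicClosure ℚ ℂ) (Set.range ((↑) : s → ℂ)) ≃+*
      Algebra.adjoin (algebraicClosure ℚ ℂ) (Set.range ((↑) : s → ℂ)) :=
    hs.1.aevalEquiv.symm.toRingEquiv.trans
      ((MvPolynomial.mapEquiv s e).trans hs.1.aevalEquiv.toRingEquiv)
  refine ⟨IsAlgClosure.equivOfEquiv ℂ ℂ f, fun x => ?_⟩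
  have hx : ((algebraMap (algebraicClosure ℚ ℂ)
      (Algebra.adjoin (algebraicClosure ℚ ℂ) (Set.range ((↑) : s → ℂ))) x) : ℂ) = (x : ℂ) := rfl
  have hf : f (algebraMap _ _ x) = algebraMap _ _ (e x) := by
    simp only [f, RingEquiv.trans_apply, AlgEquiv.coe_ringEquiv, AlgEquiv.commutes,
      MvPolynomial.algebraMap_eq, MvPolynomial.mapEquiv_apply, MvPolynomial.map_C]
    exact AlgEquiv.commutes _ _
  have := IsAlgClosure.equivOfEquiv_algebraMap ℂ ℂ f (algebraMap _ _ x)
  rw [hf] at this
  exact this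

/-- Roots of unity can be sent to their coprime powers by an automorphism of `ℂ`. -/
theorem exists_galoisAut {n k : ℕ} (hn : n ≠ 0) (hk : k.Coprime n) :
    ∃ σ : ℂ ≃+* ℂ, ∀ z : ℂ, z ^ n = 1 → σ z = z ^ k := by
  haveI : NeZero n := ⟨hn⟩
  obtain ⟨ζ, hζ⟩ : ∃ ζ : ℂ, IsPrimitiveRoot ζ n := ⟨_, Complex.isPrimitiveRoot_exp n hn⟩
  have hint : IsAlgebraic ℚ ζ := ((hζ.isIntegral (Nat.pos_of_ne_zero hn)).tower_top).isAlgebraic
  haveI : IsAlgClosure ℚ (algebraicClosure ℚ ℂ) := algebraicClosure.isAlgClosure ℚ ℂ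
  haveI : Normal ℚ (algebraicClosure ℚ ℂ) := IsAlgClosure.normal ℚ _
  let ζ' : algebraicClosure ℚ ℂ := ⟨ζ, (mem_algebraicClosure_iff ).2 hint⟩
  have hζ' : IsPrimitiveRoot ζ' n :=
    IsPrimitiveRoot.of_map_of_injective (f := (algebraicClosure ℚ ℂ).val) hζ Subtype.val_injective
  have hev : (minpoly ℚ ζ').aeval (ζ' ^ k) = 0 := by
    have h2 := hζ'.pow_of_coprime k hk
    rw [← cyclotomic_eq_minpoly_rat hζ' (Nat.pos_of_ne_zero hn),
      cyclotomic_eq_minpoly_rat h2 (Nat.pos_of_ne_zero hn)]
    exact minpoly.aeval ℚ _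
  obtain ⟨τ, hτ⟩ := minpoly.exists_algEquiv_of_root' (Algebra.IsAlgebraic.isAlgebraic ζ') hev
  obtain ⟨σ, hσ⟩ := exists_aut_extending τ.toRingEquiv
  have hz : σ ζ = ζ ^ k := by
    have := hσ ζ'
    rw [show τ.toRingEquiv ζ' = τ ζ' from rfl, hτ] at this
    simpa using this
  refine ⟨σ, fun z hzn => ?_⟩
  obtain ⟨i, -, rfl⟩ := hζ.eq_pow_of_pow_eq_one hzn
  rw [map_pow, hz, ← pow_mul, ← pow_mul, mul_comm]

/-- Every endomorphism of `ℂ` acts on `n`-th roots of unity as a coprime power map. -/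
theorem exists_exponent (σ : ℂ →+* ℂ) {n : ℕ} (hn : n ≠ 0) :
    ∃ k : ℕ, k.Coprime n ∧ ∀ z : ℂ, z ^ n = 1 → σ z = z ^ k := by
  haveI : NeZero n := ⟨hn⟩
  obtain ⟨ζ, hζ⟩ : ∃ ζ : ℂ, IsPrimitiveRoot ζ n := ⟨_, Complex.isPrimitiveRoot_exp n hn⟩
  have hσ : IsPrimitiveRoot (σ ζ) n := hζ.map_of_injective σ.injective
  obtain ⟨k, -, hk⟩ := hζ.eq_pow_of_pow_eq_one hσ.pow_eq_one
  refine ⟨k, ?_, fun z hz => ?_⟩
  · rw [← hk] at hσ
    exact (hζ.pow_iff_coprime (Nat.pos_of_ne_zero hn) k).1 hσ
  · obtain ⟨i, -, rfl⟩ := hζ.eq_pow_of_pow_eq_one hz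
    rw [map_pow, ← hk, ← pow_mul, ← pow_mul, mul_comm]

variable {G : Type u} [Group G] [Finite G]

/-- A field endomorphism acts on all character values at `g` as the power map `g ↦ g ^ k`. -/
theorem map_char {χ : G → ℂ} (h : Cfsg.IsCharacter G χ) (σ : ℂ →+* ℂ) {k : ℕ}
    (hk : ∀ z : ℂ, z ^ Nat.card G = 1 → σ z = z ^ k) (g : G) : σ (χ g) = χ (g ^ k) := by
  obtain ⟨n, ρ, rfl⟩ := h
  obtain ⟨M, -, hM, hpow, -⟩ := exists_eigenvalues ρ g
  have h1 := hpow 1
  simp only [pow_one, Multiset.map_id'] at h1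
  rw [h1, hpow k, map_multiset_sum]
  refine congrArg Multiset.sum (Multiset.map_congr rfl fun z hz => hk z ?_)
  obtain ⟨m, hm⟩ := orderOf_dvd_natCard g
  rw [hm, pow_mul, hM z hz, one_pow]

/-- The transport of a coordinate representation by a field automorphism. -/
noncomputable def twistRep {n : ℕ} (σ : ℂ ≃+* ℂ) (ρ : Representation ℂ G (Fin n → ℂ)) :
    Representation ℂ G (Fin n → ℂ) where
  toFun g :=
    { toFun := fun v i => σ (ρ g (fun j => σ.symm (v j)) i)
      map_add' := fun v w => by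
        ext i
        simp only [Pi.add_apply, map_add]
        rw [show (fun j => σ.symm (v j) + σ.symm (w j)) = (fun j => σ.symm (v j)) + fun j => σ.symm (w j)
          from rfl, map_add, Pi.add_apply, map_add]
      map_smul' := fun c v => by
        ext i
        simp only [Pi.smul_apply, smul_eq_mul, map_mul, RingHom.id_apply]
        rw [show (fun j => σ.symm c * σ.symm (v j)) = σ.symm c • fun j => σ.symm (v j) from rfl,
          map_smul, Pi.smul_apply, smul_eq_mul, map_mul, RingEquiv.apply_symm_apply] }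
  map_one' := by
    refine LinearMap.ext fun v => funext fun i => ?_
    simp
  map_mul' g h := by
    refine LinearMap.ext fun v => funext fun i => ?_
    simp

theorem twistRep_apply {n : ℕ} (σ : ℂ ≃+* ℂ) (ρ : Representation ℂ G (Fin n → ℂ)) (g : G)
    (v : Fin n → ℂ) (i : Fin n) :
    twistRep σ ρ g v i = σ (ρ g (fun j => σ.symm (v j)) i) := rfl

theorem character_twistRep {n : ℕ} (σ : ℂ ≃+* ℂ) (ρ : Representation ℂ G (Fin n → ℂ)) (g : G) :
    (twistRep σ ρ).character g = σ (ρ.character g) := by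
  simp only [Representation.character, LinearMap.trace_eq_matrix_trace ℂ (Pi.basisFun ℂ (Fin n)),
    Matrix.trace, Matrix.diag, LinearMap.toMatrix_apply, Pi.basisFun_repr, Pi.basisFun_apply,
    map_sum, twistRep_apply]
  refine Finset.sum_congr rfl fun i _ => congrArg σ ?_
  refine congrFun (congrArg (ρ g) (funext fun j => ?_)) i
  simp [Pi.single_apply, apply_ite σ.symm]

theorem isIrreducible_twistRep {n : ℕ} (σ : ℂ ≃+* ℂ) (ρ : Representation ℂ G (Fin n → ℂ))
    [ρ.IsIrreducible] : (twistRep σ ρ).IsIrreducible := by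
  have iso : Subrepresentation (twistRep σ ρ) ≃o Subrepresentation ρ :=
    { toFun := fun a =>
        { toSubmodule :=
            { carrier := {v | (fun j => σ (v j)) ∈ a.toSubmodule}
              zero_mem' := by simp only [Set.mem_setOf_eq, Pi.zero_apply, map_zero]; exact a.toSubmodule.zero_mem
              add_mem' := fun {v w} hv hw => by
                have := a.toSubmodule.add_mem hv hw
                simp only [Set.mem_setOf_eq, Pi.add_apply, map_add]
                exact this
              smul_mem' := fun c v hv => by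
                have := a.toSubmodule.smul_mem (σ c) hv
                simp only [Set.mem_setOf_eq, Pi.smul_apply, smul_eq_mul, map_mul]
                exact this }
          apply_mem_toSubmodule := fun g v hv => by
            have := a.apply_mem_toSubmodule g hv
            have e : twistRep σ ρ g (fun j => σ (v j)) = fun i => σ (ρ g v i) := by
              funext i; simp [twistRep_apply]
            rw [e] at this
            exact this }
      invFun := fun b =>
        { toSubmodule :=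
            { carrier := {v | (fun j => σ.symm (v j)) ∈ b.toSubmodule}
              zero_mem' := by simp only [Set.mem_setOf_eq, Pi.zero_apply, map_zero]; exact b.toSubmodule.zero_mem
              add_mem' := fun {v w} hv hw => by
                have := b.toSubmodule.add_mem hv hw
                simp only [Set.mem_setOf_eq, Pi.add_apply, map_add]
                exact this
              smul_mem' := fun c v hv => by
                have := b.toSubmodule.smul_mem (σ.symm c) hv
                simp only [Set.mem_setOf_eq, Pi.smul_apply, smul_eq_mul, map_mul]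
                exact this }
          apply_mem_toSubmodule := fun g v hv => by
            have := b.apply_mem_toSubmodule g hv
            show (fun j => σ.symm (twistRep σ ρ g v j)) ∈ b.toSubmodule
            simp only [twistRep_apply, RingEquiv.symm_apply_apply]
            exact this }
      left_inv := fun a => Subrepresentation.toSubmodule_injective (SetLike.ext fun v => by
        show (fun j => σ (σ.symm (v j))) ∈ a.toSubmodule ↔ v ∈ a.toSubmodule
        simp)
      right_inv := fun b => Subrepresentation.toSubmodule_injective (SetLike.ext fun v => by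
        show (fun j => σ.symm (σ (v j))) ∈ b.toSubmodule ↔ v ∈ b.toSubmodule
        simp)
      map_rel_iff' := fun {a b} => by
        refine ⟨fun h v hv => ?_, fun h v hv => h hv⟩
        have hv' : (fun j => σ (σ.symm (v j))) ∈ a.toSubmodule := by
          simp only [RingEquiv.apply_symm_apply]; exact hv
        have h' : (fun j => σ (σ.symm (v j))) ∈ b.toSubmodule := h (x := fun j => σ.symm (v j)) hv'
        simp only [RingEquiv.apply_symm_apply] at h'
        exact h' }
  exact iso.isSimpleOrder_iff.mpr inferInstance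

/-- The image of an irreducible character under a field automorphism is irreducible. -/
theorem IsIrrCharacter.twist {χ : G → ℂ} (h : Cfsg.IsIrrCharacter G χ) (σ : ℂ ≃+* ℂ) :
    Cfsg.IsIrrCharacter G (fun g => σ (χ g)) := by
  obtain ⟨n, ρ, hρ, rfl⟩ := h
  haveI := hρ
  exact ⟨n, twistRep σ ρ, isIrreducible_twistRep σ ρ, funext (character_twistRep σ ρ)⟩

/-- The Galois conjugate `g ↦ χ (g ^ k)` of an irreducible character is irreducible. -/
theorem IsIrrCharacter.powMap {χ : G → ℂ} (h : Cfsg.IsIrrCharacter G χ) {k : ℕ}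
    (hk : k.Coprime (Nat.card G)) : Cfsg.IsIrrCharacter G (fun g => χ (g ^ k)) := by
  obtain ⟨σ, hσ⟩ := exists_galoisAut (Nat.card_pos (α := G)).ne' hk
  have := IsIrrCharacter.twist h σ
  rwa [show (fun g => σ (χ g)) = fun g => χ (g ^ k) from
    funext fun g => map_char (Char.IsIrrCharacter.isCharacter h) σ.toRingHom hσ g] at this

/-- A non-zero algebraic integer fixed by all field automorphisms of `ℂ` has norm at least one. -/
theorem one_le_norm_of_fixed {P : ℂ} (hint : IsIntegral ℤ P) (hne : P ≠ 0)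
    (hfix : ∀ σ : ℂ ≃+* ℂ, σ P = P) : 1 ≤ ‖P‖ := by
  let P' : algebraicClosure ℚ ℂ := ⟨P, (mem_algebraicClosure_iff).2 hint.tower_top.isAlgebraic⟩
  haveI : IsAlgClosure ℚ (algebraicClosure ℚ ℂ) := algebraicClosure.isAlgClosure ℚ ℂ
  haveI : IsGalois ℚ (algebraicClosure ℚ ℂ) := IsAlgClosure.isGalois ℚ _
  have hmem : P' ∈ Set.range (algebraMap ℚ (algebraicClosure ℚ ℂ)) := by
    rw [InfiniteGalois.mem_range_algebraMap_iff_fixed]
    intro τ
    obtain ⟨σ, hσ⟩ := exists_aut_extending τ.toRingEquiv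
    exact Subtype.ext ((hσ P').symm.trans (hfix σ))
  obtain ⟨q, hq⟩ := hmem
  have hq' : P = (q : ℂ) := by
    rw [show P = ((P' : algebraicClosure ℚ ℂ) : ℂ) from rfl, ← hq]; simp
  subst hq'
  obtain ⟨m, rfl⟩ := exists_int_of_isIntegral hint
  have hm : m ≠ 0 := fun h => hne (by simp [h])
  rw [Rat.cast_intCast, Complex.norm_intCast]
  exact_mod_cast Int.one_le_abs hm

/-- AM-GM: a Galois-stable family of non-zero algebraic integers has mean square norm at least one. -/
theorem card_le_sum_normSq {ι : Type*} (s : Finset ι) (f : ι → ℂ)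
    (hint : ∀ i ∈ s, IsIntegral ℤ (f i)) (hne : ∀ i ∈ s, f i ≠ 0)
    (hperm : ∀ σ : ℂ ≃+* ℂ, σ (∏ i ∈ s, f i) = ∏ i ∈ s, f i) :
    (s.card : ℝ) ≤ ∑ i ∈ s, ‖f i‖ ^ 2 := by
  have h1 : 1 ≤ ‖∏ i ∈ s, f i‖ :=
    one_le_norm_of_fixed (IsIntegral.prod _ hint) (Finset.prod_ne_zero_iff.2 hne) hperm
  have hpos : ∀ i ∈ s, 0 < ‖f i‖ ^ 2 := fun i hi => pow_pos (norm_pos_iff.2 (hne i hi)) 2
  have h2 : 0 ≤ ∑ i ∈ s, Real.log (‖f i‖ ^ 2) := by
    rw [← Real.log_prod (fun i hi => (hpos i hi).ne')]
    refine Real.log_nonneg ?_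
    rw [Finset.prod_pow, ← norm_prod]
    exact one_le_pow₀ h1
  have h3 : ∑ i ∈ s, Real.log (‖f i‖ ^ 2) ≤ ∑ i ∈ s, (‖f i‖ ^ 2 - 1) :=
    Finset.sum_le_sum fun i hi => Real.log_le_sub_one_of_pos (hpos i hi)
  rw [Finset.sum_sub_distrib, Finset.sum_const, nsmul_eq_mul, mul_one] at h3
  linarith

/-- AM-GM: a Galois-stable family of non-zero algebraic integers has mean norm at least one. -/
theorem card_le_sum_norm {ι : Type*} (s : Finset ι) (f : ι → ℂ)
    (hint : ∀ i ∈ s, IsIntegral ℤ (f i)) (hne : ∀ i ∈ s, f i ≠ 0)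
    (hperm : ∀ σ : ℂ ≃+* ℂ, σ (∏ i ∈ s, f i) = ∏ i ∈ s, f i) :
    (s.card : ℝ) ≤ ∑ i ∈ s, ‖f i‖ := by
  have h1 : 1 ≤ ‖∏ i ∈ s, f i‖ :=
    one_le_norm_of_fixed (IsIntegral.prod _ hint) (Finset.prod_ne_zero_iff.2 hne) hperm
  have hpos : ∀ i ∈ s, 0 < ‖f i‖ := fun i hi => norm_pos_iff.2 (hne i hi)
  have h2 : 0 ≤ ∑ i ∈ s, Real.log ‖f i‖ := by
    rw [← Real.log_prod (fun i hi => (hpos i hi).ne')]
    refine Real.log_nonneg ?_
    rw [← norm_prod]
    exact h1
  have h3 : ∑ i ∈ s, Real.log ‖f i‖ ≤ ∑ i ∈ s, (‖f i‖ - 1) :=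
    Finset.sum_le_sum fun i hi => Real.log_le_sub_one_of_pos (hpos i hi)
  rw [Finset.sum_sub_distrib, Finset.sum_const, nsmul_eq_mul, mul_one] at h3
  linarith

/-- The product of the values of a character over a set stable under coprime powers is fixed. -/
theorem prod_char_fixed {χ : G → ℂ} (h : Cfsg.IsCharacter G χ) (s : Finset G)
    (hs : ∀ g ∈ s, ∀ k : ℕ, k.Coprime (Nat.card G) → g ^ k ∈ s) (σ : ℂ ≃+* ℂ) :
    σ (∏ g ∈ s, χ g) = ∏ g ∈ s, χ g := by
  obtain ⟨k, hk, hσ⟩ := exists_exponent σ.toRingHom (Nat.card_pos (α := G)).ne'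
  have hb : Function.Injective (fun g : G => g ^ k) := (powCoprime hk.symm).injective
  calc σ (∏ g ∈ s, χ g) = ∏ g ∈ s, χ (g ^ k) := by
        rw [map_prod]; exact Finset.prod_congr rfl fun g _ => map_char h σ.toRingHom hσ g
    _ = ∏ g ∈ s, χ g := by
        classical
        have himg : s.image (fun g => g ^ k) = s :=
          Finset.eq_of_subset_of_card_le
            (Finset.image_subset_iff.2 fun g hg => hs g hg k hk)
            (by rw [Finset.card_image_of_injective _ hb])
        conv_rhs => rw [← himg]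
        rw [Finset.prod_image (fun a _ b _ e => hb e)]

/-- AM-GM for the values of one character on a set stable under coprime power maps. -/
theorem card_le_sum_normSq_char {χ : G → ℂ} (h : Cfsg.IsCharacter G χ) (s : Finset G)
    (hs : ∀ g ∈ s, ∀ k : ℕ, k.Coprime (Nat.card G) → g ^ k ∈ s) (hne : ∀ g ∈ s, χ g ≠ 0) :
    (s.card : ℝ) ≤ ∑ g ∈ s, ‖χ g‖ ^ 2 := by
  refine card_le_sum_normSq s χ (fun g _ => Char.IsCharacter.isIntegral h g) hne fun σ => ?_
  obtain ⟨k, hk, hσ⟩ := exists_exponent σ.toRingHom (Nat.card_pos (α := G)).ne'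
  have hb : Function.Injective (fun g : G => g ^ k) := (powCoprime hk.symm).injective
  calc σ (∏ g ∈ s, χ g) = ∏ g ∈ s, χ (g ^ k) := by
        rw [map_prod]; exact Finset.prod_congr rfl fun g _ => map_char h σ.toRingHom hσ g
    _ = ∏ g ∈ s, χ g := by
        classical
        have himg : s.image (fun g => g ^ k) = s :=
          Finset.eq_of_subset_of_card_le
            (Finset.image_subset_iff.2 fun g hg => hs g hg k hk)
            (by rw [Finset.card_image_of_injective _ hb])
        conv_rhs => rw [← himg]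
        rw [Finset.prod_image (fun a _ b _ e => hb e)]

/-- A character value at an element of `p`-power order is non-zero when `p` is prime to the degree. -/
theorem char_ne_zero_of_pPow {χ : G → ℂ} (h : Cfsg.IsCharacter G χ) {p : ℕ} (hp : p.Prime) {g : G}
    (hg : ∃ a, orderOf g = p ^ a) {d : ℕ} (hd : χ 1 = d) (hpd : ¬ p ∣ d) : χ g ≠ 0 := by
  obtain ⟨n, ρ, rfl⟩ := h
  obtain ⟨a, ha⟩ := hg
  haveI := Fact.mk hp
  rcases a with _ | a
  · rw [pow_zero, orderOf_eq_one_iff] at ha
    rw [ha, hd]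
    simp only [ne_eq, Nat.cast_eq_zero]
    rintro rfl
    exact hpd (dvd_zero p)
  obtain ⟨M, -, hM, hpow, -⟩ := exists_eigenvalues ρ g
  have h1 := hpow 1
  have h0 := hpow 0
  simp only [pow_one, Multiset.map_id'] at h1
  simp only [pow_zero, Multiset.map_const', Multiset.sum_replicate, nsmul_eq_mul, mul_one, hd,
    Nat.cast_inj] at h0
  have hN : p ^ (a + 1) ≠ 0 := pow_ne_zero _ hp.ne_zero
  haveI : NeZero (p ^ (a + 1)) := ⟨hN⟩
  obtain ⟨ζ, hζ⟩ : ∃ ζ : ℂ, IsPrimitiveRoot ζ (p ^ (a + 1)) := ⟨_, Complex.isPrimitiveRoot_exp _ hN⟩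
  have hex : ∀ z ∈ M, ∃ i : ℕ, ζ ^ i = z := fun z hz => by
    obtain ⟨i, -, hi⟩ := hζ.eq_pow_of_pow_eq_one (ha ▸ hM z hz)
    exact ⟨i, hi⟩
  choose! idx hidx using hex
  intro hzero
  let P : ℤ[X] := (M.map fun z => (X : ℤ[X]) ^ idx z).sum
  have hP0 : aeval ζ P = 0 := by
    simp only [P, map_multiset_sum, Multiset.map_map, Function.comp_def, map_pow, aeval_X]
    rw [Multiset.map_congr rfl hidx, Multiset.map_id', ← h1, hzero]
  have hdvd : cyclotomic (p ^ (a + 1)) ℤ ∣ P := by
    rw [cyclotomic_eq_minpoly hζ (Nat.pos_of_ne_zero hN)]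
    exact minpoly.isIntegrallyClosed_dvd (hζ.isIntegral (Nat.pos_of_ne_zero hN)) hP0
  have := eval_dvd (x := (1 : ℤ)) hdvd
  rw [eval_one_cyclotomic_prime_pow] at this
  simp only [P, ← coe_evalRingHom, map_multiset_sum, Multiset.map_map, Function.comp_def, map_pow] at this
  simp only [coe_evalRingHom, eval_X, one_pow,
    Multiset.map_const', Multiset.sum_replicate, nsmul_eq_mul, mul_one] at this
  exact hpd (by rw [h0]; exact_mod_cast this)

end Cfsg.Agent.CharGalois
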