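import Cfsg.Agent.Lib.Char.Basic
import Mathlib.RingTheory.RootsOfUnity.AlgebraicallyClosed
import Mathlib.GroupTheory.FiniteAbelian.Duality
import Mathlib.GroupTheory.Abelianization.Defs
import Mathlib.GroupTheory.Subgroup.Centralizer
import Mathlib.Algebra.Group.ConjFinite
import Mathlib.Algebra.MonoidAlgebra.Module
import Mathlib.LinearAlgebra.Dimension.Constructions

/-!
# Completeness of the irreducible characters and its standard consequences
-/

set_option linter.style.haveILetI false

namespace Cfsg.Agent.Char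

open scoped ComplexConjugate
open Module MonoidAlgebra

universe u v w

variable {G : Type u} [Group G]

theorem isClassFunction_iff {f : G → ℂ} :
    Cfsg.IsClassFunction G f ↔ ∀ g h : G, IsConj g h → f g = f h := by
  constructor
  · intro hf g h hgh
    obtain ⟨c, rfl⟩ := isConj_iff.mp hgh
    exact (hf g c).symm
  · intro hf g h
    exact (hf g (h * g * h⁻¹) (isConj_iff.mpr ⟨h, rfl⟩)).symm

theorem IsIrrCharacter.conj [Finite G] {χ : G → ℂ} (h : Cfsg.IsIrrCharacter G χ) :
    Cfsg.IsIrrCharacter G (fun g => conj (χ g)) := by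
  haveI : Fintype G := Fintype.ofFinite G
  refine IsCharacter.isIrr_of_norm_one (IsCharacter.conj (IsIrrCharacter.isCharacter h)) ?_
  have h1 := congrArg (starRingEnd ℂ) (classInner_self_irr h)
  simp only [Cfsg.classInner, map_mul, map_inv₀, map_sum, map_natCast, Complex.conj_conj,
    map_one] at h1
  simpa [Cfsg.classInner, mul_comm] using h1

/-- The representation on the free space on `X` attached to an action has character the number of
fixed points. -/
theorem character_ofMulAction (X : Type v) [MulAction G X] [Finite X] (g : G) :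
    (Representation.ofMulAction ℂ G X).character g = (Nat.card (MulAction.fixedBy X g) : ℂ) := by
  classical
  haveI : Fintype X := Fintype.ofFinite X
  rw [Representation.character, LinearMap.trace_eq_matrix_trace ℂ (MonoidAlgebra.basis X ℂ)]
  simp only [Matrix.trace, Matrix.diag_apply, LinearMap.toMatrix_apply]
  have key : ∀ x : X, (MonoidAlgebra.basis X ℂ).repr
      (Representation.ofMulAction ℂ G X g (MonoidAlgebra.basis X ℂ x)) x
        = if g • x = x then 1 else 0 := by
    intro x
    simp [MonoidAlgebra.basis, Finsupp.single_apply]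
  simp only [key, Finset.sum_boole]
  rw [Nat.card_eq_fintype_card, Fintype.card_subtype]
  congr 2

theorem character_leftRegular [Finite G] (g : G) [Decidable (g = 1)] :
    (Representation.leftRegular ℂ G).character g = if g = 1 then (Nat.card G : ℂ) else 0 := by
  rw [Representation.leftRegular, character_ofMulAction]
  split_ifs with h
  · subst h
    congr 1
    exact Nat.card_congr (Equiv.subtypeUnivEquiv fun x => one_smul G x)
  · have : IsEmpty (MulAction.fixedBy G g) := ⟨fun x => h (mul_eq_right.mp x.2)⟩
    simp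

section ops

variable [Fintype G]

variable {V : Type v} [AddCommGroup V] [Module ℂ V]

/-- The weighted sum of the group operators. -/
noncomputable def groupSum (f : G → ℂ) (ρ : Representation ℂ G V) : V →ₗ[ℂ] V :=
  ∑ g : G, f g • ρ g

theorem groupSum_apply (f : G → ℂ) (ρ : Representation ℂ G V) (x : V) :
    groupSum f ρ x = ∑ g : G, f g • ρ g x := by
  simp [groupSum, LinearMap.sum_apply]

theorem groupSum_comm {f : G → ℂ} (hf : Cfsg.IsClassFunction G f) (ρ : Representation ℂ G V)
    (h : G) (x : V) : groupSum f ρ (ρ h x) = ρ h (groupSum f ρ x) := by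
  rw [groupSum_apply, groupSum_apply, map_sum]
  refine Fintype.sum_equiv (MulAut.conj h⁻¹).toEquiv _ _ fun g => ?_
  simp only [MulEquiv.toEquiv_eq_coe, MulEquiv.coe_toEquiv, MulAut.conj_apply, inv_inv, map_smul]
  rw [← Module.End.mul_apply, ← Module.End.mul_apply, ← map_mul, ← map_mul]
  have h1 := hf g h⁻¹
  rw [inv_inv] at h1
  rw [h1]
  congr 3
  group

theorem trace_groupSum [FiniteDimensional ℂ V] (f : G → ℂ) (ρ : Representation ℂ G V) :
    LinearMap.trace ℂ V (groupSum f ρ) = ∑ g : G, f g * ρ.character g := by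
  simp [groupSum, map_sum, Representation.character]

/-- A class function orthogonal to all irreducible characters acts as zero everywhere. -/
theorem groupSum_eq_zero [FiniteDimensional ℂ V] {f : G → ℂ} (hf : Cfsg.IsClassFunction G f)
    (h : ∀ ψ : G → ℂ, Cfsg.IsIrrCharacter G ψ → Cfsg.classInner f ψ = 0)
    (ρ : Representation ℂ G V) : groupSum f ρ = 0 := by
  refine rep_induction (G := G) (P := fun U _ _ _ τ => groupSum f τ = 0) ?_ ?_ ?_ V ρ
  · intro U _ _ _ _ τ; exact Subsingleton.elim _ _
  · intro U _ _ _ τ _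
    obtain ⟨c, hc⟩ := schur_scalar τ (groupSum f τ) (groupSum_comm hf τ)
    have h0 : LinearMap.trace ℂ U (groupSum f τ) = 0 := by
      have := h _ (IsIrrCharacter.conj (isIrrCharacter_of_rep τ))
      simp only [Cfsg.classInner, Complex.conj_conj, mul_eq_zero] at this
      rw [trace_groupSum]
      exact this.resolve_left (inv_ne_zero (Nat.cast_ne_zero.mpr Nat.card_pos.ne'))
    rw [hc, map_smul, LinearMap.trace_id, smul_eq_mul, mul_eq_zero] at h0
    rw [hc, h0.resolve_right (Nat.cast_ne_zero.mpr (finrank_pos_of_irreducible τ).ne'), zero_smul]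
  · intro U _ _ _ τ a b hab ha hb
    refine eq_zero_of_split hab (fun x hx => ?_) (fun x hx => ?_)
    · have := congrArg Subtype.val (LinearMap.congr_fun ha ⟨x, hx⟩)
      simpa [groupSum_apply, Subrepresentation.toRepresentation] using this
    · have := congrArg Subtype.val (LinearMap.congr_fun hb ⟨x, hx⟩)
      simpa [groupSum_apply, Subrepresentation.toRepresentation] using this

theorem eq_zero_of_orthogonal {f : G → ℂ} (hf : Cfsg.IsClassFunction G f)
    (h : ∀ ψ : G → ℂ, Cfsg.IsIrrCharacter G ψ → Cfsg.classInner f ψ = 0) : f = 0 := by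
  classical
  have := LinearMap.congr_fun (groupSum_eq_zero hf h (Representation.leftRegular ℂ G))
    (single (1 : G) (1 : ℂ))
  funext g
  have hg := congrArg (fun z => z.coeff g) this
  simpa [groupSum_apply, Finsupp.single_apply] using hg

theorem IsClassFunction.sub {f g : G → ℂ} (hf : Cfsg.IsClassFunction G f)
    (hg : Cfsg.IsClassFunction G g) : Cfsg.IsClassFunction G (f - g) := fun x y => by
  simp [hf x y, hg x y]

theorem isClassFunction_combination (c : Cfsg.IrrCharacter G → ℂ) :
    Cfsg.IsClassFunction G (∑ χ, c χ • (χ : G → ℂ)) := fun x y => by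
  simp only [Finset.sum_apply, Pi.smul_apply]
  exact Finset.sum_congr rfl fun χ _ => by
    rw [IsCharacter.isClassFunction (IsIrrCharacter.isCharacter χ.2) x y]

/-- Every class function is the combination of the irreducible characters given by its inner
products. -/
theorem classFunction_eq_sum {f : G → ℂ} (hf : Cfsg.IsClassFunction G f) :
    f = ∑ ψ : Cfsg.IrrCharacter G, Cfsg.classInner f ψ • (ψ : G → ℂ) := by
  refine sub_eq_zero.mp (eq_zero_of_orthogonal (IsClassFunction.sub hf (isClassFunction_combination _)) ?_)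
  intro ψ hψ
  rw [classInner_sub_left, classInner_combination _ ⟨ψ, hψ⟩, sub_self]

theorem eq_of_forall_classInner {f g : G → ℂ} (hf : Cfsg.IsClassFunction G f)
    (hg : Cfsg.IsClassFunction G g)
    (h : ∀ ψ : Cfsg.IrrCharacter G, Cfsg.classInner f ψ = Cfsg.classInner g ψ) : f = g := by
  rw [classFunction_eq_sum hf, classFunction_eq_sum hg]
  exact Finset.sum_congr rfl fun ψ _ => by rw [h ψ]

open scoped Classical in
/-- Column orthogonality, counting form. -/
theorem column_orth_count (g h : G) :
    ∑ χ : Cfsg.IrrCharacter G, (χ : G → ℂ) g * conj ((χ : G → ℂ) h) =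
      ((Finset.univ.filter fun x : G => x * h * x⁻¹ = g).card : ℂ) := by
  set f : G → ℂ := fun k => ((Finset.univ.filter fun x : G => x * h * x⁻¹ = k).card : ℂ) with hfdef
  have hf : Cfsg.IsClassFunction G f := by
    intro k c
    simp only [hfdef, Nat.cast_inj]
    refine Finset.card_equiv (Equiv.mulLeft c⁻¹) fun x => ?_
    simp only [Finset.mem_filter, Finset.mem_univ, true_and, Equiv.coe_mulLeft]
    constructor <;> intro e
    · rw [show c⁻¹ * x * h * (c⁻¹ * x)⁻¹ = c⁻¹ * (x * h * x⁻¹) * c by group, e]; group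
    · rw [show x * h * x⁻¹ = c * (c⁻¹ * x * h * (c⁻¹ * x)⁻¹) * c⁻¹ by group, e]
  have hinner : ∀ ψ : Cfsg.IrrCharacter G, Cfsg.classInner f ψ = conj ((ψ : G → ℂ) h) := by
    intro ψ
    have hpt : ∀ k, f k * conj ((ψ : G → ℂ) k)
        = ∑ x : G, if x * h * x⁻¹ = k then conj ((ψ : G → ℂ) h) else 0 := by
      intro k
      simp only [hfdef, Finset.natCast_card_filter, Finset.sum_mul, ite_mul, one_mul, zero_mul]
      refine Finset.sum_congr rfl fun x _ => ?_
      split_ifs with e
      · rw [← e, IsCharacter.isClassFunction (IsIrrCharacter.isCharacter ψ.2) h x]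
      · rfl
    simp only [Cfsg.classInner, hpt]
    rw [Finset.sum_comm]
    simp [Nat.card_eq_fintype_card]
  have := congrFun (classFunction_eq_sum hf) g
  simp only [Finset.sum_apply, Pi.smul_apply, smul_eq_mul, hinner] at this
  simp only [mul_comm ((_ : G → ℂ) g)]
  exact this.symm

theorem column_orth_of_isConj {g h : G} (hgh : IsConj g h) :
    ∑ χ : Cfsg.IrrCharacter G, (χ : G → ℂ) g * conj ((χ : G → ℂ) h) =
      (Nat.card (Subgroup.centralizer ({g} : Set G)) : ℂ) := by
  classical
  rw [column_orth_count]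
  obtain ⟨c, hc⟩ := isConj_iff.mp hgh
  rw [← Fintype.card_subtype, ← Nat.card_eq_fintype_card]
  congr 1
  refine Nat.card_congr ((Equiv.mulRight c).subtypeEquiv fun x => ?_)
  simp only [Subgroup.mem_centralizer_singleton_iff, Equiv.coe_mulRight]
  rw [← hc]
  constructor
  · intro e
    have : (x * c) * g * (x * c)⁻¹ = g :=
      (show _ = x * (c * g * c⁻¹) * x⁻¹ by group).trans e
    rw [mul_inv_eq_iff_eq_mul] at this
    exact this
  · intro e
    rw [show x * (c * g * c⁻¹) * x⁻¹ = (x * c) * g * (x * c)⁻¹ by group, e, mul_inv_cancel_right]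

theorem column_orth_of_not_isConj {g h : G} (hgh : ¬ IsConj g h) :
    ∑ χ : Cfsg.IrrCharacter G, (χ : G → ℂ) g * conj ((χ : G → ℂ) h) = 0 := by
  classical
  rw [column_orth_count, Finset.card_eq_zero.mpr, Nat.cast_zero]
  rw [Finset.filter_eq_empty_iff]
  intro x _ hx
  exact hgh (isConj_iff.mpr ⟨x, hx⟩).symm

theorem sum_sq_degree :
    ∑ χ : Cfsg.IrrCharacter G, (χ : G → ℂ) 1 ^ 2 = (Nat.card G : ℂ) := by
  have h := column_orth_of_isConj (IsConj.refl (1 : G))
  rw [show Subgroup.centralizer ({1} : Set G) = ⊤ by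
    ext x; simp [Subgroup.mem_centralizer_singleton_iff], Subgroup.card_top] at h
  rw [← h]
  refine Finset.sum_congr rfl fun χ _ => ?_
  obtain ⟨d, -, hd⟩ := IsIrrCharacter.exists_degree χ.2
  rw [hd, map_natCast, sq]

theorem isConj_iff_forall_irr (g h : G) :
    IsConj g h ↔ ∀ χ : Cfsg.IrrCharacter G, (χ : G → ℂ) g = (χ : G → ℂ) h := by
  refine ⟨fun hgh χ => isClassFunction_iff.mp
    (IsCharacter.isClassFunction (IsIrrCharacter.isCharacter χ.2)) g h hgh, fun hall => ?_⟩
  by_contra hc
  have h0 := column_orth_of_not_isConj hc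
  simp only [← hall] at h0
  rw [column_orth_of_isConj (IsConj.refl g), Nat.cast_eq_zero] at h0
  exact Nat.card_pos.ne' h0

/-- The regular character. -/
theorem leftRegular_eq_sum :
    (Representation.leftRegular ℂ G).character =
      ∑ χ : Cfsg.IrrCharacter G, (χ : G → ℂ) 1 • (χ : G → ℂ) := by
  classical
  funext g
  rw [character_leftRegular, Finset.sum_apply]
  have hcol : ∑ χ : Cfsg.IrrCharacter G, ((χ : G → ℂ) 1 • (χ : G → ℂ)) g
      = ∑ χ : Cfsg.IrrCharacter G, (χ : G → ℂ) g * conj ((χ : G → ℂ) 1) :=
    Finset.sum_congr rfl fun χ _ => by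
      obtain ⟨d, -, hd⟩ := IsIrrCharacter.exists_degree χ.2
      simp [hd, mul_comm]
  rw [hcol]
  split_ifs with hg
  · subst hg
    rw [column_orth_of_isConj (IsConj.refl _), show Subgroup.centralizer ({1} : Set G) = ⊤ by
      ext x; simp [Subgroup.mem_centralizer_singleton_iff], Subgroup.card_top]
  · rw [column_orth_of_not_isConj (fun h => hg (isConj_one_left.mp h))]

end ops

/-- Restriction to irreducible characters is a bijection from coefficient families to functions
on the classes. -/
theorem card_irrCharacter [Finite G] :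
    Nat.card (Cfsg.IrrCharacter G) = Nat.card (ConjClasses G) := by
  classical
  haveI : Fintype G := Fintype.ofFinite G
  haveI : Finite (ConjClasses G) := Finite.of_surjective ConjClasses.mk ConjClasses.mk_surjective
  haveI : Fintype (ConjClasses G) := Fintype.ofFinite _
  let Φ : (Cfsg.IrrCharacter G → ℂ) →ₗ[ℂ] (ConjClasses G → ℂ) :=
    { toFun := fun c C => (∑ χ, c χ • (χ : G → ℂ)) C.exists_rep.choose
      map_add' := fun c d => by funext C; simp [add_mul, Finset.sum_add_distrib]
      map_smul' := fun r c => by funext C; simp [Finset.mul_sum, mul_assoc] }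
  have hmk : ∀ (c : Cfsg.IrrCharacter G → ℂ) (g : G),
      Φ c (ConjClasses.mk g) = (∑ χ, c χ • (χ : G → ℂ)) g := fun c g =>
    isClassFunction_iff.mp (isClassFunction_combination c) _ _
      (ConjClasses.mk_eq_mk_iff_isConj.mp (ConjClasses.mk g).exists_rep.choose_spec)
  have hinj : Function.Injective Φ := by
    intro c d hcd
    funext ψ
    have : (∑ χ, c χ • (χ : G → ℂ)) = ∑ χ, d χ • (χ : G → ℂ) := by
      funext g; rw [← hmk, ← hmk, hcd]
    have := congrArg (fun f => Cfsg.classInner f (ψ : G → ℂ)) this
    simpa [classInner_combination] using this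
  have hsurj : Function.Surjective Φ := by
    intro F
    have hF : Cfsg.IsClassFunction G (fun g => F (ConjClasses.mk g)) :=
      isClassFunction_iff.mpr fun g h hgh => by rw [ConjClasses.mk_eq_mk_iff_isConj.mpr hgh]
    refine ⟨fun ψ => Cfsg.classInner (fun g => F (ConjClasses.mk g)) ψ, funext fun C => ?_⟩
    obtain ⟨g, rfl⟩ := ConjClasses.mk_surjective C
    rw [hmk, ← classFunction_eq_sum hF]
  have := (LinearEquiv.ofBijective Φ ⟨hinj, hsurj⟩).finrank_eq
  simpa [Nat.card_eq_fintype_card] using this

/-! ## Linear characters -/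

theorem exists_hom_of_degree_one {χ : G → ℂ} (h : Cfsg.IsCharacter G χ) (h1 : χ 1 = 1) :
    ∃ f : G →* ℂˣ, χ = fun g => (f g : ℂ) := by
  obtain ⟨n, ρ, rfl⟩ := h
  rw [Representation.char_one] at h1
  have hn : finrank ℂ (Fin n → ℂ) = 1 := by exact_mod_cast h1
  let b := Module.basisUnique (Fin 1) hn
  have key : ∀ g : G, ρ g = ρ.character g • LinearMap.id := by
    intro g
    refine b.ext fun i => ?_
    have : ρ.character g = b.repr (ρ g (b 0)) 0 := by
      rw [Representation.character, LinearMap.trace_eq_matrix_trace ℂ b]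
      simp [Matrix.trace, LinearMap.toMatrix_apply]
    rw [Subsingleton.elim i 0]
    conv_lhs => rw [← b.sum_repr (ρ g (b 0))]
    simp [this]
  have hmul : ∀ g h, ρ.character (g * h) = ρ.character g * ρ.character h := by
    intro g h
    conv_lhs => rw [Representation.character, map_mul, key g, key h]
    rw [smul_mul_smul_comm, Module.End.mul_eq_comp, LinearMap.id_comp, map_smul,
      LinearMap.trace_id, hn]
    simp
  have h1' : ρ.character 1 = 1 := by rw [Representation.char_one, hn, Nat.cast_one]
  let f : G →* ℂ := { toFun := ρ.character, map_one' := h1', map_mul' := hmul }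
  exact ⟨f.toHomUnits, rfl⟩

theorem card_linear [Finite G] :
    Nat.card {χ : Cfsg.IrrCharacter G // (χ : G → ℂ) 1 = 1} = (commutator G).index := by
  let e : (Abelianization G →* ℂˣ) ≃ {χ : Cfsg.IrrCharacter G // (χ : G → ℂ) 1 = 1} :=
    Equiv.ofBijective (fun f => ⟨⟨fun g => (f (Abelianization.of g) : ℂ),
      isIrrCharacter_linear (f.comp Abelianization.of)⟩, by simp⟩) ⟨?_, ?_⟩
  · rw [← Nat.card_congr e]
    haveI : Finite (Abelianization G) := inferInstanceAs (Finite (G ⧸ commutator G))
    haveI : NeZero (Monoid.exponent (Abelianization G) : ℂ) :=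
      ⟨Nat.cast_ne_zero.mpr Monoid.exponent_ne_zero_of_finite⟩
    rw [CommGroup.card_monoidHom_of_hasEnoughRootsOfUnity]
    rfl
  · intro f f' h
    simp only [Subtype.mk.injEq] at h
    ext x
    exact congrFun h x
  · intro χ
    obtain ⟨f, hf⟩ := exists_hom_of_degree_one (IsIrrCharacter.isCharacter χ.1.2) χ.2
    refine ⟨Abelianization.lift f, Subtype.ext (Subtype.ext ?_)⟩
    rw [hf]
    funext g
    simp

end Cfsg.Agent.Char
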