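import Mathlib.GroupTheory.QuotientGroup.Basic
import Cfsg.Prelude.Def_Blocks
import Cfsg.Agent.Lib.Char.Complete
import Cfsg.Agent.Lib.Char.Integral

/-!
# Degrees, kernels and quotient characters, in the `Cfsg.charDegree` vocabulary
-/

set_option linter.style.haveILetI false

namespace Cfsg.Agent.CharX

open Cfsg.Agent.Char Module
open scoped ComplexConjugate

universe u

variable {G : Type u} [Group G]

theorem deg_spec {χ : G → ℂ} (h : Cfsg.IsCharacter G χ) : χ 1 = (Cfsg.charDegree χ : ℂ) := by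
  obtain ⟨n, hn⟩ := IsCharacter.exists_degree h
  simp [Cfsg.charDegree, hn]

theorem irr_deg (χ : Cfsg.IrrCharacter G) :
    (χ : G → ℂ) 1 = (Cfsg.charDegree (χ : G → ℂ) : ℂ) :=
  deg_spec (IsIrrCharacter.isCharacter χ.2)

theorem irr_deg_pos (χ : Cfsg.IrrCharacter G) : 0 < Cfsg.charDegree (χ : G → ℂ) := by
  refine Nat.pos_of_ne_zero fun h => ?_
  exact IsIrrCharacter.one_ne_zero χ.2 (by rw [irr_deg, h, Nat.cast_zero])

theorem irr_deg_dvd_card [Finite G] (χ : Cfsg.IrrCharacter G) :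
    Cfsg.charDegree (χ : G → ℂ) ∣ Nat.card G :=
  degree_dvd_card χ.2 (irr_deg χ)

theorem charDegree_one : Cfsg.charDegree (fun _ : G => (1 : ℂ)) = 1 := by
  simp [Cfsg.charDegree]

/-- The sum of the squares of the degrees. -/
theorem sum_deg_sq [Finite G] [Fintype (Cfsg.IrrCharacter G)] :
    ∑ χ : Cfsg.IrrCharacter G, Cfsg.charDegree (χ : G → ℂ) ^ 2 = Nat.card G := by
  haveI := Fintype.ofFinite G
  have h := sum_sq_degree (G := G)
  rw [← Nat.cast_inj (R := ℂ), ← h, Nat.cast_sum]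
  exact Finset.sum_congr (Finset.ext (by simp)) fun χ _ => by rw [Nat.cast_pow, irr_deg]

section Ker

variable [Finite G]

/-- The kernel of an irreducible character, as a normal subgroup. -/
theorem exists_ker (χ : Cfsg.IrrCharacter G) :
    ∃ K : Subgroup G, K.Normal ∧ (∀ g, g ∈ K ↔ (χ : G → ℂ) g = (χ : G → ℂ) 1) ∧
      Nat.card {g : G // (χ : G → ℂ) g = (χ : G → ℂ) 1} = Nat.card K ∧
      Cfsg.charDegree (χ : G → ℂ) ∣ K.index := by
  obtain ⟨K, hK, hmem, -⟩ := IsCharacter.exists_kernel (IsIrrCharacter.isCharacter χ.2)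
  refine ⟨K, hK, hmem, Nat.card_congr (Equiv.subtypeEquivRight fun g => (hmem g).symm), ?_⟩
  haveI := hK
  obtain ⟨χ', -, he, hirr⟩ :=
    IsCharacter.deflate (IsIrrCharacter.isCharacter χ.2) K (fun x hx => (hmem x).1 hx)
  refine degree_dvd_card (hirr χ.2) ?_
  rw [← QuotientGroup.mk_one, he 1, irr_deg]

/-- The codegree expression divides the group order, and equals `[G:K] / χ(1)`. -/
theorem codeg_eq (χ : Cfsg.IrrCharacter G) (K : Subgroup G)
    (hK : ∀ g, g ∈ K ↔ (χ : G → ℂ) g = (χ : G → ℂ) 1) :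
    Nat.card G / (Nat.card {g : G // (χ : G → ℂ) g = (χ : G → ℂ) 1} * Cfsg.charDegree (χ : G → ℂ)) =
      K.index / Cfsg.charDegree (χ : G → ℂ) := by
  rw [Nat.card_congr (Equiv.subtypeEquivRight fun g => (hK g).symm), ← Nat.div_div_eq_div_mul,
    ← K.index_mul_card, Nat.mul_div_cancel _ Nat.card_pos]

end Ker

/-- A character non-trivial on a normal subgroup sums to zero over each of its cosets. -/
theorem sum_coset_eq_zero [Finite G] {χ : G → ℂ} (h : Cfsg.IsIrrCharacter G χ) (N : Subgroup G)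
    [N.Normal] [Fintype N] (hN : ∃ x ∈ N, χ x ≠ χ 1) (g : G) :
    ∑ n : N, χ (g * n) = 0 := by
  obtain ⟨d, ρ, hρ, rfl⟩ := h
  haveI := hρ
  let T : Module.End ℂ (Fin d → ℂ) := ∑ n : N, ρ (n : G)
  have hT : ∀ x v, T (ρ x v) = ρ x (T v) := by
    intro x v
    simp only [T, LinearMap.sum_apply, map_sum]
    refine Fintype.sum_equiv (MulAut.conjNormal x⁻¹).toEquiv _ _ fun n => ?_
    simp only [MulEquiv.toEquiv_eq_coe, MulEquiv.coe_toEquiv, MulAut.conjNormal_apply, inv_inv,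
      ← Module.End.mul_apply, ← map_mul]
    congr 2; group
  obtain ⟨c, hc⟩ := schur_scalar ρ T hT
  obtain ⟨x, hxN, hx⟩ := hN
  have habs : T * ρ x = T := by
    simp only [T, Finset.sum_mul, ← map_mul]
    exact Fintype.sum_equiv (Equiv.mulRight (⟨x, hxN⟩ : N)) _ _ fun n => rfl
  have hc0 : c = 0 := by
    by_contra hc0
    refine hx ?_
    have hid : ρ x = LinearMap.id := by
      refine LinearMap.ext fun v => smul_right_injective _ hc0 ?_
      have := LinearMap.congr_fun habs v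
      rwa [hc, Module.End.mul_apply, LinearMap.smul_apply, LinearMap.smul_apply] at this
    simp [Representation.character, hid]
  have : ∑ n : N, ρ.character (g * n) = LinearMap.trace ℂ (Fin d → ℂ) (ρ g * T) := by
    simp only [T, Representation.character, Finset.mul_sum, ← map_mul, map_sum]
  rw [this, hc, hc0, zero_smul, mul_zero, map_zero]

section Quotient

variable [Finite G] (N : Subgroup G) [N.Normal]

/-- Inflation of an irreducible character of a quotient. -/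
def infl (χ : Cfsg.IrrCharacter (G ⧸ N)) : Cfsg.IrrCharacter G :=
  ⟨fun g => (χ : G ⧸ N → ℂ) (g : G ⧸ N),
    IsIrrCharacter.comp χ.2 (QuotientGroup.mk' N) (QuotientGroup.mk'_surjective N)⟩

@[simp] theorem infl_apply (χ : Cfsg.IrrCharacter (G ⧸ N)) (g : G) :
    (infl N χ : G → ℂ) g = (χ : G ⧸ N → ℂ) (g : G ⧸ N) := rfl

theorem infl_trivialOn (χ : Cfsg.IrrCharacter (G ⧸ N)) :
    ∀ x ∈ N, (infl N χ : G → ℂ) x = (infl N χ : G → ℂ) 1 := fun x hx => by
  rw [infl_apply, infl_apply, (QuotientGroup.eq_one_iff x).2 hx]; rfl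

/-- Irreducible characters of the quotient are the irreducible characters trivial on `N`. -/
noncomputable def quotEquiv : Cfsg.IrrCharacter (G ⧸ N) ≃
    {χ : Cfsg.IrrCharacter G // ∀ x ∈ N, (χ : G → ℂ) x = (χ : G → ℂ) 1} :=
  Equiv.ofBijective (fun χ => ⟨infl N χ, infl_trivialOn N χ⟩) ⟨fun a b h => by
    refine Subtype.ext (funext fun q => ?_)
    obtain ⟨g, rfl⟩ := QuotientGroup.mk_surjective q
    exact congrFun (congrArg Subtype.val (congrArg Subtype.val h)) g, fun χ => by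
    obtain ⟨χ', -, he, hirr⟩ := IsCharacter.deflate (IsIrrCharacter.isCharacter χ.1.2) N χ.2
    exact ⟨⟨χ', hirr χ.1.2⟩, Subtype.ext (Subtype.ext (funext he))⟩⟩

open scoped Classical in
theorem sum_trivialOn [Fintype (Cfsg.IrrCharacter G)] [Fintype (Cfsg.IrrCharacter (G ⧸ N))]
    {M : Type*} [AddCommMonoid M] (F : (G → ℂ) → M) :
    ∑ χ ∈ Finset.univ.filter
        (fun χ : Cfsg.IrrCharacter G => ∀ x ∈ N, (χ : G → ℂ) x = (χ : G → ℂ) 1), F (χ : G → ℂ) =
      ∑ χ : Cfsg.IrrCharacter (G ⧸ N), F (infl N χ : G → ℂ) := by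
  rw [Finset.sum_subtype (p := fun χ : Cfsg.IrrCharacter G => ∀ x ∈ N, (χ : G → ℂ) x = (χ : G → ℂ) 1)
    _ (by simp)]
  exact ((quotEquiv N).sum_comp fun χ => F (χ.1 : G → ℂ)).symm

/-- `sum_trivialOn` for any finset with the same members. -/
theorem sum_trivialOn' [Fintype (Cfsg.IrrCharacter (G ⧸ N))]
    {M : Type*} [AddCommMonoid M] (t : Finset (Cfsg.IrrCharacter G))
    (ht : ∀ χ : Cfsg.IrrCharacter G, χ ∈ t ↔ ∀ x ∈ N, (χ : G → ℂ) x = (χ : G → ℂ) 1)
    (F : (G → ℂ) → M) :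
    ∑ χ ∈ t, F (χ : G → ℂ) = ∑ χ : Cfsg.IrrCharacter (G ⧸ N), F (infl N χ : G → ℂ) := by
  haveI : Fintype {χ : Cfsg.IrrCharacter G // ∀ x ∈ N, (χ : G → ℂ) x = (χ : G → ℂ) 1} := Fintype.ofFinite _
  rw [Finset.sum_subtype _ ht]
  exact ((quotEquiv N).sum_comp fun χ => F (χ.1 : G → ℂ)).symm

end Quotient

end Cfsg.Agent.CharX
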