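/-
Groups with a self-centralizing element of prime order.
-/
import Cfsg.Prelude.Def_Solvable
import Cfsg.Agent.Lib.Solvable.Fitting
import Mathlib.GroupTheory.Transfer
import Mathlib.GroupTheory.IsPerfect

set_option autoImplicit false
set_option linter.style.haveILetI false

open scoped commutatorElement

namespace Cfsg.Agent.SelfCent

variable {G : Type*} [Group G] [Finite G] {p : ℕ} [hp : Fact p.Prime] {x : G}
  (hx : orderOf x = p) (hC : Subgroup.centralizer ({x} : Set G) = Subgroup.zpowers x)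

include hx in
omit [Finite G] hp in
theorem card_zpowers : Nat.card (Subgroup.zpowers x) = p := by rw [Nat.card_zpowers, hx]

include hx in
theorem zpowers_eq {y : G} (hy : y ∈ Subgroup.zpowers x) (hy1 : y ≠ 1) :
    Subgroup.zpowers y = Subgroup.zpowers x := by
  refine Subgroup.eq_of_le_of_card_ge (Subgroup.zpowers_le.2 hy) ?_
  rw [card_zpowers hx, Nat.card_zpowers]
  rcases (Nat.dvd_prime hp.out).1
    (card_zpowers hx ▸ Subgroup.orderOf_dvd_natCard _ hy) with h | h
  · exact absurd (orderOf_eq_one_iff.1 h) hy1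
  · exact h.ge

include hC in
omit [Finite G] hp in
theorem mem_of_commute {g : G} (h : g * x = x * g) : g ∈ Subgroup.zpowers x := by
  rw [← hC, Subgroup.mem_centralizer_singleton_iff]
  exact h

include hC in
omit [Finite G] hp in
theorem conj_eq_iff {g h : G} (e : g * x * g⁻¹ = h * x * h⁻¹) : h⁻¹ * g ∈ Subgroup.zpowers x := by
  refine mem_of_commute hC ?_
  calc h⁻¹ * g * x = h⁻¹ * (g * x * g⁻¹) * g := by group
    _ = h⁻¹ * (h * x * h⁻¹) * g := by rw [e]
    _ = _ := by group

include hx hC in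
theorem mem_of_commute' {g y : G} (hy : y ∈ Subgroup.zpowers x) (hy1 : y ≠ 1)
    (hg : g * y = y * g) : g ∈ Subgroup.zpowers x := by
  obtain ⟨k, hk⟩ := Subgroup.mem_zpowers_iff.1
    ((zpowers_eq hx hy hy1).symm ▸ Subgroup.mem_zpowers x : x ∈ Subgroup.zpowers y)
  refine mem_of_commute hC ?_
  rw [← hk]
  exact ((show Commute g y from hg).zpow_right k).eq

include hx in
theorem mem_normalizer {g y : G} (hy : y ∈ Subgroup.zpowers x) (hy1 : y ≠ 1)
    (hgy : g * y * g⁻¹ ∈ Subgroup.zpowers x) :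
    g ∈ Subgroup.normalizer (Subgroup.zpowers x : Set G) := by
  have hy1' : g * y * g⁻¹ ≠ 1 := fun h => hy1 (conj_eq_one_iff.1 h)
  have e : (Subgroup.zpowers x).map (MulAut.conj g).toMonoidHom = Subgroup.zpowers x := by
    conv_lhs => rw [← zpowers_eq hx hy hy1, MonoidHom.map_zpowers]
    exact zpowers_eq hx hgy hy1'
  rw [Subgroup.mem_normalizer_iff]
  intro h
  constructor
  · intro hh
    rw [← e]
    exact ⟨h, hh, rfl⟩
  · intro hh
    rw [← e] at hh
    obtain ⟨z, hz, hze⟩ := hh
    rwa [← (MulAut.conj g).injective (show MulAut.conj g z = MulAut.conj g h from hze)]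

include hx hC in
theorem exists_sylow : ∃ S : Sylow p G, (S : Subgroup G) = Subgroup.zpowers x := by
  obtain ⟨S, hS⟩ := (IsPGroup.of_card (p := p) (n := 1) (by rw [card_zpowers hx, pow_one]) :
    IsPGroup p (Subgroup.zpowers x)).exists_le_sylow
  refine ⟨S, le_antisymm ?_ hS⟩
  have hS1 : Nontrivial (S : Subgroup G) := by
    refine ⟨⟨⟨x, hS (Subgroup.mem_zpowers x)⟩, 1, fun h => ?_⟩⟩
    have h' : x = 1 := congrArg Subtype.val h
    rw [h', orderOf_one] at hx
    exact hp.out.one_lt.ne hx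
  haveI : Nontrivial (Subgroup.center (S : Subgroup G)) := S.isPGroup'.center_nontrivial
  obtain ⟨z, hz⟩ := exists_ne (1 : Subgroup.center (S : Subgroup G))
  have hzx : ((z : (S : Subgroup G)) : G) ∈ Subgroup.zpowers x :=
    mem_of_commute hC (congrArg Subtype.val
      (Subgroup.mem_center_iff.1 z.2 ⟨x, hS (Subgroup.mem_zpowers x)⟩)).symm
  intro a ha
  refine mem_of_commute' hx hC hzx (fun h => hz (Subtype.ext (Subtype.ext h))) ?_
  exact congrArg Subtype.val (Subgroup.mem_center_iff.1 z.2 ⟨a, ha⟩)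

include hx hC in
theorem card_subgroups : Nat.card {H : Subgroup G // Nat.card H = p} =
    (Subgroup.normalizer (Subgroup.zpowers x : Set G)).index := by
  obtain ⟨S, hS⟩ := exists_sylow hx hC
  rw [← hS, show Subgroup.normalizer ((S : Subgroup G) : Set G) = Subgroup.normalizer (S : Set G)
    from rfl, ← S.card_eq_index_normalizer]
  have hcard : ∀ T : Sylow p G, Nat.card (T : Subgroup G) = p := fun T => by
    rw [Sylow.card_eq_multiplicity, ← Sylow.card_eq_multiplicity S, hS, card_zpowers hx]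
  refine Nat.card_congr (Equiv.ofBijective
    (fun T : Sylow p G => (⟨(T : Subgroup G), hcard T⟩ : {H : Subgroup G // Nat.card H = p}))
    ⟨fun T T' h => Sylow.ext (congrArg Subtype.val h), fun H => ?_⟩).symm
  obtain ⟨T, hT⟩ := (IsPGroup.of_card (p := p) (n := 1) (by rw [H.2, pow_one]) :
    IsPGroup p H.1).exists_le_sylow
  exact ⟨T, Subtype.ext (Subgroup.eq_of_le_of_card_ge hT (by rw [hcard, H.2])).symm⟩

include hx hC in
theorem mem_of_dvd (S : Subgroup G) [hS : S.Normal] (h : p ∣ Nat.card S) : x ∈ S := by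
  obtain ⟨y, hy⟩ := exists_prime_orderOf_dvd_card' (G := S) p h
  obtain ⟨T, hT⟩ := exists_sylow hx hC
  obtain ⟨U, hU⟩ := (IsPGroup.of_card (p := p) (n := 1)
    (by rw [Nat.card_zpowers, orderOf_submonoid, hy, pow_one] : Nat.card (Subgroup.zpowers (y : G)) = p ^ 1) :
    IsPGroup p (Subgroup.zpowers (y : G))).exists_le_sylow
  obtain ⟨g, hg⟩ := MulAction.exists_smul_eq G T U
  have hyU : (y : G) ∈ ((g • T : Sylow p G) : Subgroup G) := hg ▸ hU (Subgroup.mem_zpowers _)
  rw [Sylow.coe_subgroup_smul, hT] at hyU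
  obtain ⟨z, hz, hzy⟩ := hyU
  have hz' : g * z * g⁻¹ = (y : G) := hzy
  have hzS : z ∈ S := by
    have := hS.conj_mem _ y.2 g⁻¹
    rwa [← hz', show g⁻¹ * (g * z * g⁻¹) * g⁻¹⁻¹ = z by group] at this
  have hz1 : z ≠ 1 := by
    rintro rfl
    rw [mul_one, mul_inv_cancel] at hz'
    rw [← orderOf_submonoid, ← hz', orderOf_one] at hy
    exact hp.out.one_lt.ne hy
  obtain ⟨k, hk⟩ := Subgroup.mem_zpowers_iff.1
    ((zpowers_eq hx hz hz1).symm ▸ Subgroup.mem_zpowers x : x ∈ Subgroup.zpowers z)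
  exact hk ▸ zpow_mem hzS k

include hC in
omit [Finite G] hp in
theorem commutator_mem {a b : G} (ha : a ∈ Subgroup.normalizer (Subgroup.zpowers x : Set G))
    (hb : b ∈ Subgroup.normalizer (Subgroup.zpowers x : Set G)) :
    ⁅a, b⁆ ∈ Subgroup.zpowers x := by
  obtain ⟨i, hi⟩ := Subgroup.mem_zpowers_iff.1
    ((Subgroup.mem_normalizer_iff.1 ha x).1 (Subgroup.mem_zpowers x))
  obtain ⟨j, hj⟩ := Subgroup.mem_zpowers_iff.1
    ((Subgroup.mem_normalizer_iff.1 hb x).1 (Subgroup.mem_zpowers x))
  have key : (a * b) * x * (a * b)⁻¹ = (b * a) * x * (b * a)⁻¹ := by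
    calc (a * b) * x * (a * b)⁻¹ = a * (b * x * b⁻¹) * a⁻¹ := by group
      _ = (a * x * a⁻¹) ^ j := by rw [← hj, conj_zpow]
      _ = (b * x * b⁻¹) ^ i := by rw [← hi, ← hj, ← zpow_mul, ← zpow_mul, mul_comm]
      _ = b * (a * x * a⁻¹) * b⁻¹ := by rw [← hi, conj_zpow]
      _ = _ := by group
  have h := conj_eq_iff hC key
  have hn : b * a ∈ Subgroup.normalizer (Subgroup.zpowers x : Set G) := mul_mem hb ha
  have h2 := (Subgroup.mem_normalizer_iff.1 hn _).1 h
  rw [commutatorElement_def]
  rwa [show b * a * ((b * a)⁻¹ * (a * b)) * (b * a)⁻¹ = a * b * a⁻¹ * b⁻¹ by group] at h2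

include hx hC in
theorem normalizer_sup (S : Subgroup G) [hS : S.Normal] (h : p ∣ Nat.card S) :
    Subgroup.normalizer (Subgroup.zpowers x : Set G) ⊔ S = ⊤ := by
  obtain ⟨T, hT⟩ := exists_sylow hx hC
  rw [← hT]
  exact Sylow.normalizer_sup_eq_top' T (hT ▸ Subgroup.zpowers_le.2 (mem_of_dvd hx hC S h))

include hx hC in
/-- A normal subgroup of order divisible by `p` contains the commutator subgroup. -/
theorem commutator_le (S : Subgroup G) [hS : S.Normal] (h : p ∣ Nat.card S) :
    commutator G ≤ S := by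
  rw [commutator_def, Subgroup.commutator_le]
  intro a _ b _
  rw [← QuotientGroup.eq_one_iff, ← QuotientGroup.mk'_apply, map_commutatorElement]
  have key : ∀ g : G, ∃ n ∈ Subgroup.normalizer (Subgroup.zpowers x : Set G),
      QuotientGroup.mk' S g = QuotientGroup.mk' S n := by
    intro g
    obtain ⟨n, hn, s, hs, e⟩ := Subgroup.mem_sup_of_normal_right.1
      (normalizer_sup hx hC S h ▸ Subgroup.mem_top g)
    refine ⟨n, hn, ?_⟩
    rw [← e, map_mul, QuotientGroup.mk'_apply S s, (QuotientGroup.eq_one_iff s).2 hs, mul_one]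
  obtain ⟨n, hn, hna⟩ := key a
  obtain ⟨m, hm, hmb⟩ := key b
  rw [hna, hmb, ← map_commutatorElement, QuotientGroup.mk'_apply, QuotientGroup.eq_one_iff]
  exact Subgroup.zpowers_le.2 (mem_of_dvd hx hC S h) (commutator_mem hC hn hm)

section Coprime

variable (S : Subgroup G) [hS : S.Normal] (h : ¬ p ∣ Nat.card S)

include hx h in
omit hS in
theorem eq_one_of_mem {y : G} (hy : y ∈ S) (hy' : y ∈ Subgroup.zpowers x) : y = 1 := by
  by_contra hy1
  apply h
  have := Subgroup.card_dvd_of_le (Subgroup.zpowers_le.2 hy)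
  rwa [zpowers_eq hx hy' hy1, card_zpowers hx] at this

include hx hC h in
theorem exists_conj {s : G} (hs : s ∈ S) : ∃ u ∈ S, u * x * u⁻¹ = s * x := by
  let f : S → S := fun u => ⟨u * (x * (u : G)⁻¹ * x⁻¹),
    mul_mem u.2 (hS.conj_mem _ (inv_mem u.2) x)⟩
  have hf : Function.Injective f := by
    intro u v e
    have e' : (u : G) * (x * (u : G)⁻¹ * x⁻¹) = v * (x * (v : G)⁻¹ * x⁻¹) :=
      congrArg Subtype.val e
    have e'' : (u : G) * x * (u : G)⁻¹ = (v : G) * x * (v : G)⁻¹ := by
      calc (u : G) * x * (u : G)⁻¹ = (u : G) * (x * (u : G)⁻¹ * x⁻¹) * x := by group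
        _ = (v : G) * (x * (v : G)⁻¹ * x⁻¹) * x := by rw [e']
        _ = _ := by group
    exact (inv_mul_eq_one.1 (Subtype.ext (eq_one_of_mem hx S h (v⁻¹ * u).2
      (conj_eq_iff hC e'')) : v⁻¹ * u = 1)).symm
  obtain ⟨u, hu⟩ := Finite.injective_iff_surjective.1 hf ⟨s, hs⟩
  refine ⟨u, u.2, ?_⟩
  have hu' : (u : G) * (x * (u : G)⁻¹ * x⁻¹) = s := congrArg Subtype.val hu
  rw [← hu']
  group

include hx hC h in
theorem le_commutator : S ≤ commutator G := by
  intro s hs
  obtain ⟨u, -, hu⟩ := exists_conj hx hC S h hs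
  have : s = ⁅u, x⁆ := by
    rw [commutatorElement_def, hu]
    group
  rw [this, commutator_def]
  exact Subgroup.commutator_mem_commutator (Subgroup.mem_top _) (Subgroup.mem_top _)

include hx hC h in
theorem mem_sup {g : G} (hg : g * x * g⁻¹ * x⁻¹ ∈ S) : g ∈ S ⊔ Subgroup.zpowers x := by
  obtain ⟨u, hu, e⟩ := exists_conj hx hC S h hg
  have e' : g * x * g⁻¹ = u * x * u⁻¹ := by rw [e]; group
  have := Subgroup.mul_mem_sup hu (conj_eq_iff hC e')
  rwa [mul_inv_cancel_left] at this

include hx h in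
omit hS in
theorem card_mod [S.Normal] (hC : Subgroup.centralizer ({x} : Set G) = Subgroup.zpowers x) :
    Nat.card S % p = 1 := by
  classical
  set P := Subgroup.zpowers x with hP
  letI : MulAction P S :=
    MulAction.compHom S ((MulAut.conjNormal : G →* MulAut S).comp P.subtype)
  have hPp : IsPGroup p P := IsPGroup.of_card (n := 1) (by rw [pow_one, hP, card_zpowers hx])
  haveI : Finite S := inferInstance
  have h1 : Nat.card (MulAction.fixedPoints P S) = 1 := by
    rw [Nat.card_eq_one_iff_unique]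
    refine ⟨⟨fun a b => ?_⟩, ⟨⟨1, fun q => Subtype.ext ?_⟩⟩⟩
    · have key : ∀ a : MulAction.fixedPoints P S, ((a : S) : G) = 1 := fun a => by
        have e : x * ((a : S) : G) * x⁻¹ = ((a : S) : G) :=
          congrArg Subtype.val (a.2 ⟨x, Subgroup.mem_zpowers x⟩)
        refine eq_one_of_mem hx S h (a : S).2 (mem_of_commute hC ?_)
        conv_lhs => rw [← e]
        group
      exact Subtype.ext (Subtype.ext ((key a).trans (key b).symm))
    · show (q : G) * ((1 : S) : G) * (q : G)⁻¹ = ((1 : S) : G)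
      simp
  have := hPp.card_modEq_card_fixedPoints (α := S)
  rw [h1] at this
  rw [this, Nat.mod_eq_of_lt hp.out.one_lt]

include hx hC h in
theorem inf_normalizer : S ⊓ Subgroup.normalizer (Subgroup.zpowers x : Set G) = ⊥ := by
  rw [eq_bot_iff]
  rintro g ⟨hgS, hgN⟩
  refine Subgroup.mem_bot.2 (eq_one_of_mem hx S h hgS (mem_of_commute hC ?_))
  have h1 : g * x * g⁻¹ * x⁻¹ ∈ S := by
    have := mul_mem hgS (hS.conj_mem _ (inv_mem hgS) x)
    rwa [← mul_assoc, ← mul_assoc] at this
  have h2 : g * x * g⁻¹ * x⁻¹ ∈ Subgroup.zpowers x :=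
    mul_mem ((Subgroup.mem_normalizer_iff.1 hgN x).1 (Subgroup.mem_zpowers x))
      (inv_mem (Subgroup.mem_zpowers x))
  have h3 := eq_one_of_mem hx S h h1 h2
  rw [mul_inv_eq_one] at h3
  exact mul_inv_eq_iff_eq_mul.1 h3

end Coprime

include hx hC in
theorem card_inf_mul (S : Subgroup G) [hS : S.Normal] (hd : p ∣ Nat.card S) :
    (Subgroup.normalizer (Subgroup.zpowers x : Set G)).index *
        Nat.card (S ⊓ Subgroup.normalizer (Subgroup.zpowers x : Set G) : Subgroup G) = Nat.card S ∧
      p ∣ Nat.card (S ⊓ Subgroup.normalizer (Subgroup.zpowers x : Set G) : Subgroup G) := by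
  set N := Subgroup.normalizer (Subgroup.zpowers x : Set G) with hN
  constructor
  · have h1 := Cfsg.Agent.SolvBasic.card_sup_mul_card_inf (N := S) (H := N) Subgroup.le_normalizer_of_normal
    rw [sup_comm, normalizer_sup hx hC S hd, Subgroup.card_top, ← N.index_mul_card] at h1
    have := Nat.card_pos (α := N)
    nlinarith
  · rw [← card_zpowers hx]
    exact Subgroup.card_dvd_of_le (le_inf (Subgroup.zpowers_le.2 (mem_of_dvd hx hC S hd))
      Subgroup.le_normalizer)

include hx hC in
theorem classes_mul (t : ℕ)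
    (ht : Nat.card {C : ConjClasses G // ∃ g ∈ C.carrier, orderOf g = p} = t) :
    t * ((Subgroup.zpowers x).subgroupOf
      (Subgroup.normalizer (Subgroup.zpowers x : Set G))).index = p - 1 := by
  classical
  haveI : Fintype G := Fintype.ofFinite G
  set P := Subgroup.zpowers x with hPdef
  set N := Subgroup.normalizer (P : Set G) with hN
  obtain ⟨S, hSP⟩ := exists_sylow hx hC
  let P0 := {y : G // y ∈ P ∧ y ≠ 1}
  have hP0 : Nat.card P0 = p - 1 := by
    haveI : Fintype P := Fintype.ofFinite P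
    rw [Nat.card_congr ({ toFun := fun y => ⟨⟨y.1, y.2.1⟩, fun h => y.2.2 (congrArg Subtype.val h)⟩
                          invFun := fun y => ⟨y.1, y.1.2, fun h => y.2 (Subtype.ext h)⟩
                          left_inv := fun _ => rfl
                          right_inv := fun _ => rfl } : P0 ≃ {y : P // y ≠ 1})]
    rw [Nat.card_eq_fintype_card, Fintype.card_subtype_compl, Fintype.card_subtype_eq,
      ← Nat.card_eq_fintype_card, hPdef, card_zpowers hx]
  have hord : ∀ y ∈ P, y ≠ 1 → orderOf y = p := fun y hy hy1 => by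
    rw [← Nat.card_zpowers, zpowers_eq hx hy hy1, card_zpowers hx]
  let cl : P0 → {C : ConjClasses G // ∃ g ∈ C.carrier, orderOf g = p} := fun y =>
    ⟨ConjClasses.mk y.1, y.1, ConjClasses.mem_carrier_mk, hord _ y.2.1 y.2.2⟩
  have hcl : Function.Surjective cl := by
    rintro ⟨C, g, hg, hgp⟩
    obtain ⟨T, hT⟩ := (IsPGroup.of_card (p := p) (n := 1)
      (by rw [Nat.card_zpowers, hgp, pow_one]) : IsPGroup p (Subgroup.zpowers g)).exists_le_sylow
    obtain ⟨h, hh⟩ := MulAction.exists_smul_eq G S T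
    have hgT : g ∈ ((h • S : Sylow p G) : Subgroup G) := hh ▸ hT (Subgroup.mem_zpowers g)
    rw [Sylow.coe_subgroup_smul] at hgT
    obtain ⟨y, hy, hye⟩ := hgT
    refine ⟨⟨y, hSP.le hy, fun h1 => ?_⟩, Subtype.ext ?_⟩
    · subst h1
      have : g = 1 := hye.symm.trans (map_one _)
      rw [this, orderOf_one] at hgp
      exact hp.out.one_lt.ne hgp
    · refine (ConjClasses.mk_eq_mk_iff_isConj.2 (isConj_iff.2 ⟨h, hye⟩)).trans ?_
      exact ConjClasses.mem_carrier_iff_mk_eq.1 hg
  have hfib : ∀ y : P0, Nat.card {z : P0 // cl z = cl y} = (P.subgroupOf N).index := by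
    intro y
    haveI : (P.subgroupOf N).Normal := Subgroup.normal_in_normalizer
    rw [Subgroup.index_eq_card]
    let f : N ⧸ P.subgroupOf N → {z : P0 // cl z = cl y} := fun q =>
      Quotient.liftOn' q (fun g => ⟨⟨(g : G) * y.1 * (g : G)⁻¹,
          (Subgroup.mem_normalizer_iff.1 g.2 y.1).1 y.2.1, fun h => y.2.2 (conj_eq_one_iff.1 h)⟩,
        Subtype.ext (ConjClasses.mk_eq_mk_iff_isConj.2 (isConj_iff.2 ⟨(g : G), rfl⟩).symm)⟩)
        (fun a b hab => by
          rw [QuotientGroup.leftRel_apply, Subgroup.mem_subgroupOf] at hab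
          refine Subtype.ext (Subtype.ext ?_)
          show (a : G) * y.1 * (a : G)⁻¹ = (b : G) * y.1 * (b : G)⁻¹
          have h1 : ((a⁻¹ * b : N) : G) * y.1 = y.1 * ((a⁻¹ * b : N) : G) := by
            obtain ⟨i, hi⟩ := Subgroup.mem_zpowers_iff.1 hab
            obtain ⟨j, hj⟩ := Subgroup.mem_zpowers_iff.1 y.2.1
            rw [← hi, ← hj]
            exact (((Commute.refl x).zpow_left i).zpow_right j).eq
          push_cast at h1
          calc (a : G) * y.1 * (a : G)⁻¹
              = (a : G) * (y.1 * ((a : G)⁻¹ * b)) * (b : G)⁻¹ := by group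
            _ = (a : G) * (((a : G)⁻¹ * b) * y.1) * (b : G)⁻¹ := by rw [h1]
            _ = _ := by group)
    refine (Nat.card_congr (Equiv.ofBijective f ⟨?_, ?_⟩)).symm
    · intro a b hab
      obtain ⟨a, rfl⟩ := QuotientGroup.mk_surjective a
      obtain ⟨b, rfl⟩ := QuotientGroup.mk_surjective b
      have h1 : (a : G) * y.1 * (a : G)⁻¹ = (b : G) * y.1 * (b : G)⁻¹ :=
        congrArg (fun z => (z.1 : P0).1) hab
      rw [QuotientGroup.eq, Subgroup.mem_subgroupOf]
      refine mem_of_commute' hx hC y.2.1 y.2.2 ?_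
      push_cast
      calc (a : G)⁻¹ * b * y.1 = (a : G)⁻¹ * ((b : G) * y.1 * (b : G)⁻¹) * b := by group
        _ = (a : G)⁻¹ * ((a : G) * y.1 * (a : G)⁻¹) * b := by rw [h1]
        _ = _ := by group
    · rintro ⟨z, hz⟩
      obtain ⟨g, hg⟩ := isConj_iff.1 (ConjClasses.mk_eq_mk_iff_isConj.1
        (congrArg Subtype.val hz)).symm
      exact ⟨((⟨g, mem_normalizer hx y.2.1 y.2.2 (by rw [hg]; exact z.2.1)⟩ : N) : N ⧸ P.subgroupOf N),
        Subtype.ext (Subtype.ext hg)⟩
  haveI : Fintype P0 := Fintype.ofFinite P0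
  haveI : Finite (ConjClasses G) := Quotient.finite _
  haveI : Fintype {C : ConjClasses G // ∃ g ∈ C.carrier, orderOf g = p} := Fintype.ofFinite _
  rw [← hP0, ← ht, ← Nat.card_congr (Equiv.sigmaFiberEquiv cl), Nat.card_sigma]
  have hall : ∀ C : {C : ConjClasses G // ∃ g ∈ C.carrier, orderOf g = p},
      Nat.card {z : P0 // cl z = C} = (P.subgroupOf N).index := fun C => by
    obtain ⟨y, rfl⟩ := hcl C
    exact hfib y
  rw [Finset.sum_congr rfl fun C _ => hall C, Finset.sum_const, smul_eq_mul, Finset.card_univ,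
    Nat.card_eq_fintype_card]

include hx hC in
theorem index_commutator_of_not_dvd (h : ¬ p ∣ Nat.card (commutator G)) :
    (commutator G).index = p ∧
      Subgroup.normalizer (Subgroup.zpowers x : Set G) = Subgroup.zpowers x := by
  have hcomm : ∀ g : G, g * x * g⁻¹ * x⁻¹ ∈ commutator G := fun g => by
    rw [← commutatorElement_def]
    exact Subgroup.commutator_mem_commutator (Subgroup.mem_top g) (Subgroup.mem_top x)
  constructor
  · have htop : commutator G ⊔ Subgroup.zpowers x = ⊤ :=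
      top_le_iff.1 fun g _ => mem_sup hx hC _ h (hcomm g)
    have hd : commutator G ⊓ Subgroup.zpowers x = ⊥ :=
      (Subgroup.eq_bot_iff_forall _).2 fun y hy => eq_one_of_mem hx _ h hy.1 hy.2
    have h1 := Cfsg.Agent.SolvBasic.card_sup_mul_card_inf (N := commutator G)
      (H := Subgroup.zpowers x) Subgroup.le_normalizer_of_normal
    rw [htop, hd, Subgroup.card_top, Subgroup.card_bot, card_zpowers hx, mul_one,
      ← (commutator G).card_mul_index] at h1
    exact Nat.eq_of_mul_eq_mul_left Nat.card_pos h1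
  · refine le_antisymm (fun g hg => mem_of_commute hC ?_) Subgroup.le_normalizer
    have h2 : g * x * g⁻¹ * x⁻¹ ∈ Subgroup.zpowers x :=
      mul_mem ((Subgroup.mem_normalizer_iff.1 hg x).1 (Subgroup.mem_zpowers x))
        (inv_mem (Subgroup.mem_zpowers x))
    have h3 := eq_one_of_mem hx _ h (hcomm g) h2
    rw [mul_inv_eq_one] at h3
    exact mul_inv_eq_iff_eq_mul.1 h3

include hx hC in
theorem not_dvd_of_normalizer
    (hN : Subgroup.normalizer (Subgroup.zpowers x : Set G) = Subgroup.zpowers x) :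
    ¬ p ∣ Nat.card (commutator G) := by
  obtain ⟨S, hSP⟩ := exists_sylow hx hC
  have hN' : Subgroup.normalizer ((S : Subgroup G) : Set G) ≤
      Subgroup.centralizer ((S : Subgroup G) : Set G) := by
    rw [hSP, hN]
    intro a ha
    rw [Subgroup.mem_centralizer_iff]
    intro b hb
    obtain ⟨i, rfl⟩ := Subgroup.mem_zpowers_iff.1 ha
    obtain ⟨j, rfl⟩ := Subgroup.mem_zpowers_iff.1 hb
    exact (((Commute.refl x).zpow_left j).zpow_right i).eq
  have hScard : Nat.card (S : Subgroup G) = p := hSP ▸ card_zpowers hx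
  haveI : IsCyclic (S : Subgroup G) := isCyclic_of_prime_card (p := p) hScard
  have hcomp := MonoidHom.ker_transferSylow_isComplement' S hN'
  have hle : commutator G ≤ (MonoidHom.transferSylow S hN').ker := by
    rw [commutator_def, Subgroup.commutator_le]
    intro a _ b _
    rw [MonoidHom.mem_ker, map_commutatorElement]
    exact commutatorElement_eq_one_iff_mul_comm.2
      ((IsCyclic.commGroup (α := (S : Subgroup G))).mul_comm _ _)
  intro hd
  refine Sylow.not_dvd_index S ?_
  rw [hcomp.index_eq_card]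
  exact hd.trans (Subgroup.card_dvd_of_le hle)

include hx hC in
theorem not_dvd_commutator_iff (t : ℕ)
    (ht : Nat.card {C : ConjClasses G // ∃ g ∈ C.carrier, orderOf g = p} = t) :
    ¬ p ∣ Nat.card (commutator G) ↔ t = p - 1 := by
  have h := classes_mul hx hC t ht
  have hp1 : 0 < p - 1 := by have := hp.out.one_lt; omega
  constructor
  · intro hd
    rw [(index_commutator_of_not_dvd hx hC hd).2, Subgroup.subgroupOf_self, Subgroup.index_top,
      mul_one] at h
    exact h
  · rintro rfl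
    refine not_dvd_of_normalizer hx hC (le_antisymm ?_ Subgroup.le_normalizer)
    have h1 : ((Subgroup.zpowers x).subgroupOf
      (Subgroup.normalizer (Subgroup.zpowers x : Set G))).index = 1 := by
      refine Nat.eq_of_mul_eq_mul_left hp1 ?_
      rw [h, mul_one]
    exact Subgroup.subgroupOf_eq_top.1 (Subgroup.index_eq_one.1 h1)

include hx hC in
theorem index_mul_le (t : ℕ)
    (ht : Nat.card {C : ConjClasses G // ∃ g ∈ C.carrier, orderOf g = p} = t)
    (hd : p ∣ Nat.card (commutator G)) : (commutator G).index * t ≤ p - 1 := by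
  set N := Subgroup.normalizer (Subgroup.zpowers x : Set G) with hN
  obtain ⟨h1, k, hk⟩ := card_inf_mul hx hC (commutator G) hd
  set e := ((Subgroup.zpowers x).subgroupOf N).index with he
  have hte : t * e = p - 1 := classes_mul hx hC t ht
  have hNc : Nat.card N = p * e := by
    rw [← ((Subgroup.zpowers x).subgroupOf N).card_mul_index, he,
      Nat.card_congr (Subgroup.subgroupOfEquivOfLe Subgroup.le_normalizer).toEquiv,
      card_zpowers hx]
  have h2 : (commutator G).index * k = e := by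
    have h3 := (commutator G).card_mul_index
    rw [← h1, ← hN, hk, ← N.index_mul_card, hNc] at h3
    refine Nat.eq_of_mul_eq_mul_left hp.out.pos
      (Nat.eq_of_mul_eq_mul_left (Nat.pos_of_ne_zero (Subgroup.index_ne_zero_of_finite (H := N))) ?_)
    rw [← h3]; ring
  rw [← hte, mul_comm t e]
  refine Nat.mul_le_mul_right t (Nat.le_of_dvd ?_ ⟨k, h2.symm⟩)
  exact Nat.pos_of_ne_zero Subgroup.index_ne_zero_of_finite

include hx hC in
/-- The derived subgroup of a normal subgroup containing `x`. -/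
theorem le_derived_sup (K : Subgroup G) [K.Normal] (hxK : x ∈ K)
    (hd : ¬ p ∣ Nat.card (⁅K, K⁆ : Subgroup G)) : K ≤ ⁅K, K⁆ ⊔ Subgroup.zpowers x :=
  fun g hg => mem_sup hx hC _ hd (by
    rw [← commutatorElement_def]
    exact Subgroup.commutator_mem_commutator hg hxK)

omit hp in
include hx hC in
theorem restrict {K : Subgroup G} (hxK : x ∈ K) :
    orderOf (⟨x, hxK⟩ : K) = p ∧ Subgroup.centralizer ({(⟨x, hxK⟩ : K)} : Set K) =
      Subgroup.zpowers (⟨x, hxK⟩ : K) := by
  refine ⟨(Subgroup.orderOf_mk x hxK).trans hx, le_antisymm (fun g hg => ?_) ?_⟩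
  · have hc : (g : G) * x = x * g :=
      congrArg Subtype.val (Subgroup.mem_centralizer_singleton_iff.1 hg)
    obtain ⟨k, hk⟩ := Subgroup.mem_zpowers_iff.1 (mem_of_commute hC hc)
    exact ⟨k, Subtype.ext hk⟩
  · rw [Subgroup.zpowers_le, Subgroup.mem_centralizer_singleton_iff]

end Cfsg.Agent.SelfCent
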