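import Cfsg.Agent.Lib.Char.Integral
import Mathlib.GroupTheory.Solvable
import Mathlib.GroupTheory.Sylow
import Mathlib.GroupTheory.SpecificGroups.Cyclic

/-!
# Burnside's theorems on classes of prime power size and groups of order p^a q^b
-/

set_option linter.style.haveILetI false

namespace Cfsg.Agent.Char

open scoped ComplexConjugate

universe u

/-- A group with a class of prime-power size has a nontrivial irreducible character whose value
on the class has full absolute value. -/
theorem exists_full_norm {G : Type u} [Group G] [Finite G] {p k : ℕ} (hp : p.Prime) (g : G)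
    (hg : g ≠ 1) (hclass : (Subgroup.centralizer ({g} : Set G)).index = p ^ k) :
    ∃ (n : ℕ) (ρ : Representation ℂ G (Fin n → ℂ)), ρ.IsIrreducible ∧
      ρ.character ≠ (fun _ => 1) ∧ ‖ρ.character g‖ = (Module.finrank ℂ (Fin n → ℂ) : ℝ) := by
  classical
  haveI : Fintype G := Fintype.ofFinite G
  have hcol : ∑ χ : Cfsg.IrrCharacter G, (χ : G → ℂ) g * conj ((χ : G → ℂ) 1) = 0 :=
    column_orth_of_not_isConj (fun h => hg (isConj_one_left.mp h))
  by_contra hcon
  push Not at hcon
  rw [← Finset.add_sum_erase Finset.univ _ (Finset.mem_univ (principal G))] at hcol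
  rw [show ((principal G : Cfsg.IrrCharacter G) : G → ℂ) = fun _ => 1 from rfl] at hcol
  simp only [map_one, mul_one] at hcol
  set S := ∑ χ ∈ (Finset.univ : Finset (Cfsg.IrrCharacter G)).erase (principal G),
    (χ : G → ℂ) g * conj ((χ : G → ℂ) 1) with hS
  have hint : IsIntegral ℤ (S / p) := by
    rw [hS, Finset.sum_div]
    refine IsIntegral.sum _ fun χ hχ => ?_
    obtain ⟨n, ρ, hρ, hρχ⟩ := χ.2
    have hne : ρ.character ≠ fun _ => 1 := by
      intro h
      exact (Finset.mem_erase.mp hχ).1 (Subtype.ext (hρχ ▸ h))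
    rw [← hρχ, Representation.char_one, map_natCast, mul_div_assoc]
    by_cases hpd : p ∣ Module.finrank ℂ (Fin n → ℂ)
    · obtain ⟨c, hc⟩ := hpd
      rw [hc, Nat.cast_mul, mul_div_cancel_left₀ _ (Nat.cast_ne_zero.mpr hp.ne_zero)]
      exact (isIntegral_char ρ g).mul ((isIntegral_algebraMap (R := ℤ) (A := ℂ) (x := (c : ℤ))))
    · have hcop : Nat.Coprime (Module.finrank ℂ (Fin n → ℂ))
          (Subgroup.centralizer ({g} : Set G)).index := by
        rw [hclass]
        exact ((hp.coprime_iff_not_dvd.mpr hpd).pow_left k).symm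
      rcases eq_zero_or_norm_eq ρ g hcop with h | h
      · rw [h, zero_mul]; exact isIntegral_zero
      · exact absurd h (hcon n ρ hρ hne)
  have hS1 : S = -1 := by linear_combination hcol
  rw [hS1, ← Nat.cast_one (R := ℂ)] at hint
  have hint' : IsIntegral ℤ (((1 : ℕ) : ℂ) / (p : ℂ)) := by
    have := hint.neg
    rw [neg_div, neg_neg] at this
    exact this
  have := dvd_of_isIntegral_div hp.ne_zero hint'
  exact hp.ne_one (Nat.dvd_one.mp this)

theorem prime_card_of_class_prime_pow {G : Type u} [Group G] [Finite G] [IsSimpleGroup G]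
    {p k : ℕ} (hp : p.Prime) (g : G) (hg : g ≠ 1)
    (hclass : (Subgroup.centralizer ({g} : Set G)).index = p ^ k) : (Nat.card G).Prime := by
  haveI : Fintype G := Fintype.ofFinite G
  obtain ⟨n, ρ, hρ, hne, hnorm⟩ := exists_full_norm hp g hg hclass
  obtain ⟨ω, hω⟩ := (norm_char_eq_iff ρ g).mp hnorm
  have hinj : Function.Injective ρ := by
    rw [injective_iff_map_eq_one]
    rcases (IsSimpleGroup.eq_bot_or_eq_top_of_normal ρ.ker inferInstance).symm with h | h
    · exfalso
      apply hne
      have hone : ∀ x, ρ x = 1 := fun x => (h ▸ Subgroup.mem_top x : x ∈ ρ.ker)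
      have hn : (Module.finrank ℂ (Fin n → ℂ) : ℂ) = 1 := by
        have h1 := classInner_self_irr (isIrrCharacter_of_rep ρ)
        have hc : ρ.character = fun _ => (Module.finrank ℂ (Fin n → ℂ) : ℂ) := funext fun x => by
          simp [Representation.character, hone x]
        rw [hc] at h1
        simp [Cfsg.classInner] at h1
        have h2 : n * n = 1 := by exact_mod_cast h1
        simp [Nat.eq_one_of_mul_eq_one_left h2]
      funext x
      simpa [Representation.character, hone x] using hn
    · exact fun x hx => Subgroup.mem_bot.mp (h ▸ hx)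
  have hc : g ∈ Subgroup.center G := by
    rw [Subgroup.mem_center_iff]
    intro x
    apply hinj
    rw [map_mul, map_mul, hω]
    simp [← Module.End.one_eq_id]
  have htop : Subgroup.center G = ⊤ :=
    (IsSimpleGroup.eq_bot_or_eq_top_of_normal (Subgroup.center G) inferInstance).resolve_left
      fun h => hg (Subgroup.mem_bot.mp (h ▸ hc))
  letI : CommGroup G := { ‹Group G› with mul_comm := fun a b => (Subgroup.mem_center_iff.mp (htop ▸ Subgroup.mem_top b)) a }
  haveI : IsMulCommutative G :=
    ⟨⟨fun a b => ((Subgroup.mem_center_iff.mp (htop ▸ Subgroup.mem_top b)) a)⟩⟩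
  exact IsSimpleGroup.prime_card

theorem isSolvable_of_card_pq (p q : ℕ) (hp : p.Prime) (hq : q.Prime) :
    ∀ (n : ℕ) (G : Type u) [Group G] [Finite G], Nat.card G = n →
      (∃ a b, n = p ^ a * q ^ b) → Group.IsSolvable G := by
  intro n
  induction n using Nat.strong_induction_on with
  | _ n ih =>
    intro G _ _ hn hab
    obtain ⟨a, b, hab⟩ := hab
    by_cases hn1 : n = 1
    · haveI : Subsingleton G := (Nat.card_eq_one_iff_unique.mp (hn.trans hn1)).1
      infer_instance
    haveI : Nontrivial G := by
      rw [← Finite.one_lt_card_iff_nontrivial, hn]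
      have : 0 < n := hn ▸ Nat.card_pos
      omega
    by_cases hsimple : ∀ H : Subgroup G, H.Normal → H = ⊥ ∨ H = ⊤
    · haveI : IsSimpleGroup G := ⟨hsimple⟩
      suffices h : (Nat.card G).Prime by
        haveI : Fact (Nat.card G).Prime := ⟨h⟩
        haveI : IsCyclic G := isCyclic_of_prime_card (p := Nat.card G) rfl
        haveI := IsCyclic.isMulCommutative (α := G)
        exact Group.isSolvable_of_comm fun x y => mul_comm' x y
      obtain ⟨r, hr, hrn⟩ := Nat.exists_prime_and_dvd (hn.trans_ne hn1 : Nat.card G ≠ 1)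
      haveI : Fact r.Prime := ⟨hr⟩
      obtain ⟨P⟩ : Nonempty (Sylow r G) := inferInstance
      haveI : Nontrivial P := by
        rw [← Finite.one_lt_card_iff_nontrivial, Sylow.card_eq_multiplicity]
        exact Nat.one_lt_pow (hr.factorization_pos_of_dvd Nat.card_pos.ne' hrn).ne' hr.one_lt
      haveI := P.2.center_nontrivial
      obtain ⟨z, hz⟩ := exists_ne (1 : Subgroup.center P)
      have hg : ((z : P) : G) ≠ 1 := by
        intro h
        exact hz (Subtype.ext (Subtype.ext h))
      have hle : (P : Subgroup G) ≤ Subgroup.centralizer ({((z : P) : G)} : Set G) := by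
        intro x hx
        rw [Subgroup.mem_centralizer_singleton_iff]
        exact congrArg Subtype.val (Subgroup.mem_center_iff.mp z.2 ⟨x, hx⟩)
      have hdvd : (Subgroup.centralizer ({((z : P) : G)} : Set G)).index ∣ (P : Subgroup G).index :=
        Subgroup.index_dvd_of_le hle
      have hnot : ¬ r ∣ (Subgroup.centralizer ({((z : P) : G)} : Set G)).index :=
        fun h => P.not_dvd_index (h.trans hdvd)
      set t := (Subgroup.centralizer ({((z : P) : G)} : Set G)).index with ht
      have htn : t ∣ p ^ a * q ^ b := hab ▸ hn ▸ Subgroup.index_dvd_card _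
      have hrpq : r ∣ p ∨ r ∣ q :=
        ((Nat.Prime.dvd_mul hr).mp (hab ▸ hn ▸ hrn : r ∣ p ^ a * q ^ b)).imp
          hr.dvd_of_dvd_pow hr.dvd_of_dvd_pow
      rcases hrpq with h | h
      · rw [(Nat.prime_dvd_prime_iff_eq hr hp).mp h] at hnot
        obtain ⟨k, -, hk⟩ := (Nat.dvd_prime_pow hq).mp
          ((Nat.Coprime.dvd_of_dvd_mul_left ((hp.coprime_iff_not_dvd.mpr hnot).pow_left a).symm htn))
        exact prime_card_of_class_prime_pow hq _ hg hk
      · rw [(Nat.prime_dvd_prime_iff_eq hr hq).mp h] at hnot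
        obtain ⟨k, -, hk⟩ := (Nat.dvd_prime_pow hp).mp
          ((Nat.Coprime.dvd_of_dvd_mul_right ((hq.coprime_iff_not_dvd.mpr hnot).pow_left b).symm htn))
        exact prime_card_of_class_prime_pow hp _ hg hk
    · push Not at hsimple
      obtain ⟨N, hN, hN0, hN1⟩ := hsimple
      have key : ∀ m, m ∣ n → ∃ a' b', m = p ^ a' * q ^ b' := by
        intro m hm
        rw [hab] at hm
        obtain ⟨x, y, hx, hy, rfl⟩ := Nat.dvd_mul.mp hm
        obtain ⟨a', -, rfl⟩ := (Nat.dvd_prime_pow hp).mp hx
        obtain ⟨b', -, rfl⟩ := (Nat.dvd_prime_pow hq).mp hy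
        exact ⟨a', b', rfl⟩
      have hNcard : Nat.card N < n := hn ▸ lt_of_le_of_ne (Subgroup.card_le_card_group N)
        (fun h => hN1 (N.eq_top_of_card_eq h))
      have hQcard : Nat.card (G ⧸ N) < n := by
        rw [← hn, Subgroup.card_eq_card_quotient_mul_card_subgroup N]
        exact lt_mul_of_one_lt_right Nat.card_pos (N.one_lt_card_iff_ne_bot.mpr hN0)
      haveI hsN : Group.IsSolvable N := ih _ hNcard N rfl (key _ (hn ▸ N.card_subgroup_dvd_card))
      haveI hsQ : Group.IsSolvable (G ⧸ N) :=
        ih _ hQcard (G ⧸ N) rfl (key _ (hn ▸ Subgroup.card_quotient_dvd_card N))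
      exact Group.isSolvable_of_ker_le_range N.subtype (QuotientGroup.mk' N)
        (le_of_eq (by rw [QuotientGroup.ker_mk', Subgroup.range_subtype]))

end Cfsg.Agent.Char
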