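import Mathlib.GroupTheory.Sylow
import Mathlib.GroupTheory.GroupAction.ConjAct
import Cfsg.Prelude.Def_OddOrderLocal
import Cfsg.Agent.Lib.Char.Integral
import Cfsg.Agent.Lib.Char.Induction

/-!
# The congruence of character values on the centre of a TI Sylow subgroup
-/

set_option linter.style.haveILetI false
set_option linter.unusedSectionVars false

namespace Cfsg.Agent.Char.TICongr

open Cfsg.Agent.Char
open scoped Classical

universe u v

theorem sum_free_orbits {P : Type u} [Group P] [Fintype P] {X : Type v} [MulAction P X]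
    (s : Finset X) (f : X → ℂ) (hs : ∀ x : P, ∀ a ∈ s, x • a ∈ s)
    (hfree : ∀ x : P, ∀ a ∈ s, x • a = a → x = 1) (hf : ∀ x : P, ∀ a ∈ s, f (x • a) = f a)
    (hint : ∀ a ∈ s, IsIntegral ℤ (f a)) :
    ∃ t : ℂ, IsIntegral ℤ t ∧ ∑ a ∈ s, f a = (Nat.card P : ℂ) * t := by
  induction s using Finset.strongInduction with
  | _ s ih =>
    rcases s.eq_empty_or_nonempty with rfl | ⟨a, ha⟩
    · exact ⟨0, isIntegral_zero, by simp⟩
    set o := Finset.univ.image fun x : P => x • a with ho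
    have hos : o ⊆ s := fun b hb => by
      obtain ⟨x, -, rfl⟩ := Finset.mem_image.mp hb
      exact hs x a ha
    have hsub : s \ o ⊂ s :=
      Finset.sdiff_ssubset hos ⟨a, Finset.mem_image.mpr ⟨1, Finset.mem_univ _, one_smul P a⟩⟩
    obtain ⟨t, ht, he⟩ := ih _ hsub
      (fun x b hb => by
        obtain ⟨hb1, hb2⟩ := Finset.mem_sdiff.mp hb
        refine Finset.mem_sdiff.mpr ⟨hs x b hb1, fun h => hb2 ?_⟩
        obtain ⟨y, -, hy⟩ := Finset.mem_image.mp h
        exact Finset.mem_image.mpr ⟨x⁻¹ * y, Finset.mem_univ _, by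
          show (x⁻¹ * y) • a = b
          rw [mul_smul, show y • a = x • b from hy, inv_smul_smul]⟩)
      (fun x b hb => hfree x b (Finset.mem_sdiff.mp hb).1)
      (fun x b hb => hf x b (Finset.mem_sdiff.mp hb).1)
      (fun b hb => hint b (Finset.mem_sdiff.mp hb).1)
    refine ⟨t + f a, ht.add (hint a ha), ?_⟩
    have hinj : Function.Injective fun x : P => x • a := fun x y h => by
      have h' : (y⁻¹ * x) • a = a := by
        rw [mul_smul, show x • a = y • a from h, inv_smul_smul]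
      exact (inv_mul_eq_one.mp (hfree _ a ha h')).symm
    have ho' : ∑ b ∈ o, f b = (Nat.card P : ℂ) * f a := by
      rw [ho, Finset.sum_image fun x _ y _ e => hinj e,
        Finset.sum_congr rfl fun x _ => hf x a ha, Finset.sum_const, nsmul_eq_mul, Finset.card_univ,
        Nat.card_eq_fintype_card]
    rw [← Finset.sum_sdiff hos, he, ho', mul_add]

variable {G : Type u} [Group G] [Fintype G]

/-- The product of two class sums in an irreducible character. -/
theorem sum_class_mul {ψ : G → ℂ} (hψ : Cfsg.IsIrrCharacter G ψ) (g k : G) :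
    ∑ a ∈ classFinset g, ∑ b ∈ classFinset k, ψ (a * b) =
      ((Subgroup.centralizer ({g} : Set G)).index : ℂ) * ψ g *
        (((Subgroup.centralizer ({k} : Set G)).index : ℂ) * ψ k) / ψ 1 := by
  obtain ⟨n, ρ, hρ, rfl⟩ := hψ
  have hdiv : (Module.finrank ℂ (Fin n → ℂ) : ℂ) ≠ 0 :=
    Nat.cast_ne_zero.mpr (finrank_pos_of_irreducible ρ).ne'
  have h : ∑ a ∈ classFinset g, ∑ b ∈ classFinset k, ρ.character (a * b) =
      LinearMap.trace ℂ (Fin n → ℂ) ((∑ a ∈ classFinset g, ρ a) * ∑ b ∈ classFinset k, ρ b) := by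
    simp only [Representation.character, Finset.sum_mul, Finset.mul_sum, map_sum, map_mul]
    exact Finset.sum_comm
  rw [h, classSum_scalar, classSum_scalar, smul_mul_smul_comm, map_smul, smul_eq_mul,
    Representation.char_one, show (LinearMap.id : Module.End ℂ (Fin n → ℂ)) * LinearMap.id =
      LinearMap.id from rfl, LinearMap.trace_id]
  field_simp

omit [Fintype G] in
theorem centralizer_inv (z : G) :
    Subgroup.centralizer ({z⁻¹} : Set G) = Subgroup.centralizer ({z} : Set G) := by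
  ext x
  rw [Subgroup.mem_centralizer_singleton_iff, Subgroup.mem_centralizer_singleton_iff]
  exact Commute.inv_right_iff (a := x) (b := z)

omit [Fintype G] in
theorem dvd_sub_value {G : Type u} [Group G] [Finite G] (p : ℕ) [Fact p.Prime] (P : Sylow p G)
    (hTI : Cfsg.IsTISubset ((P : Subgroup G) : Set G))
    (hodd : Odd (Nat.card (Subgroup.normalizer ((P : Subgroup G) : Set G)))) (Z : Subgroup G)
    (hZP : Z ≤ P)
    (hZn : ∀ x ∈ Subgroup.normalizer ((P : Subgroup G) : Set G), ∀ z ∈ Z, x * z * x⁻¹ ∈ Z)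
    (hZc : ∀ z ∈ Z, ∀ y ∈ (P : Subgroup G), z * y = y * z)
    (ψ : G → ℂ) (hψ : Cfsg.IsIrrCharacter G ψ)
    (hconst : ∀ z ∈ Z, ∀ z' ∈ Z, z ≠ 1 → z' ≠ 1 → ψ z = ψ z') (z : G) (hz : z ∈ Z) (hz1 : z ≠ 1) :
    ∃ n d : ℤ, ψ z = n ∧ ψ 1 = d ∧ (Nat.card (P : Subgroup G) : ℤ) ∣ d - n := by
  haveI : Fintype G := Fintype.ofFinite G
  set N := Subgroup.normalizer ((P : Subgroup G) : Set G) with hN
  have hψc := IsCharacter.isClassFunction (IsIrrCharacter.isCharacter hψ)
  -- fusion in `Z`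
  have fusion : ∀ g w : G, w ∈ Z → w ≠ 1 → g * w * g⁻¹ ∈ (P : Subgroup G) →
      g ∈ N ∧ g * w * g⁻¹ ∈ Z := by
    intro g w hw hw1 hg
    have : g ∈ N := by
      by_contra h
      exact hw1 (hTI g h w (hZP hw) hg)
    exact ⟨this, hZn g this w hw⟩
  have centre : ∀ g w : G, w ∈ Z → w ≠ 1 → ∀ x ∈ (P : Subgroup G), x ≠ 1 →
      x * (g * w * g⁻¹) = g * w * g⁻¹ * x → g * w * g⁻¹ ∈ Z := by
    intro g w hw hw1 x hx hx1 hc
    have hwP : IsPGroup p (Subgroup.zpowers (g * w * g⁻¹)) := by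
      have h1 : IsPGroup p (Subgroup.zpowers w) :=
        P.isPGroup'.to_le (Subgroup.zpowers_le.mpr (hZP hw))
      have h2 := h1.map (MulAut.conj g).toMonoidHom
      rw [MonoidHom.map_zpowers] at h2
      exact h2
    have haN : g * w * g⁻¹ ∈ N := by
      by_contra h
      refine hx1 (hTI _ h x hx ?_)
      show g * w * g⁻¹ * x * (g * w * g⁻¹)⁻¹ ∈ (P : Subgroup G)
      rw [← hc, mul_assoc, mul_inv_cancel, mul_one]
      exact hx
    have haP : g * w * g⁻¹ ∈ (P : Subgroup G) := by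
      have := (hwP.inf_normalizer_sylow P).le
        (show g * w * g⁻¹ ∈ Subgroup.zpowers (g * w * g⁻¹) ⊓ N from
          ⟨Subgroup.mem_zpowers _, haN⟩)
      exact this.2
    exact (fusion g w hw hw1 haP).2
  have notreal : ∀ g w : G, w ∈ Z → w ≠ 1 → g * w * g⁻¹ ≠ w⁻¹ := by
    intro g w hw hw1 he
    obtain ⟨hgN, -⟩ := fusion g w hw hw1 (he ▸ Subgroup.inv_mem _ (hZP hw))
    have h2 : Commute (g * g) w := by
      have e' : g * w⁻¹ * g⁻¹ = w := by rw [← conj_inv, he, inv_inv]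
      show g * g * w = w * (g * g)
      calc g * g * w = g * (g * w * g⁻¹) * g⁻¹ * (g * g) := by group
        _ = w * (g * g) := by rw [he, e']
    have hgodd : Odd (orderOf g) := by
      have : orderOf (⟨g, hgN⟩ : N) ∣ Nat.card N := orderOf_dvd_natCard _
      rw [Subgroup.orderOf_mk] at this
      exact Odd.of_dvd_nat hodd this
    obtain ⟨k, hk⟩ := hgodd
    have hg : Commute g w := by
      have e : g = (g * g) ^ (k + 1) := by
        rw [← pow_two, ← pow_mul, show 2 * (k + 1) = orderOf g + 1 by omega, pow_add,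
          pow_orderOf_eq_one, one_mul, pow_one]
      rw [e]
      exact h2.pow_left _
    rw [hg.eq, mul_inv_cancel_right] at he
    have hwN : w ∈ N := Subgroup.le_normalizer (hZP hw)
    have hwodd : Odd (orderOf w) := by
      have : orderOf (⟨w, hwN⟩ : N) ∣ Nat.card N := orderOf_dvd_natCard _
      rw [Subgroup.orderOf_mk] at this
      exact Odd.of_dvd_nat hodd this
    have h2 : orderOf w ∣ 2 := orderOf_dvd_of_pow_eq_one (by rw [pow_two]; nth_rw 2 [he]; simp)
    rcases (Nat.dvd_prime Nat.prime_two).mp h2 with h | h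
    · exact hw1 (orderOf_eq_one_iff.mp h)
    · rw [h] at hwodd; exact absurd hwodd (by decide)
  -- the action of `P` on pairs
  let f : (P : Subgroup G) →* ConjAct G :=
    (ConjAct.toConjAct (G := G)).toMonoidHom.comp (P : Subgroup G).subtype
  letI actG : MulAction (P : Subgroup G) G := MulAction.compHom G f
  letI actGG : MulAction (P : Subgroup G) (G × G) := MulAction.compHom (G × G) f
  have hsmul : ∀ (x : (P : Subgroup G)) (a : G), x • a = (x : G) * a * (x : G)⁻¹ :=
    fun x a => ConjAct.smul_def _ a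
  have hsmul2 : ∀ (x : (P : Subgroup G)) (a : G × G),
      x • a = ((x : G) * a.1 * (x : G)⁻¹, (x : G) * a.2 * (x : G)⁻¹) :=
    fun x a => Prod.ext (ConjAct.smul_def _ a.1) (ConjAct.smul_def _ a.2)
  have hP : Nat.card (P : Subgroup G) ≠ 0 := Nat.card_pos.ne'
  -- free part of a class
  let O : G → Finset G := fun w => (classFinset w).filter (· ∈ Z)
  have hOfix : ∀ w a, a ∈ O w → ∀ x : (P : Subgroup G), (x : G) * a * (x : G)⁻¹ = a :=
    fun w a ha x => by rw [← hZc a (Finset.mem_filter.mp ha).2 x x.2, mul_inv_cancel_right]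
  have hclass : ∀ w a, a ∈ classFinset w → ∀ x : G, x * a * x⁻¹ ∈ classFinset w :=
    fun w a ha x => mem_classFinset.mpr ((mem_classFinset.mp ha).trans (isConj_iff.mpr ⟨x, rfl⟩))
  have hfree : ∀ w : G, w ∈ Z → w ≠ 1 → ∀ (x : (P : Subgroup G)) (a : G), a ∈ classFinset w →
      (x : G) * a * (x : G)⁻¹ = a → x ≠ 1 → a ∈ O w := by
    intro w hw hw1 x a ha hfix hx1
    refine Finset.mem_filter.mpr ⟨ha, ?_⟩
    obtain ⟨g, rfl⟩ := isConj_iff.mp (mem_classFinset.mp ha)
    refine centre g w hw hw1 x x.2 (fun h => hx1 (Subtype.ext h)) ?_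
    exact mul_inv_eq_iff_eq_mul.mp hfix
  have hsingle : ∀ w : G, w ∈ Z → w ≠ 1 →
      ∃ t : ℂ, IsIntegral ℤ t ∧ ((classFinset w).card : ℂ) - ((O w).card : ℂ) =
        (Nat.card (P : Subgroup G) : ℂ) * t := by
    intro w hw hw1
    obtain ⟨t, ht, he⟩ := sum_free_orbits (P := (P : Subgroup G)) (classFinset w \ O w)
      (fun _ => (1 : ℂ))
      (fun x a ha => by
        obtain ⟨h1, h2⟩ := Finset.mem_sdiff.mp ha
        rw [hsmul, Finset.mem_sdiff]
        refine ⟨hclass w a h1 x, fun h => h2 ?_⟩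
        have e := hOfix w _ h x⁻¹
        rw [Subgroup.coe_inv] at e
        have : a = (x : G) * a * (x : G)⁻¹ := by simpa [mul_assoc] using e
        exact this ▸ h)
      (fun x a ha e => by
        obtain ⟨h1, h2⟩ := Finset.mem_sdiff.mp ha
        by_contra hx1
        exact h2 (hfree w hw hw1 x a h1 (by rw [← hsmul]; exact e) hx1))
      (fun _ _ _ => rfl) (fun _ _ => isIntegral_one)
    refine ⟨t, ht, ?_⟩
    rw [← he, Finset.sum_const, nsmul_eq_mul, mul_one, Finset.card_sdiff_of_subset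
      (Finset.filter_subset _ _), Nat.cast_sub (Finset.card_filter_le _ _)]
  have hpairs : ∀ w v : G, w ∈ Z → w ≠ 1 → v ∈ Z → v ≠ 1 →
      ∃ t : ℂ, IsIntegral ℤ t ∧
        ∑ a ∈ classFinset w, ∑ b ∈ classFinset v, ψ (a * b) -
          ∑ a ∈ O w, ∑ b ∈ O v, ψ (a * b) = (Nat.card (P : Subgroup G) : ℂ) * t := by
    intro w v hw hw1 hv hv1
    obtain ⟨t, ht, he⟩ := sum_free_orbits (P := (P : Subgroup G))
      ((classFinset w ×ˢ classFinset v) \ (O w ×ˢ O v)) (fun a => ψ (a.1 * a.2))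
      (fun x a ha => by
        obtain ⟨h1, h2⟩ := Finset.mem_sdiff.mp ha
        rw [Finset.mem_product] at h1
        rw [hsmul2, Finset.mem_sdiff, Finset.mem_product, Finset.mem_product]
        refine ⟨⟨hclass w _ h1.1 x, hclass v _ h1.2 x⟩, fun h => h2 ?_⟩
        have e1 := hOfix w _ h.1 x⁻¹
        have e2 := hOfix v _ h.2 x⁻¹
        rw [Subgroup.coe_inv] at e1 e2
        have i1 : a.1 = (x : G) * a.1 * (x : G)⁻¹ := by simpa [mul_assoc] using e1
        have i2 : a.2 = (x : G) * a.2 * (x : G)⁻¹ := by simpa [mul_assoc] using e2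
        exact Finset.mem_product.mpr ⟨i1 ▸ h.1, i2 ▸ h.2⟩)
      (fun x a ha e => by
        obtain ⟨h1, h2⟩ := Finset.mem_sdiff.mp ha
        rw [Finset.mem_product] at h1
        by_contra hx1
        rw [hsmul2, Prod.ext_iff] at e
        exact h2 (Finset.mem_product.mpr
          ⟨hfree w hw hw1 x _ h1.1 e.1 hx1, hfree v hv hv1 x _ h1.2 e.2 hx1⟩))
      (fun x a _ => by
        rw [hsmul2]
        show ψ ((x : G) * a.1 * (x : G)⁻¹ * ((x : G) * a.2 * (x : G)⁻¹)) = ψ (a.1 * a.2)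
        rw [conj_mul]
        exact hψc _ _)
      (fun a _ => IsCharacter.isIntegral (IsIrrCharacter.isCharacter hψ) _)
    refine ⟨t, ht, ?_⟩
    rw [← he, Finset.sum_sdiff_eq_sub (Finset.product_subset_product (Finset.filter_subset _ _)
      (Finset.filter_subset _ _)), Finset.sum_product, Finset.sum_product]
  -- the two products
  have hzi : z⁻¹ ∈ Z := Z.inv_mem hz
  have hzi1 : z⁻¹ ≠ 1 := inv_ne_one.mpr hz1
  have hOne : ∀ w a, w ∈ Z → w ≠ 1 → a ∈ O w → a ≠ 1 := fun w a _ hw1 ha h => by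
    subst h
    obtain ⟨g, hg⟩ := isConj_iff.mp (mem_classFinset.mp (Finset.mem_filter.mp ha).1)
    exact hw1 (conj_eq_one_iff.mp hg)
  have hval : ∀ w a, w ∈ Z → w ≠ 1 → ∀ b ∈ Z, a ∈ Z → a * b ≠ 1 → ψ (a * b) = ψ z :=
    fun w a _ _ b hb ha hab => hconst _ (Z.mul_mem ha hb) z hz hab hz1
  have hzz : ∑ a ∈ O z, ∑ b ∈ O z, ψ (a * b) = ((O z).card : ℂ) ^ 2 * ψ z := by
    rw [Finset.sum_congr rfl fun a ha => Finset.sum_congr rfl fun b hb =>
      hval z a hz hz1 b (Finset.mem_filter.mp hb).2 (Finset.mem_filter.mp ha).2 (fun h => ?_)]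
    · simp only [Finset.sum_const, nsmul_eq_mul]; ring
    · obtain ⟨g, hg⟩ := isConj_iff.mp
        ((mem_classFinset.mp (Finset.mem_filter.mp ha).1).symm.trans
          (mem_classFinset.mp (Finset.mem_filter.mp hb).1))
      exact notreal g a (Finset.mem_filter.mp ha).2 (hOne z a hz hz1 ha)
        (hg.trans (eq_inv_of_mul_eq_one_right h))
  have hOinv : O z⁻¹ = (O z).image fun a => a⁻¹ := by
    ext a
    simp only [O, Finset.mem_filter, Finset.mem_image, mem_classFinset, isConj_iff]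
    constructor
    · rintro ⟨⟨g, hg⟩, ha⟩
      exact ⟨a⁻¹, ⟨⟨g, by rw [← hg]; group⟩, Z.inv_mem ha⟩, inv_inv a⟩
    · rintro ⟨b, ⟨⟨g, hg⟩, hb⟩, rfl⟩
      exact ⟨⟨g, by rw [← hg]; group⟩, Z.inv_mem hb⟩
  have hzi' : ∑ a ∈ O z, ∑ b ∈ O z⁻¹, ψ (a * b) =
      ((O z).card : ℂ) ^ 2 * ψ z + ((O z).card : ℂ) * (ψ 1 - ψ z) := by
    have : ∀ a ∈ O z, ∑ b ∈ O z⁻¹, ψ (a * b) = ((O z).card : ℂ) * ψ z + (ψ 1 - ψ z) := by
      intro a ha
      rw [hOinv, Finset.sum_image fun x _ y _ e => inv_injective e]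
      have : ∀ b ∈ O z, ψ (a * b⁻¹) = ψ z + if b = a then ψ 1 - ψ z else 0 := by
        intro b hb
        split_ifs with h
        · subst h; simp
        · rw [add_zero]
          exact hval z a hz hz1 _ (Z.inv_mem (Finset.mem_filter.mp hb).2)
            (Finset.mem_filter.mp ha).2 fun e => h (mul_inv_eq_one.mp e).symm
      rw [Finset.sum_congr rfl this, Finset.sum_add_distrib, Finset.sum_const, nsmul_eq_mul,
        Finset.sum_ite_eq', if_pos ha]
    rw [Finset.sum_congr rfl this, Finset.sum_const, nsmul_eq_mul]; ring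
  obtain ⟨t1, ht1, e1⟩ := hpairs z z hz hz1 hz hz1
  obtain ⟨t2, ht2, e2⟩ := hpairs z z⁻¹ hz hz1 hzi hzi1
  rw [hzz, sum_class_mul hψ] at e1
  rw [hzi', sum_class_mul hψ, centralizer_inv, hconst z⁻¹ hzi z hz hzi1 hz1] at e2
  have hmain : ((O z).card : ℂ) * (ψ 1 - ψ z) = (Nat.card (P : Subgroup G) : ℂ) * (t1 - t2) := by
    linear_combination e1 - e2
  -- rationality
  obtain ⟨d, hd0, hd⟩ := IsIrrCharacter.exists_degree hψ
  haveI : Fintype Z := Fintype.ofFinite Z
  obtain ⟨k, hk⟩ := IsCharacter.exists_classInner_nat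
    (IsCharacter.restrict (IsIrrCharacter.isCharacter hψ) Z) (isCharacter_one (G := Z))
  have hsum : ∑ w : Z, ψ w = (d : ℂ) + ((Fintype.card Z : ℂ) - 1) * ψ z := by
    rw [← Finset.add_sum_erase _ _ (Finset.mem_univ (1 : Z)), OneMemClass.coe_one, hd,
      Finset.sum_congr rfl (g := fun _ => ψ z) fun (w : Z) hw => hconst w w.2 z hz
        (fun h => (Finset.mem_erase.mp hw).1 (Subtype.ext h)) hz1,
      Finset.sum_const, Finset.card_erase_of_mem (Finset.mem_univ _), nsmul_eq_mul,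
      Finset.card_univ, Nat.cast_sub Fintype.card_pos]
    simp
  have hk' : ∑ w : Z, ψ w = (Fintype.card Z : ℂ) * k := by
    simp only [Cfsg.classInner, map_one, mul_one, Nat.card_eq_fintype_card] at hk
    rw [← hk]
    have : (Fintype.card Z : ℂ) ≠ 0 := Nat.cast_ne_zero.mpr Fintype.card_pos.ne'
    field_simp
  have hcard : 1 < Fintype.card Z :=
    Fintype.one_lt_card_iff.mpr ⟨⟨z, hz⟩, 1, fun h => hz1 (congrArg Subtype.val h)⟩
  have hq : ψ z = ((((Fintype.card Z : ℚ) * k - d) / ((Fintype.card Z : ℚ) - 1) : ℚ) : ℂ) := by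
    have h1 : (Fintype.card Z : ℂ) - 1 ≠ 0 :=
      sub_ne_zero.mpr (by exact_mod_cast hcard.ne')
    push_cast
    rw [eq_div_iff h1]
    linear_combination hk' - hsum
  obtain ⟨m, hm⟩ := exists_int_of_isIntegral
    (hq ▸ IsCharacter.isIntegral (IsIrrCharacter.isCharacter hψ) z)
  have hψz : ψ z = (m : ℂ) := by rw [hq, hm, Rat.cast_intCast]
  refine ⟨m, d, hψz, by rw [hd]; norm_cast, ?_⟩
  have hrat : t1 - t2 =
      ((((O z).card : ℚ) * ((d : ℚ) - m) / (Nat.card (P : Subgroup G) : ℚ) : ℚ) : ℂ) := by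
    push_cast
    rw [eq_div_iff (Nat.cast_ne_zero.mpr hP), mul_comm, ← hmain, hd, hψz]
  obtain ⟨j, hj⟩ := exists_int_of_isIntegral (hrat ▸ ht1.sub ht2)
  rw [div_eq_iff (by exact_mod_cast hP)] at hj
  have hj' : ((O z).card : ℤ) * ((d : ℤ) - m) = j * (Nat.card (P : Subgroup G) : ℤ) := by
    exact_mod_cast hj
  -- the fusion orbit has order prime to `p`
  have hcop : ¬ p ∣ (O z).card := by
    intro hp
    obtain ⟨t, ht, he⟩ := hsingle z hz hz1
    have hPp : p ∣ Nat.card (P : Subgroup G) := by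
      have h0 : orderOf z ∣ Nat.card (P : Subgroup G) := Subgroup.orderOf_dvd_natCard _ (hZP hz)
      obtain ⟨e, he'⟩ := IsPGroup.iff_card.mp P.isPGroup'
      rcases e with _ | e
      · rw [pow_zero] at he'
        rw [he'] at h0
        exact absurd (orderOf_eq_one_iff.mp (Nat.dvd_one.mp h0)) hz1
      · rw [he', pow_succ]
        exact dvd_mul_left _ _
    have hidx : ¬ p ∣ (classFinset z).card := by
      rw [card_classFinset]
      intro h
      have hle : (P : Subgroup G) ≤ Subgroup.centralizer ({z} : Set G) := fun y hy =>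
        Subgroup.mem_centralizer_singleton_iff.mpr (hZc z hz y hy).symm
      exact P.not_dvd_index (h.trans (Subgroup.index_dvd_of_le hle))
    have hr : t = (((((classFinset z).card : ℚ) - (O z).card) / Nat.card (P : Subgroup G) : ℚ) : ℂ) := by
      push_cast
      rw [eq_div_iff (Nat.cast_ne_zero.mpr hP), mul_comm, ← he]
    obtain ⟨i, hi⟩ := exists_int_of_isIntegral (hr ▸ ht)
    rw [div_eq_iff (by exact_mod_cast hP)] at hi
    have hi' : ((classFinset z).card : ℤ) - (O z).card = i * (Nat.card (P : Subgroup G) : ℤ) := by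
      exact_mod_cast hi
    refine hidx (Int.natCast_dvd_natCast.mp ?_)
    rw [sub_eq_iff_eq_add.mp hi']
    exact dvd_add (Dvd.dvd.mul_left (Int.natCast_dvd_natCast.mpr hPp) _) (Int.natCast_dvd_natCast.mpr hp)
  obtain ⟨e, he⟩ := IsPGroup.iff_card.mp P.isPGroup'
  refine Int.dvd_of_dvd_mul_right_of_gcd_one (b := ((O z).card : ℤ)) ⟨j, by rw [hj', mul_comm]⟩ ?_
  rw [Int.gcd_natCast_natCast, he]
  exact Nat.Coprime.pow_left e ((Fact.out : p.Prime).coprime_iff_not_dvd.mpr hcop)

end Cfsg.Agent.Char.TICongr
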