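import Cfsg.Agent.Lib.Char.Integral
import Mathlib.GroupTheory.GroupAction.Quotient

/-!
# The degree divides the index of the centre
-/

set_option linter.style.haveILetI false

namespace Cfsg.Agent.Char

open scoped ComplexConjugate

universe u v

variable {G : Type u} [Group G]

/-- Central elements act as scalars. -/
theorem IsIrrCharacter.exists_central_scalar [Finite G] {χ : G → ℂ} (h : Cfsg.IsIrrCharacter G χ)
    {z : G} (hz : z ∈ Subgroup.center G) :
    ∃ c : ℂ, ‖c‖ = 1 ∧ (∀ g, χ (z * g) = c * χ g) ∧ (c = 1 ↔ χ z = χ 1) := by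
  obtain ⟨n, ρ, hρ, rfl⟩ := h
  obtain ⟨c, hc⟩ := schur_scalar ρ (ρ z) fun g x => by
    rw [← Module.End.mul_apply, ← map_mul, ← Module.End.mul_apply, ← map_mul,
      Subgroup.mem_center_iff.mp hz g]
  have hpos := finrank_pos_of_irreducible ρ
  have hzc : ρ.character z = c * (Module.finrank ℂ (Fin n → ℂ) : ℂ) := by
    simp [Representation.character, hc, LinearMap.trace_id]
  have hnc : ‖c‖ = 1 := by
    have h1 := (norm_char_eq_iff ρ z).mpr ⟨c, hc⟩
    rw [hzc, norm_mul, Complex.norm_natCast] at h1
    exact mul_right_cancel₀ (by exact_mod_cast hpos.ne') (h1.trans (one_mul _).symm)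
  refine ⟨c, hnc, fun g => ?_, ?_⟩
  · rw [Representation.character, Representation.character, map_mul, hc, smul_mul_assoc, map_smul,
      smul_eq_mul]
    rfl
  · rw [Representation.char_one, hzc]
    exact ⟨fun h => by rw [h, one_mul], fun h =>
      mul_right_cancel₀ (Nat.cast_ne_zero.mpr hpos.ne') (h.trans (one_mul _).symm)⟩

theorem degree_mul_dvd_of_faithful_central [Finite G] {χ : G → ℂ} (h : Cfsg.IsIrrCharacter G χ)
    (Z : Subgroup G) (hZ : Z ≤ Subgroup.center G) (hfaith : ∀ z ∈ Z, χ z = χ 1 → z = 1) {d : ℕ}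
    (hd : χ 1 = d) : d * Nat.card Z ∣ Nat.card G := by
  classical
  haveI : Fintype G := Fintype.ofFinite G
  haveI : Fintype Z := Fintype.ofFinite Z
  haveI : Finite (ConjClasses G) := Finite.of_surjective ConjClasses.mk ConjClasses.mk_surjective
  haveI : Fintype (ConjClasses G) := Fintype.ofFinite _
  have hχc := IsCharacter.isClassFunction (IsIrrCharacter.isCharacter h)
  have hcomm : ∀ (z : Z) (g : G), (z : G) * g = g * z :=
    fun z g => (Subgroup.mem_center_iff.mp (hZ z.2) g).symm
  have hres : ∀ (z : Z) (a b : G), IsConj a b → IsConj ((z : G) * a) ((z : G) * b) := by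
    intro z a b hab
    obtain ⟨c, rfl⟩ := isConj_iff.mp hab
    exact isConj_iff.mpr ⟨c, by rw [← mul_assoc c, ← hcomm z c]; simp [mul_assoc]⟩
  letI act : MulAction Z (ConjClasses G) :=
    { smul := fun z => Quotient.map' (fun a => (z : G) * a) (hres z)
      one_smul := by
        rintro ⟨a⟩
        exact congrArg ConjClasses.mk (one_mul a)
      mul_smul := by
        rintro z w ⟨a⟩
        exact congrArg ConjClasses.mk (mul_assoc _ _ a) }
  have hsmul : ∀ (z : Z) (a : G), z • ConjClasses.mk a = ConjClasses.mk ((z : G) * a) :=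
    fun z a => rfl
  let F : ConjClasses G → ℂ := fun C =>
    Quotient.liftOn' C (fun a => ((Subgroup.centralizer ({a} : Set G)).index : ℂ) * χ a / χ 1 * conj (χ a))
      fun a b hab => by
        rw [isClassFunction_iff.mp hχc a b hab, ← card_classFinset, ← card_classFinset,
          show classFinset a = classFinset b by
            ext x
            simp only [mem_classFinset]
            exact ⟨fun e => (IsConj.symm hab).trans e, fun e => IsConj.trans hab e⟩]
  have hint : ∀ C, IsIntegral ℤ (F C) := by
    rintro ⟨a⟩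
    exact (IsIrrCharacter.isIntegral_centralChar h a).mul
      (map_isIntegral_int (starRingEnd ℂ) (IsCharacter.isIntegral (IsIrrCharacter.isCharacter h) a))
  have hinv : ∀ (z : Z) C, F (z • C) = F C := by
    rintro z ⟨a⟩
    obtain ⟨c, hc1, hc, -⟩ := IsIrrCharacter.exists_central_scalar h (hZ z.2)
    show ((Subgroup.centralizer ({(z : G) * a} : Set G)).index : ℂ) * χ ((z : G) * a) / χ 1 *
      conj (χ ((z : G) * a)) = _
    rw [show Subgroup.centralizer ({(z : G) * a} : Set G) = Subgroup.centralizer ({a} : Set G) by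
      ext x
      simp only [Subgroup.mem_centralizer_singleton_iff]
      rw [← mul_assoc x, ← hcomm z x, mul_assoc, mul_assoc, mul_right_inj], hc]
    have hcc : c * conj c = 1 := by
      rw [Complex.mul_conj, Complex.normSq_eq_norm_sq, hc1]; simp
    rw [map_mul]
    show _ = ((Subgroup.centralizer ({a} : Set G)).index : ℂ) * χ a / χ 1 * conj (χ a)
    linear_combination
      (((Subgroup.centralizer ({a} : Set G)).index : ℂ) * χ a / χ 1 * conj (χ a)) * hcc
  have hfree : ∀ C, F C ≠ 0 → ∀ z : Z, z • C = C → z = 1 := by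
    rintro ⟨a⟩ hne z hz
    obtain ⟨c, -, hc, hc1⟩ := IsIrrCharacter.exists_central_scalar h (hZ z.2)
    have ha : χ a ≠ 0 := by
      intro e
      apply hne
      show _ * χ a / χ 1 * _ = 0
      rw [e]; simp
    have hconj := ConjClasses.mk_eq_mk_iff_isConj.mp hz
    have := isClassFunction_iff.mp hχc _ _ hconj
    rw [hc] at this
    have hc' : c = 1 := mul_right_cancel₀ ha (this.trans (one_mul _).symm)
    exact Subtype.ext (hfaith z z.2 (hc1.mp hc'))
  -- the sum of `F` is `|G| / χ 1`
  have htot : ∑ C, F C = (Nat.card G : ℂ) / χ 1 := by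
    have h1 := classInner_self_irr h
    simp only [Cfsg.classInner] at h1
    have hne : (Nat.card G : ℂ) ≠ 0 := Nat.cast_ne_zero.mpr Nat.card_pos.ne'
    rw [inv_mul_eq_one₀ hne] at h1
    rw [h1, Finset.sum_div]
    conv_rhs => rw [← Finset.sum_fiberwise Finset.univ ConjClasses.mk]
    refine Finset.sum_congr rfl fun C _ => ?_
    obtain ⟨g, rfl⟩ := ConjClasses.mk_surjective C
    rw [show Finset.univ.filter (fun x => ConjClasses.mk x = ConjClasses.mk g) = classFinset g by
      ext x
      simp only [Finset.mem_filter, Finset.mem_univ, true_and, mem_classFinset,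
        ConjClasses.mk_eq_mk_iff_isConj]
      exact isConj_comm]
    have hcl : Cfsg.IsClassFunction G (fun x => χ x * conj (χ x) / χ 1) := fun a b => by
      simp only [hχc a b]
    rw [sum_char_class hcl g]
    show ((Subgroup.centralizer ({g} : Set G)).index : ℂ) * χ g / χ 1 * conj (χ g) = _
    ring
  haveI : Fintype (MulAction.orbitRel.Quotient Z (ConjClasses G)) := Fintype.ofFinite _
  have hdiv : IsIntegral ℤ ((∑ C, F C) / (Nat.card Z : ℂ)) := by
    rw [← (MulAction.selfEquivSigmaOrbits Z (ConjClasses G)).symm.sum_comp,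
      Fintype.sum_sigma, Finset.sum_div]
    refine IsIntegral.sum _ fun q _ => ?_
    have hval : ∀ x : MulAction.orbit Z q.out,
        F ((MulAction.selfEquivSigmaOrbits Z (ConjClasses G)).symm ⟨q, x⟩) = F q.out := by
      intro x
      obtain ⟨z, hz⟩ := x.2
      show F x.1 = F q.out
      rw [← hz]
      exact hinv z q.out
    rw [Finset.sum_congr rfl fun x _ => hval x, Finset.sum_const, nsmul_eq_mul, Finset.card_univ]
    by_cases h0 : F q.out = 0
    · rw [h0, mul_zero, zero_div]; exact isIntegral_zero
    · have hcard : Fintype.card (MulAction.orbit Z q.out) = Nat.card Z := by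
        rw [← Nat.card_eq_fintype_card]
        refine (Nat.card_congr (Equiv.ofBijective (fun z : Z => (⟨z • q.out, z, rfl⟩ :
          MulAction.orbit Z q.out)) ⟨fun z w e => ?_, ?_⟩)).symm
        · have e' : z • q.out = w • q.out := congrArg Subtype.val e
          have := hfree _ h0 (w⁻¹ * z) (by rw [mul_smul, e', inv_smul_smul])
          exact (inv_mul_eq_one.mp this).symm
        · rintro ⟨y, z, rfl⟩
          exact ⟨z, rfl⟩
      rw [hcard, mul_div_assoc, mul_comm, div_mul_cancel₀ _ (Nat.cast_ne_zero.mpr Nat.card_pos.ne')]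
      exact hint _
  rw [htot, hd, div_div, ← Nat.cast_mul] at hdiv
  have hd0 : d ≠ 0 := by rintro rfl; exact IsIrrCharacter.one_ne_zero h (by simp [hd])
  exact dvd_of_isIntegral_div (mul_ne_zero hd0 Nat.card_pos.ne') hdiv

theorem degree_dvd_index_center [Finite G] {χ : G → ℂ} (h : Cfsg.IsIrrCharacter G χ) {d : ℕ}
    (hd : χ 1 = d) : d ∣ (Subgroup.center G).index := by
  obtain ⟨K, hK, hmem, -⟩ := IsCharacter.exists_kernel (IsIrrCharacter.isCharacter h)
  haveI := hK
  obtain ⟨χ', -, hval, hirr⟩ :=
    IsCharacter.deflate (IsIrrCharacter.isCharacter h) K fun x hx => (hmem x).mp hx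
  set Z := (Subgroup.center G).map (QuotientGroup.mk' K) with hZdef
  have hdvd := degree_mul_dvd_of_faithful_central (hirr h) Z
    (by
      rintro _ ⟨g, hg, rfl⟩
      rw [Subgroup.mem_center_iff]
      intro y
      obtain ⟨y, rfl⟩ := QuotientGroup.mk'_surjective K y
      rw [← map_mul, ← map_mul, Subgroup.mem_center_iff.mp hg y])
    (fun z hz hz1 => by
      obtain ⟨g, hg, rfl⟩ := hz
      rw [QuotientGroup.mk'_apply, QuotientGroup.eq_one_iff, hmem]
      rw [QuotientGroup.mk'_apply, hval, ← QuotientGroup.mk_one, hval] at hz1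
      exact hz1)
    (d := d) (by rw [← QuotientGroup.mk_one, hval, hd])
  rw [← Subgroup.card_mul_index Z, mul_comm d, Nat.mul_dvd_mul_iff_left Nat.card_pos] at hdvd
  exact hdvd.trans (Subgroup.index_map_dvd _ (QuotientGroup.mk'_surjective K))

end Cfsg.Agent.Char
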