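import Cfsg.Agent.Lib.Char.WielandtFormula

/-!
# The order formula for a Frobenius group acting coprimely on a solvable group
-/

set_option linter.style.haveILetI false
set_option maxHeartbeats 1000000

namespace Cfsg.Agent.Char.Wielandt

universe u

theorem frobenius_formula {X : Type u} [Group X] [Finite X] (U E H : Subgroup X) (hUE : U ⊓ E = ⊥)
    (hUn : ∀ e ∈ E, ∀ u ∈ U, e * u * e⁻¹ ∈ U)
    (hfpf : ∀ e ∈ E, e ≠ 1 → ∀ u ∈ U, e * u = u * e → u = 1)
    (hHn : ∀ x ∈ U ⊔ E, ∀ h ∈ H, x * h * x⁻¹ ∈ H) (hsolv : Group.IsSolvable H)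
    (hcop : Nat.Coprime (Nat.card H) (Nat.card ↥(U ⊔ E))) :
    Nat.card ↥(H ⊓ Subgroup.centralizer ((U ⊔ E : Subgroup X) : Set X)) ^ Nat.card E * Nat.card H =
      Nat.card ↥(H ⊓ Subgroup.centralizer (E : Set X)) ^ Nat.card E *
        Nat.card ↥(H ⊓ Subgroup.centralizer (U : Set X)) := by
  classical
  haveI : Fintype U := Fintype.ofFinite U
  have hnorm : E ≤ Subgroup.normalizer (U : Set X) := fun e he => by
    rw [Subgroup.mem_normalizer_iff]
    refine fun y => ⟨hUn e he y, fun hy => ?_⟩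
    have := hUn e⁻¹ (E.inv_mem he) _ hy
    simpa [mul_assoc] using this
  have hmem : ∀ g : X, g ∈ U ⊔ E → ∃ w ∈ U, ∃ v ∈ E, g = w * v := by
    intro g hg
    rw [Cfsg.Agent.SolvBasic.mem_sup_iff_of_le_normalizer hnorm] at hg
    exact hg
  set G' := (U ⊔ E : Subgroup X) with hG'
  let conjE : U → Subgroup X := fun u => E.map (MulAut.conj (u : X)).toMonoidHom
  have hconj : ∀ (u : U) (x : X), x ∈ conjE u ↔ (u : X)⁻¹ * x * u ∈ E := fun u x => by
    constructor
    · rintro ⟨y, hy, rfl⟩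
      simpa [mul_assoc] using hy
    · intro hx
      exact ⟨_, hx, by simp [mul_assoc]⟩
  let S' : U ⊕ Fin 3 → Subgroup X := Sum.elim conjE ![U, G', ⊥]
  have hS'le : ∀ i, S' i ≤ G' := by
    rintro (u | j)
    · rintro x ⟨y, hy, rfl⟩
      simp only [MulEquiv.coe_toMonoidHom, MulAut.conj_apply]
      exact G'.mul_mem (G'.mul_mem (Subgroup.mem_sup_left u.2) (Subgroup.mem_sup_right hy))
        (G'.inv_mem (Subgroup.mem_sup_left u.2))
    · fin_cases j <;> simp [S', hG']
  let S : U ⊕ Fin 3 → Subgroup G' := fun i => (S' i).subgroupOf G'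
  let a : U ⊕ Fin 3 → ℕ := Sum.elim (fun _ => 1) ![1, 0, 0]
  let b : U ⊕ Fin 3 → ℕ := Sum.elim (fun _ => 0) ![0, 1, Nat.card U]
  -- the partition of the Frobenius group
  have hcomm : ∀ e ∈ E, ∀ u ∈ U, ∀ e' ∈ E, e ≠ 1 → u * e * u⁻¹ = e' → u = 1 := by
    intro e he u hu e' he' hne hcj
    have h1 : e' * e⁻¹ ∈ U := by
      rw [← hcj, show u * e * u⁻¹ * e⁻¹ = u * (e * u⁻¹ * e⁻¹) by group]
      exact U.mul_mem hu (hUn e he _ (U.inv_mem hu))
    have h2 : e' * e⁻¹ ∈ U ⊓ E := ⟨h1, E.mul_mem he' (E.inv_mem he)⟩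
    rw [hUE, Subgroup.mem_bot, mul_inv_eq_one] at h2
    rw [h2] at hcj
    exact hfpf e he hne u hu (mul_inv_eq_iff_eq_mul.mp hcj).symm
  have hrel : ∀ g : G', ∑ i, (if g ∈ S i then a i else 0) = ∑ i, (if g ∈ S i then b i else 0) := by
    intro g
    rw [Fintype.sum_sum_type, Fintype.sum_sum_type, Fin.sum_univ_three, Fin.sum_univ_three]
    have ea : ∀ u : U, (if g ∈ S (Sum.inl u) then a (Sum.inl u) else 0) =
        if (g : X) ∈ conjE u then 1 else 0 := fun u => if_congr Iff.rfl rfl rfl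
    have eb : ∀ u : U, (if g ∈ S (Sum.inl u) then b (Sum.inl u) else 0) = 0 := fun u => ite_self 0
    have e0 : ∀ c : ℕ, (if g ∈ S (Sum.inr 0) then c else 0) = if (g : X) ∈ U then c else 0 :=
      fun c => if_congr Iff.rfl rfl rfl
    have e1 : ∀ c : ℕ, (if g ∈ S (Sum.inr 1) then c else 0) = c := fun c =>
      if_pos (show (g : X) ∈ G' from g.2)
    have e2 : ∀ c : ℕ, (if g ∈ S (Sum.inr 2) then c else 0) = if (g : X) = 1 then c else 0 :=
      fun c => if_congr Subgroup.mem_bot rfl rfl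
    simp only [ea, eb, e0, e1, e2, Finset.sum_const_zero]
    simp only [a, b, Sum.elim_inr, Matrix.cons_val_zero, Matrix.cons_val_one, Matrix.cons_val,
      ite_self, add_zero, zero_add]
    rw [Finset.sum_boole, Nat.cast_id]
    by_cases h1 : (g : X) = 1
    · simp [h1, Nat.card_eq_fintype_card, add_comm]
    rw [if_neg h1, add_zero]
    by_cases hgU : (g : X) ∈ U
    · rw [if_pos hgU, Finset.filter_false_of_mem fun u _ hu => ?_, Finset.card_empty]
      have h := (hconj u _).mp hu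
      have h2 : (u : X)⁻¹ * g * u ∈ U ⊓ E := ⟨U.mul_mem (U.mul_mem (U.inv_mem u.2) hgU) u.2, h⟩
      rw [hUE, Subgroup.mem_bot] at h2
      refine h1 ?_
      have := congrArg (fun x => (u : X) * x * (u : X)⁻¹) h2
      simpa [mul_assoc] using this
    · rw [if_neg hgU, add_zero]
      obtain ⟨w, hw, v, hv, hgwv⟩ := hmem g g.2
      have hv1 : v ≠ 1 := fun h => hgU (by rw [hgwv, h, mul_one]; exact hw)
      let F : U → U := fun u => ⟨(u : X) * (v * (u : X)⁻¹ * v⁻¹),
        U.mul_mem u.2 (hUn v hv _ (U.inv_mem u.2))⟩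
      have hFinj : Function.Injective F := by
        intro u u' h
        have h' : (u : X) * (v * (u : X)⁻¹ * v⁻¹) = (u' : X) * (v * (u' : X)⁻¹ * v⁻¹) :=
          congrArg Subtype.val h
        have h'' : ((u' : X)⁻¹ * u) * v * ((u' : X)⁻¹ * u)⁻¹ = v := by
          have := congrArg (fun x => (u' : X)⁻¹ * x * v * u') h'
          simpa [mul_assoc] using this
        exact Subtype.ext (inv_mul_eq_one.mp
          (hcomm v hv _ (U.mul_mem (U.inv_mem u'.2) u.2) v hv hv1 h'')).symm
      obtain ⟨u₀, hu₀⟩ := (Finite.injective_iff_surjective.mp hFinj) ⟨w, hw⟩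
      have hu₀' : (u₀ : X) * v * (u₀ : X)⁻¹ = g := by
        rw [hgwv, ← show (u₀ : X) * (v * (u₀ : X)⁻¹ * v⁻¹) = w from congrArg Subtype.val hu₀]
        group
      rw [Finset.card_eq_one]
      refine ⟨u₀, Finset.ext fun u => ?_⟩
      simp only [Finset.mem_filter, Finset.mem_univ, true_and, Finset.mem_singleton, hconj]
      constructor
      · intro hu
        rw [← hu₀'] at hu
        have h := hcomm v hv ((u : X)⁻¹ * u₀) (U.mul_mem (U.inv_mem u.2) u₀.2) _ hu hv1
          (by group)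
        exact Subtype.ext (inv_mul_eq_one.mp h)
      · rintro rfl
        rw [← hu₀']
        simpa [mul_assoc] using hv
  -- apply the general formula inside `H (U E)`
  set Y := (H ⊔ G' : Subgroup X) with hY
  let φ : G' →* Y := Subgroup.inclusion le_sup_right
  set K := H.subgroupOf Y
  haveI : K.Normal := by
    refine ⟨fun x hx y => ?_⟩
    rw [Subgroup.mem_subgroupOf] at hx ⊢
    have hH : (y : X) ∈ Subgroup.normalizer (H : Set X) := by
      refine (sup_le Subgroup.le_normalizer ?_ : Y ≤ _) y.2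
      intro z hz
      rw [Subgroup.mem_normalizer_iff]
      refine fun t => ⟨hHn z hz t, fun ht => ?_⟩
      have := hHn z⁻¹ (G'.inv_mem hz) _ ht
      simpa [mul_assoc] using this
    exact (Subgroup.mem_normalizer_iff.mp hH x).mp hx
  have hHY : H ≤ Y := le_sup_left
  have hKcard : Nat.card K = Nat.card H := Nat.card_congr (Subgroup.subgroupOfEquivOfLe hHY).toEquiv
  haveI := hsolv
  have hmain := formula S a b hrel _ Y φ K rfl (by rw [hKcard]; exact hcop)
    (Group.isSolvable_of_isSolvable_injective (f := (Subgroup.subgroupOfEquivOfLe hHY).toMonoidHom)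
      (Subgroup.subgroupOfEquivOfLe hHY).injective)
  have hfix : ∀ i, Nat.card (fixC φ K (S i)) =
      Nat.card ↥(H ⊓ Subgroup.centralizer (S' i : Set X)) := by
    intro i
    rw [← Subgroup.card_map_of_injective Y.subtype_injective]
    congr 1
    congr 1
    ext x
    constructor
    · rintro ⟨y, ⟨hyK, hyC⟩, rfl⟩
      refine ⟨Subgroup.mem_subgroupOf.mp hyK, Subgroup.mem_centralizer_iff.mpr fun s hs => ?_⟩
      exact congrArg Subtype.val
        (Subgroup.mem_centralizer_iff.mp hyC (φ ⟨s, hS'le i hs⟩) ⟨⟨s, hS'le i hs⟩, hs, rfl⟩)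
    · rintro ⟨hxH, hxC⟩
      refine ⟨⟨x, hHY hxH⟩, ⟨Subgroup.mem_subgroupOf.mpr hxH, Subgroup.mem_centralizer_iff.mpr ?_⟩, rfl⟩
      rintro _ ⟨s, hs, rfl⟩
      exact Subtype.ext (Subgroup.mem_centralizer_iff.mp hxC _ hs)
  have hScard : ∀ i, Nat.card (S i) = Nat.card (S' i) := fun i =>
    Nat.card_congr (Subgroup.subgroupOfEquivOfLe (hS'le i)).toEquiv
  have hEu : ∀ u : U, Nat.card (conjE u) = Nat.card E := fun u =>
    Subgroup.card_map_of_injective (MulAut.conj (u : X)).injective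
  have hCu : ∀ u : U, Nat.card ↥(H ⊓ Subgroup.centralizer (conjE u : Set X)) =
      Nat.card ↥(H ⊓ Subgroup.centralizer (E : Set X)) := by
    intro u
    have huG : (u : X) ∈ G' := Subgroup.mem_sup_left u.2
    rw [← Subgroup.card_map_of_injective (K := H ⊓ Subgroup.centralizer (E : Set X))
      (f := (MulAut.conj (u : X)).toMonoidHom) (MulAut.conj (u : X)).injective]
    congr 1
    congr 1
    ext x
    constructor
    · rintro ⟨hxH, hxC⟩
      refine ⟨(u : X)⁻¹ * x * u, ⟨?_, Subgroup.mem_centralizer_iff.mpr fun e he => ?_⟩,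
        by simp [mul_assoc]⟩
      · have := hHn _ (G'.inv_mem huG) x hxH
        simpa using this
      · have h := Subgroup.mem_centralizer_iff.mp hxC _ (Subgroup.mem_map_of_mem _ he)
        simp only [MulEquiv.coe_toMonoidHom, MulAut.conj_apply] at h
        have := congrArg (fun t => (u : X)⁻¹ * t * u) h
        simpa [mul_assoc] using this
    · rintro ⟨y, ⟨hyH, hyC⟩, rfl⟩
      refine ⟨hHn _ huG y hyH, Subgroup.mem_centralizer_iff.mpr ?_⟩
      rintro _ ⟨e, he, rfl⟩
      exact (map_mul (MulAut.conj (u : X)).toMonoidHom e y).symm.trans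
        ((congrArg _ (Subgroup.mem_centralizer_iff.mp hyC e he)).trans (map_mul _ _ _))
  have hGcard : Nat.card G' = Nat.card E * Nat.card U := by
    rw [hG', Cfsg.Agent.SolvBasic.card_sup_of_inf_eq_bot hnorm hUE, mul_comm]
  simp only [hfix, hScard, Fintype.prod_sum_type, Fin.prod_univ_three, S', a, b, Sum.elim_inl,
    Sum.elim_inr, Matrix.cons_val_zero, Matrix.cons_val_one, Matrix.cons_val, hEu, hCu, one_mul,
    zero_mul, pow_zero, mul_one, Finset.prod_const, Finset.card_univ, one_pow,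
    Subgroup.card_bot] at hmain
  have hbot : H ⊓ Subgroup.centralizer ((⊥ : Subgroup X) : Set X) = H := inf_eq_left.mpr
    fun x _ => Subgroup.mem_centralizer_iff.mpr fun s hs => by
      rw [Subgroup.coe_bot, Set.mem_singleton_iff] at hs
      rw [hs, one_mul, mul_one]
  rw [hbot, hGcard, pow_mul, ← Nat.card_eq_fintype_card, ← mul_pow, ← mul_pow] at hmain
  exact (Nat.pow_left_injective Nat.card_pos.ne' hmain).symm

end Cfsg.Agent.Char.Wielandt
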