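import Cfsg.Agent.Lib.Char.Dade

/-!
# The Dade map sends virtual characters to virtual characters
-/

set_option linter.style.haveILetI false
set_option linter.unusedSectionVars false

namespace Cfsg.Agent.Char.Dade

open scoped ComplexConjugate Classical
open Cfsg

universe u w

variable {G : Type u} [Group G] [Fintype G]
variable {A : Set G} {L : Subgroup G} {H : G → Subgroup G}

theorem ext_apply (α : L → ℂ) {x : G} (h : x ∈ L) : Cfsg.extendByZero L α x = α ⟨x, h⟩ :=
  Subtype.val_injective.extend_apply α 0 ⟨x, h⟩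

/-- Averaging over a coset of a subgroup by a coprime element reduces to the centralised part. -/
theorem sum_coprime_coset (K : Subgroup G) {x : G}
    (hx : x ∈ Subgroup.normalizer (K : Set G)) (hcop : Nat.Coprime (orderOf x) (Nat.card K))
    {f : G → ℂ} (hf : Cfsg.IsClassFunction G f) :
    (Nat.card K : ℂ)⁻¹ * ∑ h ∈ fin K, f (h * x) =
      (Nat.card ↥(K ⊓ Subgroup.centralizer ({x} : Set G)) : ℂ)⁻¹ *
        ∑ c ∈ fin (K ⊓ Subgroup.centralizer ({x} : Set G)), f (c * x) := by
  set C := K ⊓ Subgroup.centralizer ({x} : Set G) with hC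
  have hCx : ∀ c ∈ C, Commute c x := fun c hc => Subgroup.mem_centralizer_singleton_iff.mp hc.2
  have hCp : ∀ c ∈ C, (c * x) ^ hallExp hcop = x := fun c hc => by
    rw [(hCx c hc).mul_pow, pow_hallExp_of_dvd hcop (pow_orderOf_eq_one x),
      pow_hallExp_eq_one hcop (orderOf_dvd_iff_pow_eq_one.mp (Subgroup.orderOf_dvd_natCard K hc.1)),
      one_mul]
  have hK : (Nat.card K : ℂ) ≠ 0 := Nat.cast_ne_zero.mpr Nat.card_pos.ne'
  have hC0 : (Nat.card C : ℂ) ≠ 0 := Nat.cast_ne_zero.mpr Nat.card_pos.ne'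
  set Φ : G × G → G := fun p => p.1 * (p.2 * x) * p.1⁻¹ * x⁻¹ with hΦ
  have hmaps : ∀ p ∈ fin K ×ˢ fin C, Φ p ∈ fin K := by
    rintro ⟨k, c⟩ hp
    rw [Finset.mem_product, mem_fin, mem_fin] at hp
    rw [mem_fin]
    show k * (c * x) * k⁻¹ * x⁻¹ ∈ K
    rw [show k * (c * x) * k⁻¹ * x⁻¹ = k * c * (x * k⁻¹ * x⁻¹) by group]
    exact K.mul_mem (K.mul_mem hp.1 hp.2.1)
      ((Subgroup.mem_normalizer_iff.mp hx _).mp (K.inv_mem hp.1))
  have hfib : ∀ h ∈ fin K, ((fin K ×ˢ fin C).filter fun p => Φ p = h).card = Nat.card C := by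
    intro h hh
    rw [mem_fin] at hh
    obtain ⟨y, hy, c, hc, hcx, e⟩ := exists_coprime_conj K hx hcop hh
    have hcC : c ∈ C := ⟨hc, Subgroup.mem_centralizer_singleton_iff.mpr hcx⟩
    have e' : h * x = y⁻¹ * (c * x) * y := by rw [← e]; group
    rw [← card_fin]
    refine (Finset.card_bij (fun t _ => (y⁻¹ * t, t⁻¹ * c * t)) ?_ ?_ ?_).symm
    · intro t ht
      rw [mem_fin] at ht
      simp only [Finset.mem_filter, Finset.mem_product, mem_fin, hΦ]
      refine ⟨⟨K.mul_mem (K.inv_mem hy) ht.1, C.mul_mem (C.mul_mem (C.inv_mem ht) hcC) ht⟩, ?_⟩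
      calc y⁻¹ * t * (t⁻¹ * c * t * x) * (y⁻¹ * t)⁻¹ * x⁻¹
          = y⁻¹ * c * (t * x) * t⁻¹ * y * x⁻¹ := by group
        _ = y⁻¹ * (c * x) * y * x⁻¹ := by rw [(hCx t ht).eq]; group
        _ = h := by rw [← e', mul_inv_cancel_right]
    · intro t _ t' _ ht
      exact mul_left_cancel (Prod.mk.inj ht).1
    · rintro ⟨k, d⟩ hp
      simp only [Finset.mem_filter, Finset.mem_product, mem_fin, hΦ] at hp
      obtain ⟨⟨hk, hd⟩, he⟩ := hp
      have e1 : y * k * (d * x) * (y * k)⁻¹ = c * x := by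
        calc y * k * (d * x) * (y * k)⁻¹ = y * (k * (d * x) * k⁻¹ * x⁻¹ * x) * y⁻¹ := by group
          _ = y * (h * x) * y⁻¹ := by rw [he]
          _ = c * x := e
      have e2 : y * k * x * (y * k)⁻¹ = x := by
        have := congrArg (· ^ hallExp hcop) e1
        simpa only [conj_pow, hCp d hd, hCp c hcC] using this
      refine ⟨y * k, ?_, Prod.ext (inv_mul_cancel_left y k) ?_⟩
      · rw [mem_fin]
        exact ⟨K.mul_mem hy hk, Subgroup.mem_centralizer_singleton_iff.mpr
          (mul_inv_eq_iff_eq_mul.mp e2)⟩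
      · refine mul_right_cancel (b := x) ?_
        have : c * x = y * k * d * (y * k)⁻¹ * x := by
          rw [← e1]
          calc y * k * (d * x) * (y * k)⁻¹ = y * k * d * (y * k)⁻¹ * (y * k * x * (y * k)⁻¹) := by group
            _ = _ := by rw [e2]
        rw [mul_right_cancel this]
        group
  have h1 : ∑ p ∈ fin K ×ˢ fin C, f (p.1 * (p.2 * x) * p.1⁻¹) =
      (Nat.card K : ℂ) * ∑ c ∈ fin C, f (c * x) := by
    rw [Finset.sum_product]
    rw [Finset.sum_congr rfl (fun k _ => Finset.sum_congr rfl (fun c _ => hf (c * x) k)),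
      Finset.sum_const, card_fin, nsmul_eq_mul]
  have h2 : ∑ p ∈ fin K ×ˢ fin C, f (p.1 * (p.2 * x) * p.1⁻¹) =
      (Nat.card C : ℂ) * ∑ h ∈ fin K, f (h * x) := by
    rw [← Finset.sum_fiberwise_of_maps_to hmaps, Finset.mul_sum]
    refine Finset.sum_congr rfl fun h hh => ?_
    rw [Finset.sum_congr rfl (g := fun _ => f (h * x)) (fun p hp => by
      rw [← (Finset.mem_filter.mp hp).2, hΦ]; simp), Finset.sum_const, hfib h hh, nsmul_eq_mul]
  rw [h1] at h2
  rw [inv_mul_eq_iff_eq_mul₀ hK, mul_left_comm, eq_inv_mul_iff_mul_eq₀ hC0]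
  exact h2.symm

/-- Conjugation of a finite subset. -/
noncomputable def cB (t : G) (B : Finset G) : Finset G :=
  Finset.univ.filter fun y => t⁻¹ * y * t ∈ B

@[simp] theorem mem_cB {t y : G} {B : Finset G} : y ∈ cB t B ↔ t⁻¹ * y * t ∈ B := by simp [cB]

theorem cB_cB (s t : G) (B : Finset G) : cB s (cB t B) = cB (s * t) B := by
  ext; simp [mul_assoc]

/-- The stabiliser in `L` of a subset. -/
def nB (L : Subgroup G) (B : Finset G) : Subgroup G := L ⊓ Subgroup.normalizer (B : Set G)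

theorem mem_nB {t : G} {B : Finset G} : t ∈ nB L B ↔ t ∈ L ∧ cB t B = B := by
  rw [nB, Subgroup.mem_inf, Subgroup.mem_set_normalizer_iff]
  refine and_congr_right fun _ => ⟨fun h => ?_, fun h n => ?_⟩
  · ext y
    rw [mem_cB]
    have := h (t⁻¹ * y * t)
    simpa [mul_assoc] using this
  · conv_rhs => rw [Finset.mem_coe, ← h, mem_cB]
    simp [mul_assoc]

/-- The intersection of the `H b`, `b ∈ B`. -/
def hB (H : G → Subgroup G) (B : Finset G) : Subgroup G := ⨅ b ∈ B, H b

theorem mem_hB {u : G} {B : Finset G} : u ∈ hB H B ↔ ∀ b ∈ B, u ∈ H b := by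
  simp [hB, Subgroup.mem_iInf]

/-- Average of a function over the coset `hB B * x`. -/
noncomputable def avg (H : G → Subgroup G) (f : G → ℂ) (B : Finset G) (x : G) : ℂ :=
  (Nat.card (hB H B) : ℂ)⁻¹ * ∑ h ∈ fin (hB H B), f (h * x)

/-- The nonempty subsets of `A`. -/
noncomputable def subsets (A : Set G) : Finset (Finset G) :=
  A.toFinset.powerset.filter Finset.Nonempty

theorem mem_subsets {B : Finset G} : B ∈ subsets A ↔ ↑B ⊆ A ∧ B.Nonempty := by
  simp [subsets, Set.subset_toFinset]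

/-- The contribution of a subset: an inner product on `hB B ⋊ nB B`. -/
noncomputable def term (H : G → Subgroup G) (α : L → ℂ) (f : G → ℂ) (B : Finset G) : ℂ :=
  (Nat.card (nB L B) : ℂ)⁻¹ * ∑ x ∈ fin (nB L B), Cfsg.extendByZero L α x * avg H f B x

variable (hD : Cfsg.DadeHypothesis A L H)
include hD

theorem nB_le_normalizer {B : Finset G} (hB' : (B : Set G) ⊆ A) :
    nB L B ≤ Subgroup.normalizer (hB H B : Set G) := by
  have key : ∀ t ∈ nB L B, ∀ u ∈ hB H B, t * u * t⁻¹ ∈ hB H B := by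
    intro t ht u hu
    rw [mem_hB] at hu ⊢
    intro b hb
    obtain ⟨htL, htB⟩ := mem_nB.mp ht
    rw [← htB, mem_cB] at hb
    have := conj_H hD (hB' hb) htL (hu _ hb)
    simpa [mul_assoc] using this
  intro t ht
  rw [Subgroup.mem_normalizer_iff]
  refine fun u => ⟨key t ht u, fun hu => ?_⟩
  have := key t⁻¹ ((nB L B).inv_mem ht) _ hu
  simpa [mul_assoc] using this

theorem avg_insert {B : Finset G} (hB' : B ∈ subsets A) {x : G} (hxA : x ∈ A) (hx : x ∈ nB L B)
    {f : G → ℂ} (hf : Cfsg.IsClassFunction G f) : avg H f B x = avg H f (insert x B) x := by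
  obtain ⟨hBA, b, hb⟩ := mem_subsets.mp hB'
  have hle : hB H B ≤ H b := fun u hu => mem_hB.mp hu b hb
  have hcop : Nat.Coprime (orderOf x) (Nat.card (hB H B)) :=
    ((hD.coprime b (hBA hb) x hxA).coprime_dvd_left (Subgroup.card_dvd_of_le hle)).symm.coprime_dvd_left
      (Subgroup.orderOf_dvd_natCard _ (mem_CL hD hxA))
  have e : hB H (insert x B) = hB H B ⊓ Subgroup.centralizer ({x} : Set G) := by
    ext u
    simp only [mem_hB, Finset.forall_mem_insert, Subgroup.mem_inf]
    refine ⟨fun h => ⟨h.2, hD.le_centralizer x hxA h.1⟩, fun h => ⟨?_, h.1⟩⟩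
    exact mem_of_coprime hD hxA h.2 ((hD.coprime b (hBA hb) x hxA).coprime_dvd_left
      (Subgroup.orderOf_dvd_natCard _ (h.1 b hb)))
  rw [avg, avg, e]
  exact sum_coprime_coset _ (nB_le_normalizer hD hBA hx) hcop hf

/-- Inclusion and exclusion. -/
theorem sum_signed_avg {x : G} (hxA : x ∈ A) {f : G → ℂ} (hf : Cfsg.IsClassFunction G f) :
    ∑ B ∈ (subsets A).filter (fun B => x ∈ nB L B), (-1 : ℂ) ^ (B.card + 1) * avg H f B x =
      avg H f {x} x := by
  have hxx : ∀ B : Finset G, x ∈ nB L B → x ∈ nB L (insert x B) ∧ x ∈ nB L (B.erase x) := by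
    intro B hx
    obtain ⟨hxL, hxB⟩ := mem_nB.mp hx
    have hiff : ∀ y, x⁻¹ * y * x = x ↔ y = x := fun y => by
      constructor
      · intro h
        calc y = x * (x⁻¹ * y * x) * x⁻¹ := by group
          _ = x := by rw [h, mul_inv_cancel_right]
      · rintro rfl; group
    have hmem : ∀ y, x⁻¹ * y * x ∈ B ↔ y ∈ B := fun y => by
      conv_rhs => rw [← hxB, mem_cB]
    constructor <;> refine mem_nB.mpr ⟨hxL, ?_⟩ <;> ext y <;> simp [hiff, hmem]
  have hsing : ({x} : Finset G) ∈ (subsets A).filter fun B => x ∈ nB L B := by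
    rw [Finset.mem_filter, mem_subsets, mem_nB]
    refine ⟨⟨by simpa using hxA, Finset.singleton_nonempty x⟩, hD.subset hxA, ?_⟩
    ext y
    simp only [mem_cB, Finset.mem_singleton]
    constructor
    · intro h
      calc y = x * (x⁻¹ * y * x) * x⁻¹ := by group
        _ = x := by rw [h, mul_inv_cancel_right]
    · rintro rfl; group
  rw [← Finset.add_sum_erase _ _ hsing, Finset.card_singleton]
  norm_num
  refine Finset.sum_involution
    (fun B _ => if x ∈ B then B.erase x else insert x B) ?_ ?_ ?_ ?_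
  · intro B hB'
    simp only [Finset.mem_erase, Finset.mem_filter] at hB'
    obtain ⟨hne, hBs, hxN⟩ := hB'
    by_cases hxB : x ∈ B
    · rw [if_pos hxB]
      have hBs' : B.erase x ∈ subsets A := by
        rw [mem_subsets] at hBs ⊢
        refine ⟨(Finset.coe_subset.mpr (B.erase_subset x)).trans hBs.1, ?_⟩
        by_contra hc
        rw [Finset.not_nonempty_iff_eq_empty, Finset.erase_eq_empty_iff] at hc
        rcases hc with hc | hc
        · exact Finset.notMem_empty x (hc ▸ hxB)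
        · exact hne hc
      rw [avg_insert hD hBs' hxA (hxx B hxN).2 hf, Finset.insert_erase hxB,
        ← Finset.card_erase_add_one hxB]
      ring
    · rw [if_neg hxB, Finset.card_insert_of_notMem hxB, avg_insert hD hBs hxA hxN hf]
      ring
  · intro B _ _
    split_ifs with h
    · exact fun e => (Finset.notMem_erase x B) (e.symm ▸ h)
    · exact fun e => h (e ▸ Finset.mem_insert_self x B)
  · intro B hB'
    simp only [Finset.mem_erase, Finset.mem_filter, mem_subsets] at hB' ⊢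
    obtain ⟨hne, ⟨hBA, hBne⟩, hxN⟩ := hB'
    split_ifs with hxB
    · refine ⟨fun e => (Finset.notMem_erase x B) (e ▸ Finset.mem_singleton_self x),
        ⟨(Finset.coe_subset.mpr (B.erase_subset x)).trans hBA, ?_⟩, (hxx B hxN).2⟩
      by_contra hc
      rw [Finset.not_nonempty_iff_eq_empty, Finset.erase_eq_empty_iff] at hc
      rcases hc with hc | hc
      · exact Finset.notMem_empty x (hc ▸ hxB)
      · exact hne hc
    · refine ⟨fun e => ?_, ⟨by simp [Set.insert_subset_iff, hxA, hBA], Finset.insert_nonempty _ _⟩,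
        (hxx B hxN).1⟩
      obtain ⟨b, hb⟩ := hBne
      have : b ∈ ({x} : Finset G) := e ▸ Finset.mem_insert_of_mem hb
      exact hxB (Finset.mem_singleton.mp this ▸ hb)
  · intro B hB'
    by_cases h : x ∈ B
    · simp [h]
    · simp [h]

theorem exists_term_int {α : L → ℂ} (hα : Cfsg.IsGeneralizedCharacter L α) {χ : G → ℂ}
    (hχ : Cfsg.IsIrrCharacter G χ) {B : Finset G} (hB' : B ∈ subsets A) :
    ∃ k : ℤ, term H α (fun g => conj (χ g)) B = k := by
  have hle := nB_le_normalizer hD (mem_subsets.mp hB').1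
  set K := hB H B
  set N := nB L B with hN
  let φ : N →* MulAut K := (Subgroup.normalizerMonoidHom K).comp (Subgroup.inclusion hle)
  let j : K ⋊[φ] N →* G := SemidirectProduct.lift K.subtype N.subtype (fun n => by
    ext u; simp [φ])
  have hNL : N ≤ L := inf_le_left
  let q : K ⋊[φ] N →* L := (Subgroup.inclusion hNL).comp SemidirectProduct.rightHom
  haveI : Finite (K ⋊[φ] N) := Finite.of_equiv _ SemidirectProduct.equivProd.symm
  haveI : Fintype (K ⋊[φ] N) := Fintype.ofFinite _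
  obtain ⟨k, hk⟩ := IsGeneralizedCharacter.exists_classInner_int
    (IsGeneralizedCharacter.comp hα q)
    (IsGeneralizedCharacter.comp (IsGeneralizedCharacter.of_isCharacter
      (IsIrrCharacter.isCharacter hχ)) j)
  refine ⟨k, ?_⟩
  rw [← hk, Cfsg.classInner, Nat.card_congr SemidirectProduct.equivProd, Nat.card_prod,
    Nat.cast_mul, mul_inv, mul_comm (Nat.card K : ℂ)⁻¹, mul_assoc]
  rw [← SemidirectProduct.equivProd.symm.sum_comp (M := ℂ), Fintype.sum_prod_type,
    Finset.sum_comm, Finset.mul_sum, term]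
  congr 1
  refine Finset.sum_bij (fun x hx => (⟨x, mem_fin.mp hx⟩ : N)) (fun _ _ => Finset.mem_univ _)
    (fun a _ b _ h => congrArg Subtype.val h) (fun b _ => ⟨b, mem_fin.mpr b.2, rfl⟩) ?_
  intro x hx
  rw [avg, mul_left_comm, Finset.mul_sum]
  congr 1
  refine Finset.sum_bij (fun h hh => (⟨h, mem_fin.mp hh⟩ : K)) (fun _ _ => Finset.mem_univ _)
    (fun a _ b _ h => congrArg Subtype.val h) (fun b _ => ⟨b, mem_fin.mpr b.2, rfl⟩) ?_
  intro h hh
  have hxL : x ∈ L := hNL (mem_fin.mp hx)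
  rw [ext_apply α hxL]
  rfl

theorem cB_mem_subsets {t : G} (ht : t ∈ L) {B : Finset G} (hB' : B ∈ subsets A) :
    cB t B ∈ subsets A := by
  obtain ⟨hBA, b, hb⟩ := mem_subsets.mp hB'
  refine mem_subsets.mpr ⟨fun y hy => ?_, ⟨t * b * t⁻¹, by simpa [mul_assoc] using hb⟩⟩
  have := hD.conj_mem t ht _ (hBA (mem_cB.mp hy))
  simpa [mul_assoc] using this

theorem term_cB {α : L → ℂ} (hα : Cfsg.IsClassFunction L α) {f : G → ℂ}
    (hf : Cfsg.IsClassFunction G f) {t : G} (ht : t ∈ L) {B : Finset G} (hB' : B ∈ subsets A) :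
    term H α f (cB t B) = term H α f B := by
  set c : MulAut G := MulAut.conj t
  have hfin : ∀ (K : Subgroup G), fin (K.map c.toMonoidHom) = (fin K).map c.toEquiv.toEmbedding := by
    intro K; ext y
    rw [mem_fin, Subgroup.mem_map]
    simp only [Finset.mem_map, mem_fin]
    rfl
  have hn : nB L (cB t B) = (nB L B).map c.toMonoidHom := by
    ext y
    constructor
    · intro hy
      obtain ⟨hyL, hyB⟩ := mem_nB.mp hy
      refine ⟨t⁻¹ * y * t, mem_nB.mpr ⟨L.mul_mem (L.mul_mem (L.inv_mem ht) hyL) ht, ?_⟩,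
        by simp [c, mul_assoc]⟩
      rw [cB_cB] at hyB
      rw [show t⁻¹ * y * t = t⁻¹ * (y * t) from mul_assoc _ _ _, ← cB_cB, hyB, cB_cB, inv_mul_cancel]
      ext z; simp
    · rintro ⟨z, hz, rfl⟩
      obtain ⟨hzL, hzB⟩ := mem_nB.mp hz
      refine mem_nB.mpr ⟨L.mul_mem (L.mul_mem ht hzL) (L.inv_mem ht), ?_⟩
      show cB (t * z * t⁻¹) (cB t B) = cB t B
      rw [cB_cB, inv_mul_cancel_right, ← cB_cB, hzB]
  have hh : hB H (cB t B) = (hB H B).map c.toMonoidHom := by
    have hBA := (mem_subsets.mp hB').1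
    ext y
    constructor
    · intro hy
      refine ⟨t⁻¹ * y * t, mem_hB.mpr fun b hb => ?_, by simp [c, mul_assoc]⟩
      have hmem : t * b * t⁻¹ ∈ cB t B := by simpa [mul_assoc] using hb
      have := conj_H hD (hD.conj_mem t ht b (hBA hb)) (L.inv_mem ht) (mem_hB.mp hy _ hmem)
      simpa [mul_assoc] using this
    · rintro ⟨z, hz, rfl⟩
      refine mem_hB.mpr fun b hb => ?_
      have := conj_H hD (hBA (mem_cB.mp hb)) ht (mem_hB.mp hz _ (mem_cB.mp hb))
      simpa [c, mul_assoc] using this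
  have hc1 : ∀ K : Subgroup G, Nat.card (K.map c.toMonoidHom) = Nat.card K := fun K =>
    Nat.card_congr (K.equivMapOfInjective _ c.injective).toEquiv.symm
  simp only [term, avg, hn, hh, hc1, hfin, Finset.sum_map]
  congr 1
  refine Finset.sum_congr rfl fun x hx => ?_
  have hxL : x ∈ L := (mem_nB.mp (mem_fin.mp hx)).1
  congr 1
  · show Function.extend Subtype.val α 0 (t * x * t⁻¹) = Function.extend Subtype.val α 0 x
    exact (ext_apply α (L.mul_mem (L.mul_mem ht hxL) (L.inv_mem ht))).trans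
      ((hα ⟨x, hxL⟩ ⟨t, ht⟩).trans (ext_apply α hxL).symm)
  · congr 1
    refine Finset.sum_congr rfl fun h _ => ?_
    show f (t * h * t⁻¹ * (t * x * t⁻¹)) = f (h * x)
    rw [← hf (h * x) t]
    congr 1
    group

/-- A weighted sum over invariant families of subsets is divisible by the order of `L`. -/
theorem exists_sum_eq (s : Finset (Finset G)) (hs : ∀ t ∈ L, ∀ B ∈ s, cB t B ∈ s)
    (g : Finset G → ℂ) (hg : ∀ t ∈ L, ∀ B ∈ s, g (cB t B) = g B)
    (hint : ∀ B ∈ s, ∃ k : ℤ, g B = k) :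
    ∃ k : ℤ, ∑ B ∈ s, (Nat.card (nB L B) : ℂ) * g B = (Nat.card L : ℂ) * k := by
  induction s using Finset.strongInduction with
  | H s ih =>
    rcases s.eq_empty_or_nonempty with rfl | ⟨B₀, hB₀⟩
    · exact ⟨0, by simp⟩
    set O := (fin L).image fun t => cB t B₀ with hO
    have hOs : O ⊆ s := by
      intro B hB'
      obtain ⟨t, ht, rfl⟩ := Finset.mem_image.mp hB'
      exact hs t (mem_fin.mp ht) B₀ hB₀
    have hcard : ∑ B ∈ O, Nat.card (nB L B) = Nat.card L := by
      rw [← card_fin L, Finset.card_eq_sum_card_fiberwise (f := fun t => cB t B₀) (t := O)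
        (fun t ht => Finset.mem_image_of_mem _ ht)]
      refine Finset.sum_congr rfl fun B hB' => ?_
      obtain ⟨t₁, ht₁, rfl⟩ := Finset.mem_image.mp hB'
      rw [mem_fin] at ht₁
      rw [← card_fin]
      refine Finset.card_bij (fun d _ => d * t₁) ?_ (fun d _ d' _ h => mul_right_cancel h) ?_
      · intro d hd
        obtain ⟨hdL, hdB⟩ := mem_nB.mp (mem_fin.mp hd)
        rw [Finset.mem_filter, mem_fin, ← cB_cB, hdB]
        exact ⟨L.mul_mem hdL ht₁, rfl⟩
      · intro t ht
        rw [Finset.mem_filter, mem_fin] at ht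
        refine ⟨t * t₁⁻¹, mem_fin.mpr (mem_nB.mpr ⟨L.mul_mem ht.1 (L.inv_mem ht₁), ?_⟩), by simp⟩
        rw [cB_cB, inv_mul_cancel_right, ht.2]
    have hB₀O : B₀ ∈ O := Finset.mem_image.mpr ⟨1, mem_fin.mpr L.one_mem, by ext; simp⟩
    obtain ⟨k, hk⟩ := ih (s \ O) (Finset.sdiff_ssubset hOs ⟨B₀, hB₀O⟩) (fun t ht B hB' => by
      rw [Finset.mem_sdiff] at hB' ⊢
      refine ⟨hs t ht B hB'.1, fun hc => hB'.2 ?_⟩
      obtain ⟨r, hr, e⟩ := Finset.mem_image.mp hc
      refine Finset.mem_image.mpr ⟨t⁻¹ * r, mem_fin.mpr (L.mul_mem (L.inv_mem ht) (mem_fin.mp hr)), ?_⟩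
      rw [← cB_cB, e, cB_cB, inv_mul_cancel]
      ext; simp)
      (fun t ht B hB' => hg t ht B (Finset.mem_sdiff.mp hB').1)
      (fun B hB' => hint B (Finset.mem_sdiff.mp hB').1)
    obtain ⟨k₀, hk₀⟩ := hint B₀ hB₀
    refine ⟨k + k₀, ?_⟩
    rw [← Finset.sum_sdiff hOs, hk, Int.cast_add, mul_add, ← hcard, Nat.cast_sum, Finset.sum_mul,
      add_right_inj, Finset.sum_mul]
    refine Finset.sum_congr rfl fun B hB' => ?_
    obtain ⟨t, ht, rfl⟩ := Finset.mem_image.mp hB'
    rw [hg t (mem_fin.mp ht) B₀ hB₀, hk₀]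

theorem classInner_dade_int {α : L → ℂ} (hα : Cfsg.IsGeneralizedCharacter L α)
    (hαA : ∀ x : L, (x : G) ∉ A → α x = 0) {χ : G → ℂ} (hχ : Cfsg.IsIrrCharacter G χ) :
    ∃ k : ℤ, Cfsg.classInner (Cfsg.dadeIsometry A L H α) χ = k := by
  have hαc := IsGeneralizedCharacter.isClassFunction hα
  have hχc := IsCharacter.isClassFunction (IsIrrCharacter.isCharacter hχ)
  set f : G → ℂ := fun g => conj (χ g) with hf
  have hfc : Cfsg.IsClassFunction G f := fun a b => by simp [hf, hχc a b]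
  obtain ⟨k, hk⟩ := exists_sum_eq hD (subsets A) (fun t ht B hB' => cB_mem_subsets hD ht hB')
    (fun B => (-1 : ℂ) ^ (B.card + 1) * term H α f B)
    (fun t ht B hB' => by
      show (-1 : ℂ) ^ ((cB t B).card + 1) * term H α f (cB t B) = _
      rw [term_cB hD hαc hfc ht hB']
      congr 3
      refine Finset.card_nbij' (fun y => t⁻¹ * y * t) (fun y => t * y * t⁻¹)
        (fun y hy => mem_cB.mp hy) (fun y hy => by simpa [mul_assoc] using hy)
        (fun y _ => by simp [mul_assoc]) (fun y _ => by simp [mul_assoc]))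
    (fun B hB' => by
      obtain ⟨k, hk⟩ := exists_term_int hD hα hχ hB'
      exact ⟨(-1) ^ (B.card + 1) * k, by rw [hk]; push_cast; ring⟩)
  refine ⟨k, ?_⟩
  have hL : (Nat.card L : ℂ) ≠ 0 := Nat.cast_ne_zero.mpr Nat.card_pos.ne'
  rw [classInner_dade hD hαc hχc, inv_mul_eq_iff_eq_mul₀ hL, ← hk]
  have hext : ∀ x : G, x ∉ A → Cfsg.extendByZero L α x = 0 := by
    intro x hx
    by_cases hxL : x ∈ L
    · rw [ext_apply α hxL]
      exact hαA _ hx
    · exact Function.extend_apply' _ _ _ (fun ⟨y, hy⟩ => hxL (hy ▸ y.2))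
  have hterm : ∀ B : Finset G, (Nat.card (nB L B) : ℂ) * ((-1 : ℂ) ^ (B.card + 1) * term H α f B) =
      ∑ x ∈ A.toFinset, if x ∈ nB L B then
        Cfsg.extendByZero L α x * ((-1 : ℂ) ^ (B.card + 1) * avg H f B x) else 0 := by
    intro B
    rw [term, mul_left_comm, ← mul_assoc (Nat.card (nB L B) : ℂ),
      mul_inv_cancel₀ (Nat.cast_ne_zero.mpr Nat.card_pos.ne'), one_mul, Finset.mul_sum,
      ← Finset.sum_filter]
    refine (Finset.sum_subset_zero_on_sdiff ?_ ?_ ?_).symm
    · intro x hx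
      rw [Finset.mem_filter] at hx
      exact mem_fin.mpr hx.2
    · intro x hx
      simp only [Finset.mem_sdiff, mem_fin, Finset.mem_filter, Set.mem_toFinset, not_and] at hx
      rw [hext x (fun h => hx.2 h hx.1)]
      ring
    · intro x _
      ring
  rw [Finset.sum_congr rfl fun B _ => hterm B, Finset.sum_comm]
  refine Finset.sum_congr rfl fun x hx => ?_
  rw [Set.mem_toFinset] at hx
  rw [← Finset.sum_filter, ← Finset.mul_sum _ (fun a => (-1 : ℂ) ^ (a.card + 1) * avg H f a x),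
    sum_signed_avg hD hx hfc, avg,
    show hB H {x} = H x by simp [hB], mul_left_comm, ← Finset.mul_sum]
  congr 2
  refine Finset.sum_congr rfl fun u hu => ?_
  rw [(commute_H hD hx (mem_fin.mp hu)).eq]

theorem isGeneralizedCharacter_dade {α : L → ℂ} (hα : Cfsg.IsGeneralizedCharacter L α)
    (hαA : ∀ x : L, (x : G) ∉ A → α x = 0) :
    Cfsg.IsGeneralizedCharacter G (Cfsg.dadeIsometry A L H α) :=
  isGeneralizedCharacter_of_classInner
    (isClassFunction_dade hD (IsGeneralizedCharacter.isClassFunction hα))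
    (fun ψ => classInner_dade_int hD hα hαA ψ.2)

end Cfsg.Agent.Char.Dade
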