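import Cfsg.Agent.Lib.Char.Induction

/-!
# The isometry lemma behind exceptional characters
-/

set_option linter.style.haveILetI false

namespace Cfsg.Agent.Char

universe u

variable {G : Type u} [Group G] [Fintype G]

open scoped Classical in
theorem classInner_diff (a b c d : Cfsg.IrrCharacter G) :
    Cfsg.classInner ((a : G → ℂ) - (b : G → ℂ)) ((c : G → ℂ) - (d : G → ℂ)) =
      (((if a = c then 1 else 0) + (if b = d then 1 else 0) - (if a = d then 1 else 0) -
        (if b = c then 1 else 0) : ℤ) : ℂ) := by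
  simp only [classInner_sub_left, classInner_sub_right, classInner_irr a.2 c.2,
    classInner_irr a.2 d.2, classInner_irr b.2 c.2, classInner_irr b.2 d.2, Subtype.coe_inj]
  push_cast
  ring

theorem share_of_classInner_one (a b c d : Cfsg.IrrCharacter G) (hab : a ≠ b) (hcd : c ≠ d)
    (h : Cfsg.classInner ((a : G → ℂ) - (b : G → ℂ)) ((c : G → ℂ) - (d : G → ℂ)) = 1) :
    (a = c ∧ b ≠ d) ∨ (b = d ∧ a ≠ c) := by
  classical
  rw [classInner_diff] at h
  have h' : (if a = c then (1 : ℤ) else 0) + (if b = d then 1 else 0) - (if a = d then 1 else 0) -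
      (if b = c then 1 else 0) = 1 := by exact_mod_cast h
  by_cases h1 : a = c <;> by_cases h2 : b = d
  · subst h1; subst h2; simp [hab, hab.symm] at h'
  · exact Or.inl ⟨h1, h2⟩
  · exact Or.inr ⟨h2, h1⟩
  · simp only [h1, h2, if_false] at h'
    split_ifs at h' <;> omega

theorem isometry_lemma {ι : Type*} [Finite ι] [DecidableEq ι] (i₀ : ι) (τ : ι → (G → ℂ))
    (h0 : τ i₀ = 0) (hgen : ∀ i, Cfsg.IsGeneralizedCharacter G (τ i)) (hone : ∀ i, τ i 1 = 0)
    (hgram : ∀ i j, i ≠ i₀ → j ≠ i₀ →
      Cfsg.classInner (τ i) (τ j) = if i = j then 2 else 1) :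
    ∃ ε : ℂ, (ε = 1 ∨ ε = -1) ∧ ∃ μ : ι → (G → ℂ), (∀ i, Cfsg.IsIrrCharacter G (μ i)) ∧
      Function.Injective μ ∧ ∀ i, τ i = ε • (μ i - μ i₀) := by
  classical
  by_cases hex : ∃ i, i ≠ i₀
  · obtain ⟨i₁, hi₁⟩ := hex
    have hab : ∀ i : {i : ι // i ≠ i₀}, ∃ μ ν : Cfsg.IrrCharacter G, μ ≠ ν ∧
        τ i = (μ : G → ℂ) - (ν : G → ℂ) := fun i =>
      IsGeneralizedCharacter.of_norm_two (hgen i) (by rw [hgram i i i.2 i.2, if_pos rfl]) (hone i)
    choose a b hne hτ using hab
    have share : ∀ i j, i ≠ j → (a i = a j ∧ b i ≠ b j) ∨ (b i = b j ∧ a i ≠ a j) := by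
      intro i j hij
      refine share_of_classInner_one _ _ _ _ (hne i) (hne j) ?_
      rw [← hτ, ← hτ, hgram i j i.2 j.2, if_neg (fun h => hij (Subtype.ext h))]
    set e : {i : ι // i ≠ i₀} := ⟨i₁, hi₁⟩
    by_cases hA : ∀ j, a j = a e
    · refine ⟨-1, Or.inr rfl, fun i => if h : i = i₀ then (a e : G → ℂ) else (b ⟨i, h⟩ : G → ℂ),
        fun i => ?_, ?_, fun i => ?_⟩
      · dsimp only; split_ifs
        exacts [(a e).2, (b _).2]
      · intro i j hij
        dsimp only at hij
        split_ifs at hij with hi hj hj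
        · exact hi.trans hj.symm
        · exact absurd ((hA _).trans (Subtype.ext hij)) (hne _)
        · exact absurd ((hA _).trans (Subtype.ext hij).symm) (hne _)
        · by_contra hij'
          rcases share ⟨i, hi⟩ ⟨j, hj⟩ (fun h => hij' (congrArg Subtype.val h)) with h | h
          · exact h.2 (Subtype.ext hij)
          · exact h.2 ((hA _).trans (hA _).symm)
      · simp only [dite_true]
        by_cases hi : i = i₀
        · subst hi; simp [h0]
        · rw [dif_neg hi, hτ ⟨i, hi⟩, hA]; simp
    · push Not at hA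
      obtain ⟨j₁, hj₁⟩ := hA
      have hB : ∀ j, b j = b e := by
        intro j
        have hj₁e : j₁ ≠ e := fun h => hj₁ (h ▸ rfl)
        have hb₁ : b j₁ = b e := by
          rcases share j₁ e hj₁e with h | h
          · exact absurd h.1 hj₁
          · exact h.1
        by_cases hje : j = e
        · rw [hje]
        rcases share j e hje with h | h
        · exfalso
          by_cases hjj : j = j₁
          · exact hj₁ (hjj ▸ h.1)
          rcases share j j₁ hjj with h' | h'
          · exact hj₁ (h'.1.symm.trans h.1)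
          · exact h.2 (h'.1.trans hb₁)
        · exact h.1
      refine ⟨1, Or.inl rfl, fun i => if h : i = i₀ then (b e : G → ℂ) else (a ⟨i, h⟩ : G → ℂ),
        fun i => ?_, ?_, fun i => ?_⟩
      · dsimp only; split_ifs
        exacts [(b e).2, (a _).2]
      · intro i j hij
        dsimp only at hij
        split_ifs at hij with hi hj hj
        · exact hi.trans hj.symm
        · exact absurd ((Subtype.ext hij).symm.trans (hB _).symm) (hne _)
        · exact absurd ((Subtype.ext hij).trans (hB _).symm) (hne _)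
        · by_contra hij'
          rcases share ⟨i, hi⟩ ⟨j, hj⟩ (fun h => hij' (congrArg Subtype.val h)) with h | h
          · exact h.2 ((hB _).trans (hB _).symm)
          · exact h.2 (Subtype.ext hij)
      · simp only [dite_true]
        by_cases hi : i = i₀
        · subst hi; simp [h0]
        · rw [dif_neg hi, hτ ⟨i, hi⟩, hB]; simp
  · push Not at hex
    refine ⟨1, Or.inl rfl, fun _ _ => 1, fun _ => isIrrCharacter_one,
      fun i j _ => (hex i).trans (hex j).symm, fun i => ?_⟩
    rw [hex i, h0]
    simp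

end Cfsg.Agent.Char
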