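/-
Characters induced from linear characters of a normal section with a fixed-point-free action.
-/
import Cfsg.Agent.Lib.Char.Induction
import Mathlib.GroupTheory.FiniteAbelian.Duality
import Mathlib.Analysis.Complex.Polynomial.Basic

set_option autoImplicit false
set_option linter.style.haveILetI false
set_option linter.unusedSectionVars false
set_option linter.unusedSimpArgs false

namespace Cfsg.Agent.TwistFam

open Cfsg.Agent.Char
open scoped ComplexConjugate

universe u

variable {X : Type u} [Group X]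

/-- The linear characters of `R` that are trivial on `S`. -/
def ann (R S : Subgroup X) : Subgroup (R →* ℂˣ) where
  carrier := {f | ∀ r : R, (r : X) ∈ S → f r = 1}
  mul_mem' hf hg r hr := by rw [MonoidHom.mul_apply, hf r hr, hg r hr, one_mul]
  one_mem' _ _ := rfl
  inv_mem' hf r hr := by rw [MonoidHom.inv_apply, hf r hr, inv_one]

theorem mem_ann {R S : Subgroup X} {f : R →* ℂˣ} : f ∈ ann R S ↔ ∀ r : R, (r : X) ∈ S → f r = 1 := Iff.rfl

theorem ann_anti {R S S' : Subgroup X} (h : S ≤ S') : ann R S' ≤ ann R S := fun _ hf r hr => hf r (h hr)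

section dual

variable [Finite X] (R S : Subgroup X) [hS : S.Normal]

theorem exists_equiv (hab : ∀ a ∈ R, ∀ b ∈ R, a * b * a⁻¹ * b⁻¹ ∈ S) :
    ∃ (Q : Type u) (_ : CommGroup Q) (_ : Finite Q) (π : R →* Q), Function.Surjective π ∧
      (∀ r : R, π r = 1 ↔ (r : X) ∈ S) ∧ Nat.card Q = S.relIndex R ∧
      Nonempty (ann R S ≃ (Q →* ℂˣ)) := by
  let e : ann R S ≃ (R ⧸ S.subgroupOf R →* ℂˣ) :=
    { toFun := fun f => QuotientGroup.lift _ f.1 fun r hr => f.2 r (Subgroup.mem_subgroupOf.1 hr)
      invFun := fun g => ⟨g.comp (QuotientGroup.mk' _), fun r hr => by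
        rw [MonoidHom.comp_apply, show (QuotientGroup.mk' (S.subgroupOf R)) r = 1 from
          (QuotientGroup.eq_one_iff r).2 (Subgroup.mem_subgroupOf.2 hr), map_one]⟩
      left_inv := fun f => Subtype.ext (MonoidHom.ext fun r => rfl)
      right_inv := fun g => by ext r; rfl }
  refine ⟨R ⧸ S.subgroupOf R,
    { (inferInstance : Group (R ⧸ S.subgroupOf R)) with
      mul_comm := fun a b => ?_ }, inferInstance, QuotientGroup.mk' _, QuotientGroup.mk'_surjective _,
    fun r => (QuotientGroup.eq_one_iff r).trans Subgroup.mem_subgroupOf, rfl, ⟨e⟩⟩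
  induction a using QuotientGroup.induction_on with
  | _ a =>
    induction b using QuotientGroup.induction_on with
    | _ b =>
      refine (QuotientGroup.eq_iff_div_mem (N := S.subgroupOf R)).2 ?_
      show a * b / (b * a) ∈ S.subgroupOf R
      rw [Subgroup.mem_subgroupOf, div_eq_mul_inv, mul_inv_rev, Subgroup.coe_mul, Subgroup.coe_mul, Subgroup.coe_mul,
        Subgroup.coe_inv, Subgroup.coe_inv]
      simpa [mul_assoc] using hab a a.2 b b.2

variable (hab : ∀ a ∈ R, ∀ b ∈ R, a * b * a⁻¹ * b⁻¹ ∈ S)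
include hab

theorem finite_ann : Finite (ann R S) := by
  obtain ⟨Q, _, _, -, -, -, -, ⟨e⟩⟩ := exists_equiv R S hab
  haveI : Finite (Q →* ℂˣ) :=
    Finite.of_equiv _ (CommGroup.monoidHom_mulEquiv_of_hasEnoughRootsOfUnity Q ℂ).some.toEquiv.symm
  exact Finite.of_equiv _ e.symm

theorem card_ann : Nat.card (ann R S) = S.relIndex R := by
  obtain ⟨Q, _, _, -, -, -, hQ, ⟨e⟩⟩ := exists_equiv R S hab
  rw [Nat.card_congr e, ← hQ]
  exact Nat.card_congr (CommGroup.monoidHom_mulEquiv_of_hasEnoughRootsOfUnity Q ℂ).some.toEquiv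

theorem exists_ne_one {r : R} (hr : (r : X) ∉ S) : ∃ f ∈ ann R S, f r ≠ 1 := by
  obtain ⟨Q, _, _, π, -, hπ, -, -⟩ := exists_equiv R S hab
  obtain ⟨g, hg⟩ := CommGroup.exists_apply_ne_one_of_hasEnoughRootsOfUnity Q ℂ (a := π r) fun e => hr ((hπ r).1 e)
  exact ⟨g.comp π, fun r' hr' => by rw [MonoidHom.comp_apply, (hπ r').2 hr', map_one], hg⟩

theorem sum_ann [Fintype (ann R S)] (r : R) [Decidable ((r : X) ∈ S)] :
    ∑ f : ann R S, ((f : R →* ℂˣ) r : ℂ) = if (r : X) ∈ S then (S.relIndex R : ℂ) else 0 := by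
  split_ifs with hr
  · rw [Finset.sum_congr rfl fun (f : ann R S) _ => show ((f : R →* ℂˣ) r : ℂ) = 1 by rw [f.2 r hr, Units.val_one],
      Finset.sum_const, Finset.card_univ, nsmul_eq_mul, mul_one, ← Nat.card_eq_fintype_card, card_ann R S hab]
  · obtain ⟨g, hg, hgr⟩ := exists_ne_one R S hab hr
    have h : ∑ f : ann R S, ((f : R →* ℂˣ) r : ℂ) = (g r : ℂ) * ∑ f : ann R S, ((f : R →* ℂˣ) r : ℂ) := by
      rw [Finset.mul_sum]
      refine (Fintype.sum_equiv (Equiv.mulLeft (⟨g, hg⟩ : ann R S)) _ _ fun f => ?_).symm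
      simp
    have : ((g r : ℂ) - 1) * ∑ f : ann R S, ((f : R →* ℂˣ) r : ℂ) = 0 := by rw [sub_mul, one_mul, ← h, sub_self]
    rcases mul_eq_zero.1 this with h' | h'
    · exact absurd (Units.ext (sub_eq_zero.1 h')) hgr
    · exact h'

end dual

/-- The linear characters of `R` trivial on `V` and not on `T`. -/
abbrev Fam (R V T : Subgroup X) : Type u := {f : ann R V // (f : R →* ℂˣ) ∉ ann R T}

variable [Fintype X] {R V T : Subgroup X} [hR : R.Normal] [hV : V.Normal] [hT : T.Normal]

/-- The induced function of a member of the family. -/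
noncomputable def phi (f : Fam R V T) : X → ℂ := Cfsg.indFun R fun r => ((f.1.1 r : ℂˣ) : ℂ)

/-- The conjugate member. -/
def twist (x : X) (f : Fam R V T) : Fam R V T :=
  ⟨⟨f.1.1.comp (MulAut.conjNormal (H := R) x⁻¹).toMonoidHom, fun r hr => f.1.2 _ (by
    rw [MulEquiv.toMonoidHom_eq_coe, MonoidHom.coe_coe, MulAut.conjNormal_apply]
    exact hV.conj_mem _ hr _)⟩, fun h => f.2 fun r hr => by
      have := h (MulAut.conjNormal (H := R) x r) (by rw [MulAut.conjNormal_apply]; exact hT.conj_mem _ hr _)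
      simpa using this⟩

theorem twist_apply (x : X) (f : Fam R V T) (r : R) :
    (twist x f).1.1 r = f.1.1 (MulAut.conjNormal (H := R) x⁻¹ r) := rfl

theorem phi_apply (f : Fam R V T) (r : R) :
    phi f r = (Nat.card R : ℂ)⁻¹ * ∑ x : X, ((twist x f).1.1 r : ℂ) := by
  rw [phi, indFun_apply]
  congr 1
  refine Finset.sum_congr rfl fun x _ => ?_
  rw [twist_apply, extendByZero_mem R _ (x := x⁻¹ * (r : X) * x) (by simpa using hR.conj_mem _ r.2 x⁻¹)]
  congr 2
  exact Subtype.ext (by simp [MulAut.conjNormal_apply])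

theorem phi_not_mem (f : Fam R V T) {x : X} (hx : x ∉ R) : phi f x = 0 :=
  indFun_eq_zero_of_not_mem R _ hx

theorem isCharacter_phi (f : Fam R V T) : Cfsg.IsCharacter X (phi f) :=
  isCharacter_indFun R (IsIrrCharacter.isCharacter (isIrrCharacter_linear f.1.1))

theorem phi_on_V (hVR : V ≤ R) (f : Fam R V T) {v : X} (hv : v ∈ V) : phi f v = R.index := by
  rw [show v = ((⟨v, hVR hv⟩ : R) : X) from rfl, phi_apply, Finset.sum_congr rfl fun x _ =>
    show ((twist x f).1.1 ⟨v, hVR hv⟩ : ℂ) = 1 by rw [(twist x f).1.2 _ hv, Units.val_one],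
    Finset.sum_const, Finset.card_univ, nsmul_eq_mul, mul_one, ← Nat.card_eq_fintype_card,
    ← R.card_mul_index, Nat.cast_mul, ← mul_assoc, inv_mul_cancel₀ (Nat.cast_ne_zero.2 Nat.card_pos.ne'), one_mul]

theorem phi_one (hVR : V ≤ R) (f : Fam R V T) : phi f 1 = R.index := phi_on_V hVR f V.one_mem

theorem twist_twist (x z : X) (f : Fam R V T) : twist x (twist z f) = twist (x * z) f :=
  Subtype.ext (Subtype.ext (MonoidHom.ext fun r => by
    rw [twist_apply, twist_apply, twist_apply]
    exact congrArg f.1.1 (Subtype.ext (by simp [MulAut.conjNormal_apply, mul_assoc]))))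

theorem phi_twist (x : X) (f : Fam R V T) : phi (twist x f) = phi f := by
  funext g
  by_cases hg : g ∈ R
  · rw [show g = ((⟨g, hg⟩ : R) : X) from rfl, phi_apply, phi_apply]
    congr 1
    exact Fintype.sum_equiv (Equiv.mulRight x) _ _ fun z => by rw [twist_twist]; rfl
  · rw [phi_not_mem _ hg, phi_not_mem _ hg]

variable (hab : ∀ a ∈ R, ∀ b ∈ R, a * b * a⁻¹ * b⁻¹ ∈ V)
  (hVT : V ≤ T) (hTR : T ≤ R) (hfree : ∀ x : X, x ∉ R → ∀ b ∈ T, b ∉ V → x * b * x⁻¹ * b⁻¹ ∉ V)

include hab hVT hTR hfree in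
/-- The stabilizer of a member is `R`. -/
theorem twist_eq_iff (x : X) (f : Fam R V T) : twist x f = f ↔ x ∈ R := by
  constructor
  · intro he
    by_contra hx
    refine f.2 fun b hb => ?_
    let F : T ⧸ V.subgroupOf T → T ⧸ V.subgroupOf T := fun q =>
      QuotientGroup.mk (⟨x * (q.out : X) * x⁻¹ * (q.out : X)⁻¹,
        T.mul_mem (hT.conj_mem _ q.out.2 x) (T.inv_mem q.out.2)⟩ : T)
    have hinj : Function.Injective F := by
      intro p q hpq
      set a : X := (p.out : X) with ha
      set c : X := (q.out : X) with hc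
      have h1 : (x * a * x⁻¹ * a⁻¹) * (x * c * x⁻¹ * c⁻¹)⁻¹ ∈ V := by
        have := (QuotientGroup.eq_iff_div_mem (N := V.subgroupOf T)).1 hpq
        simpa only [Subgroup.mem_subgroupOf, div_eq_mul_inv, Subgroup.coe_mul, Subgroup.coe_inv] using this
      rw [← QuotientGroup.out_eq' p, ← QuotientGroup.out_eq' q, QuotientGroup.eq, Subgroup.mem_subgroupOf]
      have h2 : c⁻¹ * a ∈ V := by
        by_contra h2
        refine hfree x hx _ (T.mul_mem (T.inv_mem q.out.2) p.out.2) h2 ?_
        have := hV.conj_mem _ h1 (x * c * x⁻¹)⁻¹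
        simpa [mul_assoc] using this
      have := V.inv_mem h2
      simpa [mul_inv_rev] using this
    obtain ⟨q, hq⟩ := Finite.injective_iff_surjective.1 hinj (QuotientGroup.mk (⟨b, hb⟩ : T))
    have h3 : (x * (q.out : X) * x⁻¹ * (q.out : X)⁻¹)⁻¹ * b ∈ V := by
      simpa only [Subgroup.mem_subgroupOf, Subgroup.coe_mul, Subgroup.coe_inv] using QuotientGroup.eq.1 hq
    set c : R := ⟨(q.out : X), hTR q.out.2⟩ with hc
    have hb' : b = MulAut.conjNormal (H := R) x c * c⁻¹ *
        ⟨(x * (q.out : X) * x⁻¹ * (q.out : X)⁻¹)⁻¹ * b, hTR (hVT h3)⟩ :=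
      Subtype.ext (by simp [MulAut.conjNormal_apply, hc, mul_assoc])
    have he' : f.1.1 (MulAut.conjNormal (H := R) x c) = f.1.1 c := by
      have := DFunLike.congr_fun (congrArg (fun g : Fam R V T => g.1.1) he) (MulAut.conjNormal (H := R) x c)
      rw [twist_apply] at this
      rw [← this]
      exact congrArg f.1.1 (Subtype.ext (by simp [MulAut.conjNormal_apply, mul_assoc]))
    rw [hb', map_mul, map_mul, he', map_inv, mul_inv_cancel, one_mul]
    exact f.1.2 _ h3
  · intro hx
    refine Subtype.ext (Subtype.ext (MonoidHom.ext fun r => ?_))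
    rw [twist_apply, show MulAut.conjNormal (H := R) x⁻¹ r = (⟨x, hx⟩ : R)⁻¹ * r * ⟨x, hx⟩ from
      Subtype.ext (by simp [MulAut.conjNormal_apply]), map_mul, map_mul, map_inv, mul_right_comm, inv_mul_cancel, one_mul]

theorem classInner_phi [Fintype R] (f g : Fam R V T) [DecidableEq (Fam R V T)] :
    Cfsg.classInner (phi f) (phi g) =
      (Nat.card R : ℂ)⁻¹ * ((Finset.univ : Finset X).filter fun x => twist x f = g).card := by
  classical
  rw [phi, phi, classInner_indFun_left R _ (isClassFunction_indFun R _)]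
  rw [← phi]
  have h : (fun r : R => phi g r) = (Nat.card R : ℂ)⁻¹ • ∑ x : X, fun r : R => ((twist x g).1.1 r : ℂ) := by
    funext r
    simp [phi_apply, Finset.sum_apply]
  show Cfsg.classInner _ (fun r : R => phi g r) = _
  rw [h, classInner_smul_right, map_inv₀, map_natCast, classInner_sum_right]
  congr 1
  rw [Finset.card_filter, Nat.cast_sum]
  refine Fintype.sum_equiv (Equiv.inv X) _ _ fun x => ?_
  rw [classInner_irr (isIrrCharacter_linear _) (isIrrCharacter_linear _)]
  simp only [Equiv.inv_apply]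
  by_cases hc : twist x⁻¹ f = g
  · rw [if_pos hc, Nat.cast_one, if_pos]
    rw [← hc, twist_twist, mul_inv_cancel]
    funext r
    rw [twist_apply]
    congr 2
    exact Subtype.ext (by simp [MulAut.conjNormal_apply])
  · rw [if_neg hc, Nat.cast_zero, if_neg]
    intro e
    refine hc ?_
    have e' : twist x g = f := Subtype.ext (Subtype.ext (MonoidHom.ext fun r => Units.ext (congrFun e r).symm))
    rw [← e', twist_twist, inv_mul_cancel]
    refine Subtype.ext (Subtype.ext (MonoidHom.ext fun r => ?_))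
    rw [twist_apply]
    exact congrArg g.1.1 (Subtype.ext (by simp [MulAut.conjNormal_apply]))

include hab hVT hTR hfree in
theorem card_twist_filter [DecidableEq (Fam R V T)] (f : Fam R V T) (x₀ : X) :
    ((Finset.univ : Finset X).filter fun x => twist x f = twist x₀ f).card = Nat.card R := by
  classical
  rw [Nat.card_eq_fintype_card]
  refine (Finset.card_bij (fun (r : R) _ => x₀ * (r : X)) (fun r _ => ?_) (fun r _ s _ e => ?_) fun x hx => ?_).symm
  · rw [Finset.mem_filter, ← twist_twist, (twist_eq_iff hab hVT hTR hfree _ f).2 r.2]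
    exact ⟨Finset.mem_univ _, rfl⟩
  · exact Subtype.ext (mul_left_cancel e)
  · have he := (Finset.mem_filter.1 hx).2
    refine ⟨⟨x₀⁻¹ * x, (twist_eq_iff hab hVT hTR hfree _ f).1 ?_⟩, Finset.mem_univ _, by simp⟩
    rw [← twist_twist, he, twist_twist, inv_mul_cancel]
    exact (twist_eq_iff hab hVT hTR hfree _ f).2 R.one_mem

include hab hVT hTR hfree in
/-- The induced characters are orthonormal. -/
theorem gram (f g : Fam R V T) [Decidable (phi f = phi g)] :
    Cfsg.classInner (phi f) (phi g) = if phi f = phi g then 1 else 0 := by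
  classical
  have hself : ∀ f : Fam R V T, Cfsg.classInner (phi f) (phi f) = 1 := fun f => by
    rw [classInner_phi, show (Finset.univ.filter fun x : X => twist x f = f) =
      Finset.univ.filter fun x : X => twist x f = twist 1 f by
        rw [(twist_eq_iff hab hVT hTR hfree 1 f).2 R.one_mem],
      card_twist_filter hab hVT hTR hfree, inv_mul_cancel₀ (Nat.cast_ne_zero.2 Nat.card_pos.ne')]
  split_ifs with h
  · rw [← h]
    exact hself f
  · rw [classInner_phi, Finset.card_eq_zero.2, Nat.cast_zero, mul_zero]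
    refine Finset.filter_eq_empty_iff.2 fun x _ e => h ?_
    rw [← e, phi_twist]

include hab hVT hTR hfree in
theorem card_fibre [Fintype (Fam R V T)] (f : Fam R V T) [DecidablePred fun g : Fam R V T => phi f = phi g] :
    ((Finset.univ : Finset (Fam R V T)).filter fun g => phi f = phi g).card = R.index := by
  classical
  have h1 : (Finset.univ : Finset (Fam R V T)).filter (fun g => phi f = phi g) =
      (Finset.univ : Finset X).image fun x => twist x f := by
    ext g
    simp only [Finset.mem_filter, Finset.mem_univ, true_and, Finset.mem_image]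
    refine ⟨fun e => ?_, fun ⟨x, hx⟩ => by rw [← hx, phi_twist]⟩
    by_contra hne
    have := classInner_phi f g
    rw [gram hab hVT hTR hfree, if_pos e, Finset.card_eq_zero.2, Nat.cast_zero, mul_zero] at this
    · exact one_ne_zero this
    · exact Finset.filter_eq_empty_iff.2 fun x _ hx => hne ⟨x, hx⟩
  have h2 : (Finset.univ : Finset X).card =
      ((Finset.univ : Finset X).image fun x => twist x f).card * Nat.card R := by
    rw [Finset.card_eq_sum_card_image (fun x => twist x f), Finset.sum_congr rfl fun g hg => ?_, Finset.sum_const, smul_eq_mul]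
    obtain ⟨x₀, -, rfl⟩ := Finset.mem_image.1 hg
    exact card_twist_filter hab hVT hTR hfree f x₀
  rw [Finset.card_univ, ← Nat.card_eq_fintype_card, ← R.index_mul_card] at h2
  rw [h1]
  exact (mul_right_cancel₀ (Nat.card_pos (α := R)).ne' h2).symm

include hab hVT in
theorem card_fam [Fintype (Fam R V T)] :
    (Fintype.card (Fam R V T) : ℂ) = (V.relIndex R : ℂ) - (T.relIndex R : ℂ) := by
  classical
  have habT : ∀ a ∈ R, ∀ b ∈ R, a * b * a⁻¹ * b⁻¹ ∈ T := fun a ha b hb => hVT (hab a ha b hb)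
  haveI := finite_ann R V hab
  haveI := finite_ann R T habT
  letI := Fintype.ofFinite (ann R V)
  have h : Nat.card {f : ann R V // (f : R →* ℂˣ) ∈ ann R T} + Nat.card (Fam R V T) = Nat.card (ann R V) := by
    rw [← Nat.card_sum]
    exact Nat.card_congr (Equiv.sumCompl _)
  rw [show Nat.card {f : ann R V // (f : R →* ℂˣ) ∈ ann R T} = T.relIndex R from
    (Nat.card_congr (Subgroup.subgroupOfEquivOfLe (ann_anti hVT)).toEquiv).trans (card_ann R T habT),
    card_ann R V hab, Nat.card_eq_fintype_card] at h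
  rw [← h]
  push_cast
  ring

include hab hVT in
theorem sum_phi [Fintype (Fam R V T)] {y : R} (hyT : (y : X) ∈ T) (hyV : (y : X) ∉ V) :
    ∑ f : Fam R V T, phi f y = -((R.index : ℂ) * (T.relIndex R : ℂ)) := by
  classical
  have habT : ∀ a ∈ R, ∀ b ∈ R, a * b * a⁻¹ * b⁻¹ ∈ T := fun a ha b hb => hVT (hab a ha b hb)
  haveI := finite_ann R V hab
  haveI := finite_ann R T habT
  letI := Fintype.ofFinite (ann R V)
  letI := Fintype.ofFinite (ann R T)
  have key : ∀ r : R, (r : X) ∈ T → (r : X) ∉ V → ∑ f : Fam R V T, (f.1.1 r : ℂ) = -(T.relIndex R : ℂ) := by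
    intro r hrT hrV
    have h := Fintype.sum_subtype_add_sum_subtype (fun f : ann R V => (f : R →* ℂˣ) ∈ ann R T)
      fun f : ann R V => ((f : R →* ℂˣ) r : ℂ)
    let e : {f : ann R V // (f : R →* ℂˣ) ∈ ann R T} ≃ ann R T :=
      { toFun := fun f => ⟨f.1.1, f.2⟩
        invFun := fun f => ⟨⟨f.1, ann_anti hVT f.2⟩, f.2⟩
        left_inv := fun f => rfl
        right_inv := fun f => rfl }
    have hT' : ∑ f : {f : ann R V // (f : R →* ℂˣ) ∈ ann R T}, ((f.1 : R →* ℂˣ) r : ℂ) = (T.relIndex R : ℂ) := by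
      refine (Fintype.sum_equiv e _ (fun f : ann R T => ((f : R →* ℂˣ) r : ℂ)) fun f => rfl).trans ?_
      rw [sum_ann R T habT r, if_pos hrT]
    rw [sum_ann R V hab r, if_neg hrV, hT'] at h
    have h' : ∑ f : Fam R V T, (f.1.1 r : ℂ) =
        ∑ f : {f : ann R V // ¬ (f : R →* ℂˣ) ∈ ann R T}, ((f.1 : R →* ℂˣ) r : ℂ) :=
      Fintype.sum_equiv (Equiv.refl _) _ _ fun f => rfl
    rw [h']
    convert eq_neg_of_add_eq_zero_right h
  simp only [phi_apply]
  rw [← Finset.mul_sum, Finset.sum_comm, Finset.sum_congr rfl fun x _ =>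
    show ∑ f : Fam R V T, ((twist x f).1.1 y : ℂ) = -(T.relIndex R : ℂ) by
      simp only [twist_apply]
      exact key _ (by rw [MulAut.conjNormal_apply]; exact hT.conj_mem _ hyT _) fun hc => hyV (by
        rw [MulAut.conjNormal_apply] at hc
        simpa [mul_assoc] using hV.conj_mem _ hc x),
    Finset.sum_const, Finset.card_univ, nsmul_eq_mul, ← Nat.card_eq_fintype_card, ← R.card_mul_index, Nat.cast_mul,
    ← mul_assoc, ← mul_assoc, inv_mul_cancel₀ (Nat.cast_ne_zero.2 Nat.card_pos.ne'), one_mul, mul_neg]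

end Cfsg.Agent.TwistFam
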