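import Cfsg.Agent.Lib.Char.GaloisRat
import Mathlib.LinearAlgebra.Trace
import Mathlib.RingTheory.RootsOfUnity.Complex

/-!
# Averaged character values are algebraic integers; lower bounds for their Galois averages
-/

set_option linter.style.haveILetI false

namespace Cfsg.Agent.CharProj

open Cfsg.Agent.Char
open scoped ComplexConjugate

universe u

variable {G : Type u} [Group G] [Finite G]

/-- Geometric sums of an element of finite order are fixed by it. -/
theorem mul_geom {A : Type*} [Ring A] {u : A} {t : ℕ} (h : u ^ t = 1) :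
    u * ∑ k ∈ Finset.range t, u ^ k = ∑ k ∈ Finset.range t, u ^ k := by
  rw [Finset.mul_sum, Finset.sum_congr rfl fun k _ => (pow_succ' u k).symm]
  rcases t with _ | t
  · simp
  rw [Finset.sum_range_succ, h, Finset.sum_range_succ' (fun k => u ^ k), pow_zero]

/-- The average of an element of finite order is idempotent. -/
theorem idem_geom {A : Type*} [Ring A] [Algebra ℂ A] {u : A} {t : ℕ} (ht : t ≠ 0) (h : u ^ t = 1) :
    IsIdempotentElem ((t : ℂ)⁻¹ • ∑ k ∈ Finset.range t, u ^ k) := by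
  have hpow : ∀ k : ℕ, u ^ k * ∑ l ∈ Finset.range t, u ^ l = ∑ l ∈ Finset.range t, u ^ l := by
    intro k
    induction k with
    | zero => rw [pow_zero, one_mul]
    | succ k ih => rw [pow_succ, mul_assoc, mul_geom h, ih]
  rw [IsIdempotentElem, smul_mul_smul_comm, Finset.sum_mul, Finset.sum_congr rfl fun k _ => hpow k,
    Finset.sum_const, Finset.card_range, ← Nat.cast_smul_eq_nsmul ℂ, smul_smul, mul_assoc,
    inv_mul_cancel₀ (Nat.cast_ne_zero.2 ht), mul_one]

/-- Averages `|R|⁻¹ t⁻¹ ∑ ζ ^ k χ (y ^ k r h)` are algebraic integers. -/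
theorem isIntegral_proj {χ : G → ℂ} (hχ : Cfsg.IsCharacter G χ) {y h : G} {t : ℕ} (ht : t ≠ 0)
    (hy : y ^ t = 1) (R : Subgroup G) [Fintype R] (hyR : y ∈ Subgroup.normalizer (R : Set G))
    (hhR : ∀ r ∈ R, Commute h r) (hhy : Commute h y) {ζ : ℂ} (hζ : ζ ^ t = 1) :
    IsIntegral ℤ ((t : ℂ)⁻¹ * ∑ k ∈ Finset.range t, ζ ^ k *
      ((Nat.card R : ℂ)⁻¹ * ∑ r : R, χ (y ^ k * (r : G) * h))) := by
  classical
  obtain ⟨n, ρ, rfl⟩ := hχ
  set u : Module.End ℂ (Fin n → ℂ) := ζ • ρ y with hu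
  set Py := (t : ℂ)⁻¹ • ∑ k ∈ Finset.range t, u ^ k with hPy
  set PR : Module.End ℂ (Fin n → ℂ) := (Nat.card R : ℂ)⁻¹ • ∑ r : R, ρ (r : G) with hPR
  set T := ρ h with hT
  have hR0 : (Nat.card R : ℂ) ≠ 0 := Nat.cast_ne_zero.2 Nat.card_pos.ne'
  have hut : u ^ t = 1 := by rw [hu, smul_pow, hζ, ← map_pow, hy, map_one, one_smul]
  have hyi : IsIdempotentElem Py := idem_geom ht hut
  have hRmul : ∀ s : R, ρ (s : G) * ∑ r : R, ρ (r : G) = ∑ r : R, ρ (r : G) := fun s => by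
    rw [Finset.mul_sum]
    exact Fintype.sum_equiv (Equiv.mulLeft s) _ _ fun r => by simp [map_mul]
  have hRi : IsIdempotentElem PR := by
    rw [IsIdempotentElem, hPR, smul_mul_smul_comm, Finset.sum_mul, Finset.sum_congr rfl fun s _ => hRmul s,
      Finset.sum_const, Finset.card_univ, ← Nat.card_eq_fintype_card, ← Nat.cast_smul_eq_nsmul ℂ, smul_smul,
      mul_assoc, inv_mul_cancel₀ hR0, mul_one]
  have hyPR : Commute (ρ y) PR := by
    refine Commute.smul_right ?_ _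
    show ρ y * _ = _ * ρ y
    rw [Finset.mul_sum, Finset.sum_mul]
    let e : R ≃ R :=
      { toFun := fun r => ⟨y * r * y⁻¹, (Subgroup.mem_normalizer_iff.1 hyR _).1 r.2⟩
        invFun := fun r => ⟨y⁻¹ * r * y, by
          have := (Subgroup.mem_normalizer_iff.1 (inv_mem hyR) _).1 r.2
          rwa [inv_inv] at this⟩
        left_inv := fun r => Subtype.ext (by simp [mul_assoc])
        right_inv := fun r => Subtype.ext (by simp [mul_assoc]) }
    refine Fintype.sum_equiv e _ _ fun r => ?_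
    rw [← map_mul, ← map_mul]
    exact congrArg ρ (show y * (r : G) = y * r * y⁻¹ * y by group)
  have hcyR : Commute Py PR := by
    refine (Commute.sum_left _ _ _ fun k _ => ?_).smul_left _
    exact (hyPR.smul_left ζ).pow_left k
  have hPi : IsIdempotentElem (Py * PR) := hyi.mul_of_commute hcyR hRi
  have hTy : Commute T Py := by
    refine (Commute.sum_right _ _ _ fun k _ => ?_).smul_right _
    refine (Commute.smul_right ?_ _).pow_right k
    exact hhy.map ρ
  have hTR : Commute T PR :=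
    (Commute.sum_right _ _ _ fun (r : R) _ => (hhR r r.2).map ρ).smul_right _
  set P := Py * PR with hP
  have hTP : Commute T P := hTy.mul_right hTR
  set Z := Subgroup.zpowers h
  have hZP : ∀ z : Z, Commute (ρ (z : G)) P := fun ⟨z, hz⟩ => by
    obtain ⟨i, rfl⟩ := Subgroup.mem_zpowers_iff.1 hz
    refine Commute.mul_right ?_ ?_
    · refine (Commute.sum_right _ _ _ fun k _ => ?_).smul_right _
      exact (Commute.smul_right ((hhy.zpow_left i).map ρ) _).pow_right k
    · exact (Commute.sum_right _ _ _ fun (r : R) _ => ((hhR r r.2).zpow_left i).map ρ).smul_right _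
  let W : Subrepresentation (ρ.comp Z.subtype) :=
    ⟨LinearMap.range P, fun z v hv => by
      obtain ⟨w, rfl⟩ := hv
      exact ⟨ρ (z : G) w, (LinearMap.congr_fun (hZP z).eq w).symm⟩⟩
  have key : LinearMap.trace ℂ _ (T * P) =
      W.toRepresentation.character ⟨h, Subgroup.mem_zpowers h⟩ := by
    rw [Module.End.mul_eq_comp,
      show T ∘ₗ P = (T ∘ₗ W.toSubmodule.subtype) ∘ₗ P.rangeRestrict from rfl, LinearMap.trace_comp_comm']
    refine congrArg (LinearMap.trace ℂ _) (LinearMap.ext fun v => Subtype.ext ?_)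
    obtain ⟨w, hw⟩ := v.2
    show P (T (v : Fin n → ℂ)) = T (v : Fin n → ℂ)
    rw [← hw]
    have h1 := LinearMap.congr_fun hTP.eq (P w)
    have h2 := LinearMap.congr_fun hPi.eq w
    simp only [Module.End.mul_apply] at h1 h2
    rw [← h1, h2]
  have hcalc : LinearMap.trace ℂ _ (T * P) = (t : ℂ)⁻¹ * ∑ k ∈ Finset.range t, ζ ^ k *
      ((Nat.card R : ℂ)⁻¹ * ∑ r : R, ρ.character (y ^ k * (r : G) * h)) := by
    rw [hP, hPy, hPR, smul_mul_smul_comm, mul_smul_comm, map_smul, smul_eq_mul, Finset.sum_mul,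
      Finset.mul_sum, map_sum, mul_assoc, Finset.mul_sum]
    congr 1
    refine Finset.sum_congr rfl fun k _ => ?_
    rw [Finset.mul_sum, Finset.mul_sum, map_sum, Finset.mul_sum, Finset.mul_sum, Finset.mul_sum]
    refine Finset.sum_congr rfl fun r _ => ?_
    rw [hu, smul_pow, smul_mul_assoc, mul_smul_comm, map_smul, smul_eq_mul, ← map_pow ρ, hT, ← map_mul ρ,
      ← map_mul ρ, show h * (y ^ k * (r : G)) = y ^ k * (r : G) * h from
        ((hhy.pow_right k).mul_right (hhR r r.2)).eq, Representation.character]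
    ring
  rw [← hcalc, key]
  exact isIntegral_char _ _

/-- A Galois-stable family of algebraic integers is no closer to a rational number than the integers are. -/
theorem average_lower {Γ : Type*} [CommGroup Γ] [Fintype Γ] (f : Γ → ℂ) (hint : ∀ j, IsIntegral ℤ (f j))
    (hσ : ∀ σ : ℂ ≃+* ℂ, ∃ i : Γ, ∀ j, σ (f j) = f (i * j))
    (hτ : ∀ i : Γ, ∃ σ : ℂ ≃+* ℂ, ∀ j, σ (f j) = f (i * j))
    {ε δ : ℝ} (h0 : 0 ≤ δ) (hhalf : δ ≤ 1 / 2) (hdist : ∀ m : ℤ, δ ≤ |(m : ℝ) + ε|) :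
    (Fintype.card Γ : ℝ) * δ ^ 2 ≤ ∑ j, ‖f j + (ε : ℂ)‖ ^ 2 := by
  classical
  by_cases hc : ∀ j, f j = f 1
  · have hfix : ∀ σ : ℂ ≃+* ℂ, σ (f 1) = f 1 := fun σ => by
      obtain ⟨i, hi⟩ := hσ σ
      rw [hi 1, mul_one, hc]
    obtain ⟨q, hq⟩ := CharGalois.eq_rat_of_fixed (hint 1) hfix
    obtain ⟨m, rfl⟩ := exists_int_of_isIntegral (hq ▸ hint 1)
    have : ∀ j : Γ, δ ^ 2 ≤ ‖f j + (ε : ℂ)‖ ^ 2 := fun j => by
      rw [hc j, hq, Rat.cast_intCast, ← Complex.ofReal_intCast, ← Complex.ofReal_add, Complex.norm_real]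
      exact pow_le_pow_left₀ h0 (hdist m) 2
    calc (Fintype.card Γ : ℝ) * δ ^ 2 = ∑ _j : Γ, δ ^ 2 := by simp
      _ ≤ _ := Finset.sum_le_sum fun j _ => this j
  push Not at hc
  obtain ⟨i, hi⟩ := hc
  have hne : ∀ j ∈ (Finset.univ : Finset Γ), f j - f (i * j) ≠ 0 := fun j _ h => by
    obtain ⟨σ, hσ'⟩ := hτ j⁻¹
    have h' := congrArg σ (sub_eq_zero.1 h)
    rw [hσ', hσ', inv_mul_cancel, mul_comm i j, ← mul_assoc, inv_mul_cancel, one_mul] at h'
    exact hi h'.symm
  have h1 := CharGalois.card_le_sum_normSq Finset.univ (fun j => f j - f (i * j))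
    (fun j _ => (hint j).sub (hint _)) hne fun σ => by
      obtain ⟨k, hk⟩ := hσ σ
      rw [map_prod]
      refine Fintype.prod_equiv (Equiv.mulLeft k) _ _ fun j => ?_
      rw [map_sub, hk, hk, Equiv.coe_mulLeft, mul_left_comm]
  have h2 : ∀ j, ‖f j - f (i * j)‖ ^ 2 ≤ 2 * ‖f j + (ε : ℂ)‖ ^ 2 + 2 * ‖f (i * j) + (ε : ℂ)‖ ^ 2 := fun j => by
    have := norm_sub_le (f j + (ε : ℂ)) (f (i * j) + (ε : ℂ))
    rw [add_sub_add_right_eq_sub] at this
    nlinarith [norm_nonneg (f j - f (i * j)), sq_nonneg (‖f j + (ε : ℂ)‖ - ‖f (i * j) + (ε : ℂ)‖)]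
  have h3 : ∑ j, ‖f (i * j) + (ε : ℂ)‖ ^ 2 = ∑ j, ‖f j + (ε : ℂ)‖ ^ 2 :=
    Fintype.sum_equiv (Equiv.mulLeft i) _ _ fun j => rfl
  have h4 := h1.trans (Finset.sum_le_sum fun j _ => h2 j)
  rw [Finset.sum_add_distrib, ← Finset.mul_sum, ← Finset.mul_sum, h3, Finset.card_univ] at h4
  have hsq : δ ^ 2 ≤ 1 / 4 := by nlinarith
  nlinarith [mul_le_mul_of_nonneg_left hsq (Nat.cast_nonneg (α := ℝ) (Fintype.card Γ))]

/-- Parseval for the cyclic group of order `t`. -/
theorem parseval {t : ℕ} (ht : t ≠ 0) {ω : ℂ} (hω : IsPrimitiveRoot ω t) (u : ℕ → ℂ) :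
    ∑ a ∈ Finset.range t, ‖∑ k ∈ Finset.range t, ω ^ (a * k) * u k‖ ^ 2 =
      (t : ℝ) * ∑ k ∈ Finset.range t, ‖u k‖ ^ 2 := by
  have hω0 : ω ≠ 0 := hω.ne_zero ht
  have hconj : conj ω = ω⁻¹ := (Complex.inv_eq_conj (norm_eq_one_of_pow ht hω.pow_eq_one)).symm
  have orth : ∀ k ∈ Finset.range t, ∀ l ∈ Finset.range t,
      ∑ a ∈ Finset.range t, ω ^ (a * k) * conj (ω ^ (a * l)) = if k = l then (t : ℂ) else 0 := by
    intro k hk l hl
    have e : ∀ a : ℕ, ω ^ (a * k) * conj (ω ^ (a * l)) = (ω ^ k * (ω ^ l)⁻¹) ^ a := fun a => by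
      rw [map_pow, hconj, mul_pow, ← pow_mul, inv_pow, inv_pow, ← pow_mul, mul_comm a k, mul_comm a l]
    simp only [e]
    split_ifs with hkl
    · rw [hkl, mul_inv_cancel₀ (pow_ne_zero _ hω0)]
      simp
    · have hne : ω ^ k * (ω ^ l)⁻¹ ≠ 1 := fun h => hkl
        (hω.pow_inj (Finset.mem_range.1 hk) (Finset.mem_range.1 hl)
          ((mul_inv_eq_one₀ (pow_ne_zero _ hω0)).1 h))
      rw [geom_sum_eq hne, mul_pow, ← pow_mul, inv_pow, ← pow_mul, mul_comm k, mul_comm l, pow_mul, pow_mul,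
        hω.pow_eq_one, one_pow, one_pow]
      simp
  apply Complex.ofReal_injective
  push_cast
  simp only [← Complex.mul_conj', map_sum, map_mul, Finset.sum_mul, Finset.mul_sum]
  rw [Finset.sum_comm]
  refine Finset.sum_congr rfl fun k hk => ?_
  rw [Finset.sum_comm]
  calc ∑ l ∈ Finset.range t, ∑ a ∈ Finset.range t,
        ω ^ (a * l) * u l * (conj (ω ^ (a * k)) * conj (u k))
      = ∑ l ∈ Finset.range t, (u l * conj (u k)) * (if l = k then (t : ℂ) else 0) := by
        refine Finset.sum_congr rfl fun l hl => ?_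
        rw [← orth l hl k hk, Finset.mul_sum]
        exact Finset.sum_congr rfl fun a _ => by ring
    _ = (t : ℂ) * (u k * conj (u k)) := by
        simp [mul_ite, Finset.sum_ite_eq', hk]
        ring

end Cfsg.Agent.CharProj
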