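import Cfsg.Agent.Lib.Char.Fixed
import Cfsg.Agent.Lib.Char.Induction
import Cfsg.Prelude.Def_OddOrderChar
import Mathlib.GroupTheory.SemidirectProduct

/-!
# The Dade set-up: master counting identity and the Dade map
-/

set_option linter.style.haveILetI false
set_option linter.unusedSectionVars false

namespace Cfsg.Agent.Char.Dade

open scoped ComplexConjugate Classical Pointwise
open Cfsg

universe u w

variable {G : Type u} [Group G] [Fintype G]
variable {A : Set G} {L : Subgroup G} {H : G → Subgroup G}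

/-- The subgroup as a finset. -/
noncomputable def fin (K : Subgroup G) : Finset G := Finset.univ.filter (· ∈ K)

@[simp] theorem mem_fin {K : Subgroup G} {x : G} : x ∈ fin K ↔ x ∈ K := by simp [fin]

theorem card_fin (K : Subgroup G) : (fin K).card = Nat.card K := by
  rw [Nat.subtype_card (fin K)]
  simp

/-- The support of the Dade map. -/
noncomputable def coset (H : G → Subgroup G) (a : G) : Finset G :=
  Finset.univ.filter fun g => ∃ u ∈ H a, ∃ x : G, x * g * x⁻¹ = a * u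

theorem mem_coset {a g : G} :
    g ∈ coset H a ↔ ∃ u ∈ H a, ∃ x : G, x * g * x⁻¹ = a * u := by simp [coset]

variable (hD : Cfsg.DadeHypothesis A L H)
include hD

theorem mem_CL {a : G} (ha : a ∈ A) :
    a ∈ L ⊓ Subgroup.centralizer ({a} : Set G) :=
  ⟨hD.subset ha, Subgroup.mem_centralizer_singleton_iff.mpr rfl⟩

theorem commute_H {a u : G} (ha : a ∈ A) (hu : u ∈ H a) : Commute a u :=
  (Subgroup.mem_centralizer_singleton_iff.mp (hD.le_centralizer a ha hu)).symm

theorem exists_decomp {a c : G} (ha : a ∈ A) (hc : c ∈ Subgroup.centralizer ({a} : Set G)) :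
    ∃ h ∈ H a, ∃ d ∈ L ⊓ Subgroup.centralizer ({a} : Set G), c = h * d := by
  have hn : L ⊓ Subgroup.centralizer ({a} : Set G) ≤ Subgroup.normalizer (H a : Set G) := by
    intro d hd
    rw [Subgroup.mem_normalizer_iff]
    intro u
    refine ⟨fun hu => hD.conj_mem_H a ha d hd.2 u hu, fun hu => ?_⟩
    have := hD.conj_mem_H a ha d⁻¹ (Subgroup.inv_mem _ hd.2) _ hu
    simpa [mul_assoc] using this
  have e : (c : G) ∈ (↑(H a ⊔ (L ⊓ Subgroup.centralizer ({a} : Set G))) : Set G) := by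
    rw [hD.sup_eq a ha]; exact hc
  rw [sup_comm, Subgroup.coe_mul_of_left_le_normalizer_right _ _ hn] at e
  obtain ⟨d, hd, h, hh, rfl⟩ := Set.mem_mul.mp e
  exact ⟨d * h * d⁻¹, hD.conj_mem_H a ha d hd.2 h hh, d, hd, by group⟩

theorem mem_of_coprime {a u : G} (ha : a ∈ A) (hu : u ∈ Subgroup.centralizer ({a} : Set G))
    (hcop : Nat.Coprime (orderOf u) (Nat.card ↥(L ⊓ Subgroup.centralizer ({a} : Set G)))) :
    u ∈ H a := by
  obtain ⟨h, hh, d, hd, rfl⟩ := exists_decomp hD ha hu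
  have hnorm : d ∈ Subgroup.normalizer (H a : Set G) := by
    rw [Subgroup.mem_normalizer_iff]
    intro u
    refine ⟨fun hu => hD.conj_mem_H a ha d hd.2 u hu, fun hu => ?_⟩
    have := hD.conj_mem_H a ha d⁻¹ (Subgroup.inv_mem _ hd.2) _ hu
    simpa [mul_assoc] using this
  obtain ⟨h', hh', e⟩ := exists_pow_coset hnorm hh (orderOf (h * d))
  rw [pow_orderOf_eq_one] at e
  have hmem : d ^ orderOf (h * d) ∈ H a ⊓ (L ⊓ Subgroup.centralizer ({a} : Set G)) :=
    ⟨by rw [show d ^ orderOf (h * d) = h'⁻¹ from (inv_eq_of_mul_eq_one_right e.symm).symm]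
        exact (H a).inv_mem hh', Subgroup.pow_mem _ hd _⟩
  rw [hD.inf_eq_bot a ha, Subgroup.mem_bot] at hmem
  have h1 : orderOf d ∣ orderOf (h * d) := orderOf_dvd_of_pow_eq_one hmem
  have h2 : orderOf d ∣ Nat.card ↥(L ⊓ Subgroup.centralizer ({a} : Set G)) :=
    Subgroup.orderOf_dvd_natCard _ hd
  have h3 := Nat.dvd_one.mp (hcop ▸ Nat.dvd_gcd h1 h2)
  rw [orderOf_eq_one_iff] at h3
  simpa [h3] using hh

theorem conj_H {a x u : G} (ha : a ∈ A) (hx : x ∈ L) (hu : u ∈ H a) :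
    x * u * x⁻¹ ∈ H (x * a * x⁻¹) := by
  have hb := hD.conj_mem x hx a ha
  refine mem_of_coprime hD hb ?_ ?_
  · rw [Subgroup.mem_centralizer_singleton_iff]
    have := (commute_H hD ha hu).eq
    calc x * u * x⁻¹ * (x * a * x⁻¹) = x * (u * a) * x⁻¹ := by group
      _ = x * (a * u) * x⁻¹ := by rw [this]
      _ = _ := by group
  · refine (hD.coprime a ha _ hb).coprime_dvd_left ?_
    rw [show x * u * x⁻¹ = MulAut.conj x u from rfl, MulEquiv.orderOf_eq]
    exact Subgroup.orderOf_dvd_natCard _ hu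

theorem map_conj_H {a x : G} (ha : a ∈ A) (hx : x ∈ L) :
    H (x * a * x⁻¹) = (H a).map (MulAut.conj x).toMonoidHom := by
  ext w
  constructor
  · intro hw
    refine ⟨x⁻¹ * w * x, ?_, by simp [mul_assoc]⟩
    have := conj_H hD (hD.conj_mem x hx a ha) (L.inv_mem hx) hw
    simp only [mul_assoc, inv_mul_cancel_left, inv_mul_cancel, mul_one, inv_inv] at this
    simpa [mul_assoc] using this
  · rintro ⟨u, hu, rfl⟩
    exact conj_H hD ha hx hu

/-- Taking the `π`-part sends `a * u` to `a`. -/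
theorem extract {a b u v g : G} (ha : a ∈ A) (hb : b ∈ A) (hu : u ∈ H a) (hv : v ∈ H b)
    (e : g * (a * u) * g⁻¹ = b * v) : g * a * g⁻¹ = b := by
  set CL := fun c : G => Nat.card ↥(L ⊓ Subgroup.centralizer ({c} : Set G))
  set e1 := CL a * CL b with he1
  set e2 := Nat.card (H a) * Nat.card (H b) with he2
  have hcop : Nat.Coprime e1 e2 :=
    (Nat.Coprime.mul_left
      (Nat.Coprime.mul_right (hD.coprime a ha a ha).symm (hD.coprime b hb a ha).symm)
      (Nat.Coprime.mul_right (hD.coprime a ha b hb).symm (hD.coprime b hb b hb).symm))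
  have pa : a ^ e1 = 1 := orderOf_dvd_iff_pow_eq_one.mp
    ((Subgroup.orderOf_dvd_natCard _ (mem_CL hD ha)).trans (dvd_mul_right _ _))
  have pb : b ^ e1 = 1 := orderOf_dvd_iff_pow_eq_one.mp
    ((Subgroup.orderOf_dvd_natCard _ (mem_CL hD hb)).trans (dvd_mul_left _ _))
  have pu : u ^ e2 = 1 := orderOf_dvd_iff_pow_eq_one.mp
    ((Subgroup.orderOf_dvd_natCard _ hu).trans (dvd_mul_right _ _))
  have pv : v ^ e2 = 1 := orderOf_dvd_iff_pow_eq_one.mp
    ((Subgroup.orderOf_dvd_natCard _ hv).trans (dvd_mul_left _ _))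
  have := congrArg (· ^ hallExp hcop) e
  simp only [conj_pow, (commute_H hD ha hu).mul_pow, (commute_H hD hb hv).mul_pow,
    pow_hallExp_of_dvd hcop pa, pow_hallExp_of_dvd hcop pb, pow_hallExp_eq_one hcop pu,
    pow_hallExp_eq_one hcop pv, mul_one] at this
  exact this

theorem exists_conj {a b g : G} (ha : a ∈ A) (hb : b ∈ A) (hga : g ∈ coset H a)
    (hgb : g ∈ coset H b) : ∃ t ∈ L, t * a * t⁻¹ = b := by
  obtain ⟨u, hu, x, hx⟩ := mem_coset.mp hga
  obtain ⟨v, hv, y, hy⟩ := mem_coset.mp hgb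
  have := extract hD ha hb hu hv (g := y * x⁻¹)
    (by rw [← hx, ← hy]; group)
  obtain ⟨t, ht, e⟩ := hD.fusion a ha _ (by rw [this]; exact hb)
  exact ⟨t, ht, e.trans this⟩

theorem coset_conj {a g t : G} (ha : a ∈ A) (ht : t ∈ L) (hg : g ∈ coset H a) :
    g ∈ coset H (t * a * t⁻¹) := by
  obtain ⟨u, hu, x, hx⟩ := mem_coset.mp hg
  exact mem_coset.mpr ⟨_, conj_H hD ha ht hu, t * x, by
    rw [show t * x * g * (t * x)⁻¹ = t * (x * g * x⁻¹) * t⁻¹ by group, hx]; group⟩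

/-- The fibres of `(x, u) ↦ x (a u) x⁻¹`. -/
theorem card_fibre {a g : G} (ha : a ∈ A) :
    ((Finset.univ ×ˢ fin (H a)).filter fun p : G × G => p.1 * (a * p.2) * p.1⁻¹ = g).card =
      if g ∈ coset H a then Nat.card (Subgroup.centralizer ({a} : Set G)) else 0 := by
  split_ifs with hg
  · obtain ⟨u, hu, x, hx⟩ := mem_coset.mp hg
    rw [← card_fin]
    refine (Finset.card_bij (fun c _ => (x⁻¹ * c⁻¹, c * u * c⁻¹)) ?_ ?_ ?_).symm
    · intro c hc
      rw [mem_fin] at hc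
      have hca : a * c = c * a := (Subgroup.mem_centralizer_singleton_iff.mp hc).symm
      simp only [Finset.mem_filter, Finset.mem_product, Finset.mem_univ, mem_fin, true_and]
      refine ⟨hD.conj_mem_H a ha c hc u hu, ?_⟩
      calc x⁻¹ * c⁻¹ * (a * (c * u * c⁻¹)) * (x⁻¹ * c⁻¹)⁻¹
          = x⁻¹ * c⁻¹ * (a * c) * u * x := by group
        _ = x⁻¹ * (a * u) * x := by rw [hca]; group
        _ = g := by rw [← hx]; group
    · intro c _ c' _ h
      exact inv_injective (mul_left_cancel (Prod.mk.inj h).1)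
    · rintro ⟨y, w⟩ hp
      simp only [Finset.mem_filter, Finset.mem_product, Finset.mem_univ, mem_fin, true_and] at hp
      refine ⟨y⁻¹ * x⁻¹, ?_, ?_⟩
      · have e : y⁻¹ * x⁻¹ * (a * u) * (y⁻¹ * x⁻¹)⁻¹ = a * w := by
          rw [← hx, ← hp.2]; group
        have := extract hD ha ha hu hp.1 e
        rw [mem_fin, Subgroup.mem_centralizer_singleton_iff]
        calc y⁻¹ * x⁻¹ * a = y⁻¹ * x⁻¹ * a * (y⁻¹ * x⁻¹)⁻¹ * (y⁻¹ * x⁻¹) := by group
          _ = a * (y⁻¹ * x⁻¹) := by rw [this]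
      · have e : y⁻¹ * x⁻¹ * (a * u) * (y⁻¹ * x⁻¹)⁻¹ = a * w := by
          rw [← hx, ← hp.2]; group
        have h1 := extract hD ha ha hu hp.1 e
        refine Prod.ext (by simp) ?_
        refine mul_left_cancel (a := a) ?_
        calc a * (y⁻¹ * x⁻¹ * u * (y⁻¹ * x⁻¹)⁻¹)
            = y⁻¹ * x⁻¹ * a * (y⁻¹ * x⁻¹)⁻¹ * (y⁻¹ * x⁻¹ * u * (y⁻¹ * x⁻¹)⁻¹) := by rw [h1]
          _ = y⁻¹ * x⁻¹ * (a * u) * (y⁻¹ * x⁻¹)⁻¹ := by group
          _ = a * w := e
  · rw [Finset.card_eq_zero, Finset.filter_eq_empty_iff]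
    rintro ⟨y, w⟩ hp e
    simp only [Finset.mem_product, mem_fin] at hp
    exact hg (mem_coset.mpr ⟨w, hp.2, y⁻¹, by rw [← e]; group⟩)

theorem card_centralizer {a : G} (ha : a ∈ A) :
    Nat.card (Subgroup.centralizer ({a} : Set G)) =
      Nat.card (H a) * Nat.card ↥(L ⊓ Subgroup.centralizer ({a} : Set G)) := by
  rw [← Nat.card_prod]
  refine (Nat.card_eq_of_bijective (fun p : H a × ↥(L ⊓ Subgroup.centralizer ({a} : Set G)) =>
    (⟨p.1 * p.2, Subgroup.mul_mem _ (hD.le_centralizer a ha p.1.2) p.2.2.2⟩ :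
      Subgroup.centralizer ({a} : Set G))) ⟨?_, ?_⟩).symm
  · rintro ⟨h, d⟩ ⟨h', d'⟩ e
    have e' : (h : G) * d = h' * d' := congrArg Subtype.val e
    have hm : (h' : G)⁻¹ * h ∈ H a ⊓ (L ⊓ Subgroup.centralizer ({a} : Set G)) :=
      ⟨(H a).mul_mem ((H a).inv_mem h'.2) h.2, by
        rw [show (h' : G)⁻¹ * h = d' * (d : G)⁻¹ from
          eq_mul_inv_of_mul_eq (by rw [mul_assoc, e', inv_mul_cancel_left])]
        exact Subgroup.mul_mem _ d'.2 (Subgroup.inv_mem _ d.2)⟩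
    rw [hD.inf_eq_bot a ha, Subgroup.mem_bot, inv_mul_eq_one] at hm
    obtain rfl : h = h' := Subtype.ext hm.symm
    exact Prod.ext rfl (Subtype.ext (mul_left_cancel e'))
  · rintro ⟨c, hc⟩
    obtain ⟨h, hh, d, hd, rfl⟩ := exists_decomp hD ha hc
    exact ⟨(⟨h, hh⟩, ⟨d, hd⟩), rfl⟩

/-- An orbit counted with its stabilisers gives the order of `L`. -/
theorem sum_card_CL {g : G} {a₀ : G} (ha₀ : a₀ ∈ A) (hg : g ∈ coset H a₀) :
    ∑ a ∈ A.toFinset.filter (fun a => g ∈ coset H a),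
      Nat.card ↥(L ⊓ Subgroup.centralizer ({a} : Set G)) = Nat.card L := by
  rw [← card_fin L, Finset.card_eq_sum_card_fiberwise (f := fun t => t * a₀ * t⁻¹)
    (t := A.toFinset.filter (fun a => g ∈ coset H a))]
  · refine Finset.sum_congr rfl fun a ha => ?_
    rw [Finset.mem_filter, Set.mem_toFinset] at ha
    obtain ⟨t₁, ht₁, e₁⟩ := exists_conj hD ha₀ ha.1 hg ha.2
    rw [← card_fin]
    refine Finset.card_bij (fun d _ => d * t₁) ?_ (fun d _ d' _ h => mul_right_cancel h) ?_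
    · intro d hd
      rw [mem_fin] at hd
      rw [Finset.mem_filter, mem_fin]
      refine ⟨L.mul_mem hd.1 ht₁, ?_⟩
      calc d * t₁ * a₀ * (d * t₁)⁻¹ = d * (t₁ * a₀ * t₁⁻¹) * d⁻¹ := by group
        _ = a * d * d⁻¹ := by rw [e₁, Subgroup.mem_centralizer_singleton_iff.mp hd.2]
        _ = a := mul_inv_cancel_right a d
    · intro t ht
      rw [Finset.mem_filter, mem_fin] at ht
      refine ⟨t * t₁⁻¹, ?_, by simp⟩
      rw [mem_fin, Subgroup.mem_inf, Subgroup.mem_centralizer_singleton_iff]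
      refine ⟨L.mul_mem ht.1 (L.inv_mem ht₁), ?_⟩
      calc t * t₁⁻¹ * a = t * t₁⁻¹ * (t₁ * a₀ * t₁⁻¹) := by rw [e₁]
        _ = t * a₀ * t⁻¹ * (t * t₁⁻¹) := by group
        _ = a * (t * t₁⁻¹) := by rw [ht.2]
  · intro t ht
    rw [Finset.mem_coe, mem_fin] at ht
    simp only [Finset.mem_coe, Finset.mem_filter, Set.mem_toFinset]
    exact ⟨hD.conj_mem t ht a₀ ha₀, coset_conj hD ha₀ ht hg⟩

/-- The union of the conjugates of the cosets `a * H a`. -/
theorem master {K : Type w} [Field K] [CharZero K] {f : G → K}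
    (hf : ∀ g x : G, f (x * g * x⁻¹) = f g) :
    (Nat.card L : K)⁻¹ * ∑ a ∈ A.toFinset, (Nat.card (H a) : K)⁻¹ * ∑ u ∈ fin (H a), f (a * u) =
      (Nat.card G : K)⁻¹ *
        ∑ g ∈ Finset.univ.filter (fun g => ∃ a ∈ A, g ∈ coset H a), f g := by
  have hG : (Nat.card G : K) ≠ 0 := Nat.cast_ne_zero.mpr Nat.card_pos.ne'
  have hL : (Nat.card L : K) ≠ 0 := Nat.cast_ne_zero.mpr Nat.card_pos.ne'
  have step : ∀ a ∈ A.toFinset,
      (Nat.card G : K) * ((Nat.card (H a) : K)⁻¹ * ∑ u ∈ fin (H a), f (a * u)) =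
        ∑ g : G, if g ∈ coset H a then
          (Nat.card ↥(L ⊓ Subgroup.centralizer ({a} : Set G)) : K) * f g else 0 := by
    intro a ha
    rw [Set.mem_toFinset] at ha
    have hH : (Nat.card (H a) : K) ≠ 0 := Nat.cast_ne_zero.mpr Nat.card_pos.ne'
    have e1 : ∑ p ∈ Finset.univ ×ˢ fin (H a), f (p.1 * (a * p.2) * p.1⁻¹) =
        (Nat.card G : K) * ∑ u ∈ fin (H a), f (a * u) := by
      rw [Finset.sum_product]
      simp only [hf]
      rw [Finset.sum_const, Finset.card_univ, ← Nat.card_eq_fintype_card, nsmul_eq_mul]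
    rw [mul_left_comm, ← e1, ← Finset.sum_fiberwise _ (fun p : G × G => p.1 * (a * p.2) * p.1⁻¹),
      Finset.mul_sum]
    refine Finset.sum_congr rfl fun g _ => ?_
    rw [Finset.sum_congr rfl (g := fun _ => f g) (fun p hp => by
      rw [(Finset.mem_filter.mp hp).2]), Finset.sum_const, nsmul_eq_mul, card_fibre hD ha]
    split_ifs
    · rw [card_centralizer hD ha, Nat.cast_mul]
      field_simp
    · simp
  have main : (Nat.card G : K) *
      ∑ a ∈ A.toFinset, (Nat.card (H a) : K)⁻¹ * ∑ u ∈ fin (H a), f (a * u) =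
        (Nat.card L : K) * ∑ g ∈ Finset.univ.filter (fun g => ∃ a ∈ A, g ∈ coset H a), f g := by
    rw [Finset.mul_sum, Finset.sum_congr rfl step, Finset.sum_comm, Finset.mul_sum,
      Finset.sum_filter]
    refine Finset.sum_congr rfl fun g _ => ?_
    rw [← Finset.sum_filter, ← Finset.sum_mul]
    split_ifs with hg
    · obtain ⟨a₀, ha₀, hg⟩ := hg
      rw [← sum_card_CL hD ha₀ hg, Nat.cast_sum]
    · rw [Finset.sum_eq_zero fun a ha => ?_, zero_mul]
      rw [Finset.mem_filter, Set.mem_toFinset] at ha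
      exact absurd ⟨a, ha⟩ hg
  rw [inv_mul_eq_iff_eq_mul₀ hL, mul_left_comm, eq_inv_mul_iff_mul_eq₀ hG]
  exact main

/-! ## The Dade map -/

variable {α : L → ℂ}

theorem dadeIsometry_eq (hα : Cfsg.IsClassFunction L α) {a g : G} (ha : a ∈ A)
    (hg : g ∈ coset H a) : Cfsg.dadeIsometry A L H α g = α ⟨a, hD.subset ha⟩ := by
  obtain ⟨u, hu, x, hx⟩ := mem_coset.mp hg
  have hex : ∃ b : L, (b : G) ∈ A ∧ ∃ x : G, ∃ u ∈ H (b : G), x * g * x⁻¹ = (b : G) * u :=
    ⟨⟨a, hD.subset ha⟩, ha, x, u, hu, hx⟩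
  rw [Cfsg.dadeIsometry, dif_pos hex]
  obtain ⟨hb, y, v, hv, hy⟩ := Classical.choose_spec hex
  obtain ⟨t, ht, e⟩ := exists_conj hD ha hb hg (mem_coset.mpr ⟨v, hv, y, hy⟩)
  have : Classical.choose hex = ⟨t, ht⟩ * ⟨a, hD.subset ha⟩ * ⟨t, ht⟩⁻¹ :=
    Subtype.ext e.symm
  rw [this, hα]

theorem dadeIsometry_zero {g : G} (hg : ∀ a ∈ A, g ∉ coset H a) :
    Cfsg.dadeIsometry A L H α g = 0 := by
  rw [Cfsg.dadeIsometry, dif_neg]
  rintro ⟨a, ha, x, u, hu, hx⟩
  exact hg a ha (mem_coset.mpr ⟨u, hu, x, hx⟩)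

theorem coset_conj_right {a g y : G} (hg : g ∈ coset H a) : y * g * y⁻¹ ∈ coset H a := by
  obtain ⟨u, hu, x, hx⟩ := mem_coset.mp hg
  exact mem_coset.mpr ⟨u, hu, x * y⁻¹, by rw [← hx]; group⟩

theorem isClassFunction_dade (hα : Cfsg.IsClassFunction L α) :
    Cfsg.IsClassFunction G (Cfsg.dadeIsometry A L H α) := by
  intro g y
  by_cases h : ∃ a ∈ A, g ∈ coset H a
  · obtain ⟨a, ha, hg⟩ := h
    rw [dadeIsometry_eq hD hα ha hg, dadeIsometry_eq hD hα ha (coset_conj_right hD hg)]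
  · push Not at h
    rw [dadeIsometry_zero hD h, dadeIsometry_zero hD]
    intro a ha hg
    have := coset_conj_right hD (y := y⁻¹) hg
    simp [mul_assoc] at this
    exact h a ha this

theorem dadeIsometry_coset (hα : Cfsg.IsClassFunction L α) {a u : G} (ha : a ∈ A) (hu : u ∈ H a) :
    Cfsg.dadeIsometry A L H α (a * u) = α ⟨a, hD.subset ha⟩ :=
  dadeIsometry_eq hD hα ha (mem_coset.mpr ⟨u, hu, 1, by simp⟩)

/-- The Dade map is adjoint to averaging over the cosets. -/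
theorem classInner_dade (hα : Cfsg.IsClassFunction L α) {χ : G → ℂ}
    (hχ : Cfsg.IsClassFunction G χ) :
    Cfsg.classInner (Cfsg.dadeIsometry A L H α) χ =
      (Nat.card L : ℂ)⁻¹ * ∑ a ∈ A.toFinset, (Nat.card (H a) : ℂ)⁻¹ *
        ∑ u ∈ fin (H a), Cfsg.extendByZero L α a * conj (χ (a * u)) := by
  have h := master hD (f := fun g => Cfsg.dadeIsometry A L H α g * conj (χ g))
    (fun g x => by simp only [isClassFunction_dade hD hα g x, hχ g x])
  rw [Cfsg.classInner, ← Finset.sum_filter_of_ne (p := fun g => ∃ a ∈ A, g ∈ coset H a)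
    (fun g _ hne => by
      by_contra hc
      push Not at hc
      exact hne (by rw [dadeIsometry_zero hD hc, zero_mul])), ← h]
  congr 1
  refine Finset.sum_congr rfl fun a ha => ?_
  rw [Set.mem_toFinset] at ha
  congr 1
  refine Finset.sum_congr rfl fun u hu => ?_
  rw [dadeIsometry_coset hD hα ha (mem_fin.mp hu), Cfsg.extendByZero]
  congr 1
  exact (Subtype.val_injective.extend_apply α 0 ⟨a, hD.subset ha⟩).symm

theorem classInner_dade_avg [Fintype L] (hα : Cfsg.IsClassFunction L α)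
    (hαA : ∀ x : L, (x : G) ∉ A → α x = 0) {χ : G → ℂ} (hχ : Cfsg.IsClassFunction G χ)
    {ψ : L → ℂ} (hψ : ∀ a : L, (a : G) ∈ A →
      ψ a = (Nat.card (H (a : G)) : ℂ)⁻¹ * ∑ u ∈ fin (H (a : G)), χ (a * u)) :
    Cfsg.classInner (Cfsg.dadeIsometry A L H α) χ = Cfsg.classInner α ψ := by
  rw [classInner_dade hD hα hχ, Cfsg.classInner]
  congr 1
  rw [← Finset.sum_filter_of_ne (s := (Finset.univ : Finset L)) (p := fun x : L => (x : G) ∈ A)
    (fun x _ hne => by
      by_contra hc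
      exact hne (by rw [hαA x hc, zero_mul]))]
  refine (Finset.sum_nbij (fun x : L => (x : G)) ?_ ?_ ?_ ?_).symm
  · intro x hx
    simpa using hx
  · exact Subtype.val_injective.injOn
  · intro a ha
    simp only [Finset.mem_coe, Set.mem_toFinset] at ha
    exact ⟨⟨a, hD.subset ha⟩, by simpa using ha, rfl⟩
  · intro x hx
    simp only [Finset.mem_filter] at hx
    rw [hψ x hx.2, map_mul, map_inv₀, map_natCast, map_sum, Cfsg.extendByZero,
      Subtype.val_injective.extend_apply]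
    simp only [Finset.mul_sum]
    exact Finset.sum_congr rfl fun u _ => by ring

end Cfsg.Agent.Char.Dade
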