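import Cfsg.Agent.Lib.Char.PiPart
import Cfsg.Agent.Lib.Solvable.SchurZassenhaus

/-!
# Brauer's permutation lemma, fixed classes of coprime automorphisms
-/

set_option linter.style.haveILetI false
set_option linter.unusedSectionVars false

namespace Cfsg.Agent.Char

open scoped ComplexConjugate
open Cfsg.Agent.SolvBasic
open scoped Pointwise

universe u

variable {G : Type u} [Group G]

/-- Brauer's permutation lemma. -/
theorem card_fixed_irr [Finite G] (σ : G → G) (hσ : ∀ a b, IsConj a b → IsConj (σ a) (σ b))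
    (hirr : ∀ χ : G → ℂ, Cfsg.IsIrrCharacter G χ → Cfsg.IsIrrCharacter G (fun k => χ (σ k))) :
    Nat.card {χ : Cfsg.IrrCharacter G // (fun k => (χ : G → ℂ) (σ k)) = (χ : G → ℂ)} =
      Nat.card {C : ConjClasses G // ∀ g, ConjClasses.mk g = C → IsConj (σ g) g} := by
  classical
  haveI : Fintype G := Fintype.ofFinite G
  haveI : Finite (ConjClasses G) := Finite.of_surjective ConjClasses.mk ConjClasses.mk_surjective
  haveI : Fintype (ConjClasses G) := Fintype.ofFinite _
  have hne : (Nat.card G : ℂ) ≠ 0 := Nat.cast_ne_zero.mpr Nat.card_pos.ne'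
  have key : ∑ ψ : Cfsg.IrrCharacter G, ∑ k : G, (ψ : G → ℂ) (σ k) * conj ((ψ : G → ℂ) k) =
      (Nat.card G : ℂ) * (Nat.card {χ : Cfsg.IrrCharacter G //
        (fun k => (χ : G → ℂ) (σ k)) = (χ : G → ℂ)} : ℂ) := by
    rw [Nat.card_eq_fintype_card (α := {χ : Cfsg.IrrCharacter G //
        (fun k => (χ : G → ℂ) (σ k)) = (χ : G → ℂ)}), Fintype.card_subtype, ← Finset.sum_boole,
      Finset.mul_sum]
    refine Finset.sum_congr rfl fun ψ _ => ?_
    rw [← classInner_irr (hirr _ ψ.2) ψ.2, Cfsg.classInner, ← mul_assoc, mul_inv_cancel₀ hne, one_mul]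
  rw [Finset.sum_comm, ← Finset.sum_fiberwise Finset.univ ConjClasses.mk] at key
  have hcl : ∀ C : ConjClasses G, ∑ k ∈ Finset.univ.filter (fun k => ConjClasses.mk k = C),
      ∑ ψ : Cfsg.IrrCharacter G, (ψ : G → ℂ) (σ k) * conj ((ψ : G → ℂ) k) =
        if ∀ g, ConjClasses.mk g = C → IsConj (σ g) g then (Nat.card G : ℂ) else 0 := by
    intro C
    obtain ⟨g, rfl⟩ := ConjClasses.mk_surjective C
    have hset : Finset.univ.filter (fun k => ConjClasses.mk k = ConjClasses.mk g) = classFinset g := by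
      ext k
      simp only [classFinset, Finset.mem_filter, Finset.mem_univ, true_and,
        ConjClasses.mk_eq_mk_iff_isConj]
      exact isConj_comm
    rw [hset]
    split_ifs with h
    · rw [Finset.sum_congr rfl fun k hk => show _ =
          (Nat.card (Subgroup.centralizer ({g} : Set G)) : ℂ) by
        have hk' : IsConj g k := by simpa [classFinset] using hk
        rw [column_orth_of_isConj (h k (ConjClasses.mk_eq_mk_iff_isConj.mpr (IsConj.symm hk')))]
        have e1 : classFinset (σ k) = classFinset g := by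
          have hc : IsConj (σ k) g :=
            (h k (ConjClasses.mk_eq_mk_iff_isConj.mpr (IsConj.symm hk'))).trans (IsConj.symm hk')
          ext z
          simp only [classFinset, Finset.mem_filter, Finset.mem_univ, true_and]
          exact ⟨fun e => (IsConj.symm hc).trans e, fun e => hc.trans e⟩
        have e2 := congrArg Finset.card e1
        rw [card_classFinset, card_classFinset] at e2
        have e3 := Subgroup.card_mul_index (Subgroup.centralizer ({σ k} : Set G))
        rw [e2, ← Subgroup.card_mul_index (Subgroup.centralizer ({g} : Set G))] at e3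
        rw [mul_right_cancel₀ Subgroup.index_ne_zero_of_finite e3]]
      rw [Finset.sum_const, nsmul_eq_mul, card_classFinset, ← Nat.cast_mul, Subgroup.index_mul_card]
    · refine Finset.sum_eq_zero fun k hk => column_orth_of_not_isConj fun hc => h fun y hy => ?_
      have hyk : IsConj y k := (ConjClasses.mk_eq_mk_iff_isConj.mp hy).trans
        (by simpa [classFinset] using hk)
      exact (hσ _ _ hyk).trans (hc.trans (IsConj.symm hyk))
  rw [Finset.sum_congr rfl fun C _ => hcl C, ← Finset.sum_filter, Finset.sum_const, nsmul_eq_mul,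
    mul_comm] at key
  have := mul_left_cancel₀ hne key
  rw [Nat.cast_inj] at this
  rw [← this, Nat.card_eq_fintype_card, Fintype.card_subtype]

theorem eq_one_of_isConj_inv [Finite G] (hodd : Odd (Nat.card G)) {k : G} (hk : IsConj k⁻¹ k) :
    k = 1 := by
  obtain ⟨x, hx⟩ := isConj_iff.mp hk
  obtain ⟨n, hn⟩ := hodd
  have hx1 : x * k * x⁻¹ = k⁻¹ := by
    rw [← inv_inj, inv_inv]; simpa [mul_assoc] using hx
  have hx2 : x * x * k = k * (x * x) := by
    calc x * x * k = x * (x * k * x⁻¹) * x⁻¹ * (x * x) := by group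
      _ = x * k⁻¹ * x⁻¹ * (x * x) := by rw [hx1]
      _ = k * (x * x) := by rw [hx]
  have hx3 : x * k = k * x := by
    have e1 : x = (x * x) ^ (n + 1) := by
      rw [← pow_two, ← pow_mul, show 2 * (n + 1) = Nat.card G + 1 by omega, pow_succ,
        pow_card_eq_one', one_mul]
    rw [e1]
    exact (Commute.pow_left hx2 _).eq
  rw [hx3, mul_inv_cancel_right] at hx1
  have h1 : k ^ 2 = 1 := by
    rw [pow_two]
    nth_rewrite 2 [hx1]
    exact mul_inv_cancel k
  have := pow_card_eq_one' (x := k)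
  rwa [hn, pow_succ, pow_mul, h1, one_pow, one_mul] at this

theorem eq_one_of_real [Finite G] (hodd : Odd (Nat.card G)) {χ : G → ℂ}
    (hχ : Cfsg.IsIrrCharacter G χ) (hreal : ∀ g, conj (χ g) = χ g) : χ = fun _ => 1 := by
  haveI : Fintype G := Fintype.ofFinite G
  refine eq_one_of_fixed (fun g : G => g⁻¹) inv_one (fun ψ hψ => ?_)
    (fun k hk => eq_one_of_isConj_inv hodd hk) hχ
    (funext fun g => (IsCharacter.inv (IsIrrCharacter.isCharacter hχ) g).trans (hreal g))
  convert IsIrrCharacter.conj hψ using 1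
  exact funext fun g => IsCharacter.inv (IsIrrCharacter.isCharacter hψ) g

/-- Powers of an element of a coset of a normalised subgroup. -/
theorem exists_pow_coset {H : Subgroup G} {g : G} (hg : g ∈ Subgroup.normalizer (H : Set G)) {h : G}
    (hh : h ∈ H) (n : ℕ) : ∃ h' ∈ H, (h * g) ^ n = h' * g ^ n := by
  induction n with
  | zero => exact ⟨1, H.one_mem, by simp⟩
  | succ n ih =>
    obtain ⟨h', hh', e⟩ := ih
    refine ⟨h' * (g ^ n * h * (g ^ n)⁻¹), H.mul_mem hh'
      ((Subgroup.mem_normalizer_iff.mp (pow_mem hg n) h).mp hh), ?_⟩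
    rw [pow_succ, e, pow_succ]
    group

/-- Elements of a coprime coset are conjugate to centralising ones. -/
theorem exists_coprime_conj [Finite G] (H : Subgroup G) {g : G}
    (hg : g ∈ Subgroup.normalizer (H : Set G)) (hcop : Nat.Coprime (orderOf g) (Nat.card H)) {h : G}
    (hh : h ∈ H) : ∃ x ∈ H, ∃ c ∈ H, c * g = g * c ∧ x * (h * g) * x⁻¹ = c * g := by
  set a := orderOf g with ha
  set b := Nat.card H with hb
  have hab : (h * g) ^ (a * b) = 1 := by
    obtain ⟨h', hh', e⟩ := exists_pow_coset hg hh a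
    rw [pow_mul, e, pow_orderOf_eq_one, mul_one]
    exact orderOf_dvd_iff_pow_eq_one.mp (Subgroup.orderOf_dvd_natCard H hh')
  set f := (h * g) ^ hallExp hcop with hf
  have hfa : f ^ a = 1 := hallExp_pow_pow hcop hab
  have hgE : g ^ hallExp hcop = g := pow_hallExp_of_dvd hcop (pow_orderOf_eq_one g)
  obtain ⟨u, hu, hfu⟩ := exists_pow_coset hg hh (hallExp hcop)
  rw [hgE, ← hf] at hfu
  have hA : Subgroup.zpowers g ≤ Subgroup.normalizer (H : Set G) := Subgroup.zpowers_le.mpr hg
  have hinf : H ⊓ Subgroup.zpowers g = ⊥ :=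
    Cfsg.Agent.SchurZ.inf_eq_bot (by rw [Nat.card_zpowers]; exact hcop)
  have hord : orderOf f = a := by
    refine Nat.dvd_antisymm (orderOf_dvd_of_pow_eq_one hfa) (orderOf_dvd_of_pow_eq_one ?_)
    obtain ⟨v, hv, e⟩ := exists_pow_coset hg hu (orderOf f)
    rw [← hfu, pow_orderOf_eq_one] at e
    have hmem : g ^ orderOf f ∈ H ⊓ Subgroup.zpowers g :=
      ⟨by rw [show g ^ orderOf f = v⁻¹ from (inv_eq_of_mul_eq_one_right e.symm).symm]
          exact H.inv_mem hv,
        pow_mem (Subgroup.mem_zpowers g) _⟩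
    rw [hinf] at hmem
    exact hmem
  obtain ⟨k, hk, hkA⟩ := Cfsg.Agent.SchurZ.conj_in (A := Subgroup.zpowers g) (K := H)
    (B := Subgroup.zpowers f) hA (by rw [Nat.card_zpowers]; exact hcop)
    (Or.inl (by
      haveI : Std.Commutative (fun a b : Subgroup.zpowers g => a * b) := ⟨fun a b => by
        letI : CommGroup (Subgroup.zpowers g) := IsCyclic.commGroup
        exact mul_comm a b⟩
      letI : CommGroup (Subgroup.zpowers g) := IsCyclic.commGroup
      infer_instance))
    (Subgroup.zpowers_le.mpr (hfu ▸ Subgroup.mul_mem_sup hu (Subgroup.mem_zpowers g)))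
    (by rw [Nat.card_zpowers, Nat.card_zpowers, hord])
  have hfk : k⁻¹ * f * k = g := by
    have hmem : f ∈ MulAut.conj k • Subgroup.zpowers g := hkA ▸ Subgroup.mem_zpowers f
    rw [mem_conjSmul] at hmem
    obtain ⟨j, hj⟩ := Subgroup.mem_zpowers_iff.mp hmem
    have e : k⁻¹ * f * k = k⁻¹ * u * (g * k * g⁻¹) * g := by rw [hfu]; group
    have hw : k⁻¹ * u * (g * k * g⁻¹) ∈ H :=
      H.mul_mem (H.mul_mem (H.inv_mem hk) hu) ((Subgroup.mem_normalizer_iff.mp hg k).mp hk)
    have hmem2 : g ^ j * g⁻¹ ∈ H ⊓ Subgroup.zpowers g :=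
      ⟨by rw [hj, e, mul_inv_cancel_right]; exact hw,
        (Subgroup.zpowers g).mul_mem ((Subgroup.zpowers g).zpow_mem (Subgroup.mem_zpowers g) j)
          ((Subgroup.zpowers g).inv_mem (Subgroup.mem_zpowers g))⟩
    rw [hinf, Subgroup.mem_bot, mul_inv_eq_one] at hmem2
    rw [← hj, hmem2]
  set c₀ := (h * g) ^ hallExp hcop.symm with hc₀
  have hc₀H : c₀ ∈ H := by
    obtain ⟨v, hv, e⟩ := exists_pow_coset hg hh (hallExp hcop.symm)
    rw [pow_hallExp_eq_one hcop.symm (pow_orderOf_eq_one g), mul_one] at e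
    rw [hc₀, e]; exact hv
  have hcomm : Commute f c₀ := (Commute.refl (h * g)).pow_pow _ _
  have hprod : f * c₀ = h * g := hallExp_mul hcop hab
  refine ⟨k⁻¹, H.inv_mem hk, k⁻¹ * c₀ * k, H.mul_mem (H.mul_mem (H.inv_mem hk) hc₀H) hk, ?_, ?_⟩
  · rw [← hfk, show k⁻¹ * c₀ * k * (k⁻¹ * f * k) = k⁻¹ * (c₀ * f) * k by group, ← hcomm.eq]
    group
  · rw [← hprod, hcomm.eq, ← hfk]
    group

/-- A class fixed by a coprime element contains a centralising element. -/
theorem exists_fixed_of_class [Finite G] (K : Subgroup G) {x : G}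
    (hx : x ∈ Subgroup.normalizer (K : Set G)) (hcop : Nat.Coprime (orderOf x) (Nat.card K))
    {c a : G} (hc : c ∈ K) (ha : a ∈ K) (hfix : a * c * a⁻¹ = x * c * x⁻¹) :
    ∃ k ∈ K, x * (k * c * k⁻¹) = k * c * k⁻¹ * x := by
  obtain ⟨y, hy, e, he, hec, hye⟩ := exists_coprime_conj K hx hcop (K.inv_mem ha)
  refine ⟨y, hy, ?_⟩
  have h1 : a⁻¹ * x * c = c * (a⁻¹ * x) := by
    calc a⁻¹ * x * c = a⁻¹ * (x * c * x⁻¹) * x := by group
      _ = a⁻¹ * (a * c * a⁻¹) * x := by rw [hfix]
      _ = c * (a⁻¹ * x) := by group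
  have h2 : Commute (e * x) (y * c * y⁻¹) := by
    show e * x * (y * c * y⁻¹) = y * c * y⁻¹ * (e * x)
    rw [← hye]
    calc y * (a⁻¹ * x) * y⁻¹ * (y * c * y⁻¹) = y * (a⁻¹ * x * c) * y⁻¹ := by group
      _ = y * (c * (a⁻¹ * x)) * y⁻¹ := by rw [h1]
      _ = y * c * y⁻¹ * (y * (a⁻¹ * x) * y⁻¹) := by group
  have h3 : (e * x) ^ hallExp hcop = x := pow_hallExp_eq hcop (hec : e * x = x * e)
    (hec.symm : Commute x e) (pow_orderOf_eq_one x)
    (orderOf_dvd_iff_pow_eq_one.mp (Subgroup.orderOf_dvd_natCard K he))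
  have := h2.pow_left (hallExp hcop)
  rwa [h3] at this

end Cfsg.Agent.Char
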