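import Cfsg.Agent.Lib.Char.Conjugate
import Mathlib.GroupTheory.GroupAction.Quotient

/-!
# Clifford's theorem, the Clifford correspondence, constituents
-/

set_option linter.style.haveILetI false

namespace Cfsg.Agent.Char

open scoped ComplexConjugate

universe u v

variable {G : Type u} [Group G] [Fintype G]

/-- Two characters with a common constituent are not orthogonal. -/
theorem classInner_ne_zero_of_common {α β : G → ℂ} (hα : Cfsg.IsCharacter G α)
    (hβ : Cfsg.IsCharacter G β) (ψ : Cfsg.IrrCharacter G)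
    (h1 : Cfsg.classInner α ψ ≠ 0) (h2 : Cfsg.classInner β ψ ≠ 0) :
    Cfsg.classInner α β ≠ 0 := by
  classical
  obtain ⟨a, rfl⟩ := IsCharacter.exists_decomp hα
  obtain ⟨b, rfl⟩ := IsCharacter.exists_decomp hβ
  rw [classInner_combination, Nat.cast_ne_zero] at h1 h2
  rw [classInner_combination₂]
  simp only [map_natCast]
  norm_cast
  intro h
  exact mul_ne_zero h1 h2 (Finset.sum_eq_zero_iff.mp h ψ (Finset.mem_univ _))

/-- The degree of a character bounds the part spanned by any set of constituents. -/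
theorem sum_constituents_le {α : G → ℂ} (hα : Cfsg.IsCharacter G α)
    (s : Finset (Cfsg.IrrCharacter G)) (n : Cfsg.IrrCharacter G → ℕ)
    (hn : ∀ ψ ∈ s, Cfsg.classInner α ψ = n ψ) (d : Cfsg.IrrCharacter G → ℕ)
    (hd : ∀ ψ : Cfsg.IrrCharacter G, (ψ : G → ℂ) 1 = d ψ) (D : ℕ) (hD : α 1 = D) :
    ∑ ψ ∈ s, n ψ * d ψ ≤ D := by
  obtain ⟨m, rfl⟩ := IsCharacter.exists_decomp hα
  simp only [Finset.sum_apply, Pi.smul_apply, hd, smul_eq_mul] at hD
  have hD' : ∑ ψ, m ψ * d ψ = D := by exact_mod_cast hD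
  rw [← hD']
  refine le_trans (le_of_eq (Finset.sum_congr rfl fun ψ hψ => ?_))
    (Finset.sum_le_sum_of_subset (Finset.subset_univ s))
  have := hn ψ hψ
  rw [classInner_combination, Nat.cast_inj] at this
  rw [this]

theorem degree_le_of_constituent {α ψ : G → ℂ} (hα : Cfsg.IsCharacter G α)
    (hψ : Cfsg.IsIrrCharacter G ψ) (h : Cfsg.classInner α ψ ≠ 0) {a b : ℕ} (ha : α 1 = a)
    (hb : ψ 1 = b) : b ≤ a := by
  classical
  choose d hd using fun χ : Cfsg.IrrCharacter G => IsCharacter.exists_degree (IsIrrCharacter.isCharacter χ.2)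
  choose n hn using fun χ : Cfsg.IrrCharacter G =>
    IsCharacter.exists_classInner_nat hα (IsIrrCharacter.isCharacter χ.2)
  have := sum_constituents_le hα {⟨ψ, hψ⟩} n (fun χ _ => hn χ) d hd a ha
  rw [Finset.sum_singleton] at this
  have hbd : d ⟨ψ, hψ⟩ = b := Nat.cast_injective ((hd _).symm.trans hb)
  have hn0 : n ⟨ψ, hψ⟩ ≠ 0 := fun h0 => h (by rw [← Nat.cast_zero, ← h0]; exact hn ⟨ψ, hψ⟩)
  rw [hbd] at this
  exact le_trans (Nat.le_mul_of_pos_left _ (Nat.pos_of_ne_zero hn0)) this

/-- A character with an irreducible constituent of full degree equals it. -/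
theorem eq_of_constituent_degree {α ψ : G → ℂ} (hα : Cfsg.IsCharacter G α)
    (hψ : Cfsg.IsIrrCharacter G ψ) (h : Cfsg.classInner α ψ ≠ 0) (h1 : α 1 = ψ 1) : α = ψ := by
  classical
  obtain ⟨m, rfl⟩ := IsCharacter.exists_decomp hα
  set p : Cfsg.IrrCharacter G := ⟨ψ, hψ⟩
  have hm : m p ≠ 0 := by
    rw [show ψ = (p : G → ℂ) from rfl, classInner_combination, Nat.cast_ne_zero] at h
    exact h
  have hβc : Cfsg.IsCharacter G (((m p - 1 : ℕ) : ℂ) • ψ +
      ∑ χ ∈ Finset.univ.erase p, (m χ : ℂ) • (χ : G → ℂ)) :=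
    IsCharacter.add (IsCharacter.nsmul (IsIrrCharacter.isCharacter hψ) _)
      (isCharacter_sum _ fun χ _ => IsCharacter.nsmul (IsIrrCharacter.isCharacter χ.2) _)
  have e : (∑ χ, (m χ : ℂ) • (χ : G → ℂ)) = ψ + (((m p - 1 : ℕ) : ℂ) • ψ +
      ∑ χ ∈ Finset.univ.erase p, (m χ : ℂ) • (χ : G → ℂ)) := by
    rw [← Finset.add_sum_erase Finset.univ _ (Finset.mem_univ p), Nat.cast_sub (Nat.pos_of_ne_zero hm),
      sub_smul, Nat.cast_one, one_smul]
    abel
  rw [e] at h1 ⊢
  rw [Pi.add_apply, add_eq_left] at h1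
  rw [IsCharacter.eq_zero_of_one hβc h1, add_zero]

variable (H : Subgroup G) [hN : H.Normal]

open scoped Classical in
/-- The orbit of a function on a normal subgroup under conjugation. -/
noncomputable def conjOrbit (θ : H → ℂ) : Finset (H → ℂ) :=
  Finset.univ.image fun g : G => conjChar H g θ

theorem mem_conjOrbit {θ φ : H → ℂ} : φ ∈ conjOrbit H θ ↔ ∃ g : G, φ = conjChar H g θ := by
  classical
  simp [conjOrbit, eq_comm]

theorem card_fiber {θ φ : H → ℂ} (hφ : φ ∈ conjOrbit H θ) :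
    Nat.card {g : G // conjChar H g θ = φ} = Nat.card (inertia H θ) := by
  obtain ⟨g₀, rfl⟩ := (mem_conjOrbit H).mp hφ
  refine Nat.card_congr ((Equiv.mulRight g₀⁻¹).subtypeEquiv fun g => ?_)
  rw [Equiv.coe_mulRight, mem_inertia, conjChar_mul]
  constructor
  · intro e
    rw [e, ← conjChar_mul, mul_inv_cancel, conjChar_one]
  · intro e
    conv_rhs => rw [← e]
    rw [← conjChar_mul, inv_mul_cancel, conjChar_one]

theorem card_conjOrbit (θ : H → ℂ) :
    (conjOrbit H θ).card = (inertia H θ).index := by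
  classical
  have h : Fintype.card G = ∑ φ ∈ conjOrbit H θ,
      (Finset.univ.filter fun g : G => conjChar H g θ = φ).card :=
    Finset.card_eq_sum_card_fiberwise (f := fun g : G => conjChar H g θ)
      (fun g _ => (mem_conjOrbit H).mpr ⟨g, rfl⟩)
  rw [Finset.sum_congr rfl fun φ hφ => by
    rw [← Fintype.card_subtype, ← Nat.card_eq_fintype_card, card_fiber H hφ],
    Finset.sum_const, smul_eq_mul, ← Nat.card_eq_fintype_card,
    ← Subgroup.card_mul_index (inertia H θ), mul_comm] at h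
  exact (mul_right_cancel₀ Nat.card_pos.ne' h).symm

variable [Fintype H]

theorem classInner_restrict_conjChar {χ : G → ℂ} (hχ : Cfsg.IsClassFunction G χ) (θ : H → ℂ)
    (g : G) :
    Cfsg.classInner (fun h : H => χ h) (conjChar H g θ) =
      Cfsg.classInner (fun h : H => χ h) θ := by
  conv_lhs => rw [show (fun h : H => χ h) = conjChar H g (fun h : H => χ h) from
    funext fun h => (hχ h g).symm]
  exact classInner_conjChar H _ θ g

theorem restrict_constituent_conj {χ : G → ℂ} (hχ : Cfsg.IsIrrCharacter G χ) {θ φ : H → ℂ}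
    (hθ : Cfsg.IsIrrCharacter H θ) (hφ : Cfsg.IsIrrCharacter H φ)
    (h1 : Cfsg.classInner (fun h : H => χ h) θ ≠ 0)
    (h2 : Cfsg.classInner (fun h : H => χ h) φ ≠ 0) : φ ∈ conjOrbit H θ := by
  classical
  have hχc := IsCharacter.isClassFunction (IsIrrCharacter.isCharacter hχ)
  by_contra hno
  have e : ∀ {τ : H → ℂ}, Cfsg.IsIrrCharacter H τ → Cfsg.classInner (fun h : H => χ h) τ ≠ 0 →
      Cfsg.classInner (Cfsg.indFun H τ) χ ≠ 0 := fun {τ} hτ hne => by
    rw [← classInner_conj_symm, classInner_indFun_right H τ hχc]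
    simpa using hne
  refine classInner_ne_zero_of_common (isCharacter_indFun H (IsIrrCharacter.isCharacter hθ))
    (isCharacter_indFun H (IsIrrCharacter.isCharacter hφ)) ⟨χ, hχ⟩ (e hθ h1) (e hφ h2) ?_
  rw [classInner_indFun_normal H hθ hφ]
  have : IsEmpty {g : G // conjChar H g θ = φ} :=
    ⟨fun g => hno ((mem_conjOrbit H).mpr ⟨g.1, g.2.symm⟩)⟩
  simp

/-- Clifford's theorem. -/
theorem clifford {χ : G → ℂ} (hχ : Cfsg.IsIrrCharacter G χ) {θ : H → ℂ}
    (hθ : Cfsg.IsIrrCharacter H θ) (h : Cfsg.classInner (fun h : H => χ h) θ ≠ 0) :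
    (fun h : H => χ h) = Cfsg.classInner (fun h : H => χ h) θ • ∑ φ ∈ conjOrbit H θ, φ := by
  classical
  have hr := IsCharacter.restrict (IsIrrCharacter.isCharacter hχ) H
  have hirr : ∀ φ ∈ conjOrbit H θ, Cfsg.IsIrrCharacter H φ := fun φ hφ => by
    obtain ⟨g, rfl⟩ := (mem_conjOrbit H).mp hφ
    exact isIrrCharacter_conjChar H hθ g
  refine eq_of_forall_classInner (IsCharacter.isClassFunction hr) ?_ fun ψ => ?_
  · intro a b
    simp only [Pi.smul_apply, Finset.sum_apply]
    congr 1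
    exact Finset.sum_congr rfl fun φ hφ =>
      IsCharacter.isClassFunction (IsIrrCharacter.isCharacter (hirr φ hφ)) a b
  · rw [classInner_smul_left, classInner_sum_left,
      Finset.sum_congr rfl fun φ hφ => classInner_irr (hirr φ hφ) ψ.2, Finset.sum_ite_eq']
    split_ifs with hmem
    · obtain ⟨g, hg⟩ := (mem_conjOrbit H).mp hmem
      rw [hg, classInner_restrict_conjChar H
        (IsCharacter.isClassFunction (IsIrrCharacter.isCharacter hχ)) θ g, mul_one]
    · rw [mul_zero]
      by_contra hne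
      exact hmem (restrict_constituent_conj H hχ hθ ψ.2 h hne)

theorem clifford_degree {χ : G → ℂ} (hχ : Cfsg.IsIrrCharacter G χ) {θ : H → ℂ}
    (hθ : Cfsg.IsIrrCharacter H θ) (h : Cfsg.classInner (fun h : H => χ h) θ ≠ 0) :
    χ 1 = Cfsg.classInner (fun h : H => χ h) θ * ((inertia H θ).index : ℂ) * θ 1 := by
  have := congrFun (clifford H hχ hθ h) 1
  simp only [OneMemClass.coe_one, Pi.smul_apply, Finset.sum_apply, smul_eq_mul] at this
  rw [this, Finset.sum_congr rfl fun φ hφ => show φ 1 = θ 1 by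
    obtain ⟨g, rfl⟩ := (mem_conjOrbit H).mp hφ
    exact congrArg θ (Subtype.ext (by simp)), Finset.sum_const, nsmul_eq_mul, card_conjOrbit,
    mul_assoc]

/-- Every character has an irreducible constituent on restriction. -/
theorem exists_restrict_constituent {χ : G → ℂ} (hχ : Cfsg.IsIrrCharacter G χ) (K : Subgroup G)
    [Fintype K] : ∃ θ : Cfsg.IrrCharacter K, Cfsg.classInner (fun h : K => χ h) θ ≠ 0 :=
  IsCharacter.exists_constituent (IsCharacter.restrict (IsIrrCharacter.isCharacter hχ) K) fun h =>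
    IsIrrCharacter.one_ne_zero hχ (by simpa using congrFun h 1)

/-! ## The Clifford correspondence -/

variable {T : Subgroup G} [Fintype T]

/-- For `ψ` on the inertia group over `θ`, the induced character is irreducible, and any
irreducible constituent of it has the same multiplicity of `θ`. -/
theorem clifford_correspondence {θ : H → ℂ} (hθ : Cfsg.IsIrrCharacter H θ)
    (hT : T = inertia H θ) (hHT : H ≤ T) {ψ : T → ℂ} (hψ : Cfsg.IsIrrCharacter T ψ)
    (hc : Cfsg.classInner (fun h : H => ψ ⟨(h : G), hHT h.2⟩) θ ≠ 0) :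
    Cfsg.IsIrrCharacter G (Cfsg.indFun T ψ) ∧
      Cfsg.classInner (fun h : H => Cfsg.indFun T ψ h) θ =
        Cfsg.classInner (fun h : H => ψ ⟨(h : G), hHT h.2⟩) θ := by
  classical
  have hψc := IsIrrCharacter.isCharacter hψ
  have hindc := isCharacter_indFun T hψc
  have hindne : Cfsg.indFun T ψ ≠ 0 := fun e => by
    have := congrFun e 1
    rw [indFun_one_apply, Pi.zero_apply, mul_eq_zero] at this
    exact this.elim (Nat.cast_ne_zero.mpr Subgroup.index_ne_zero_of_finite)
      (IsIrrCharacter.one_ne_zero hψ)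
  obtain ⟨χ, hχne⟩ := IsCharacter.exists_constituent hindc hindne
  obtain ⟨n, hn⟩ := IsCharacter.exists_classInner_nat hindc (IsIrrCharacter.isCharacter χ.2)
  have hres : Cfsg.classInner (fun t : T => (χ : G → ℂ) t) ψ ≠ 0 := by
    rw [← classInner_conj_symm, ← classInner_indFun_left T ψ
      (IsCharacter.isClassFunction (IsIrrCharacter.isCharacter χ.2))]
    simpa using hχne
  have hχres := IsCharacter.restrict (IsIrrCharacter.isCharacter χ.2) T
  obtain ⟨m, hm⟩ := IsCharacter.exists_decomp hχres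
  have hmψ : m ⟨ψ, hψ⟩ ≠ 0 := by
    rw [hm, show ψ = ((⟨ψ, hψ⟩ : Cfsg.IrrCharacter T) : T → ℂ) from rfl, classInner_combination,
      Nat.cast_ne_zero] at hres
    exact hres
  let ι : H →* T := Subgroup.inclusion hHT
  obtain ⟨e', he'⟩ := IsCharacter.exists_classInner_nat (IsCharacter.comp hψc ι)
    (IsIrrCharacter.isCharacter hθ)
  have he'0 : e' ≠ 0 := by
    rintro rfl
    exact hc (he'.trans Nat.cast_zero)
  choose k hk using fun τ : Cfsg.IrrCharacter T =>
    IsCharacter.exists_classInner_nat (IsCharacter.comp (IsIrrCharacter.isCharacter τ.2) ι)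
      (IsIrrCharacter.isCharacter hθ)
  have hsum : Cfsg.classInner (fun h : H => (χ : G → ℂ) h) θ =
      ((∑ τ, m τ * k τ : ℕ) : ℂ) := by
    have e : (fun h : H => (χ : G → ℂ) h) =
        ∑ τ, (m τ : ℂ) • fun h : H => (τ : T → ℂ) (ι h) := by
      funext h
      have := congrFun hm (ι h)
      simp only [Finset.sum_apply, Pi.smul_apply] at this ⊢
      exact this
    rw [e, classInner_sum_left]
    push_cast
    exact Finset.sum_congr rfl fun τ _ => by rw [classInner_smul_left, hk τ]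
  have hk' : k ⟨ψ, hψ⟩ = e' := Nat.cast_injective ((hk _).symm.trans he')
  have hge : e' ≤ ∑ τ, m τ * k τ :=
    le_trans (by rw [hk']; exact Nat.le_mul_of_pos_left _ (Nat.pos_of_ne_zero hmψ))
      (Finset.single_le_sum (fun τ _ => Nat.zero_le (m τ * k τ)) (Finset.mem_univ ⟨ψ, hψ⟩))
  have hχθ : Cfsg.classInner (fun h : H => (χ : G → ℂ) h) θ ≠ 0 := by
    rw [hsum, Nat.cast_ne_zero]
    omega
  -- the restriction of `ψ` to `H` is a multiple of `θ`
  obtain ⟨dψ, hdψ0, hdψ⟩ := IsIrrCharacter.exists_degree hψ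
  obtain ⟨dθ, hdθ0, hdθ⟩ := IsIrrCharacter.exists_degree hθ
  have hψdeg : dψ = e' * dθ := by
    have horb : ∀ τ : Cfsg.IrrCharacter H,
        Cfsg.classInner (fun h : H => ψ (ι h)) τ ≠ 0 → (τ : H → ℂ) = θ := by
      intro τ hτ
      haveI : Fintype (H.subgroupOf T) := Fintype.ofFinite _
      let eqv := Subgroup.subgroupOfEquivOfLe hHT
      have hirr : ∀ {f : H → ℂ}, Cfsg.IsIrrCharacter H f →
          Cfsg.IsIrrCharacter (H.subgroupOf T) (fun x => f (eqv x)) := fun hf =>
        IsIrrCharacter.comp hf eqv.toMonoidHom eqv.surjective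
      have hinner : ∀ f : H → ℂ, Cfsg.classInner (fun x : H.subgroupOf T => ψ x) (fun x => f (eqv x))
          = Cfsg.classInner (fun h : H => ψ (ι h)) f := fun f => by
        simp only [Cfsg.classInner]
        rw [Nat.card_congr eqv.toEquiv]
        congr 1
        exact Fintype.sum_equiv eqv.toEquiv _ _ fun x => rfl
      obtain ⟨t, ht⟩ := (mem_conjOrbit _).mp (restrict_constituent_conj (H.subgroupOf T) hψ
        (hirr hθ) (hirr τ.2) (by rw [hinner]; exact hc) (by rw [hinner]; exact hτ))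
      funext h
      obtain ⟨x, rfl⟩ := eqv.surjective h
      rw [congrFun ht x]
      exact (congrArg θ (Subtype.ext rfl)).trans
        (congrFun (show conjChar H (t : G) θ = θ by
          have := t.2
          simp only [hT] at this
          exact this) (eqv x))
    have hdec := IsCharacter.eq_sum (IsCharacter.comp hψc ι)
    rw [Finset.sum_eq_single (⟨θ, hθ⟩ : Cfsg.IrrCharacter H)] at hdec
    · have := congrFun hdec 1
      simp only [map_one, Pi.smul_apply, smul_eq_mul, hdψ, hdθ, he'] at this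
      exact_mod_cast this
    · intro τ _ hτ
      by_contra hne
      refine hτ (Subtype.ext (horb τ fun h0 => hne ?_))
      rw [h0, zero_smul]
    · exact fun hh => absurd (Finset.mem_univ _) hh
  obtain ⟨dχ, hdχ0, hdχ⟩ := IsIrrCharacter.exists_degree χ.2
  have hdegχ : dχ = (∑ τ, m τ * k τ) * T.index * dθ := by
    have := clifford_degree H χ.2 hθ hχθ
    rw [hdχ, hsum, hdθ, ← hT] at this
    exact_mod_cast this
  have hinddeg : Cfsg.indFun T ψ 1 = ((T.index * dψ : ℕ) : ℂ) := by
    rw [indFun_one_apply, hdψ]; push_cast; ring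
  have hle := degree_le_of_constituent hindc χ.2 hχne hinddeg hdχ
  have hbound : (∑ τ, m τ * k τ) ≤ e' := by
    rw [hdegχ, hψdeg] at hle
    have hpos : 0 < T.index * dθ := Nat.mul_pos (Nat.pos_of_ne_zero Subgroup.index_ne_zero_of_finite) hdθ0
    exact Nat.le_of_mul_le_mul_left (by linarith) hpos
  have heq : (∑ τ, m τ * k τ) = e' := le_antisymm hbound hge
  have hind_eq : Cfsg.indFun T ψ = (χ : G → ℂ) :=
    eq_of_constituent_degree hindc χ.2 hχne (by
      rw [hinddeg, hdχ, hdegχ, heq, hψdeg]; push_cast; ring)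
  refine ⟨hind_eq ▸ χ.2, ?_⟩
  rw [hind_eq, hsum, heq]
  exact he'.symm

theorem clifford_correspondence_injective {θ : H → ℂ} (hθ : Cfsg.IsIrrCharacter H θ)
    (hT : T = inertia H θ) (hHT : H ≤ T) {ψ ψ' : T → ℂ} (hψ : Cfsg.IsIrrCharacter T ψ)
    (hψ' : Cfsg.IsIrrCharacter T ψ')
    (hc : Cfsg.classInner (fun h : H => ψ ⟨(h : G), hHT h.2⟩) θ ≠ 0)
    (hc' : Cfsg.classInner (fun h : H => ψ' ⟨(h : G), hHT h.2⟩) θ ≠ 0)
    (heq : Cfsg.indFun T ψ = Cfsg.indFun T ψ') : ψ = ψ' := by
  classical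
  by_contra hne
  obtain ⟨hχ, hmult⟩ := clifford_correspondence H hθ hT hHT hψ hc
  set χ := Cfsg.indFun T ψ with hχdef
  have hcl := IsCharacter.isClassFunction (IsIrrCharacter.isCharacter hχ)
  have hr := IsCharacter.restrict (IsIrrCharacter.isCharacter hχ) T
  obtain ⟨m, hm⟩ := IsCharacter.exists_decomp hr
  have hmem : ∀ {τ : T → ℂ} (hτ : Cfsg.IsIrrCharacter T τ), Cfsg.indFun T τ = χ → m ⟨τ, hτ⟩ ≠ 0 := by
    intro τ hτ e h0
    have h1 : Cfsg.classInner (fun t : T => χ t) τ = 0 := by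
      rw [hm, show τ = ((⟨τ, hτ⟩ : Cfsg.IrrCharacter T) : T → ℂ) from rfl, classInner_combination,
        h0, Nat.cast_zero]
    rw [← classInner_indFun_right T τ hcl, e, classInner_self_irr hχ] at h1
    exact _root_.one_ne_zero h1
  let ι : H →* T := Subgroup.inclusion hHT
  choose k hk using fun τ : Cfsg.IrrCharacter T =>
    IsCharacter.exists_classInner_nat (IsCharacter.comp (IsIrrCharacter.isCharacter τ.2) ι)
      (IsIrrCharacter.isCharacter hθ)
  have hsum : Cfsg.classInner (fun h : H => χ h) θ = ((∑ τ, m τ * k τ : ℕ) : ℂ) := by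
    have e : (fun h : H => χ h) = ∑ τ, (m τ : ℂ) • fun h : H => (τ : T → ℂ) (ι h) := by
      funext h
      have := congrFun hm (ι h)
      simp only [Finset.sum_apply, Pi.smul_apply] at this ⊢
      exact this
    rw [e, classInner_sum_left]
    push_cast
    exact Finset.sum_congr rfl fun τ _ => by rw [classInner_smul_left, hk τ]
  set a : Cfsg.IrrCharacter T := ⟨ψ, hψ⟩
  set b : Cfsg.IrrCharacter T := ⟨ψ', hψ'⟩
  rw [hsum, show Cfsg.classInner (fun h : H => ψ ⟨(h : G), hHT h.2⟩) θ = (k a : ℂ) from hk a,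
    Nat.cast_inj] at hmult
  have hab : a ≠ b := fun e => hne (congrArg Subtype.val e)
  have h2 : m a * k a + m b * k b ≤ ∑ τ, m τ * k τ := by
    rw [← Finset.sum_pair (f := fun τ => m τ * k τ) hab]
    exact Finset.sum_le_sum_of_subset (Finset.subset_univ _)
  have h3 : k a ≤ m a * k a :=
    Nat.le_mul_of_pos_left _ (Nat.pos_of_ne_zero (hmem hψ rfl))
  have h4 : 0 < m b * k b := by
    refine Nat.mul_pos (Nat.pos_of_ne_zero (hmem hψ' heq.symm)) (Nat.pos_of_ne_zero fun h0 => hc' ?_)
    rw [show Cfsg.classInner (fun h : H => ψ' ⟨(h : G), hHT h.2⟩) θ = (k b : ℂ) from hk b, h0,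
      Nat.cast_zero]
  omega

theorem clifford_correspondence_surjective {θ : H → ℂ} (hθ : Cfsg.IsIrrCharacter H θ)
    (hT : T = inertia H θ) (hHT : H ≤ T) {χ : G → ℂ} (hχ : Cfsg.IsIrrCharacter G χ)
    (hcon : Cfsg.classInner (fun h : H => χ h) θ ≠ 0) :
    ∃ ψ : T → ℂ, Cfsg.IsIrrCharacter T ψ ∧ Cfsg.indFun T ψ = χ ∧
      Cfsg.classInner (fun h : H => ψ ⟨(h : G), hHT h.2⟩) θ =
        Cfsg.classInner (fun h : H => χ h) θ := by
  classical
  obtain ⟨m, hm⟩ := IsCharacter.exists_decomp (IsCharacter.restrict (IsIrrCharacter.isCharacter hχ) T)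
  let ι : H →* T := Subgroup.inclusion hHT
  have e : (fun h : H => χ h) = ∑ τ, (m τ : ℂ) • fun h : H => (τ : T → ℂ) (ι h) := by
    funext h
    have := congrFun hm (ι h)
    simp only [Finset.sum_apply, Pi.smul_apply] at this ⊢
    exact this
  have hsum := hcon
  rw [e, classInner_sum_left] at hsum
  obtain ⟨τ, -, hτ⟩ := Finset.exists_ne_zero_of_sum_ne_zero hsum
  rw [classInner_smul_left, mul_ne_zero_iff] at hτ
  obtain ⟨hirr, hmult⟩ := clifford_correspondence H hθ hT hHT τ.2 hτ.2
  have heq : Cfsg.indFun T (τ : T → ℂ) = χ := by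
    by_contra hne
    apply hτ.1
    have h0 := classInner_irr_of_ne hχ hirr (Ne.symm hne)
    rw [classInner_indFun_right T _ (IsCharacter.isClassFunction (IsIrrCharacter.isCharacter hχ)),
      hm, classInner_combination] at h0
    exact h0
  exact ⟨τ, τ.2, heq, by rw [← heq]; exact hmult.symm⟩

end Cfsg.Agent.Char
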