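import Cfsg.Agent.Lib.Char.Clifford
import Cfsg.Agent.Lib.Char.DegreeCenter

/-!
# Fixed irreducible characters, scalar subgroups, characters over an invariant one
-/

set_option linter.style.haveILetI false
set_option linter.unusedSectionVars false

namespace Cfsg.Agent.Char

open scoped ComplexConjugate

universe u v

variable {G : Type u} [Group G] [Fintype G]

/-- If a map fixes only the trivial class, it fixes only the trivial character. -/
theorem eq_one_of_fixed (σ : G → G) (hσ1 : σ 1 = 1)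
    (hirr : ∀ χ : G → ℂ, Cfsg.IsIrrCharacter G χ → Cfsg.IsIrrCharacter G (fun k => χ (σ k)))
    (hfix : ∀ k, IsConj (σ k) k → k = 1) {χ : G → ℂ} (hχ : Cfsg.IsIrrCharacter G χ)
    (h : (fun k => χ (σ k)) = χ) : χ = fun _ => 1 := by
  classical
  have key : ∑ ψ : Cfsg.IrrCharacter G,
      Cfsg.classInner (fun k => (ψ : G → ℂ) (σ k)) (ψ : G → ℂ) = 1 := by
    simp only [Cfsg.classInner, ← Finset.mul_sum]
    rw [Finset.sum_comm, Finset.sum_eq_single (1 : G) ?_ ?_]
    · rw [hσ1, column_orth_of_isConj (IsConj.refl 1)]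
      have hc : Subgroup.centralizer ({1} : Set G) = ⊤ := by
        ext x
        simp [Subgroup.mem_centralizer_singleton_iff]
      rw [hc, Subgroup.card_top]
      exact inv_mul_cancel₀ (Nat.cast_ne_zero.mpr Nat.card_pos.ne')
    · exact fun k _ hk => column_orth_of_not_isConj fun hc => hk (hfix k hc)
    · exact fun h1 => absurd (Finset.mem_univ _) h1
  rw [Finset.sum_congr rfl fun (ψ : Cfsg.IrrCharacter G) _ => classInner_irr (hirr _ ψ.2) ψ.2,
    Finset.sum_boole, ← Nat.cast_one (R := ℂ), Nat.cast_inj] at key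
  have := Finset.card_le_one.mp key.le ⟨χ, hχ⟩ (by simpa using h) (principal G) (by
    simp only [Finset.mem_filter, Finset.mem_univ, true_and]
    rfl)
  exact congrArg Subtype.val this

theorem degree_one_of_comm (hcomm : ∀ a b : G, a * b = b * a) {χ : G → ℂ}
    (hχ : Cfsg.IsIrrCharacter G χ) : χ 1 = 1 := by
  obtain ⟨d, hd0, hd⟩ := IsIrrCharacter.exists_degree hχ
  have htop : Subgroup.center G = ⊤ :=
    eq_top_iff.mpr fun x _ => Subgroup.mem_center_iff.mpr fun y => hcomm y x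
  have := degree_dvd_index_center hχ hd
  rw [htop, Subgroup.index_top, Nat.dvd_one] at this
  rw [hd, this, Nat.cast_one]

theorem degree_one_of_commutators {χ : G → ℂ} (hχ : Cfsg.IsIrrCharacter G χ)
    (h : ∀ a b : G, χ (a * b * a⁻¹ * b⁻¹) = χ 1) : χ 1 = 1 := by
  obtain ⟨K, hK, hmem, -⟩ := IsCharacter.exists_kernel (IsIrrCharacter.isCharacter hχ)
  haveI := hK
  haveI : Fintype (G ⧸ K) := Fintype.ofFinite _
  obtain ⟨χ', -, hval, hirr⟩ :=
    IsCharacter.deflate (IsIrrCharacter.isCharacter hχ) K fun x hx => (hmem x).mp hx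
  rw [← hval, QuotientGroup.mk_one]
  refine degree_one_of_comm (fun a b => ?_) (hirr hχ)
  obtain ⟨a, rfl⟩ := QuotientGroup.mk_surjective a
  obtain ⟨b, rfl⟩ := QuotientGroup.mk_surjective b
  rw [← QuotientGroup.mk_mul, ← QuotientGroup.mk_mul, QuotientGroup.eq, hmem]
  have := h b⁻¹ a⁻¹
  simpa [mul_inv_rev, mul_assoc] using this

/-- The degree divides the index of a normal subgroup acting by scalars. -/
theorem degree_dvd_index_of_scalar {χ : G → ℂ} (hχ : Cfsg.IsIrrCharacter G χ) {d : ℕ}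
    (hd : χ 1 = d) (H : Subgroup G) (hH : ∀ h ∈ H, ‖χ h‖ = d) : d ∣ H.index := by
  obtain ⟨n, ρ, hρ, rfl⟩ := id hχ
  obtain ⟨K, hK, hmem, -⟩ := IsCharacter.exists_kernel (IsIrrCharacter.isCharacter hχ)
  haveI := hK
  obtain ⟨χ', -, hval, hirr⟩ :=
    IsCharacter.deflate (IsIrrCharacter.isCharacter hχ) K fun x hx => (hmem x).mp hx
  have hn : (d : ℂ) = (Module.finrank ℂ (Fin n → ℂ) : ℂ) := hd.symm.trans ρ.char_one
  have hd' : χ' 1 = d := by rw [← QuotientGroup.mk_one, hval, hd]
  refine (degree_dvd_index_center (hirr hχ) hd').trans ?_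
  refine (Subgroup.index_dvd_of_le (H := H.map (QuotientGroup.mk' K)) ?_).trans
    (Subgroup.index_map_dvd _ (QuotientGroup.mk'_surjective K))
  rintro _ ⟨h, hh, rfl⟩
  obtain ⟨ω, hω⟩ := (norm_char_eq_iff ρ h).mp (by rw [hH h hh, Nat.cast_inj.mp hn])
  rw [Subgroup.mem_center_iff]
  intro y
  obtain ⟨y, rfl⟩ := QuotientGroup.mk'_surjective K y
  rw [← map_mul, ← map_mul, QuotientGroup.mk'_apply, QuotientGroup.mk'_apply, QuotientGroup.eq,
    hmem]
  refine congrArg (fun f : (Fin n → ℂ) →ₗ[ℂ] (Fin n → ℂ) => LinearMap.trace ℂ _ f) ?_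
  have e : ρ (h * y) = ρ (y * h) := by
    rw [map_mul, map_mul, hω, smul_mul_assoc, mul_smul_comm]
    rfl
  rw [map_mul, e, ← map_mul, inv_mul_cancel, map_one]

/-- A class function times the induced trivial character. -/
theorem mul_indFun_one (H : Subgroup G) {ψ : G → ℂ} (hψ : Cfsg.IsClassFunction G ψ) :
    ψ * Cfsg.indFun H (fun _ => 1) = Cfsg.indFun H (fun h : H => ψ h) := by
  funext g
  simp only [Pi.mul_apply, indFun_apply]
  rw [mul_left_comm, Finset.mul_sum]
  congr 1
  refine Finset.sum_congr rfl fun x _ => ?_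
  by_cases hx : x⁻¹ * g * x ∈ H
  · rw [extendByZero_mem H _ hx, extendByZero_mem H _ hx, mul_one]
    show ψ g = ψ (x⁻¹ * g * x)
    conv_rhs => rw [← hψ (x⁻¹ * g * x) x]
    congr 1
    group
  · rw [extendByZero_not_mem H _ hx, extendByZero_not_mem H _ hx, mul_zero]

variable (H : Subgroup G) [hN : H.Normal] [Fintype H]

/-- A character over the trivial character is trivial on the normal subgroup. -/
theorem restrict_over_one {χ : G → ℂ} (hχ : Cfsg.IsIrrCharacter G χ)
    (h : Cfsg.classInner (fun x : H => χ x) (fun _ => 1) ≠ 0) (x : H) : χ x = χ 1 := by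
  classical
  have horb : conjOrbit H (fun _ : H => (1 : ℂ)) = {fun _ => 1} := by
    ext φ
    rw [mem_conjOrbit, Finset.mem_singleton]
    exact ⟨fun ⟨_, hg⟩ => hg, fun h => ⟨1, h⟩⟩
  have hc := clifford H hχ isIrrCharacter_one h
  rw [horb, Finset.sum_singleton] at hc
  exact (congrFun hc x).trans (congrFun hc 1).symm

/-- Irreducible characters over an invariant character with abelian quotient have the same
restriction. -/
theorem restrict_eq_of_abelian (hab : ∀ x y : G, x * y * x⁻¹ * y⁻¹ ∈ H) {θ : H → ℂ}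
    (hθ : Cfsg.IsIrrCharacter H θ) {ψ ψ' : G → ℂ} (hψ : Cfsg.IsIrrCharacter G ψ)
    (hψ' : Cfsg.IsIrrCharacter G ψ') (hc : Cfsg.classInner (fun x : H => ψ x) θ ≠ 0)
    (hc' : Cfsg.classInner (fun x : H => ψ' x) θ ≠ 0) :
    (fun x : H => ψ' x) = fun x : H => ψ x := by
  classical
  have hψc := IsIrrCharacter.isCharacter hψ
  have hψ'c := IsIrrCharacter.isCharacter hψ'
  have hne : Cfsg.classInner (ψ * Cfsg.indFun H (fun _ => 1)) ψ' ≠ 0 := by
    rw [mul_indFun_one H (IsCharacter.isClassFunction hψc),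
      classInner_indFun_left H _ (IsCharacter.isClassFunction hψ'c)]
    exact classInner_ne_zero_of_common (IsCharacter.restrict hψc H)
      (IsCharacter.restrict hψ'c H) ⟨θ, hθ⟩ hc hc'
  obtain ⟨m, hm⟩ := IsCharacter.exists_decomp (isCharacter_indFun H (θ := fun _ => (1 : ℂ))
    isCharacter_one)
  rw [hm, Finset.mul_sum] at hne
  rw [classInner_sum_left] at hne
  obtain ⟨χ, -, hχ⟩ := Finset.exists_ne_zero_of_sum_ne_zero hne
  rw [mul_smul_comm, classInner_smul_left, mul_ne_zero_iff] at hχ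
  obtain ⟨hm0, hin⟩ := hχ
  have hχH : ∀ x : H, (χ : G → ℂ) x = (χ : G → ℂ) 1 := by
    refine restrict_over_one H χ.2 ?_
    rw [← classInner_indFun_right H _
      (IsCharacter.isClassFunction (IsIrrCharacter.isCharacter χ.2)),
      ← classInner_conj_symm, hm, classInner_combination, map_natCast]
    exact hm0
  have hχ1 : (χ : G → ℂ) 1 = 1 :=
    degree_one_of_commutators χ.2 fun a b => hχH ⟨_, hab a b⟩
  obtain ⟨dψ, hdψ⟩ := IsCharacter.exists_degree hψc
  obtain ⟨dψ', hdψ'⟩ := IsCharacter.exists_degree hψ'c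
  have hprod := IsCharacter.mul hψc (IsIrrCharacter.isCharacter χ.2)
  have hle : dψ' ≤ dψ :=
    degree_le_of_constituent hprod hψ' hin (by rw [Pi.mul_apply, hχ1, mul_one, hdψ]) hdψ'
  -- the product is irreducible
  have hirr : Cfsg.IsIrrCharacter G (ψ * (χ : G → ℂ)) := by
    refine IsCharacter.isIrr_of_norm_one hprod ?_
    obtain ⟨f, hf⟩ := exists_hom_of_degree_one (IsIrrCharacter.isCharacter χ.2) hχ1
    rw [← classInner_self_irr hψ]
    simp only [Cfsg.classInner, Pi.mul_apply, hf, map_mul]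
    congr 1
    refine Finset.sum_congr rfl fun g _ => ?_
    have hn : (f g : ℂ) * conj (f g : ℂ) = 1 := by
      rw [Complex.mul_conj, Complex.normSq_eq_norm_sq,
        norm_eq_one_of_pow (orderOf_pos g).ne' (by
          rw [← Units.val_pow_eq_pow_val, ← map_pow, pow_orderOf_eq_one, map_one, Units.val_one])]
      simp
    linear_combination (ψ g * conj (ψ g)) * hn
  have heq : ψ * (χ : G → ℂ) = ψ' := by
    by_contra hh
    exact hin (classInner_irr_of_ne hirr hψ' hh)
  funext x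
  rw [← heq, Pi.mul_apply, hχH, hχ1, mul_one]

/-- The decomposition of the induced character of an invariant one when the quotient is abelian. -/
theorem indFun_invariant_abelian (hab : ∀ x y : G, x * y * x⁻¹ * y⁻¹ ∈ H) {θ : H → ℂ}
    (hθ : Cfsg.IsIrrCharacter H θ) (hinv : ∀ g : G, conjChar H g θ = θ) :
    ∃ (e : ℕ) (s : Finset (Cfsg.IrrCharacter G)), 0 < e ∧
      Cfsg.indFun H θ = (e : ℂ) • ∑ ψ ∈ s, (ψ : G → ℂ) ∧
      e ^ 2 * s.card * Nat.card H = Nat.card G ∧
      (∀ ψ : Cfsg.IrrCharacter G, ψ ∈ s ↔ Cfsg.classInner (fun x : H => (ψ : G → ℂ) x) θ ≠ 0) ∧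
      (∀ ψ ∈ s, (fun x : H => (ψ : G → ℂ) x) = (e : ℂ) • θ) := by
  classical
  have hindc := isCharacter_indFun H (IsIrrCharacter.isCharacter hθ)
  have hne : Cfsg.indFun H θ ≠ 0 := fun e => by
    have := congrFun e 1
    rw [indFun_one_apply, Pi.zero_apply, mul_eq_zero] at this
    exact this.elim (Nat.cast_ne_zero.mpr Subgroup.index_ne_zero_of_finite)
      (IsIrrCharacter.one_ne_zero hθ)
  obtain ⟨ψ₀, hψ₀⟩ := IsCharacter.exists_constituent hindc hne
  have hflip : ∀ ψ : Cfsg.IrrCharacter G, Cfsg.classInner (Cfsg.indFun H θ) ψ =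
      Cfsg.classInner (fun x : H => (ψ : G → ℂ) x) θ := fun ψ => by
    rw [classInner_indFun_left H θ (IsCharacter.isClassFunction (IsIrrCharacter.isCharacter ψ.2)),
      classInner_comm_of_isCharacter (IsIrrCharacter.isCharacter hθ)
        (IsCharacter.restrict (IsIrrCharacter.isCharacter ψ.2) H)]
  obtain ⟨e, he⟩ := IsCharacter.exists_classInner_nat
    (IsCharacter.restrict (IsIrrCharacter.isCharacter ψ₀.2) H) (IsIrrCharacter.isCharacter hθ)
  rw [hflip] at hψ₀
  let s := Finset.univ.filter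
    fun ψ : Cfsg.IrrCharacter G => Cfsg.classInner (fun x : H => (ψ : G → ℂ) x) θ ≠ 0
  have hs : ∀ ψ, ψ ∈ s ↔ Cfsg.classInner (fun x : H => (ψ : G → ℂ) x) θ ≠ 0 := fun ψ => by
    simp [s]
  have horb : conjOrbit H θ = {θ} := by
    ext φ
    rw [mem_conjOrbit, Finset.mem_singleton]
    exact ⟨fun ⟨g, hg⟩ => hg.trans (hinv g), fun h => ⟨1, h.trans (hinv 1).symm⟩⟩
  have hres : ∀ ψ ∈ s, (fun x : H => (ψ : G → ℂ) x) = (e : ℂ) • θ := fun ψ hψ => by
    rw [restrict_eq_of_abelian H hab hθ ψ₀.2 ψ.2 hψ₀ ((hs ψ).mp hψ), clifford H ψ₀.2 hθ hψ₀, horb,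
      Finset.sum_singleton, he]
  have hdec : Cfsg.indFun H θ = (e : ℂ) • ∑ ψ ∈ s, (ψ : G → ℂ) := by
    conv_lhs => rw [IsCharacter.eq_sum hindc]
    rw [Finset.smul_sum, ← Finset.sum_subset (Finset.subset_univ s) fun ψ _ hψ => by
      rw [hflip, not_not.mp (fun h => hψ ((hs ψ).mpr h)), zero_smul]]
    refine Finset.sum_congr rfl fun ψ hψ => ?_
    rw [hflip, hres ψ hψ, classInner_smul_left, classInner_self_irr hθ, mul_one]
  refine ⟨e, s, Nat.pos_of_ne_zero fun e0 => hψ₀ (by rw [he, e0, Nat.cast_zero]), hdec, ?_, hs, hres⟩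
  have hnorm : Cfsg.classInner (Cfsg.indFun H θ) (Cfsg.indFun H θ) =
      (Nat.card H : ℂ)⁻¹ * (Nat.card G : ℂ) := by
    rw [classInner_indFun_normal H hθ hθ]
    congr 2
    exact Nat.card_congr (Equiv.subtypeUnivEquiv hinv)
  have h2 : Cfsg.classInner (Cfsg.indFun H θ) (Cfsg.indFun H θ) = (e : ℂ) ^ 2 * s.card := by
    rw [hdec, classInner_smul_left, classInner_smul_right, map_natCast, classInner_sum_left,
      Finset.sum_congr rfl fun ψ hψ => by
        rw [classInner_sum_right, Finset.sum_eq_single ψ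
          (fun φ _ hφ => classInner_irr_of_ne ψ.2 φ.2 fun h => hφ (Subtype.ext h.symm))
          (fun h => absurd hψ h), classInner_self_irr ψ.2],
      Finset.sum_const, nsmul_eq_mul]
    ring
  rw [h2, ← div_eq_inv_mul, eq_div_iff (Nat.cast_ne_zero.mpr Nat.card_pos.ne')] at hnorm
  exact_mod_cast hnorm

end Cfsg.Agent.Char
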