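import Cfsg.Agent.Lib.Char.CoherenceThm
import Cfsg.Agent.Lib.Char.Clifford
import Cfsg.Agent.Lib.Char.DegreeCenter
import Cfsg.Agent.Lib.Char.Orbit
import Mathlib.GroupTheory.Sylow

/-!
# Characters of groups with a Frobenius kernel; TI subgroups with Frobenius normaliser
-/

set_option linter.style.haveILetI false
set_option linter.unusedSectionVars false

namespace Cfsg.Agent.Char

open scoped ComplexConjugate Classical
open Cfsg

universe u v

/-- An irreducible character whose kernel does not contain the normal subgroup `H` vanishes at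
every element commuting with no nontrivial element of `H`. -/
theorem char_eq_zero_of_fpf {G : Type u} [Group G] [Finite G] {ψ : G → ℂ}
    (hψ : Cfsg.IsIrrCharacter G ψ) (H : Subgroup G) [H.Normal] (hker : ∃ h ∈ H, ψ h ≠ ψ 1) {g : G}
    (hg : ∀ h ∈ H, h * g = g * h → h = 1) : ψ g = 0 := by
  haveI : Fintype G := Fintype.ofFinite G
  haveI : Fintype (G ⧸ H) := Fintype.ofFinite _
  let infl : Cfsg.IrrCharacter (G ⧸ H) → Cfsg.IrrCharacter G := fun χ =>
    ⟨fun x => (χ : G ⧸ H → ℂ) (x : G ⧸ H),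
      IsIrrCharacter.comp χ.2 (QuotientGroup.mk' H) (QuotientGroup.mk'_surjective H)⟩
  have hinj : Function.Injective infl := fun a b e => Subtype.ext (funext fun q => by
    obtain ⟨x, rfl⟩ := QuotientGroup.mk_surjective q
    exact congrFun (congrArg Subtype.val e) x)
  have hnot : (⟨ψ, hψ⟩ : Cfsg.IrrCharacter G) ∉ Finset.univ.image infl := by
    intro h
    obtain ⟨χ, -, e⟩ := Finset.mem_image.mp h
    obtain ⟨x, hxH, hx⟩ := hker
    refine hx ?_
    have e' := congrFun (congrArg Subtype.val e)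
    have hq : ((x : G) : G ⧸ H) = ((1 : G) : G ⧸ H) := by
      simpa using (QuotientGroup.eq_one_iff x).mpr hxH
    exact (e' x).symm.trans ((congrArg (χ : G ⧸ H → ℂ) hq).trans (e' 1))
  set F : Cfsg.IrrCharacter G → ℝ := fun χ => ‖(χ : G → ℂ) g‖ ^ 2 with hF
  have hG : ∑ χ, F χ = Nat.card (Subgroup.centralizer ({g} : Set G)) := by
    have := column_orth_of_isConj (IsConj.refl g)
    simp only [Complex.mul_conj, Complex.normSq_eq_norm_sq] at this
    exact_mod_cast this
  have hQ : ∑ χ ∈ Finset.univ.image infl, F χ =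
      Nat.card (Subgroup.centralizer ({(g : G ⧸ H)} : Set (G ⧸ H))) := by
    rw [Finset.sum_image fun a _ b _ e => hinj e]
    have := column_orth_of_isConj (IsConj.refl (g : G ⧸ H))
    simp only [Complex.mul_conj, Complex.normSq_eq_norm_sq] at this
    exact_mod_cast this
  have hle : Nat.card (Subgroup.centralizer ({g} : Set G)) ≤
      Nat.card (Subgroup.centralizer ({(g : G ⧸ H)} : Set (G ⧸ H))) := by
    refine Nat.card_le_card_of_injective (fun c : Subgroup.centralizer ({g} : Set G) =>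
      (⟨((c : G) : G ⧸ H), Subgroup.mem_centralizer_singleton_iff.mpr (by
        rw [← QuotientGroup.mk_mul, ← QuotientGroup.mk_mul,
          Subgroup.mem_centralizer_singleton_iff.mp c.2])⟩ :
        Subgroup.centralizer ({(g : G ⧸ H)} : Set (G ⧸ H)))) fun c d e => ?_
    have hm : (c : G)⁻¹ * d ∈ H := QuotientGroup.eq.mp (congrArg Subtype.val e)
    have hcomm := Subgroup.mem_centralizer_singleton_iff.mp ((c⁻¹ * d).2)
    exact Subtype.ext (inv_mul_eq_one.mp (hg _ hm hcomm))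
  have hsplit := Finset.sum_sdiff (f := F) (Finset.subset_univ (Finset.univ.image infl))
  rw [hG, hQ] at hsplit
  have hle' : (Nat.card (Subgroup.centralizer ({g} : Set G)) : ℝ) ≤
      Nat.card (Subgroup.centralizer ({(g : G ⧸ H)} : Set (G ⧸ H))) := by exact_mod_cast hle
  have h0 : F ⟨ψ, hψ⟩ ≤ 0 := le_trans
    (Finset.single_le_sum (fun χ _ => by positivity)
      (Finset.mem_sdiff.mpr ⟨Finset.mem_univ _, hnot⟩)) (by linarith)
  exact norm_eq_zero.mp (pow_eq_zero_iff two_ne_zero |>.mp (le_antisymm h0 (by positivity)))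

namespace Frob

variable {N : Type u} [Group N] [Fintype N] (K : Subgroup N) [K.Normal]

/-- A character is relevant if the kernel does not contain `K`. -/
def Rel (χ : N → ℂ) : Prop := ∃ k ∈ K, χ k ≠ χ 1

variable {K} (hF : ∀ k ∈ K, k ≠ 1 → Subgroup.centralizer ({k} : Set N) ≤ K)
include hF

theorem coprime : Nat.Coprime (Nat.card K) K.index := by
  refine Nat.coprime_of_dvd fun p hp hpK hpi => ?_
  haveI := Fact.mk hp
  obtain ⟨x, hx⟩ := exists_prime_orderOf_dvd_card' (G := K) p hpK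
  have hxo : orderOf (x : N) = p := by rw [Subgroup.orderOf_coe]; exact hx
  have hzp : IsPGroup p (Subgroup.zpowers (x : N)) :=
    IsPGroup.of_card (n := 1) (by rw [Nat.card_zpowers, hxo, pow_one])
  obtain ⟨Q, hQ⟩ := hzp.exists_le_sylow
  have hxQ : (x : N) ∈ (Q : Subgroup N) := hQ (Subgroup.mem_zpowers _)
  have hx1 : (x : N) ≠ 1 := fun h => by rw [h, orderOf_one] at hxo; exact hp.one_lt.ne hxo
  haveI : Nontrivial (Q : Subgroup N) := ⟨⟨⟨_, hxQ⟩, 1, fun e => hx1 (congrArg Subtype.val e)⟩⟩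
  haveI := Q.2.center_nontrivial
  obtain ⟨z, hz⟩ := exists_ne (1 : Subgroup.center (Q : Subgroup N))
  have hz1 : ((z : (Q : Subgroup N)) : N) ≠ 1 := fun h => hz (Subtype.ext (Subtype.ext h))
  have hzK : ((z : (Q : Subgroup N)) : N) ∈ K := hF x x.2 hx1
    (Subgroup.mem_centralizer_singleton_iff.mpr
      (congrArg Subtype.val (Subgroup.mem_center_iff.mp z.2 ⟨x, hxQ⟩)).symm)
  have hQK : (Q : Subgroup N) ≤ K := fun y hy => hF _ hzK hz1
    (Subgroup.mem_centralizer_singleton_iff.mpr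
      (congrArg Subtype.val (Subgroup.mem_center_iff.mp z.2 ⟨y, hy⟩)))
  exact Q.not_dvd_index (hpi.trans (Subgroup.index_dvd_of_le hQK))

theorem mem_of_pow {x : N} (hx : x ^ Nat.card K = 1) : x ∈ K := by
  rw [← QuotientGroup.eq_one_iff, ← orderOf_eq_one_iff]
  refine Nat.eq_one_of_dvd_coprimes (coprime hF) ?_ (orderOf_dvd_natCard _)
  refine orderOf_dvd_of_pow_eq_one ?_
  rw [← QuotientGroup.mk_pow, hx, QuotientGroup.mk_one]

theorem vanish {χ : N → ℂ} (hχ : Cfsg.IsIrrCharacter N χ) (hrel : Rel K χ) {g : N} (hg : g ∉ K) :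
    χ g = 0 := by
  refine char_eq_zero_of_fpf hχ K hrel fun h hh hcomm => ?_
  by_contra h1
  exact hg (hF h hh h1 (Subgroup.mem_centralizer_singleton_iff.mpr hcomm.symm))

theorem index_dvd_degree {χ : N → ℂ} (hχ : Cfsg.IsIrrCharacter N χ) (hrel : Rel K χ) {d : ℕ}
    (hd : χ 1 = d) : K.index ∣ d := by
  refine (Nat.dvd_iff_prime_pow_dvd_dvd _ _).mpr fun p k hp hpk => ?_
  rcases Nat.eq_zero_or_pos k with rfl | hk
  · simp
  haveI := Fact.mk hp
  obtain ⟨Q, hQ⟩ := Sylow.exists_subgroup_card_pow_prime p (hpk.trans K.index_dvd_card)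
  haveI : Fintype Q := Fintype.ofFinite Q
  obtain ⟨m, hm⟩ := IsCharacter.exists_classInner_nat
    (IsCharacter.restrict (IsIrrCharacter.isCharacter hχ) Q) isCharacter_one
  have hz : ∀ q : Q, q ≠ 1 → χ q = 0 := by
    intro q hq
    refine vanish hF hχ hrel fun hqK => hq (Subtype.ext ?_)
    have h1 : orderOf (q : N) ∣ Nat.card K := Subgroup.orderOf_dvd_natCard K hqK
    have h2 : orderOf (q : N) ∣ p ^ k := hQ ▸ Subgroup.orderOf_dvd_natCard Q q.2
    exact orderOf_eq_one_iff.mp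
      (Nat.eq_one_of_dvd_coprimes (coprime hF) h1 (h2.trans hpk))
  rw [Cfsg.classInner, Finset.sum_eq_single (1 : Q) (fun q _ hq => by rw [hz q hq, zero_mul])
    (fun h => absurd (Finset.mem_univ _) h), hQ] at hm
  simp only [Subgroup.coe_one, hd, map_one, mul_one] at hm
  rw [inv_mul_eq_iff_eq_mul₀ (Nat.cast_ne_zero.mpr (pow_ne_zero _ hp.ne_zero))] at hm
  exact ⟨m, by exact_mod_cast hm⟩

omit hF in
theorem apply_of_not_rel {χ : N → ℂ} (h : ¬ Rel K χ) {k : N} (hk : k ∈ K) : χ k = χ 1 := by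
  by_contra hc
  exact h ⟨k, hk, hc⟩

omit hF in
theorem sum_not_rel_sq :
    ∑ χ ∈ (Finset.univ : Finset (Cfsg.IrrCharacter N)).filter (fun χ : Cfsg.IrrCharacter N => ¬ Rel K (χ : N → ℂ)),
      (χ : N → ℂ) 1 ^ 2 = (K.index : ℂ) := by
  haveI : Fintype (N ⧸ K) := Fintype.ofFinite _
  rw [Subgroup.index, ← sum_sq_degree (G := N ⧸ K)]
  symm
  refine Finset.sum_bij (fun χ _ => (⟨fun x => (χ : N ⧸ K → ℂ) (x : N ⧸ K),
    IsIrrCharacter.comp χ.2 (QuotientGroup.mk' K) (QuotientGroup.mk'_surjective K)⟩ :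
      Cfsg.IrrCharacter N)) ?_ ?_ ?_ ?_
  · intro χ _
    simp only [Finset.mem_filter, Finset.mem_univ, true_and, Rel, not_exists, not_and, not_not]
    intro k hk
    simp [(QuotientGroup.eq_one_iff k).mpr hk]
  · intro a _ b _ e
    refine Subtype.ext (funext fun q => ?_)
    obtain ⟨x, rfl⟩ := QuotientGroup.mk_surjective q
    exact congrFun (congrArg Subtype.val e) x
  · intro χ hχ
    simp only [Finset.mem_filter, Finset.mem_univ, true_and] at hχ
    obtain ⟨χ', -, hval, hirr⟩ := IsCharacter.deflate (IsIrrCharacter.isCharacter χ.2) K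
      (fun x hx => apply_of_not_rel hχ hx)
    exact ⟨⟨χ', hirr χ.2⟩, Finset.mem_univ _, Subtype.ext (funext hval)⟩
  · intro χ _
    rfl

omit hF in
theorem sum_rel_sq :
    ∑ χ ∈ (Finset.univ : Finset (Cfsg.IrrCharacter N)).filter (fun χ : Cfsg.IrrCharacter N => Rel K (χ : N → ℂ)),
      (χ : N → ℂ) 1 ^ 2 = (K.index : ℂ) * ((Nat.card K : ℂ) - 1) := by
  have h := Finset.sum_filter_add_sum_filter_not (Finset.univ : Finset (Cfsg.IrrCharacter N))
    (fun χ : Cfsg.IrrCharacter N => Rel K (χ : N → ℂ)) (fun χ => (χ : N → ℂ) 1 ^ 2)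
  rw [sum_not_rel_sq, sum_sq_degree, ← Subgroup.card_mul_index K, Nat.cast_mul] at h
  linear_combination h

omit hF in
theorem sum_rel_apply {k : N} (hk : k ∈ K) (hk1 : k ≠ 1) :
    ∑ χ ∈ (Finset.univ : Finset (Cfsg.IrrCharacter N)).filter (fun χ : Cfsg.IrrCharacter N => Rel K (χ : N → ℂ)),
      (χ : N → ℂ) 1 * (χ : N → ℂ) k = -(K.index : ℂ) := by
  have h := Finset.sum_filter_add_sum_filter_not (Finset.univ : Finset (Cfsg.IrrCharacter N))
    (fun χ : Cfsg.IrrCharacter N => Rel K (χ : N → ℂ)) (fun χ => (χ : N → ℂ) 1 * (χ : N → ℂ) k)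
  have hn : ∑ χ ∈ (Finset.univ : Finset (Cfsg.IrrCharacter N)).filter
      (fun χ : Cfsg.IrrCharacter N => ¬ Rel K (χ : N → ℂ)), (χ : N → ℂ) 1 * (χ : N → ℂ) k = (K.index : ℂ) := by
    rw [← sum_not_rel_sq]
    refine Finset.sum_congr rfl fun χ hχ => ?_
    rw [apply_of_not_rel (Finset.mem_filter.mp hχ).2 hk, sq]
  have h0 : ∑ χ : Cfsg.IrrCharacter N, (χ : N → ℂ) 1 * (χ : N → ℂ) k = 0 := by
    rw [← column_orth_of_not_isConj (g := k) (h := 1)
      (fun hc => hk1 (isConj_one_right.mp hc.symm))]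
    refine Finset.sum_congr rfl fun χ _ => ?_
    obtain ⟨d, -, hd⟩ := IsIrrCharacter.exists_degree χ.2
    rw [hd, map_natCast, mul_comm]
  rw [hn, h0] at h
  linear_combination h

/-- A class function whose coefficients on the relevant characters are proportional to the degrees
is constant on the non-identity elements of `K`. -/
theorem eval_of_proportional {f : N → ℂ} (hf : Cfsg.IsClassFunction N f) {c : ℂ}
    (hc : ∀ χ : Cfsg.IrrCharacter N, Rel K (χ : N → ℂ) →
      Cfsg.classInner f χ = c * (χ : N → ℂ) 1) {k : N} (hk : k ∈ K) (hk1 : k ≠ 1) :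
    f k = -(c * (K.index : ℂ)) +
      ∑ χ ∈ (Finset.univ : Finset (Cfsg.IrrCharacter N)).filter (fun χ : Cfsg.IrrCharacter N => ¬ Rel K (χ : N → ℂ)),
        Cfsg.classInner f χ * (χ : N → ℂ) 1 := by
  conv_lhs => rw [classFunction_eq_sum hf]
  simp only [Finset.sum_apply, Pi.smul_apply, smul_eq_mul]
  rw [← Finset.sum_filter_add_sum_filter_not (Finset.univ : Finset (Cfsg.IrrCharacter N))
    (fun χ : Cfsg.IrrCharacter N => Rel K (χ : N → ℂ))]
  congr 1
  · rw [← mul_neg, ← sum_rel_apply hk hk1, Finset.mul_sum]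
    refine Finset.sum_congr rfl fun χ hχ => ?_
    rw [hc χ (Finset.mem_filter.mp hχ).2]
    ring
  · exact Finset.sum_congr rfl fun χ hχ => by
      rw [apply_of_not_rel (Finset.mem_filter.mp hχ).2 hk]

theorem sum_K_eq_zero {χ : N → ℂ} (hχ : Cfsg.IsIrrCharacter N χ) (hrel : Rel K χ) :
    ∑ g : N, χ g = 0 := by
  have hne : χ ≠ fun _ => 1 := fun h => by
    obtain ⟨k, -, hk⟩ := hrel
    exact hk (by rw [h])
  have := classInner_irr_of_ne hχ isIrrCharacter_one hne
  simpa [Cfsg.classInner, Nat.card_pos.ne'] using this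

/-- A function constant on `K \ 1` has coefficients proportional to the degrees. -/
theorem proportional_of_const {f : N → ℂ} {a : ℂ} (ha : ∀ k ∈ K, k ≠ 1 → f k = a)
    {χ : N → ℂ} (hχ : Cfsg.IsIrrCharacter N χ) (hrel : Rel K χ) :
    Cfsg.classInner f χ = (Nat.card N : ℂ)⁻¹ * (f 1 - a) * χ 1 := by
  obtain ⟨d, -, hd⟩ := IsIrrCharacter.exists_degree hχ
  have h0 : ∑ g : N, conj (χ g) = 0 := by rw [← map_sum, sum_K_eq_zero hF hχ hrel, map_zero]
  rw [Cfsg.classInner, mul_assoc]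
  congr 1
  have e : ∑ g : N, f g * conj (χ g) =
      ∑ g : N, (a * conj (χ g) + if g = 1 then (f 1 - a) * χ 1 else 0) := by
    refine Finset.sum_congr rfl fun g _ => ?_
    split_ifs with h
    · subst h; rw [hd, map_natCast]; ring
    · by_cases hg : g ∈ K
      · rw [ha g hg h, add_zero]
      · rw [vanish hF hχ hrel hg]; simp
  rw [e, Finset.sum_add_distrib, ← Finset.mul_sum, h0, Finset.sum_ite_eq', if_pos (Finset.mem_univ _),
    mul_zero, zero_add]

theorem degree_eq_of_comm (hab : ∀ a ∈ K, ∀ b ∈ K, a * b = b * a) {χ : N → ℂ}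
    (hχ : Cfsg.IsIrrCharacter N χ) (hrel : Rel K χ) : χ 1 = (K.index : ℂ) := by
  haveI : Fintype K := Fintype.ofFinite K
  obtain ⟨d, hd0, hd⟩ := IsIrrCharacter.exists_degree hχ
  obtain ⟨θ, hθ⟩ := exists_restrict_constituent hχ K
  have h1 : (θ : K → ℂ) 1 = 1 :=
    degree_one_of_comm (fun a b => Subtype.ext (hab a a.2 b b.2)) θ.2
  have hle : d ≤ K.index := by
    refine degree_le_of_constituent (isCharacter_indFun K (IsIrrCharacter.isCharacter θ.2)) hχ ?_
      (by rw [indFun_one_apply, h1, mul_one]) hd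
    rw [classInner_indFun_left K _ (IsCharacter.isClassFunction (IsIrrCharacter.isCharacter hχ)),
      ← classInner_conj_symm]
    simpa using hθ
  have hge := Nat.le_of_dvd hd0 (index_dvd_degree hF hχ hrel hd)
  rw [hd, le_antisymm hle hge]

end Frob

namespace TIK

variable {G : Type v} [Group G] [Fintype G] {K : Subgroup G}
  (hTI : ∀ g : G, g ∉ Subgroup.normalizer (K : Set G) → ∀ k ∈ K, g * k * g⁻¹ ∈ K → k = 1)
  (hC : ∀ k ∈ K, k ≠ 1 → Subgroup.centralizer ({k} : Set G) ≤ K)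

instance subgroupOf_normalizer_normal (K : Subgroup G) :
    (K.subgroupOf (Subgroup.normalizer (K : Set G))).Normal :=
  ⟨fun x hx g => by
    rw [Subgroup.mem_subgroupOf] at hx ⊢
    simpa using (Subgroup.mem_normalizer_iff.mp g.2 _).mp hx⟩

include hC in
theorem frob : ∀ k ∈ K.subgroupOf (Subgroup.normalizer (K : Set G)), k ≠ 1 →
    Subgroup.centralizer ({k} : Set (Subgroup.normalizer (K : Set G))) ≤
      K.subgroupOf (Subgroup.normalizer (K : Set G)) := by
  intro k hk hk1 c hc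
  rw [Subgroup.mem_subgroupOf] at hk ⊢
  refine hC k hk (fun h => hk1 (Subtype.ext h)) ?_
  rw [Subgroup.mem_centralizer_singleton_iff] at hc ⊢
  exact congrArg Subtype.val hc

include hC in
theorem not_conj_mem {x : G} (hx : x ∈ Subgroup.normalizer (K : Set G)) (hxK : x ∉ K) (g : G) :
    g * x * g⁻¹ ∉ K := by
  intro hg
  apply hxK
  have h1 : orderOf x ∣ Nat.card K := by
    rw [← MulEquiv.orderOf_eq (MulAut.conj g) x]
    exact Subgroup.orderOf_dvd_natCard K hg
  have := Frob.mem_of_pow (frob hC) (x := ⟨x, hx⟩) (by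
    refine Subtype.ext ?_
    rw [SubmonoidClass.coe_pow, Subgroup.coe_one]
    rw [Nat.card_congr (Subgroup.subgroupOfEquivOfLe Subgroup.le_normalizer).toEquiv]
    exact orderOf_dvd_iff_pow_eq_one.mp h1)
  exact Subgroup.mem_subgroupOf.mp this

include hTI hC in
theorem indFun_restrict {ϑ : Subgroup.normalizer (K : Set G) → ℂ}
    (hϑ : Cfsg.IsClassFunction (Subgroup.normalizer (K : Set G)) ϑ)
    (hK : ∀ x : Subgroup.normalizer (K : Set G), (x : G) ∉ K → ϑ x = 0) (h1 : ϑ 1 = 0)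
    (x : Subgroup.normalizer (K : Set G)) :
    Cfsg.indFun (Subgroup.normalizer (K : Set G)) ϑ x = ϑ x := by
  by_cases hxK : (x : G) ∈ K
  · by_cases hx1 : x = 1
    · subst hx1; simp [indFun_one_apply, h1]
    · exact indFun_eq_on_TI (K : Set G) hTI ϑ hϑ hK x hxK hx1
  · rw [hK x hxK, indFun_apply, Finset.sum_eq_zero, mul_zero]
    intro y _
    by_cases hy : y⁻¹ * x * y ∈ Subgroup.normalizer (K : Set G)
    · rw [extendByZero_mem _ ϑ hy]
      refine hK _ ?_
      simpa using not_conj_mem hC x.2 hxK y⁻¹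
    · exact extendByZero_not_mem _ ϑ hy

include hTI hC in
theorem classInner_indFun_eq [Fintype ↥(Subgroup.normalizer (K : Set G))]
    {ϑ η : Subgroup.normalizer (K : Set G) → ℂ}
    (hη : Cfsg.IsClassFunction (Subgroup.normalizer (K : Set G)) η)
    (hϑK : ∀ x : Subgroup.normalizer (K : Set G), (x : G) ∉ K → ϑ x = 0) (hϑ1 : ϑ 1 = 0)
    (hηK : ∀ x : Subgroup.normalizer (K : Set G), (x : G) ∉ K → η x = 0) (hη1 : η 1 = 0) :
    Cfsg.classInner (Cfsg.indFun (Subgroup.normalizer (K : Set G)) ϑ)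
      (Cfsg.indFun (Subgroup.normalizer (K : Set G)) η) = Cfsg.classInner ϑ η :=
  classInner_indFun_TI (K : Set G) hTI ϑ η hη hϑK hηK hϑ1

end TIK

end Cfsg.Agent.Char
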