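import Cfsg.Agent.Lib.Char.CoherenceCentral
import Cfsg.Agent.Lib.Char.TIFrobenius
import Cfsg.Agent.Lib.PLocal.FixedPointFree
import Mathlib.GroupTheory.FixedPointFree

/-!
# Feit's coherence theorem for a group with a Frobenius kernel
-/

set_option linter.style.haveILetI false
set_option linter.unusedSectionVars false

namespace Cfsg.Agent.Char.Feit

open Cfsg.Agent.Char
open scoped Classical

universe u v

variable {L : Type u} [Group L] [Fintype L]

/-- Sets of irreducible characters of equal degree are coherent. -/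
theorem coherent_equal_degree {G : Type v} [Group G] [Fintype G] {S : Set (L → ℂ)}
    (hirr : ∀ χ ∈ S, Cfsg.IsIrrCharacter L χ) (htwo : ∃ a ∈ S, ∃ b ∈ S, a ≠ b)
    (hdeg : ∀ a ∈ S, ∀ b ∈ S, a 1 = b 1) {τ : (L → ℂ) → (G → ℂ)}
    (hτ : Cfsg.IsLinearIsometryOn (Cfsg.zspanOn S ({1}ᶜ : Set L)) τ)
    (hτ1 : ∀ α ∈ Cfsg.zspanOn S ({1}ᶜ : Set L), τ α 1 = 0) :
    Cfsg.IsCoherent S ({1}ᶜ : Set L) τ := by
  obtain ⟨χ₀, hχ₀, χ₁, hχ₁, hne01⟩ := htwo
  have hfin := Coherence.irr_set_finite hirr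
  set T := hfin.toFinset
  have hT : (↑T : Set (L → ℂ)) = S := hfin.coe_toFinset
  have hiso : Cfsg.IsLinearIsometryOn (Coherence.spanOn S ({1}ᶜ : Set L) : Set (L → ℂ)) τ := hτ
  have hdiff : ∀ φ ∈ S, χ₀ - φ ∈ Coherence.spanOn S ({1}ᶜ : Set L) := fun φ hφ =>
    Coherence.mem_zspanOn_one.mpr ⟨Submodule.sub_mem _ (Submodule.subset_span hχ₀)
      (Submodule.subset_span hφ), by simp [hdeg φ hφ χ₀ hχ₀]⟩
  have hex : ∀ φ : L → ℂ, ∃ p : Cfsg.IrrCharacter G × Cfsg.IrrCharacter G, φ ∈ S → φ ≠ χ₀ →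
      p.1 ≠ p.2 ∧ τ (χ₀ - φ) = (p.1 : G → ℂ) - (p.2 : G → ℂ) := by
    intro φ
    by_cases h : φ ∈ S ∧ φ ≠ χ₀
    · obtain ⟨μ, ν, hne, e⟩ := IsGeneralizedCharacter.of_norm_two
        (Coherence.iso_gen hiso (hdiff φ h.1))
        (by
          rw [Coherence.iso_inner hiso (hdiff φ h.1) (hdiff φ h.1), classInner_sub_left,
            classInner_sub_right, classInner_sub_right, classInner_self_irr (hirr _ hχ₀),
            classInner_self_irr (hirr φ h.1), classInner_irr_of_ne (hirr _ hχ₀) (hirr φ h.1) h.2.symm,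
            classInner_irr_of_ne (hirr φ h.1) (hirr _ hχ₀) h.2]
          norm_num)
        (hτ1 _ (hdiff φ h.1))
      exact ⟨(μ, ν), fun _ _ => ⟨hne, e⟩⟩
    · exact ⟨(principal G, principal G), fun a b => absurd ⟨a, b⟩ h⟩
  choose p hp using hex
  have hpair : ∀ φ ∈ S, φ ≠ χ₀ → ∀ ψ ∈ S, ψ ≠ χ₀ → φ ≠ ψ →
      ((p φ).1 = (p ψ).1 ∧ (p φ).2 ≠ (p ψ).2) ∨ ((p φ).1 ≠ (p ψ).1 ∧ (p φ).2 = (p ψ).2) := by
    intro φ hφ hφ0 ψ hψ hψ0 hne
    have h := Coherence.iso_inner hiso (hdiff φ hφ) (hdiff ψ hψ)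
    obtain ⟨n1, e1⟩ := hp φ hφ hφ0
    obtain ⟨n2, e2⟩ := hp ψ hψ hψ0
    rw [e1, e2] at h
    simp only [classInner_sub_left, classInner_sub_right, classInner_self_irr (hirr _ hχ₀),
      classInner_irr_of_ne (hirr _ hχ₀) (hirr ψ hψ) hψ0.symm,
      classInner_irr_of_ne (hirr φ hφ) (hirr _ hχ₀) hφ0,
      classInner_irr_of_ne (hirr φ hφ) (hirr ψ hψ) hne,
      classInner_irr (p φ).1.2 (p ψ).1.2, classInner_irr (p φ).1.2 (p ψ).2.2,
      classInner_irr (p φ).2.2 (p ψ).1.2, classInner_irr (p φ).2.2 (p ψ).2.2] at h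
    by_cases a : (p φ).1 = (p ψ).1 <;> by_cases d : (p φ).2 = (p ψ).2
    · exfalso
      have b : ¬ (p φ).1 = (p ψ).2 := fun e => n1 (e.trans d.symm)
      have c : ¬ (p φ).2 = (p ψ).1 := fun e => n1 (a.trans e.symm)
      simp only [Subtype.coe_inj, a, d, if_true] at h
      rw [if_neg n2, if_neg n2.symm] at h
      norm_num at h
    · exact Or.inl ⟨a, d⟩
    · exact Or.inr ⟨a, d⟩
    · exfalso
      rw [if_neg (fun e => a (Subtype.ext e)), if_neg (fun e => d (Subtype.ext e))] at h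
      split_ifs at h <;> norm_num at h
  obtain ⟨μ₀, v, hv0, hvφ, hvirr⟩ : ∃ (μ₀ : G → ℂ) (v : (L → ℂ) → (G → ℂ)), v χ₀ = μ₀ ∧
      (∀ φ ∈ S, φ ≠ χ₀ → τ (χ₀ - φ) = v χ₀ - v φ) ∧
      ((∀ φ ∈ S, Cfsg.IsIrrCharacter G (v φ)) ∧ (∀ φ ∈ S, ∀ ψ ∈ S, v φ = v ψ → φ = ψ) ∨
       (∀ φ ∈ S, Cfsg.IsIrrCharacter G (-v φ)) ∧ (∀ φ ∈ S, ∀ ψ ∈ S, v φ = v ψ → φ = ψ)) := by
    have hcase : (∀ φ ∈ S, φ ≠ χ₀ → (p φ).1 = (p χ₁).1) ∨ (∀ φ ∈ S, φ ≠ χ₀ → (p φ).2 = (p χ₁).2) := by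
      by_contra hc
      push Not at hc
      obtain ⟨⟨a, ha, ha0, hane⟩, ⟨b, hb, hb0, hbne⟩⟩ := hc
      have ha1 : a ≠ χ₁ := fun e => hane (by rw [e])
      have hb1 : b ≠ χ₁ := fun e => hbne (by rw [e])
      rcases hpair a ha ha0 χ₁ hχ₁ hne01.symm ha1 with ⟨h, -⟩ | ⟨-, h2⟩
      · exact hane h
      rcases hpair b hb hb0 χ₁ hχ₁ hne01.symm hb1 with ⟨h1, -⟩ | ⟨-, h⟩
      swap
      · exact hbne h
      have hab : a ≠ b := fun e => hbne (by rw [← e]; exact h2)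
      rcases hpair a ha ha0 b hb hb0 hab with ⟨h, -⟩ | ⟨-, h⟩
      · exact hane (h.trans h1)
      · exact hbne (h.symm.trans h2)
    rcases hcase with hc | hc
    · refine ⟨(p χ₁).1, fun φ => if φ = χ₀ then ((p χ₁).1 : G → ℂ) else ((p φ).2 : G → ℂ),
        by simp, fun φ hφ hφ0 => ?_, Or.inl ⟨fun φ hφ => ?_, fun φ hφ ψ hψ e => ?_⟩⟩
      · simp only [if_neg hφ0, if_true]
        rw [(hp φ hφ hφ0).2, hc φ hφ hφ0]
      · by_cases h : φ = χ₀
        · simp only [h, if_true]; exact (p χ₁).1.2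
        · simp only [if_neg h]; exact (p φ).2.2
      · by_contra hne
        by_cases h : φ = χ₀ <;> by_cases h' : ψ = χ₀
        · exact hne (h.trans h'.symm)
        · simp only [h, if_true, if_neg h'] at e
          exact (hp ψ hψ h').1 ((hc ψ hψ h').trans (Subtype.ext e))
        · simp only [h', if_true, if_neg h] at e
          exact (hp φ hφ h).1 ((hc φ hφ h).trans (Subtype.ext e.symm))
        · simp only [if_neg h, if_neg h'] at e
          rcases hpair φ hφ h ψ hψ h' hne with ⟨-, k⟩ | ⟨k, -⟩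
          · exact k (Subtype.ext e)
          · exact k ((hc φ hφ h).trans (hc ψ hψ h').symm)
    · refine ⟨-((p χ₁).2 : G → ℂ), fun φ => if φ = χ₀ then -((p χ₁).2 : G → ℂ) else -((p φ).1 : G → ℂ),
        by simp, fun φ hφ hφ0 => ?_, Or.inr ⟨fun φ hφ => ?_, fun φ hφ ψ hψ e => ?_⟩⟩
      · simp only [if_neg hφ0, if_true]
        rw [(hp φ hφ hφ0).2, hc φ hφ hφ0]
        abel
      · by_cases h : φ = χ₀
        · simp only [h, if_true, neg_neg]; exact (p χ₁).2.2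
        · simp only [if_neg h, neg_neg]; exact (p φ).1.2
      · by_contra hne
        by_cases h : φ = χ₀ <;> by_cases h' : ψ = χ₀
        · exact hne (h.trans h'.symm)
        · simp only [h, if_true, if_neg h'] at e
          exact (hp ψ hψ h').1 ((Subtype.ext (neg_injective e.symm)).trans (hc ψ hψ h').symm)
        · simp only [h', if_true, if_neg h] at e
          exact (hp φ hφ h).1 ((Subtype.ext (neg_injective e)).trans (hc φ hφ h).symm)
        · simp only [if_neg h, if_neg h'] at e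
          rcases hpair φ hφ h ψ hψ h' hne with ⟨-, k⟩ | ⟨k, -⟩
          · exact k ((hc φ hφ h).trans (hc ψ hψ h').symm)
          · exact k (Subtype.ext (neg_injective e))
  have hOT := Coherence.irr_isOrth (T := T) fun φ h => hirr φ (hfin.mem_toFinset.mp h)
  rw [← hT]
  refine Coherence.isCoherent_extend hOT ⟨χ₀ - χ₁, hT.symm ▸ hdiff χ₁ hχ₁, sub_ne_zero.mpr hne01⟩ v
    (fun φ hφ => ?_) (fun φ hφ ψ hψ => ?_) (fun α hα => ?_)
  · rw [hfin.mem_toFinset] at hφ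
    rcases hvirr with ⟨h, -⟩ | ⟨h, -⟩
    · exact Coherence.irr_gen (h φ hφ)
    · simpa using IsGeneralizedCharacter.neg (Coherence.irr_gen (h φ hφ))
  · rw [hfin.mem_toFinset] at hφ hψ
    rw [classInner_irr (hirr φ hφ) (hirr ψ hψ)]
    rcases hvirr with ⟨h, hinj⟩ | ⟨h, hinj⟩
    · rw [classInner_irr (h φ hφ) (h ψ hψ)]
      exact if_congr ⟨hinj φ hφ ψ hψ, fun e => e ▸ rfl⟩ rfl rfl
    · rw [← neg_neg (v φ), ← neg_neg (v ψ), classInner_neg_left, classInner_neg_right, neg_neg,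
        classInner_irr (h φ hφ) (h ψ hψ)]
      exact if_congr ⟨fun e => hinj φ hφ ψ hψ (neg_injective e), fun e => e ▸ rfl⟩ rfl rfl
  · rw [hT, Coherence.mem_zspanOn_one] at hα
    obtain ⟨hαs, hα1⟩ := hα
    obtain ⟨d, hd0, hd⟩ := IsIrrCharacter.exists_degree (hirr χ₀ hχ₀)
    have key : ∀ θ ∈ Cfsg.zspan S, ∃ n : ℤ, θ 1 = (n : ℂ) * d ∧
        θ - n • χ₀ ∈ Coherence.spanOn S ({1}ᶜ : Set L) ∧
        τ (θ - n • χ₀) = Coherence.extend T v θ - n • v χ₀ := by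
      intro θ hθ
      induction hθ using Submodule.span_induction with
      | mem φ hφ =>
        refine ⟨1, by rw [Int.cast_one, one_mul, hdeg φ hφ χ₀ hχ₀, hd], ?_, ?_⟩
        · rw [one_smul, ← neg_sub]; exact Submodule.neg_mem _ (hdiff φ hφ)
        · rw [one_smul, one_smul, Coherence.extend_basis hOT v (hfin.mem_toFinset.mpr hφ)]
          by_cases h : φ = χ₀
          · subst h; rw [sub_self, sub_self, Coherence.iso_zero hiso]
          · rw [← neg_sub χ₀ φ, Coherence.iso_neg hiso (hdiff φ hφ), hvφ φ hφ h, neg_sub]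
      | zero => exact ⟨0, by simp, by simp, by simp [Coherence.extend_zero, Coherence.iso_zero hiso]⟩
      | add a b _ _ ha hb =>
        obtain ⟨n, h1, h2, h3⟩ := ha
        obtain ⟨m, k1, k2, k3⟩ := hb
        have e : a + b - (n + m) • χ₀ = (a - n • χ₀) + (b - m • χ₀) := by rw [add_smul]; abel
        refine ⟨n + m, by rw [Pi.add_apply, h1, k1]; push_cast; ring,
          e ▸ Submodule.add_mem _ h2 k2, ?_⟩
        rw [e, Coherence.iso_add hiso h2 k2, h3, k3, Coherence.extend_add, add_smul]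
        abel
      | smul c a _ ha =>
        obtain ⟨n, h1, h2, h3⟩ := ha
        have e : c • a - (c * n) • χ₀ = c • (a - n • χ₀) := by rw [smul_sub, smul_smul]
        refine ⟨c * n, by rw [Pi.smul_apply, h1, zsmul_eq_mul]; push_cast; ring,
          e ▸ Submodule.smul_mem _ _ h2, ?_⟩
        rw [e, Coherence.iso_zsmul hiso h2, h3, smul_sub, Coherence.extend_zsmul, smul_smul]
    obtain ⟨n, h1, -, h3⟩ := key α hαs
    rw [hα1] at h1
    have hn : n = 0 := by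
      rcases mul_eq_zero.mp h1.symm with h | h
      · exact_mod_cast h
      · exact absurd (by exact_mod_cast h) hd0.ne'
    rw [hn, zero_smul, sub_zero, zero_smul, sub_zero] at h3
    exact h3.symm

/-- A coherent set absorbs characters of small degree. -/
theorem coherent_grow {G : Type v} [Group G] [Fintype G] {S : Set (L → ℂ)}
    (hirr : ∀ χ ∈ S, Cfsg.IsIrrCharacter L χ) {τ : (L → ℂ) → (G → ℂ)}
    (hτ : Cfsg.IsLinearIsometryOn (Cfsg.zspanOn S ({1}ᶜ : Set L)) τ)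
    (hτ1 : ∀ α ∈ Cfsg.zspanOn S ({1}ᶜ : Set L), τ α 1 = 0) (d : (L → ℂ) → ℕ)
    (hd : ∀ φ ∈ S, φ 1 = (d φ : ℂ)) (X : Finset (L → ℂ)) (hX : ↑X ⊆ S)
    (hcoh : Cfsg.IsCoherent (↑X : Set (L → ℂ)) ({1}ᶜ : Set L) τ) {χ₁ : L → ℂ} (hχ₁ : χ₁ ∈ X)
    (s : Finset (L → ℂ)) (hs : ↑s ⊆ S) (hdvd : ∀ χ ∈ s, d χ₁ ∣ d χ)
    (hsmall : ∀ χ ∈ s, 2 * d χ₁ * d χ < ∑ φ ∈ X, d φ ^ 2) :
    Cfsg.IsCoherent (↑(X ∪ s) : Set (L → ℂ)) ({1}ᶜ : Set L) τ := by
  induction s using Finset.induction with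
  | empty => rwa [Finset.union_empty]
  | insert χ s _ ih =>
    rw [Finset.coe_insert, Set.insert_subset_iff] at hs
    have h := ih hs.2 (fun a ha => hdvd a (Finset.mem_insert_of_mem ha))
      (fun a ha => hsmall a (Finset.mem_insert_of_mem ha))
    rw [Finset.union_insert]
    by_cases hχ : χ ∈ X ∪ s
    · rwa [Finset.insert_eq_of_mem hχ]
    have hsub : (↑(insert χ (X ∪ s)) : Set (L → ℂ)) ⊆ S := by
      push_cast
      exact Set.insert_subset hs.1 (Set.union_subset hX hs.2)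
    have hle : ∀ {α}, α ∈ Cfsg.zspanOn (↑(insert χ (X ∪ s)) : Set (L → ℂ)) ({1}ᶜ : Set L) →
        α ∈ Cfsg.zspanOn S ({1}ᶜ : Set L) := fun h => Coherence.spanOn_mono hsub _ h
    refine Coherence.coherent_extend_one (fun ξ hξ => hirr ξ (hsub (Finset.mem_insert_of_mem hξ)))
      (hirr χ hs.1) hχ d (fun ξ hξ => hd ξ (hsub hξ))
      ⟨fun a ha b hb => hτ.1 a (hle ha) b (hle hb), fun a ha n => hτ.2.1 a (hle ha) n,
        fun a ha b hb => hτ.2.2.1 a (hle ha) b (hle hb), fun a ha => hτ.2.2.2 a (hle ha)⟩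
      (fun a ha => hτ1 a (hle ha)) h (Finset.mem_union_left _ hχ₁)
      (hdvd χ (Finset.mem_insert_self _ _)) ?_
    exact (hsmall χ (Finset.mem_insert_self _ _)).trans_le
      (Finset.sum_le_sum_of_subset Finset.subset_union_left)

variable (K : Subgroup L) [hK : K.Normal]
  (hF : ∀ k ∈ K, k ≠ 1 → Subgroup.centralizer ({k} : Set L) ≤ K)

include hF

theorem ind_irr {θ : K → ℂ} (hθ : Cfsg.IsIrrCharacter K θ) (hθ1 : θ ≠ fun _ => 1) :
    Cfsg.IsIrrCharacter L (Cfsg.indFun K θ) := by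
  haveI : Fintype K := Fintype.ofFinite K
  refine IsCharacter.isIrr_of_norm_one (isCharacter_indFun K (IsIrrCharacter.isCharacter hθ)) ?_
  rw [classInner_indFun_normal K hθ hθ]
  have hiff : ∀ g : L, conjChar K g θ = θ ↔ g ∈ K := by
    refine fun g => ⟨fun hg => ?_, fun hg =>
      conjChar_of_mem K (IsCharacter.isClassFunction (IsIrrCharacter.isCharacter hθ)) hg⟩
    by_contra hgN
    refine hθ1 (eq_one_of_fixed (conjHom K g) (map_one _)
      (fun χ hχ => isIrrCharacter_conjChar K hχ g) (fun k hk => ?_) hθ hg)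
    by_contra hk1
    obtain ⟨x, hx⟩ := isConj_iff.mp hk
    have hx' : (x : L) * (g * k * g⁻¹) * (x : L)⁻¹ = k := congrArg Subtype.val hx
    have hmem : (x : L) * g ∈ K := hF k k.2 (fun e => hk1 (Subtype.ext e)) (by
      rw [Subgroup.mem_centralizer_singleton_iff]
      calc (x : L) * g * k = (x : L) * (g * k * g⁻¹) * (x : L)⁻¹ * ((x : L) * g) := by group
        _ = k * ((x : L) * g) := by rw [hx'])
    exact hgN (by simpa using K.mul_mem (K.inv_mem x.2) hmem)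
  rw [Nat.card_congr (Equiv.subtypeEquivRight hiff)]
  exact inv_mul_cancel₀ (Nat.cast_ne_zero.mpr Nat.card_pos.ne')

theorem above_irr {φ : L → ℂ} (h : φ ∈ Cfsg.inducedIrrAbove K ⊥) : Cfsg.IsIrrCharacter L φ := by
  obtain ⟨θ, hθ, hθ1, -, rfl⟩ := h
  exact ind_irr K hF hθ hθ1

theorem above_bot_eq :
    Cfsg.inducedIrrAbove K ⊥ = {χ | Cfsg.IsIrrCharacter L χ ∧ ∃ k ∈ K, χ k ≠ χ 1} := by
  rw [← Central.irr_over_central K K le_rfl fun χ hχ => above_irr K hF hχ.1]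
  refine (sdiff_eq_left.mpr ?_).symm
  rw [Set.disjoint_left]
  rintro φ - ⟨θ, hθ, hθ1, hθK, rfl⟩
  refine hθ1 ?_
  have h1 : θ 1 = 1 := degree_one_of_commutators hθ fun a b => hθK _ (SetLike.coe_mem _)
  funext k
  rw [hθK k k.2, h1]

theorem frob_mod (H : Subgroup L) [hH : H.Normal] (hHK : H ≤ K) {k : L} (hk : k ∈ K) (hkH : k ∉ H)
    {x : L} (hx : x * k * x⁻¹ * k⁻¹ ∈ H) : x ∈ K := by
  by_contra hxK
  have hinj : ∀ y ∈ K, ∀ z ∈ K, y * x * y⁻¹ * x⁻¹ = z * x * z⁻¹ * x⁻¹ → y = z := by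
    intro y hy z hz e
    by_contra hne
    refine hxK (hF (z⁻¹ * y) (K.mul_mem (K.inv_mem hz) hy)
      (fun h => hne (inv_mul_eq_one.mp h).symm) ?_)
    rw [Subgroup.mem_centralizer_singleton_iff]
    have e' : y * x * y⁻¹ = z * x * z⁻¹ := mul_right_cancel e
    calc x * (z⁻¹ * y) = z⁻¹ * (z * x * z⁻¹) * y := by group
      _ = z⁻¹ * (y * x * y⁻¹) * y := by rw [e']
      _ = z⁻¹ * y * x := by group
  let f : H → H := fun h => ⟨(h : L) * x * (h : L)⁻¹ * x⁻¹, by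
    rw [show (h : L) * x * (h : L)⁻¹ * x⁻¹ = (h : L) * (x * (h : L)⁻¹ * x⁻¹) by group]
    exact H.mul_mem h.2 (hH.conj_mem _ (H.inv_mem h.2) x)⟩
  have hf : Function.Injective f := fun a b e =>
    Subtype.ext (hinj a (hHK a.2) b (hHK b.2) (congrArg Subtype.val e))
  have hk' : k * x * k⁻¹ * x⁻¹ ∈ H := by
    rw [show k * x * k⁻¹ * x⁻¹ = (x * k * x⁻¹ * k⁻¹)⁻¹ by group]
    exact H.inv_mem hx
  obtain ⟨h, hh⟩ := (Finite.injective_iff_surjective.mp hf) ⟨_, hk'⟩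
  exact hkH (hinj _ (hHK h.2) k hk (congrArg Subtype.val hh) ▸ h.2)

theorem nilpotent (hKL : K ≠ ⊤) : Group.IsNilpotent K := by
  obtain ⟨r, hr, hdvd⟩ := Nat.exists_prime_and_dvd (fun h => hKL (Subgroup.index_eq_one.mp h) : K.index ≠ 1)
  haveI := Fact.mk hr
  obtain ⟨h, hh⟩ := exists_prime_orderOf_dvd_card' (G := L) r (hdvd.trans K.index_dvd_card)
  have hhK : h ∉ K := fun hm => by
    have h1 : r ∣ Nat.card K := hh ▸ Subgroup.orderOf_dvd_natCard K hm
    exact hr.ne_one (Nat.eq_one_of_dvd_coprimes (Frob.coprime hF) h1 hdvd)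
  refine FixedPointFreeThompson.isNilpotent_of_conj K hr h (hh ▸ pow_orderOf_eq_one h) fun x hx hxh => ?_
  by_contra h1
  exact hhK (hF x hx h1 (Subgroup.mem_centralizer_singleton_iff.mpr hxh))

theorem comm_of_even (h2 : 2 ∣ K.index) : ∀ a ∈ K, ∀ b ∈ K, a * b = b * a := by
  haveI := Fact.mk Nat.prime_two
  obtain ⟨t, ht⟩ := exists_prime_orderOf_dvd_card' (G := L) 2 (h2.trans K.index_dvd_card)
  have htK : t ∉ K := fun hm => by
    have h1 : 2 ∣ Nat.card K := ht ▸ Subgroup.orderOf_dvd_natCard K hm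
    exact Nat.prime_two.ne_one (Nat.eq_one_of_dvd_coprimes (Frob.coprime hF) h1 h2)
  set φ : K →* K := (MulAut.conjNormal (H := K) t).toMonoidHom with hφ
  have hfpf : MonoidHom.FixedPointFree φ := by
    intro k hk
    by_contra h1
    have e : t * (k : L) * t⁻¹ = k := by
      rw [← MulAut.conjNormal_apply t k]; exact congrArg Subtype.val hk
    refine htK (hF k k.2 (fun h => h1 (Subtype.ext h)) ?_)
    rw [Subgroup.mem_centralizer_singleton_iff]
    exact mul_inv_eq_iff_eq_mul.mp e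
  have hinv : Function.Involutive φ := by
    intro k
    refine Subtype.ext ?_
    show ((MulAut.conjNormal t (MulAut.conjNormal t k) : K) : L) = k
    rw [MulAut.conjNormal_apply, MulAut.conjNormal_apply]
    have htt : t * t = 1 := by
      have := pow_orderOf_eq_one t
      rwa [ht, pow_two] at this
    calc t * (t * k * t⁻¹) * t⁻¹ = (t * t) * k * (t * t)⁻¹ := by group
      _ = k := by rw [htt]; simp
  intro a ha b hb
  exact congrArg Subtype.val (hfpf.commute_all_of_involutive hinv ⟨a, ha⟩ ⟨b, hb⟩).eq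

omit hF in
theorem two_of_over (A : Subgroup L) [A.Normal]
    (hirr : ∀ φ ∈ Cfsg.inducedIrrAbove K A, Cfsg.IsIrrCharacter L φ) (hab : ⁅K, K⁆ ≤ A)
    (hbig : K.index + 1 < A.relIndex K) :
    (∀ a ∈ Cfsg.inducedIrrAbove K A, ∀ b ∈ Cfsg.inducedIrrAbove K A, a 1 = b 1) ∧
      ∃ a ∈ Cfsg.inducedIrrAbove K A, ∃ b ∈ Cfsg.inducedIrrAbove K A, a ≠ b := by
  have h1 : ∀ θ ∈ IndSet.over K A, (θ : K → ℂ) 1 = 1 := fun θ hθ =>
    degree_one_of_commutators θ.2 fun a b => ((IndSet.mem_over K).mp hθ).2 _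
      (hab (Subgroup.commutator_mem_commutator a.2 b.2))
  refine ⟨?_, ?_⟩
  · have h : ∀ φ ∈ Cfsg.inducedIrrAbove K A, φ 1 = (K.index : ℂ) := by
      intro φ hφ
      obtain ⟨θ, hθ, rfl⟩ := (IndSet.mem_above_iff_exists K).mp hφ
      rw [indFun_one_apply, h1 θ hθ, mul_one]
    intro a ha b hb
    rw [h a ha, h b hb]
  · by_contra hall
    push Not at hall
    have hsum := IndSet.sum_over_sq K A
    rw [Finset.sum_congr rfl (g := fun _ => 1) (fun (θ : Cfsg.IrrCharacter K) hθ => show Cfsg.charDegree (θ : K → ℂ) ^ 2 = 1 by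
      rw [show Cfsg.charDegree (θ : K → ℂ) = 1 from
        Nat.cast_injective (R := ℂ) (by rw [← CharX.irr_deg, h1 θ hθ, Nat.cast_one]), one_pow]),
      Finset.sum_const, smul_eq_mul, mul_one] at hsum
    obtain ⟨θ₁, hθ₁⟩ := Finset.card_pos.mp (show 0 < (IndSet.over K A).card by omega)
    have hm := (IndSet.mem_above_iff_exists K).mpr ⟨θ₁, hθ₁, rfl⟩
    have hsub : IndSet.over K A ⊆ Finset.univ.filter fun φ : Cfsg.IrrCharacter K =>
        Cfsg.indFun K (φ : K → ℂ) = Cfsg.indFun K (θ₁ : K → ℂ) := fun φ hφ =>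
      Finset.mem_filter.mpr ⟨Finset.mem_univ _,
        hall _ ((IndSet.mem_above_iff_exists K).mpr ⟨φ, hφ, rfl⟩) _ hm⟩
    have := Finset.card_le_card hsub
    rw [Central.card_fiber_irr K (hirr _ hm)] at this
    omega

variable {G : Type v} [Group G] [Fintype G] {τ : (L → ℂ) → (G → ℂ)}
  (hτ : Cfsg.IsLinearIsometryOn (Cfsg.zspanOn (Cfsg.inducedIrrAbove K ⊥) ({1}ᶜ : Set L)) τ)
  (hτ1 : ∀ α ∈ Cfsg.zspanOn (Cfsg.inducedIrrAbove K ⊥) ({1}ᶜ : Set L), τ α 1 = 0)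

include hτ hτ1

theorem coherent_abelianised (A : Subgroup L) [A.Normal] (hab : ⁅K, K⁆ ≤ A)
    (hbig : K.index + 1 < A.relIndex K) :
    Cfsg.IsCoherent (Cfsg.inducedIrrAbove K A) ({1}ᶜ : Set L) τ := by
  have hsub := IndSet.above_subset_bot K A
  have hirr : ∀ φ ∈ Cfsg.inducedIrrAbove K A, Cfsg.IsIrrCharacter L φ := fun φ h =>
    above_irr K hF (hsub h)
  obtain ⟨hdeg, htwo⟩ := two_of_over K A hirr hab hbig
  have hle : ∀ {α}, α ∈ Cfsg.zspanOn (Cfsg.inducedIrrAbove K A) ({1}ᶜ : Set L) →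
      α ∈ Cfsg.zspanOn (Cfsg.inducedIrrAbove K ⊥) ({1}ᶜ : Set L) := fun h =>
    Coherence.spanOn_mono hsub _ h
  exact coherent_equal_degree hirr htwo hdeg
    ⟨fun a ha b hb => hτ.1 a (hle ha) b (hle hb), fun a ha n => hτ.2.1 a (hle ha) n,
      fun a ha b hb => hτ.2.2.1 a (hle ha) b (hle hb), fun a ha => hτ.2.2.2 a (hle ha)⟩
    fun a ha => hτ1 a (hle ha)

theorem coherent_above (hsolv : Group.IsSolvable K) (A B C D : Subgroup L) [A.Normal] [B.Normal]
    (hAK : ¬ K ≤ A) (hBA : B ≤ A) (hCK : C ≤ K)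
    (hcent : ∀ x ∈ D, ∀ y ∈ C, x * y * x⁻¹ * y⁻¹ ∈ B)
    (hA : Cfsg.IsCoherent (Cfsg.inducedIrrAbove K A) ({1}ᶜ : Set L) τ)
    (hlt : 4 * C.index ^ 2 * D.relIndex C < (A.relIndex K - 1) ^ 2) :
    Cfsg.IsCoherent (Cfsg.inducedIrrAbove K B) ({1}ᶜ : Set L) τ := by
  set S := Cfsg.inducedIrrAbove K ⊥ with hS
  have hirr : ∀ φ ∈ S, Cfsg.IsIrrCharacter L φ := fun φ h => above_irr K hF h
  set d : (L → ℂ) → ℕ := Cfsg.charDegree with hdd
  have hd : ∀ φ ∈ S, φ 1 = (d φ : ℂ) := fun φ h =>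
    CharX.deg_spec (IsIrrCharacter.isCharacter (hirr φ h))
  set ind : Cfsg.IrrCharacter K → (L → ℂ) := fun θ => Cfsg.indFun K (θ : K → ℂ) with hind
  set X := (IndSet.over K A).image ind with hX
  set Y := (IndSet.over K B).image ind with hY
  have hset : ∀ (A' : Subgroup L), (↑((IndSet.over K A').image ind) : Set (L → ℂ)) =
      Cfsg.inducedIrrAbove K A' := fun A' => by
    ext φ; simp [hind, IndSet.mem_above_iff_exists]
  obtain ⟨θ₁, hθ₁, hθ₁1⟩ := IndSet.exists_linear K hsolv hAK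
  have hχ₁ : ind θ₁ ∈ X := Finset.mem_image_of_mem ind hθ₁
  have hdeg : ∀ θ : Cfsg.IrrCharacter K, ind θ ∈ S →
      d (ind θ) = K.index * Cfsg.charDegree (θ : K → ℂ) := fun θ h =>
    Nat.cast_injective (R := ℂ) ((hd _ h).symm.trans
      (IndSet.indFun_degree K (IsIrrCharacter.isCharacter θ.2)))
  have hsubA := IndSet.above_subset_bot K A
  have hsubB := IndSet.above_subset_bot K B
  have hd₁ : d (ind θ₁) = K.index := by
    rw [hdeg θ₁ (hsubA (hset A ▸ Finset.mem_coe.mpr hχ₁)), show Cfsg.charDegree (θ₁ : K → ℂ) = 1 from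
      Nat.cast_injective (R := ℂ) (by rw [← CharX.irr_deg, hθ₁1, Nat.cast_one]), mul_one]
  have hsum : ((∑ φ ∈ X, d φ ^ 2 : ℕ) : ℝ) = (K.index : ℝ) * ((A.relIndex K : ℝ) - 1) := by
    rw [← IndSet.sum_above K A d (fun _ => 1) (fun φ h => hd φ (hsubA h))
      (fun φ h => by simp [classInner_self_irr (hirr φ (hsubA h))])]
    push_cast
    exact Finset.sum_congr rfl fun φ _ => by simp
  have hcoh := coherent_grow hirr hτ hτ1 d hd X (by rw [hset]; exact hsubA) (hset A ▸ hA) hχ₁ Y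
    (by rw [hset]; exact hsubB)
    (fun χ hχ => by
      obtain ⟨θ, hθ, rfl⟩ := Finset.mem_image.mp hχ
      rw [hd₁, hdeg θ (hsubB (hset B ▸ Finset.mem_coe.mpr (Finset.mem_image_of_mem ind hθ)))]
      exact dvd_mul_right _ _)
    (fun χ hχ => by
      obtain ⟨θ, hθ, rfl⟩ := Finset.mem_image.mp hχ
      rw [hd₁, hdeg θ (hsubB (hset B ▸ Finset.mem_coe.mpr (Finset.mem_image_of_mem ind hθ)))]
      set t := Cfsg.charDegree (θ : K → ℂ)
      have hb : t ^ 2 ≤ C.relIndex K ^ 2 * D.relIndex C :=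
        IndSet.degree_sq_le K hCK hcent θ.2 ((IndSet.mem_over K).mp hθ).2 (CharX.irr_deg θ)
      have hbig : (2 * (K.index * t)) ^ 2 < (A.relIndex K - 1) ^ 2 := by
        refine lt_of_le_of_lt ?_ hlt
        rw [← Subgroup.relIndex_mul_index hCK]
        calc (2 * (K.index * t)) ^ 2 = 4 * K.index ^ 2 * t ^ 2 := by ring
          _ ≤ 4 * K.index ^ 2 * (C.relIndex K ^ 2 * D.relIndex C) := Nat.mul_le_mul_left _ hb
          _ = 4 * (C.relIndex K * K.index) ^ 2 * D.relIndex C := by ring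
      have h' : 2 * (K.index * t) < A.relIndex K - 1 :=
        lt_of_pow_lt_pow_left₀ 2 (Nat.zero_le _) hbig
      have he : 0 < K.index := Nat.pos_of_ne_zero Subgroup.index_ne_zero_of_finite
      have h1 : 1 ≤ A.relIndex K := by omega
      have h2 : ((∑ φ ∈ X, d φ ^ 2 : ℕ) : ℝ) = ((K.index * (A.relIndex K - 1) : ℕ) : ℝ) := by
        rw [hsum, Nat.cast_mul, Nat.cast_sub h1, Nat.cast_one]
      rw [Nat.cast_injective h2, mul_assoc, mul_left_comm]
      exact Nat.mul_lt_mul_of_pos_left h' he)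
  have hXY : X ⊆ Y := Finset.coe_subset.mp (by rw [hset A, hset B]; exact IndSet.above_subset K B A hBA)
  rw [Finset.union_eq_right.mpr hXY, hset B] at hcoh
  exact hcoh

theorem coherent_down (hKL : K ≠ ⊤) (H₁ : Subgroup L) [H₁.Normal] (hH₁K : H₁ ≤ K)
    (hcoh : Cfsg.IsCoherent (Cfsg.inducedIrrAbove K H₁) ({1}ᶜ : Set L) τ)
    (hbig : 4 * K.index ^ 2 + 1 < H₁.relIndex K) :
    Cfsg.IsCoherent (Cfsg.inducedIrrAbove K ⊥) ({1}ᶜ : Set L) τ := by
  haveI hnilK := nilpotent K hF hKL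
  have hsolv : Group.IsSolvable K := inferInstance
  have hnil : Group.IsNilpotent (K.map (QuotientGroup.mk' (⊥ : Subgroup L))) :=
    Group.nilpotent_of_surjective ((QuotientGroup.mk' (⊥ : Subgroup L)).subgroupMap K)
      (MonoidHom.subgroupMap_surjective _ K)
  suffices h : ∀ (B : Subgroup L), B.Normal → B ≤ H₁ →
      Cfsg.IsCoherent (Cfsg.inducedIrrAbove K B) ({1}ᶜ : Set L) τ →
      Cfsg.IsCoherent (Cfsg.inducedIrrAbove K ⊥) ({1}ᶜ : Set L) τ from
    h H₁ inferInstance le_rfl hcoh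
  intro B
  induction B using WellFoundedLT.induction with
  | _ B ih =>
    intro hBn hBH₁ hcB
    haveI := hBn
    rcases (bot_le : ⊥ ≤ B).eq_or_lt with rfl | hB'
    · exact hcB
    have hBK : B ≤ K := hBH₁.trans hH₁K
    have hlt' : ⁅B, K⁆ ⊔ ⊥ < B := Coherence.sup_commutator_lt hB' hBK hnil
    refine ih _ hlt' inferInstance (hlt'.le.trans hBH₁) ?_
    have hKB : ¬ K ≤ B := fun h => by
      rw [Subgroup.relIndex_eq_one.mpr (h.trans hBH₁)] at hbig
      omega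
    refine coherent_above K hF hτ hτ1 hsolv B (⁅B, K⁆ ⊔ ⊥) K B hKB hlt'.le le_rfl
      (fun x hx y hy => le_sup_left (a := ⁅B, K⁆) (Subgroup.commutator_mem_commutator hx hy)) hcB ?_
    have hx : 4 * K.index ^ 2 + 1 < B.relIndex K :=
      hbig.trans_le (Subgroup.relIndex_le_of_le_left hBH₁ Subgroup.index_ne_zero_of_finite)
    obtain ⟨y, hy⟩ : ∃ y, B.relIndex K = y + 1 := ⟨B.relIndex K - 1, by omega⟩
    rw [hy, Nat.add_sub_cancel]
    have h5 : 4 * K.index ^ 2 + 1 ≤ y := by omega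
    have h6 : (4 * K.index ^ 2 + 1) * y ≤ y ^ 2 := by
      rw [pow_two y]; exact Nat.mul_le_mul_right y h5
    rw [mul_add, mul_one]
    rw [add_mul, one_mul] at h6
    omega

omit hτ hτ1 in
theorem index_dvd_sub_one (H N : Subgroup L) [H.Normal] [N.Normal] (hHN : H ≤ N) (hNK : N ≤ K)
    (hab : ⁅K, K⁆ ≤ H) : K.index ∣ H.relIndex N - 1 :=
  Chief.index_dvd_relIndex_sub_one K H N hHN hNK hab
    fun _ hk hkH _ hx => frob_mod K hF H (hHN.trans hNK) hk hkH hx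

omit hF hτ hτ1 in
theorem commutator_index : (commutator K).index = (⁅K, K⁆).relIndex K := by
  have h : (⁅K, K⁆).subgroupOf K = commutator K := by
    refine Subgroup.map_injective K.subtype_injective ?_
    rw [Subgroup.map_subgroupOf_eq_of_le (Subgroup.commutator_le_left K K),
      Subgroup.map_subtype_commutator]
  rw [← h]
  rfl

omit hF hτ hτ1 in
theorem exists_sylow_normal (hnil : Group.IsNilpotent K) (p : ℕ) (hp : p.Prime) :
    ∃ P : Subgroup L, P.Normal ∧ P ≤ K ∧ (∃ n, Nat.card P = p ^ n) ∧ ¬ p ∣ P.relIndex K := by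
  haveI := Fact.mk hp
  haveI := hnil
  obtain ⟨P⟩ : Nonempty (Sylow p K) := inferInstance
  haveI hPn : (P : Subgroup K).Normal :=
    ((Group.isNilpotent_of_finite_tfae (G := K)).out 0 3 rfl rfl : Group.IsNilpotent K ↔
      ∀ (p : ℕ) (_ : Fact p.Prime) (P : Sylow p K), (P : Subgroup K).Normal).mp hnil p ⟨hp⟩ P
  haveI : (P : Subgroup K).Characteristic := P.characteristic_of_normal hPn
  refine ⟨(P : Subgroup K).map K.subtype, ConjAct.normal_of_characteristic_of_normal,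
    Subgroup.map_subtype_le _, ?_, ?_⟩
  · obtain ⟨n, hn⟩ := IsPGroup.iff_card.mp P.isPGroup'
    exact ⟨n, by rw [Nat.card_congr (Subgroup.equivMapOfInjective _ _ K.subtype_injective).symm.toEquiv, hn]⟩
  · rw [Subgroup.relIndex, Subgroup.subgroupOf,
      Subgroup.comap_map_eq_self_of_injective K.subtype_injective]
    exact P.not_dvd_index

/-- A nilpotent non-abelian kernel of composite order always gives coherence. -/
theorem coherent_composite (hKL : K ≠ ⊤) (he3 : 3 ≤ K.index) (hodd : Odd K.index)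
    (hab : ¬ ∀ a ∈ K, ∀ b ∈ K, a * b = b * a) (hnp : ¬ ∃ p m : ℕ, p.Prime ∧ Nat.card K = p ^ m) :
    Cfsg.IsCoherent (Cfsg.inducedIrrAbove K ⊥) ({1}ᶜ : Set L) τ := by
  have hnil := nilpotent K hF hKL
  haveI := hnil
  have hsolv : Group.IsSolvable K := inferInstance
  set C1 := ⁅K, K⁆ with hC1
  set q := C1.relIndex K with hq
  have hC1K : C1 ≤ K := Subgroup.commutator_le_left K K
  have hC1bot : C1 ≠ ⊥ := fun h => hab fun a ha b hb =>
    commutatorElement_eq_one_iff_mul_comm.mp (Subgroup.mem_bot.mp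
      (h ▸ Subgroup.commutator_mem_commutator ha hb))
  have hq0 : q ≠ 0 := Subgroup.index_ne_zero_of_finite
  have hnpow : ∀ p : ℕ, p.Prime → ∀ a : ℕ, q ≠ p ^ a := fun p hp a h => by
    obtain ⟨m, hm⟩ := Chief.card_prime_pow_of_abelianization (Q := K) hp ((commutator_index K).trans h)
    exact hnp ⟨p, m, hp, hm⟩
  obtain ⟨p₁, hp₁, hp₁q⟩ := Nat.exists_prime_and_dvd
    (fun h : q = 1 => hnpow 2 Nat.prime_two 0 (by rw [h, pow_zero]))
  obtain ⟨p₂, hp₂, hp₂q, hne⟩ : ∃ r : ℕ, r.Prime ∧ r ∣ q ∧ r ≠ p₁ := by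
    by_contra hall
    push Not at hall
    exact hnpow p₁ hp₁ _ (Nat.eq_prime_pow_of_unique_prime_dvd hq0 fun hd hq => hall _ hd hq)
  obtain ⟨p, r, P, hp, hr, hpq, hrq, hpr, hPn, hPK, ⟨n, hPc⟩, hPi, hC1P⟩ :
      ∃ (p r : ℕ) (P : Subgroup L), p.Prime ∧ r.Prime ∧ p ∣ q ∧ r ∣ q ∧ r ≠ p ∧ P.Normal ∧ P ≤ K ∧
        (∃ n, Nat.card P = p ^ n) ∧ ¬ p ∣ P.relIndex K ∧ ¬ C1 ≤ P := by
    obtain ⟨P, a1, a2, ⟨n, a3⟩, a4⟩ := exists_sylow_normal K hnil p₁ hp₁
    obtain ⟨Q, b1, b2, ⟨m, b3⟩, b4⟩ := exists_sylow_normal K hnil p₂ hp₂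
    by_cases h : C1 ≤ P
    · refine ⟨p₂, p₁, Q, hp₂, hp₁, hp₂q, hp₁q, hne.symm, b1, b2, ⟨m, b3⟩, b4, fun h' => hC1bot ?_⟩
      rw [← Subgroup.card_eq_one]
      exact Nat.eq_one_of_dvd_coprimes
        (Nat.Coprime.pow n m ((Nat.coprime_primes hp₁ hp₂).mpr hne.symm))
        (a3 ▸ Subgroup.card_dvd_of_le h) (b3 ▸ Subgroup.card_dvd_of_le h')
    · exact ⟨p₁, p₂, P, hp₁, hp₂, hp₁q, hp₂q, hne, a1, a2, ⟨n, a3⟩, a4, h⟩
  haveI := hPn
  set D := P ⊔ C1 with hD
  set B := (P ⊓ C1) ⊔ ⁅C1, K⁆ with hB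
  have hDK : D ≤ K := sup_le hPK hC1K
  have hC1D : C1 ≤ D := le_sup_right
  set a := D.relIndex K
  set b := C1.relIndex D
  have hab' : b * a = q := Subgroup.relIndex_mul_relIndex C1 D K hC1D hDK
  have ha0 : ¬ p ∣ a := fun h => hPi (h.trans (Subgroup.relIndex_dvd_of_le_left K le_sup_left))
  have hbP : b ∣ p ^ n := by
    have : b = C1.relIndex P := by rw [show b = C1.relIndex (P ⊔ C1) from rfl, Subgroup.relIndex_sup_right]
    rw [this, ← hPc]
    exact Subgroup.relIndex_dvd_card _ _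
  have hb1 : 1 < b := by
    rcases Nat.lt_or_ge 1 b with h | h
    · exact h
    exfalso
    have hb0 : b ≠ 0 := Subgroup.index_ne_zero_of_finite
    rw [show b = 1 by omega, one_mul] at hab'
    exact ha0 (hab'.symm ▸ hpq)
  have ha1 : 1 < a := by
    rcases Nat.lt_or_ge 1 a with h | h
    · exact h
    exfalso
    have ha0 : a ≠ 0 := Subgroup.index_ne_zero_of_finite
    rw [show a = 1 by omega, mul_one] at hab'
    obtain ⟨i, -, hi⟩ := (Nat.dvd_prime_pow hp).mp hbP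
    exact hnpow p hp i (hab'.symm.trans hi)
  have hbdvd : K.index ∣ b - 1 := index_dvd_sub_one K hF C1 D hC1D hDK le_rfl
  have hadvd : K.index ∣ a - 1 := index_dvd_sub_one K hF D K hDK le_rfl (hC1D)
  have hale : K.index + 1 ≤ a := by
    have := Nat.le_of_dvd (by omega) hadvd
    omega
  have hble : K.index + 1 ≤ b := by
    have := Nat.le_of_dvd (by omega) hbdvd
    omega
  have hprod : (2 * K.index + 1) * (K.index + 1) ≤ b * a := by
    rcases hp.eq_two_or_odd' with rfl | hpo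
    · have hao : Odd a := Nat.not_even_iff_odd.mp fun h => ha0 (even_iff_two_dvd.mp h)
      rw [mul_comm b a]
      exact Nat.mul_le_mul (Chief.two_mul_add_one_le hodd hao ha1 hadvd) hble
    · have hbo : Odd b := Odd.of_dvd_nat (hpo.pow) hbP
      exact Nat.mul_le_mul (Chief.two_mul_add_one_le hodd hbo hb1 hbdvd) hale
  have hbase : Cfsg.IsCoherent (Cfsg.inducedIrrAbove K C1) ({1}ᶜ : Set L) τ :=
    coherent_abelianised K hF hτ hτ1 C1 le_rfl (by
      rw [show C1.relIndex K = b * a from hab'.symm]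
      nlinarith)
  have hBlt : B < C1 := by
    rw [hB, sup_comm]
    refine Coherence.sup_commutator_lt (lt_of_le_of_ne inf_le_right fun h => hC1P (inf_eq_right.mp h))
      hC1K ?_
    exact Group.nilpotent_of_surjective ((QuotientGroup.mk' (P ⊓ C1)).subgroupMap K)
      (MonoidHom.subgroupMap_surjective _ K)
  haveI hBn : B.Normal := inferInstance
  have hcent : ∀ x ∈ D, ∀ y ∈ K, x * y * x⁻¹ * y⁻¹ ∈ B := by
    intro x hx y hy
    obtain ⟨u, hu, v, hv, rfl⟩ := Subgroup.mem_sup_of_normal_right.mp hx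
    have h1 : v * y * v⁻¹ * y⁻¹ ∈ B := le_sup_right (a := P ⊓ C1) (Subgroup.commutator_mem_commutator hv hy)
    have h2 : u * y * u⁻¹ * y⁻¹ ∈ B := by
      refine le_sup_left (b := ⁅C1, K⁆) ⟨?_, Subgroup.commutator_mem_commutator (hPK hu) hy⟩
      rw [show u * y * u⁻¹ * y⁻¹ = u * (y * u⁻¹ * y⁻¹) by group]
      exact P.mul_mem hu (hPn.conj_mem _ (P.inv_mem hu) y)
    rw [show u * v * y * (u * v)⁻¹ * y⁻¹ = u * (v * y * v⁻¹ * y⁻¹) * u⁻¹ * (u * y * u⁻¹ * y⁻¹) by group]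
    exact B.mul_mem (hBn.conj_mem _ h1 u) h2
  have hKC1 : ¬ K ≤ C1 := fun h => hnpow p hp 0 (by
    rw [pow_zero]; exact Subgroup.relIndex_eq_one.mpr h)
  have hcohB : Cfsg.IsCoherent (Cfsg.inducedIrrAbove K B) ({1}ᶜ : Set L) τ := by
    refine coherent_above K hF hτ hτ1 hsolv C1 B K D hKC1 hBlt.le le_rfl hcent hbase ?_
    show 4 * K.index ^ 2 * a < (q - 1) ^ 2
    have h1 : a * K.index < q - 1 := by
      have h2 : a * (K.index + 1) ≤ a * b := Nat.mul_le_mul_left a hble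
      rw [mul_add, mul_one, mul_comm a b] at h2
      omega
    have h3 : (a * K.index) ^ 2 < (q - 1) ^ 2 := Nat.pow_lt_pow_left h1 two_ne_zero
    refine lt_of_le_of_lt ?_ h3
    rw [mul_pow, pow_two a, mul_comm (a * a)]
    calc 4 * K.index ^ 2 * a = K.index ^ 2 * (4 * a) := by ring
      _ ≤ K.index ^ 2 * (a * a) := Nat.mul_le_mul_left _ (Nat.mul_le_mul_right a (by omega))
  refine coherent_down K hF hτ hτ1 hKL B (hBlt.le.trans hC1K) hcohB ?_
  rw [← Subgroup.relIndex_mul_relIndex B C1 K hBlt.le hC1K]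
  have h2 : 2 ≤ B.relIndex C1 := by
    have h0 : B.relIndex C1 ≠ 0 := Subgroup.index_ne_zero_of_finite
    have h1 : B.relIndex C1 ≠ 1 := fun e => hBlt.not_ge (Subgroup.relIndex_eq_one.mp e)
    omega
  have := Nat.mul_le_mul h2 hprod
  rw [hab'] at this
  nlinarith

/-- Feit's theorem. -/
theorem coherent_or_exception (hK1 : K ≠ ⊥) (hKL : K ≠ ⊤) (hcard : Nat.card K ≠ K.index + 1) :
    Cfsg.IsCoherent (Cfsg.inducedIrrAbove K ⊥) ({1}ᶜ : Set L) τ ∨
      ∃ p : ℕ, p.Prime ∧ (∃ m : ℕ, Nat.card K = p ^ m) ∧ (¬ ∀ a ∈ K, ∀ b ∈ K, a * b = b * a) ∧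
        (⁅K, K⁆).relIndex K ≤ 4 * K.index ^ 2 + 1 := by
  haveI hnil := nilpotent K hF hKL
  by_cases hab : ∀ a ∈ K, ∀ b ∈ K, a * b = b * a
  · left
    have hC : ⁅K, K⁆ ≤ ⊥ := Subgroup.commutator_le.mpr fun a ha b hb =>
      Subgroup.mem_bot.mpr (commutatorElement_eq_one_iff_mul_comm.mpr (hab a ha b hb))
    refine coherent_abelianised K hF hτ hτ1 ⊥ hC ?_
    rw [Subgroup.relIndex_bot_left]
    have h := index_dvd_sub_one K hF ⊥ K bot_le le_rfl hC
    rw [Subgroup.relIndex_bot_left] at h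
    have h1 : 1 < Nat.card K := (Subgroup.one_lt_card_iff_ne_bot K).mpr hK1
    have := Nat.le_of_dvd (by omega) h
    omega
  have hodd : Odd K.index :=
    Nat.not_even_iff_odd.mp fun h => hab (comm_of_even K hF (even_iff_two_dvd.mp h))
  have he3 : 3 ≤ K.index := by
    have h1 : K.index ≠ 1 := fun h => hKL (Subgroup.index_eq_one.mp h)
    have h2 := Nat.odd_iff.mp hodd
    omega
  by_cases hp : ∃ p m : ℕ, p.Prime ∧ Nat.card K = p ^ m
  · obtain ⟨p, m, hp, hm⟩ := hp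
    by_cases hq : (⁅K, K⁆).relIndex K ≤ 4 * K.index ^ 2 + 1
    · exact Or.inr ⟨p, hp, ⟨m, hm⟩, hab, hq⟩
    left
    push Not at hq
    refine coherent_down K hF hτ hτ1 hKL ⁅K, K⁆ (Subgroup.commutator_le_left K K)
      (coherent_abelianised K hF hτ hτ1 ⁅K, K⁆ le_rfl ?_) hq
    nlinarith
  · exact Or.inl (coherent_composite K hF hτ hτ1 hKL he3 hodd hab hp)

end Cfsg.Agent.Char.Feit
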