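import Cfsg.Agent.Lib.Char.CoherenceThm

/-!
# Extending coherent sets
-/

set_option linter.style.haveILetI false
set_option linter.unusedSectionVars false

namespace Cfsg.Agent.Char.Coherence

open scoped ComplexConjugate Classical
open Cfsg

universe u v

variable {L : Type u} [Group L] [Fintype L] {G : Type v} [Group G] [Fintype G]

theorem coeff_sum {ι : Type*} (T : Finset ι) (d n b : ι → ℝ) (hn : ∀ i ∈ T, 0 < n i) {i₁ : ι}
    (hi₁ : i₁ ∈ T) (hd : d i₁ ≠ 0) (a r : ℝ)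
    (hb : ∀ i ∈ T, d i₁ * b i = a * d i - if i = i₁ then r * n i₁ * d i₁ else 0) :
    ∑ i ∈ T, b i ^ 2 / n i =
      a ^ 2 / d i₁ ^ 2 * (∑ i ∈ T, d i ^ 2 / n i) - 2 * r * a + r ^ 2 * n i₁ := by
  have h : ∀ i ∈ T, b i ^ 2 / n i = a ^ 2 / d i₁ ^ 2 * (d i ^ 2 / n i) +
      if i = i₁ then r ^ 2 * n i₁ - 2 * r * a else 0 := by
    intro i hi
    have e : b i = (a * d i - if i = i₁ then r * n i₁ * d i₁ else 0) / d i₁ := by
      rw [eq_div_iff hd, mul_comm]; exact hb i hi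
    rw [e]
    have := (hn i hi).ne'
    split_ifs with h
    · subst h; field_simp; ring
    · field_simp; ring
  rw [Finset.sum_congr rfl h, Finset.sum_add_distrib, ← Finset.mul_sum, Finset.sum_ite_eq',
    if_pos hi₁]
  ring

theorem zero_of_quadratic {a : ℤ} {D X : ℝ} (hX : 0 ≤ X) (hlt : 2 * X < D)
    (h : (a : ℝ) ^ 2 * D ≤ 2 * a * X) : a = 0 := by
  rcases lt_trichotomy a 0 with h0 | h0 | h0
  · exfalso
    have h1 : (a : ℝ) ≤ -1 := by exact_mod_cast (show a ≤ -1 by omega)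
    nlinarith [mul_le_mul_of_nonneg_right (show (1 : ℝ) ≤ (a : ℝ) ^ 2 by nlinarith) (show (0 : ℝ) ≤ D by linarith)]
  · exact h0
  · exfalso
    have h1 : (1 : ℝ) ≤ a := by exact_mod_cast (show 1 ≤ a by omega)
    nlinarith [mul_le_mul_of_nonneg_left (show (a : ℝ) * D ≥ D by nlinarith) (show (0 : ℝ) ≤ (a : ℝ) by linarith)]

theorem spanOn_mono {S T : Set (L → ℂ)} (h : S ⊆ T) (A : Set L) : spanOn S A ≤ spanOn T A :=
  inf_le_inf_right _ (Submodule.span_mono h)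

theorem extend_eq_on {T T₀ : Finset (L → ℂ)} (hT : IsOrth T) (h : T₀ ⊆ T)
    {v τ₁ : (L → ℂ) → (G → ℂ)} (hτ₁ : Cfsg.IsLinearIsometryOn (Cfsg.zspan (↑T₀ : Set (L → ℂ))) τ₁)
    (hv : ∀ φ ∈ T₀, v φ = τ₁ φ) {θ : L → ℂ} (hθ : θ ∈ Cfsg.zspan (↑T₀ : Set (L → ℂ))) :
    extend T v θ = τ₁ θ := by
  induction hθ using Submodule.span_induction with
  | mem x hx => rw [extend_basis hT v (h hx), hv x hx]
  | zero => rw [extend_zero, iso_zero hτ₁]
  | add p q hp' hq' hp hq => rw [extend_add, hp, hq, iso_add hτ₁ hp' hq']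
  | smul c p hp' hp => rw [extend_zsmul, hp, iso_zsmul hτ₁ hp']

/-- Adding a conjugate pair to a coherent set. -/
theorem coherent_extend_pair {S : Set (L → ℂ)} {τ : (L → ℂ) → (G → ℂ)}
    {R : (L → ℂ) → Finset (G → ℂ)} (hS : Cfsg.IsCoherenceSystem S τ R) (d n : (L → ℂ) → ℕ)
    (hd : ∀ φ ∈ S, φ 1 = (d φ : ℂ)) (hn : ∀ φ ∈ S, Cfsg.classInner φ φ = (n φ : ℂ))
    (S₁ : Finset (L → ℂ)) (hS₁ : ↑S₁ ⊆ S) (hS₁c : ∀ φ ∈ S₁, Cfsg.conjFun φ ∈ S₁)
    (hcoh : Cfsg.IsCoherent (↑S₁ : Set (L → ℂ)) ({1}ᶜ : Set L) τ) {χ : L → ℂ} (hχ : χ ∈ S)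
    (hχ₁ : χ ∉ S₁) (hχ₂ : Cfsg.conjFun χ ∉ S₁) {χ₁ : L → ℂ} (hχ₁S : χ₁ ∈ S₁)
    (hdvd : d χ₁ ∣ d χ)
    (hineq : (2 * d χ * d χ₁ : ℝ) < ∑ φ ∈ S₁, ((d φ : ℝ) ^ 2 / (n φ : ℝ))) :
    Cfsg.IsCoherent (↑S₁ ∪ {χ, Cfsg.conjFun χ} : Set (L → ℂ)) ({1}ᶜ : Set L) τ := by
  obtain ⟨-, τ₁, hτ₁, hag⟩ := hcoh
  have hτ₁' : Cfsg.IsLinearIsometryOn (↑(Submodule.span ℤ (↑S₁ : Set (L → ℂ))) : Set (L → ℂ)) τ₁ := hτ₁
  have hiso : Cfsg.IsLinearIsometryOn (spanOn S ({1}ᶜ : Set L) : Set (L → ℂ)) τ := hS.isometry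
  have hnpos : ∀ φ ∈ S, 0 < n φ := fun φ hφ => Nat.pos_of_ne_zero fun h => by
    have := sys_norm_ne hS hφ
    rw [hn φ hφ, h] at this
    exact this (by simp)
  have hm₁ : χ₁ ∈ Submodule.span ℤ (↑S₁ : Set (L → ℂ)) := Submodule.subset_span hχ₁S
  have hχ₁' : χ₁ ∈ S := hS₁ hχ₁S
  have hd₁ : 0 < d χ₁ := Nat.pos_of_ne_zero fun h => by
    have h0 := IsCharacter.eq_zero_of_one (hS.isCharacter χ₁ hχ₁') (by rw [hd χ₁ hχ₁', h]; simp)
    exact hS.conj_ne χ₁ hχ₁' (by rw [h0]; funext x; simp [Cfsg.conjFun])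
  obtain ⟨r, hr⟩ := hdvd
  set c := Cfsg.conjFun χ with hc
  have hcS : c ∈ S := hS.conj_mem χ hχ
  have ne1 : ∀ φ ∈ S₁, φ ≠ χ ∧ φ ≠ c := fun φ hφ =>
    ⟨fun e => hχ₁ (e ▸ hφ), fun e => hχ₂ (e ▸ hφ)⟩
  have hu : χ - (r : ℤ) • χ₁ ∈ spanOn S ({1}ᶜ : Set L) :=
    mem_zspanOn_one.mpr ⟨Submodule.sub_mem _ (Submodule.subset_span hχ)
      (Submodule.smul_mem _ _ (Submodule.subset_span hχ₁')),
      by simp [hd χ hχ, hd χ₁ hχ₁', hr]; ring⟩
  set β := τ (χ - (r : ℤ) • χ₁) with hβ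
  have hβg := iso_gen hiso hu
  have hspan : ∀ φ ∈ S₁, ∀ α ∈ R χ, Cfsg.classInner (τ₁ φ) α = 0 := by
    intro φ hφ α hα
    obtain ⟨a, ha⟩ := coherent_in_span hS hτ₁ hag (hS₁ hφ) hφ (hS₁c φ hφ)
    rw [ha]
    exact orth_span hS hχ (hS₁ hφ) (ne1 φ hφ).1 (ne1 φ hφ).2 a hα
  have hτ₁diff : ∀ φ ∈ S₁, Cfsg.classInner (τ₁ φ) (τ (χ - c)) = 0 := by
    intro φ hφ
    rw [hS.sum_eq χ hχ, classInner_sum_right]
    exact Finset.sum_eq_zero (hspan φ hφ)
  have hbex : ∀ φ : L → ℂ, ∃ k : ℤ, φ ∈ S₁ → Cfsg.classInner β (τ₁ φ) = k := by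
    intro φ
    by_cases hφ : φ ∈ S₁
    · obtain ⟨k, hk⟩ := IsGeneralizedCharacter.exists_classInner_int hβg
        (iso_gen hτ₁' (Submodule.subset_span hφ))
      exact ⟨k, fun _ => hk⟩
    · exact ⟨0, fun h => absurd h hφ⟩
  choose b hb using hbex
  have o : ∀ φ ∈ S₁, Cfsg.classInner χ φ = 0 := fun φ hφ =>
    hS.orthogonal χ hχ φ (hS₁ hφ) (ne1 φ hφ).1.symm
  have hrel : ∀ φ ∈ S₁, (d χ₁ : ℤ) * b φ = (b χ₁ + r * n χ₁) * d φ -
      if φ = χ₁ then (r * n χ₁ * d χ₁ : ℤ) else 0 := by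
    intro φ hφ
    have hm : (d χ₁ : ℤ) • φ - (d φ : ℤ) • χ₁ ∈ Cfsg.zspanOn (↑S₁ : Set (L → ℂ)) ({1}ᶜ : Set L) :=
      mem_zspanOn_one.mpr ⟨Submodule.sub_mem _ (Submodule.smul_mem _ _ (Submodule.subset_span hφ))
        (Submodule.smul_mem _ _ hm₁), by simp [hd φ (hS₁ hφ), hd χ₁ hχ₁']; ring⟩
    have h := iso_inner hiso hu (spanOn_mono hS₁ _ hm)
    rw [← hag _ hm, iso_sub hτ₁' (Submodule.smul_mem _ _ (Submodule.subset_span hφ))
      (Submodule.smul_mem _ _ hm₁), iso_zsmul hτ₁' (Submodule.subset_span hφ),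
      iso_zsmul hτ₁' hm₁, ← hβ] at h
    simp only [classInner_sub_right, classInner_zsmul_right, hb φ hφ, hb χ₁ hχ₁S,
      classInner_sub_left, classInner_zsmul_left, o φ hφ, o χ₁ hχ₁S, hn χ₁ hχ₁'] at h
    have h2 : ((d χ₁ : ℤ) : ℂ) * b φ = ((b χ₁ + r * n χ₁ : ℤ) : ℂ) * (d φ : ℤ) -
        ((if φ = χ₁ then (r * n χ₁ * d χ₁ : ℤ) else 0 : ℤ) : ℂ) := by
      by_cases e : φ = χ₁
      · subst e; rw [if_pos rfl]; push_cast; ring
      · rw [hS.orthogonal χ₁ hχ₁' φ (hS₁ hφ) (Ne.symm e)] at h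
        rw [if_neg e]
        push_cast at h ⊢
        linear_combination h
    exact_mod_cast h2
  obtain ⟨a, ha, hale, -⟩ := exists_coeff_R hS hχ hβg (n := n χ)
    (by rw [iso_inner hiso hu (diff_mem hS hχ), classInner_sub_left, inner_diff hS hχ,
      classInner_zsmul_left, classInner_sub_right χ₁, hS.orthogonal χ₁ hχ₁' χ hχ (ne1 χ₁ hχ₁S).1,
      hS.orthogonal χ₁ hχ₁' _ hcS (ne1 χ₁ hχ₁S).2, hn χ hχ]; simp)
  have hN : Cfsg.classInner β β = (((n χ + r ^ 2 * n χ₁ : ℕ) : ℝ) : ℂ) := by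
    rw [iso_inner hiso hu hu]
    simp only [classInner_sub_left, classInner_sub_right, classInner_zsmul_left,
      classInner_zsmul_right, o χ₁ hχ₁S, hS.orthogonal χ₁ hχ₁' χ hχ (ne1 χ₁ hχ₁S).1,
      hn χ hχ, hn χ₁ hχ₁']
    push_cast; ring
  have hB := (bessel ((R χ).disjSum S₁) (Sum.elim (fun α => α) τ₁)
    (Sum.elim (fun _ => (1 : ℝ)) (fun φ => (n φ : ℝ)))
    (Sum.elim (fun α => (a α : ℝ)) (fun φ => (b φ : ℝ)))
    (by
      rintro (i | i) hi <;> simp only [Finset.inl_mem_disjSum, Finset.inr_mem_disjSum] at hi <;>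
        simp only [Sum.elim_inl, Sum.elim_inr]
      · exact one_pos
      · exact Nat.cast_pos.mpr (hnpos i (hS₁ hi)))
    (by
      rintro (i | i) hi (j | j) hj hne <;> simp only [Finset.inl_mem_disjSum,
        Finset.inr_mem_disjSum] at hi hj <;> simp only [Sum.elim_inl, Sum.elim_inr]
      · rw [hS.orthonormal χ hχ i hi j hj, if_neg (fun e => hne (congrArg _ e))]
      · rw [← classInner_conj_symm (τ₁ j) i, hspan j hj i hi, map_zero]
      · exact hspan i hi j hj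
      · rw [iso_inner hτ₁' (Submodule.subset_span hi) (Submodule.subset_span hj)]
        exact hS.orthogonal i (hS₁ hi) j (hS₁ hj) (fun e => hne (congrArg _ e)))
    (by
      rintro (i | i) hi <;> simp only [Finset.inl_mem_disjSum, Finset.inr_mem_disjSum] at hi <;>
        simp only [Sum.elim_inl, Sum.elim_inr]
      · simp [hS.orthonormal χ hχ i hi i hi]
      · rw [iso_inner hτ₁' (Submodule.subset_span hi) (Submodule.subset_span hi), hn i (hS₁ hi)]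
        simp)
    (by
      rintro (i | i) hi <;> simp only [Finset.inl_mem_disjSum, Finset.inr_mem_disjSum] at hi <;>
        simp only [Sum.elim_inl, Sum.elim_inr]
      · exact (ha i hi).trans (Complex.ofReal_intCast _).symm
      · exact (hb i hi).trans (Complex.ofReal_intCast _).symm)
    hN).1
  rw [Finset.sum_disjSum] at hB
  simp only [Sum.elim_inl, Sum.elim_inr, div_one] at hB
  rw [coeff_sum S₁ (fun φ => (d φ : ℝ)) (fun φ => (n φ : ℝ)) (fun φ => (b φ : ℝ))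
    (fun φ hφ => Nat.cast_pos.mpr (hnpos φ (hS₁ hφ))) hχ₁S (Nat.cast_ne_zero.mpr hd₁.ne')
    ((b χ₁ + r * n χ₁ : ℤ) : ℝ) (r : ℝ) (fun φ hφ => by
      have h := hrel φ hφ
      split_ifs at h ⊢ with e <;> exact_mod_cast h)] at hB
  have hale' : (n χ : ℝ) ≤ ∑ α ∈ R χ, (a α : ℝ) ^ 2 := by exact_mod_cast hale
  have hA : b χ₁ + r * n χ₁ = 0 := by
    refine zero_of_quadratic (D := ∑ φ ∈ S₁, ((d φ : ℝ) ^ 2 / (n φ : ℝ))) (X := (d χ * d χ₁ : ℝ)) (by positivity) (by linarith [hineq]) ?_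
    have hd₁' : (0 : ℝ) < d χ₁ := Nat.cast_pos.mpr hd₁
    have h' : ((b χ₁ + r * n χ₁ : ℤ) : ℝ) ^ 2 / (d χ₁ : ℝ) ^ 2 *
        (∑ φ ∈ S₁, ((d φ : ℝ) ^ 2 / (n φ : ℝ))) ≤ 2 * (r : ℝ) * ((b χ₁ + r * n χ₁ : ℤ) : ℝ) := by
      push_cast at hB ⊢; linarith
    rw [div_mul_eq_mul_div, div_le_iff₀ (by positivity)] at h'
    refine h'.trans (le_of_eq ?_)
    rw [hr]; push_cast; ring
  have hb₀ : ∀ φ ∈ S₁, (b φ : ℂ) = if φ = χ₁ then -((r : ℂ) * n χ₁) else 0 := by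
    intro φ hφ
    have h := hrel φ hφ
    rw [hA, zero_mul, zero_sub] at h
    have hd₁z : (d χ₁ : ℤ) ≠ 0 := Nat.cast_ne_zero.mpr hd₁.ne'
    split_ifs at h ⊢ with e
    · have : b φ = -((r : ℤ) * n χ₁) := mul_left_cancel₀ hd₁z (by rw [h]; ring)
      rw [this]; push_cast; ring
    · rw [neg_zero, mul_eq_zero] at h
      rw [h.resolve_left hd₁z, Int.cast_zero]
  set X := β + (r : ℤ) • τ₁ χ₁ with hX
  have hXg : Cfsg.IsGeneralizedCharacter G X :=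
    IsGeneralizedCharacter.add hβg (IsGeneralizedCharacter.zsmul (iso_gen hτ₁' hm₁) _)
  have hXφ : ∀ φ ∈ S₁, Cfsg.classInner X (τ₁ φ) = 0 := by
    intro φ hφ
    rw [hX, classInner_add_left, hb φ hφ, hb₀ φ hφ, classInner_zsmul_left,
      iso_inner hτ₁' hm₁ (Submodule.subset_span hφ)]
    split_ifs with e
    · subst e; rw [hn φ hχ₁']; push_cast; ring
    · rw [hS.orthogonal χ₁ hχ₁' φ (hS₁ hφ) (Ne.symm e)]; simp
  have hXX : Cfsg.classInner X X = n χ := by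
    have e1 : Cfsg.classInner β (τ₁ χ₁) = -((r : ℂ) * n χ₁) := by
      rw [hb χ₁ hχ₁S, hb₀ χ₁ hχ₁S, if_pos rfl]
    have e2 : Cfsg.classInner (τ₁ χ₁) β = -((r : ℂ) * n χ₁) := by
      rw [← classInner_conj_symm, e1]; simp
    simp only [hX, classInner_add_left, classInner_add_right, classInner_zsmul_left,
      classInner_zsmul_right, hN, e1, e2, iso_inner hτ₁' hm₁ hm₁, hn χ₁ hχ₁']
    push_cast; ring
  have hXd : Cfsg.classInner X (τ (χ - c)) = n χ := by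
    rw [hX, classInner_add_left, classInner_zsmul_left, hτ₁diff χ₁ hχ₁S,
      iso_inner hiso hu (diff_mem hS hχ), classInner_sub_left, inner_diff hS hχ,
      classInner_zsmul_left, classInner_sub_right χ₁, hS.orthogonal χ₁ hχ₁' χ hχ (ne1 χ₁ hχ₁S).1,
      hS.orthogonal χ₁ hχ₁' _ hcS (ne1 χ₁ hχ₁S).2, hn χ hχ]
    simp
  have hdd : Cfsg.classInner (τ (χ - c)) (τ (χ - c)) = 2 * n χ := by
    rw [iso_inner hiso (diff_mem hS hχ) (diff_mem hS hχ)]
    simp only [hc, classInner_sub_left, classInner_sub_right,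
      hS.orthogonal χ hχ _ (hS.conj_mem χ hχ) (hS.conj_ne χ hχ).symm,
      hS.orthogonal _ (hS.conj_mem χ hχ) χ hχ (hS.conj_ne χ hχ), conj_norm hS hχ, hn χ hχ]
    ring
  set T := insert χ (insert c S₁) with hT
  have hTset : (↑T : Set (L → ℂ)) = ↑S₁ ∪ {χ, c} := by
    ext x; simp [hT]
  have hTS : ↑T ⊆ S := by
    rw [hTset]
    exact Set.union_subset hS₁ (Set.insert_subset hχ (Set.singleton_subset_iff.mpr hcS))
  have hOT := sys_isOrth hS hTS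
  have hχc : χ ≠ c := (hS.conj_ne χ hχ).symm
  set v : (L → ℂ) → (G → ℂ) := fun φ =>
    if φ = χ then X else if φ = c then X - τ (χ - c) else τ₁ φ with hv
  have hvχ : v χ = X := if_pos rfl
  have hvc : v c = X - τ (χ - c) := by rw [hv]; simp [hχc.symm]
  have hv1 : ∀ φ ∈ S₁, v φ = τ₁ φ := fun φ hφ => by rw [hv]; simp [(ne1 φ hφ).1, (ne1 φ hφ).2]
  rw [← hTset]
  refine isCoherent_extend hOT
    ⟨χ - c, mem_zspanOn_one.mpr ⟨Submodule.sub_mem _ (Submodule.subset_span (by simp [hT]))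
      (Submodule.subset_span (by simp [hT])), by simp [hc, conj_one hS hχ]⟩,
      diff_ne hS hχ⟩ v ?_ ?_ ?_
  · intro φ hφ
    rw [hT, Finset.mem_insert, Finset.mem_insert] at hφ
    rcases hφ with rfl | rfl | hφ
    · rw [hvχ]; exact hXg
    · rw [hvc]; exact IsGeneralizedCharacter.sub hXg (iso_gen hiso (diff_mem hS hχ))
    · rw [hv1 φ hφ]; exact iso_gen hτ₁' (Submodule.subset_span hφ)
  · have hXφ' : ∀ φ ∈ S₁, Cfsg.classInner (τ₁ φ) X = 0 := fun φ hφ => by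
      rw [← classInner_conj_symm, hXφ φ hφ, map_zero]
    have hdφ : ∀ φ ∈ S₁, Cfsg.classInner (τ (χ - c)) (τ₁ φ) = 0 := fun φ hφ => by
      rw [← classInner_conj_symm, hτ₁diff φ hφ, map_zero]
    have hdX : Cfsg.classInner (τ (χ - c)) X = n χ := by
      rw [← classInner_conj_symm, hXd, map_natCast]
    intro φ hφ ψ hψ
    rw [hT, Finset.mem_insert, Finset.mem_insert] at hφ hψ
    rcases hφ with hφ | hφ | hφ <;> rcases hψ with hψ | hψ | hψ <;>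
      (try rw [hφ]) <;> (try rw [hψ])
    · rw [hvχ, hXX, hn χ hχ]
    · rw [hvχ, hvc, classInner_sub_right, hXX, hXd, sub_self,
        hS.orthogonal χ hχ _ hcS hχc]
    · rw [hvχ, hv1 ψ hψ, hXφ ψ hψ, o ψ hψ]
    · rw [hvχ, hvc, classInner_sub_left, hXX, hdX, sub_self,
        hS.orthogonal _ hcS χ hχ hχc.symm]
    · rw [hvc, classInner_sub_left, classInner_sub_right, classInner_sub_right, hXX, hXd, hdX, hdd]
      rw [hc, conj_norm hS hχ, hn χ hχ]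
      ring
    · rw [hvc, hv1 ψ hψ, classInner_sub_left, hXφ ψ hψ, hdφ ψ hψ, sub_zero,
        hS.orthogonal _ hcS ψ (hS₁ hψ) (ne1 ψ hψ).2.symm]
    · rw [hvχ, hv1 φ hφ, hXφ' φ hφ, hS.orthogonal φ (hS₁ hφ) χ hχ (ne1 φ hφ).1]
    · rw [hvc, hv1 φ hφ, classInner_sub_right, hXφ' φ hφ, hτ₁diff φ hφ, sub_zero,
        hS.orthogonal φ (hS₁ hφ) _ hcS (ne1 φ hφ).2]
    · rw [hv1 φ hφ, hv1 ψ hψ, iso_inner hτ₁' (Submodule.subset_span hφ) (Submodule.subset_span hψ)]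
  · intro θ hθ
    rw [hTset, mem_zspanOn_one, mem_zspan, Submodule.span_union, Submodule.mem_sup] at hθ
    obtain ⟨⟨θ₁, hθ₁, θ₂, hθ₂, rfl⟩, h0⟩ := hθ
    obtain ⟨p, q, rfl⟩ := Submodule.mem_span_pair.mp hθ₂
    have hm : θ₁ + ((p + q) * r) • χ₁ ∈ Cfsg.zspanOn (↑S₁ : Set (L → ℂ)) ({1}ᶜ : Set L) := by
      refine mem_zspanOn_one.mpr ⟨Submodule.add_mem _ hθ₁ (Submodule.smul_mem _ _ hm₁), ?_⟩
      simp only [hc, Pi.add_apply, Pi.smul_apply, Pi.mul_apply, Pi.intCast_apply, zsmul_eq_mul,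
        conj_one hS hχ, hd χ hχ] at h0
      simp only [Pi.add_apply, Pi.smul_apply, Pi.mul_apply, Pi.intCast_apply, zsmul_eq_mul,
        hd χ₁ hχ₁']
      rw [hr] at h0
      push_cast at h0 ⊢
      linear_combination h0
    have e : θ₁ + (p • χ + q • c) = (θ₁ + ((p + q) * r) • χ₁) +
        (p + q) • (χ - (r : ℤ) • χ₁) - q • (χ - c) := by
      rw [smul_sub, smul_sub, smul_smul, add_smul p q χ]
      abel
    have h1 := spanOn_mono hS₁ _ hm
    have h2 := (spanOn S ({1}ᶜ : Set L)).smul_mem (p + q) hu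
    have h3 := (spanOn S ({1}ᶜ : Set L)).smul_mem q (diff_mem hS hχ)
    rw [e, iso_sub hiso (Submodule.add_mem _ h1 h2) h3, iso_add hiso h1 h2, iso_zsmul hiso hu,
      iso_zsmul hiso (diff_mem hS hχ), extend_sub, extend_add, extend_zsmul, extend_zsmul,
      extend_eq_on hOT (by rw [hT]; exact (Finset.subset_insert _ _).trans (Finset.subset_insert _ _))
        hτ₁ hv1 (mem_zspanOn_one.mp hm).1, hag _ hm, extend_sub _ _ χ c, extend_sub _ _ χ,
      extend_zsmul, extend_basis hOT v (Finset.mem_insert_self _ _),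
      extend_basis hOT v (by simp [hT] : c ∈ T), extend_basis hOT v (by simp [hT, hχ₁S] : χ₁ ∈ T),
      hvχ, hvc, hv1 χ₁ hχ₁S, hX]
    simp only [← hβ, smul_sub, smul_add, smul_smul]
    abel

theorem coherent_extend_one {S₀ : Finset (L → ℂ)} {χ : L → ℂ}
    (hirr : ∀ ξ ∈ S₀, Cfsg.IsIrrCharacter L ξ) (hχ : Cfsg.IsIrrCharacter L χ) (hχS : χ ∉ S₀)
    (d : (L → ℂ) → ℕ) (hd : ∀ ξ ∈ insert χ S₀, ξ 1 = (d ξ : ℂ)) {τ : (L → ℂ) → (G → ℂ)}
    (hτ : Cfsg.IsLinearIsometryOn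
      (Cfsg.zspanOn (↑(insert χ S₀) : Set (L → ℂ)) ({1}ᶜ : Set L)) τ)
    (hτ1 : ∀ α ∈ Cfsg.zspanOn (↑(insert χ S₀) : Set (L → ℂ)) ({1}ᶜ : Set L), τ α 1 = 0)
    (hcoh : Cfsg.IsCoherent (↑S₀ : Set (L → ℂ)) ({1}ᶜ : Set L) τ) {ψ : L → ℂ} (hψ : ψ ∈ S₀)
    (hdvd : d ψ ∣ d χ) (hlt : 2 * d ψ * d χ < ∑ ξ ∈ S₀, d ξ ^ 2) :
    Cfsg.IsCoherent (↑(insert χ S₀) : Set (L → ℂ)) ({1}ᶜ : Set L) τ := by
  obtain ⟨⟨α₀, hα₀, hα₀'⟩, τ₁, hτ₁, hag⟩ := hcoh
  set T := insert χ S₀ with hT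
  have hsub : (↑S₀ : Set (L → ℂ)) ⊆ ↑T := by simp [hT]
  have hτ₁' : Cfsg.IsLinearIsometryOn (↑(Submodule.span ℤ (↑S₀ : Set (L → ℂ))) : Set (L → ℂ)) τ₁ := hτ₁
  have hiso : Cfsg.IsLinearIsometryOn (spanOn (↑T : Set (L → ℂ)) ({1}ᶜ : Set L) : Set (L → ℂ)) τ := hτ
  have hT' : ∀ ξ ∈ T, Cfsg.IsIrrCharacter L ξ := Finset.forall_mem_insert _ _ _ |>.mpr ⟨hχ, hirr⟩
  have hdψ := hd ψ (Finset.mem_insert_of_mem hψ)
  have hdψ0 : 0 < d ψ := by
    obtain ⟨k, hk, e⟩ := IsIrrCharacter.exists_degree (hirr ψ hψ)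
    rw [hdψ] at e
    exact (Nat.cast_injective e) ▸ hk
  obtain ⟨r, hr⟩ := hdvd
  have hm₁ : ψ ∈ Submodule.span ℤ (↑S₀ : Set (L → ℂ)) := Submodule.subset_span hψ
  have hu : χ - (r : ℤ) • ψ ∈ spanOn (↑T : Set (L → ℂ)) ({1}ᶜ : Set L) :=
    mem_zspanOn_one.mpr ⟨Submodule.sub_mem _ (Submodule.subset_span (Finset.mem_insert_self _ _))
      (Submodule.smul_mem _ _ (Submodule.subset_span (hsub hψ))),
      by simp [hd χ (Finset.mem_insert_self _ _), hdψ, hr]; ring⟩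
  set β := τ (χ - (r : ℤ) • ψ) with hβ
  have hβg := iso_gen hiso hu
  have o : ∀ φ ∈ S₀, Cfsg.classInner χ φ = 0 := fun φ hφ =>
    classInner_irr_of_ne hχ (hirr φ hφ) fun e => hχS (e ▸ hφ)
  have o' : ∀ φ ∈ S₀, Cfsg.classInner φ χ = 0 := fun φ hφ =>
    classInner_irr_of_ne (hirr φ hφ) hχ fun e => hχS (e ▸ hφ)
  have hbex : ∀ φ : L → ℂ, ∃ k : ℤ, φ ∈ S₀ → Cfsg.classInner β (τ₁ φ) = k := by
    intro φ
    by_cases hφ : φ ∈ S₀
    · obtain ⟨k, hk⟩ := IsGeneralizedCharacter.exists_classInner_int hβg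
        (iso_gen hτ₁' (Submodule.subset_span hφ))
      exact ⟨k, fun _ => hk⟩
    · exact ⟨0, fun h => absurd h hφ⟩
  choose b hb using hbex
  have hm : ∀ φ ∈ S₀, (d ψ : ℤ) • φ - (d φ : ℤ) • ψ ∈
      Cfsg.zspanOn (↑S₀ : Set (L → ℂ)) ({1}ᶜ : Set L) := fun φ hφ =>
    mem_zspanOn_one.mpr ⟨Submodule.sub_mem _ (Submodule.smul_mem _ _ (Submodule.subset_span hφ))
      (Submodule.smul_mem _ _ hm₁),
      by simp [hd φ (Finset.mem_insert_of_mem hφ), hdψ]; ring⟩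
  have hexp : ∀ φ ∈ S₀, τ ((d ψ : ℤ) • φ - (d φ : ℤ) • ψ) =
      (d ψ : ℤ) • τ₁ φ - (d φ : ℤ) • τ₁ ψ := fun φ hφ => by
    rw [← hag _ (hm φ hφ), iso_sub hτ₁' (Submodule.smul_mem _ _ (Submodule.subset_span hφ))
      (Submodule.smul_mem _ _ hm₁), iso_zsmul hτ₁' (Submodule.subset_span hφ),
      iso_zsmul hτ₁' hm₁]
  have hrel : ∀ φ ∈ S₀, (d ψ : ℤ) * b φ = (b ψ + r) * d φ -
      if φ = ψ then (r * d ψ : ℤ) else 0 := by
    intro φ hφ
    have h := iso_inner hiso hu (spanOn_mono hsub _ (hm φ hφ))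
    rw [hexp φ hφ, ← hβ] at h
    simp only [classInner_sub_right, classInner_zsmul_right, hb φ hφ, hb ψ hψ,
      classInner_sub_left, classInner_zsmul_left, o φ hφ, o ψ hψ,
      classInner_self_irr (hirr ψ hψ)] at h
    have h2 : ((d ψ : ℤ) : ℂ) * b φ = ((b ψ + r : ℤ) : ℂ) * (d φ : ℤ) -
        ((if φ = ψ then (r * d ψ : ℤ) else 0 : ℤ) : ℂ) := by
      by_cases e : φ = ψ
      · subst e; rw [if_pos rfl]; push_cast; ring
      · rw [classInner_irr_of_ne (hirr ψ hψ) (hirr φ hφ) (Ne.symm e)] at h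
        rw [if_neg e]
        push_cast at h ⊢
        linear_combination h
    exact_mod_cast h2
  have hN : Cfsg.classInner β β = (((1 + r ^ 2 : ℕ) : ℝ) : ℂ) := by
    rw [iso_inner hiso hu hu]
    simp only [classInner_sub_left, classInner_sub_right, classInner_zsmul_left,
      classInner_zsmul_right, o ψ hψ, o' ψ hψ, classInner_self_irr hχ,
      classInner_self_irr (hirr ψ hψ)]
    push_cast; ring
  have hτ₁n : ∀ φ ∈ S₀, Cfsg.classInner (τ₁ φ) (τ₁ φ) = 1 := fun φ hφ => by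
    rw [iso_inner hτ₁' (Submodule.subset_span hφ) (Submodule.subset_span hφ),
      classInner_self_irr (hirr φ hφ)]
  have hτ₁o : ∀ φ ∈ S₀, ∀ η ∈ S₀, φ ≠ η → Cfsg.classInner (τ₁ φ) (τ₁ η) = 0 :=
    fun φ hφ η hη hne => by
      rw [iso_inner hτ₁' (Submodule.subset_span hφ) (Submodule.subset_span hη),
        classInner_irr_of_ne (hirr φ hφ) (hirr η hη) hne]
  have hB := bessel S₀ τ₁ (fun _ => (1 : ℝ)) (fun φ => (b φ : ℝ)) (fun _ _ => one_pos) hτ₁o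
    (fun φ hφ => by simpa using hτ₁n φ hφ)
    (fun φ hφ => (hb φ hφ).trans (Complex.ofReal_intCast _).symm) hN
  set A := b ψ + r with hAdef
  have hsum := coeff_sum S₀ (fun φ => (d φ : ℝ)) (fun _ => (1 : ℝ)) (fun φ => (b φ : ℝ))
    (fun _ _ => one_pos) hψ (Nat.cast_ne_zero.mpr hdψ0.ne') (A : ℝ) (r : ℝ) (fun φ hφ => by
      have h := hrel φ hφ
      simp only [mul_one]
      split_ifs at h ⊢ with e <;> exact_mod_cast h)
  simp only [div_one, mul_one] at hsum hB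
  have hA : A = 0 := by
    by_contra hne
    have hdψ' : (0 : ℝ) < d ψ := Nat.cast_pos.mpr hdψ0
    have hlt' : (2 * d ψ * d χ : ℝ) < ∑ ξ ∈ S₀, (d ξ : ℝ) ^ 2 := by exact_mod_cast hlt
    have hpos : (2 : ℝ) * r * A < (A : ℝ) ^ 2 / (d ψ : ℝ) ^ 2 * ∑ ξ ∈ S₀, (d ξ : ℝ) ^ 2 := by
      rw [div_mul_eq_mul_div, lt_div_iff₀ (by positivity)]
      by_contra hc
      push Not at hc
      refine hne (zero_of_quadratic (D := ∑ ξ ∈ S₀, (d ξ : ℝ) ^ 2) (X := (d ψ * d χ : ℝ)) (by positivity) (by linarith) ?_)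
      refine hc.trans (le_of_eq ?_)
      rw [hr]; push_cast; ring
    have h1 : ∑ φ ∈ S₀, (b φ : ℝ) ^ 2 < (((1 + r ^ 2 : ℕ) : ℝ)) + 0 ∧
        ∑ φ ∈ S₀, (b φ : ℝ) ^ 2 > (((r ^ 2 : ℕ) : ℝ)) := by
      constructor
      · rcases hB.1.lt_or_eq with h | h
        · linarith
        · exfalso
          push_cast at h
          have hzero := congrFun (hB.2 (by push_cast; linarith)) 1
          rw [show β 1 = 0 from hτ1 _ hu] at hzero
          simp only [Finset.sum_apply, Pi.smul_apply, smul_eq_mul, div_one] at hzero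
          have hk : τ₁ ψ 1 ≠ 0 := by
            intro h0
            rcases IsGeneralizedCharacter.of_norm_one (iso_gen hτ₁' hm₁) (hτ₁n ψ hψ) with hi | hi
            · exact IsIrrCharacter.one_ne_zero hi h0
            · exact IsIrrCharacter.one_ne_zero hi (by simp [h0])
          have hval : ∀ φ ∈ S₀, (d ψ : ℂ) * τ₁ φ 1 = (d φ : ℂ) * τ₁ ψ 1 := by
            intro φ hφ
            have h := hτ1 _ (spanOn_mono hsub _ (hm φ hφ))
            rw [hexp φ hφ] at h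
            simpa [sub_eq_zero] using h
          have e1 : ∀ φ ∈ S₀, (d ψ : ℂ) ^ 2 * (((b φ : ℝ) : ℂ) * τ₁ φ 1) =
              ((A : ℂ) * (d φ : ℂ) ^ 2 - if φ = ψ then (r : ℂ) * d ψ * d ψ else 0) * τ₁ ψ 1 := by
            intro φ hφ
            have h := congrArg (fun z : ℤ => (z : ℂ)) (hrel φ hφ)
            push_cast at h
            rw [Complex.ofReal_intCast, show (d ψ : ℂ) ^ 2 * ((b φ : ℂ) * τ₁ φ 1) =
              ((d ψ : ℂ) * b φ) * ((d ψ : ℂ) * τ₁ φ 1) by ring, hval φ hφ, h]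
            split_ifs with e
            · subst e; push_cast [hAdef]; ring
            · push_cast [hAdef]; ring
          have h2 := congrArg (fun z => (d ψ : ℂ) ^ 2 * z) hzero
          simp only [mul_zero, Finset.mul_sum] at h2
          rw [Finset.sum_congr rfl e1, ← Finset.sum_mul, Finset.sum_sub_distrib,
            Finset.sum_ite_eq', if_pos hψ, ← Finset.mul_sum, eq_comm, mul_eq_zero,
            or_iff_left hk, sub_eq_zero] at h2
          have h3 : A * (∑ φ ∈ S₀, (d φ : ℤ) ^ 2) = (r : ℤ) * d ψ * d ψ := by exact_mod_cast h2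
          have h4 : (2 : ℤ) * d ψ * d χ < ∑ φ ∈ S₀, (d φ : ℤ) ^ 2 := by exact_mod_cast hlt
          rw [hr] at h4; push_cast at h4
          rcases lt_trichotomy A 0 with a0 | a0 | a0
          · nlinarith [sq_nonneg (d ψ : ℤ), mul_nonneg (Int.natCast_nonneg r) (sq_nonneg (d ψ : ℤ))]
          · exact hne a0
          · nlinarith [mul_nonneg (Int.natCast_nonneg r) (sq_nonneg (d ψ : ℤ)),
              mul_le_mul_of_nonneg_right (show (1 : ℤ) ≤ A by omega)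
                (Finset.sum_nonneg fun φ (_ : φ ∈ S₀) => sq_nonneg (d φ : ℤ))]
      · rw [hsum]; push_cast; linarith
    obtain ⟨h1, h1'⟩ := h1
    rw [add_zero] at h1
    have e1 : (∑ φ ∈ S₀, b φ ^ 2 : ℤ) < ((1 + r ^ 2 : ℕ) : ℤ) := by exact_mod_cast h1
    have e2 : ((r ^ 2 : ℕ) : ℤ) < (∑ φ ∈ S₀, b φ ^ 2 : ℤ) := by exact_mod_cast h1'
    push_cast at e1 e2
    omega
  have hb₀ : ∀ φ ∈ S₀, (b φ : ℂ) = if φ = ψ then -(r : ℂ) else 0 := by
    intro φ hφ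
    have h := hrel φ hφ
    rw [hA, zero_mul, zero_sub] at h
    have hd₁z : (d ψ : ℤ) ≠ 0 := Nat.cast_ne_zero.mpr hdψ0.ne'
    split_ifs at h ⊢ with e
    · have : b φ = -(r : ℤ) := mul_left_cancel₀ hd₁z (by rw [h]; ring)
      rw [this]; push_cast; ring
    · rw [neg_zero, mul_eq_zero] at h
      rw [h.resolve_left hd₁z, Int.cast_zero]
  set X := β + (r : ℤ) • τ₁ ψ with hX
  have hXφ : ∀ φ ∈ S₀, Cfsg.classInner X (τ₁ φ) = 0 := by
    intro φ hφ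
    rw [hX, classInner_add_left, hb φ hφ, hb₀ φ hφ, classInner_zsmul_left]
    split_ifs with e
    · subst e; rw [hτ₁n φ hφ]; simp
    · rw [hτ₁o ψ hψ φ hφ (Ne.symm e)]; simp
  have hXX : Cfsg.classInner X X = 1 := by
    have e1 : Cfsg.classInner β (τ₁ ψ) = -(r : ℂ) := by rw [hb ψ hψ, hb₀ ψ hψ, if_pos rfl]
    have e2 : Cfsg.classInner (τ₁ ψ) β = -(r : ℂ) := by rw [← classInner_conj_symm, e1]; simp
    simp only [hX, classInner_add_left, classInner_add_right, classInner_zsmul_left,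
      classInner_zsmul_right, hN, e1, e2, hτ₁n ψ hψ]
    push_cast; ring
  have hOT := irr_isOrth hT'
  set v : (L → ℂ) → (G → ℂ) := fun φ => if φ = χ then X else τ₁ φ with hv
  have hvχ : v χ = X := if_pos rfl
  have hv1 : ∀ φ ∈ S₀, v φ = τ₁ φ := fun φ hφ =>
    if_neg (fun e : φ = χ => hχS (e ▸ hφ))
  refine isCoherent_extend hOT ⟨α₀, spanOn_mono hsub _ hα₀, hα₀'⟩ v ?_ ?_ ?_
  · intro φ hφ
    rw [hT, Finset.mem_insert] at hφ
    rcases hφ with rfl | hφ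
    · rw [hvχ]
      exact IsGeneralizedCharacter.add hβg (IsGeneralizedCharacter.zsmul (iso_gen hτ₁' hm₁) _)
    · rw [hv1 φ hφ]; exact iso_gen hτ₁' (Submodule.subset_span hφ)
  · intro φ hφ η hη
    rw [hT, Finset.mem_insert] at hφ hη
    rcases hφ with rfl | hφ <;> rcases hη with rfl | hη
    · rw [hvχ, hXX, classInner_self_irr hχ]
    · rw [hvχ, hv1 η hη, hXφ η hη, o η hη]
    · rw [hvχ, hv1 φ hφ, ← classInner_conj_symm, hXφ φ hφ, map_zero, o' φ hφ]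
    · rw [hv1 φ hφ, hv1 η hη, iso_inner hτ₁' (Submodule.subset_span hφ) (Submodule.subset_span hη)]
  · intro θ hθ
    rw [hT, Finset.coe_insert, mem_zspanOn_one, mem_zspan, Submodule.mem_span_insert] at hθ
    obtain ⟨⟨p, θ₁, hθ₁, rfl⟩, h0⟩ := hθ
    have hmem : θ₁ + (p * r) • ψ ∈ Cfsg.zspanOn (↑S₀ : Set (L → ℂ)) ({1}ᶜ : Set L) := by
      refine mem_zspanOn_one.mpr ⟨Submodule.add_mem _ hθ₁ (Submodule.smul_mem _ _ hm₁), ?_⟩
      simp only [Pi.add_apply, Pi.smul_apply, Pi.mul_apply, Pi.intCast_apply, zsmul_eq_mul,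
        hd χ (Finset.mem_insert_self _ _)] at h0
      simp only [Pi.add_apply, Pi.smul_apply, Pi.mul_apply, Pi.intCast_apply, zsmul_eq_mul, hdψ]
      rw [hr] at h0
      push_cast at h0 ⊢
      linear_combination h0
    have e : p • χ + θ₁ = (θ₁ + (p * r) • ψ) + p • (χ - (r : ℤ) • ψ) := by
      rw [smul_sub, smul_smul]; abel
    have h1 := spanOn_mono hsub _ hmem
    have h2 := (spanOn (↑T : Set (L → ℂ)) ({1}ᶜ : Set L)).smul_mem p hu
    rw [e, iso_add hiso h1 h2, iso_zsmul hiso hu, extend_add, extend_zsmul,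
      extend_eq_on hOT (Finset.subset_insert _ _) hτ₁ hv1 (mem_zspanOn_one.mp hmem).1,
      hag _ hmem, extend_sub, extend_zsmul, extend_basis hOT v (Finset.mem_insert_self _ _),
      extend_basis hOT v (Finset.mem_insert_of_mem hψ), hvχ, hv1 ψ hψ, hX]
    simp only [← hβ, smul_sub, smul_add, smul_smul]
    abel

theorem irr_set_finite {S : Set (L → ℂ)} (h : ∀ χ ∈ S, Cfsg.IsIrrCharacter L χ) : S.Finite :=
  (Set.finite_range (fun χ : Cfsg.IrrCharacter L => (χ : L → ℂ))).subset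
    fun χ hχ => ⟨⟨χ, h χ hχ⟩, rfl⟩

/-- Orthogonality and gluing of two coherent sets. -/
theorem glue {S X Y : Set (L → ℂ)} (hirr : ∀ ξ ∈ S, Cfsg.IsIrrCharacter L ξ) (hXS : X ⊆ S)
    (hYS : Y ⊆ S) (hXY : Disjoint X Y) (hX2 : ∃ a ∈ X, ∃ b ∈ X, a ≠ b)
    (hY2 : ∃ a ∈ Y, ∃ b ∈ Y, a ≠ b) {α : (L → ℂ) → (G → ℂ)}
    (hα : Cfsg.IsLinearIsometryOn (Cfsg.zspanOn S ({1}ᶜ : Set L)) α)
    (hα1 : ∀ θ ∈ Cfsg.zspanOn S ({1}ᶜ : Set L), α θ 1 = 0) {σ τ : (L → ℂ) → (G → ℂ)}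
    (hσ : Cfsg.IsLinearIsometryOn (Cfsg.zspan X) σ)
    (hσα : ∀ θ ∈ Cfsg.zspanOn X ({1}ᶜ : Set L), σ θ = α θ)
    (hτ : Cfsg.IsLinearIsometryOn (Cfsg.zspan Y) τ)
    (hτα : ∀ θ ∈ Cfsg.zspanOn Y ({1}ᶜ : Set L), τ θ = α θ) :
    (∀ χ ∈ X, ∀ η ∈ Y, Cfsg.classInner (σ χ) (τ η) = 0) ∧
      ((∃ χ₀ ∈ X, ∃ η₀ ∈ Y, α (χ₀ 1 • η₀ - η₀ 1 • χ₀) = χ₀ 1 • τ η₀ - η₀ 1 • σ χ₀) →
        Cfsg.IsCoherent (X ∪ Y) ({1}ᶜ : Set L) α) := by
  have hiso : Cfsg.IsLinearIsometryOn (spanOn S ({1}ᶜ : Set L) : Set (L → ℂ)) α := hα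
  have hσ' : Cfsg.IsLinearIsometryOn (↑(Submodule.span ℤ X) : Set (L → ℂ)) σ := hσ
  have hτ' : Cfsg.IsLinearIsometryOn (↑(Submodule.span ℤ Y) : Set (L → ℂ)) τ := hτ
  obtain ⟨a₁, ha₁, a₂, ha₂, ha12⟩ := hX2
  obtain ⟨c₁, hc₁, c₂, hc₂, hc12⟩ := hY2
  have h0σ : ∀ θ ∈ Cfsg.zspan X, θ 1 = 0 → σ θ 1 = 0 := fun θ hθ h => by
    rw [hσα θ (mem_zspanOn_one.mpr ⟨hθ, h⟩)]
    exact hα1 θ (spanOn_mono hXS _ (mem_zspanOn_one.mpr ⟨hθ, h⟩))
  have h0τ : ∀ θ ∈ Cfsg.zspan Y, θ 1 = 0 → τ θ 1 = 0 := fun θ hθ h => by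
    rw [hτα θ (mem_zspanOn_one.mpr ⟨hθ, h⟩)]
    exact hα1 θ (spanOn_mono hYS _ (mem_zspanOn_one.mpr ⟨hθ, h⟩))
  obtain ⟨ε, hε, hεi, hεinj⟩ := exists_sign (fun χ h => hirr χ (hXS h)) ⟨a₁, ha₁⟩ hσ h0σ
  obtain ⟨ε', hε', hε'i, hε'inj⟩ := exists_sign (fun χ h => hirr χ (hYS h)) ⟨c₁, hc₁⟩ hτ h0τ
  have hεc : conj ε = ε := by rcases hε with rfl | rfl <;> simp
  have hε'c : conj ε' = ε' := by rcases hε' with rfl | rfl <;> simp
  have hε0 : ε * ε' ≠ 0 := by rcases hε with rfl | rfl <;> rcases hε' with rfl | rfl <;> simp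
  have hεε : ε * ε = 1 ∧ ε' * ε' = 1 := by
    rcases hε with rfl | rfl <;> rcases hε' with rfl | rfl <;> simp
  have horth : ∀ χ ∈ X, ∀ η ∈ Y, Cfsg.classInner (σ χ) (τ η) = 0 := by
    intro χ hχ η hη
    obtain ⟨b, hb, hbne⟩ : ∃ b ∈ X, b ≠ χ := by
      by_cases h : a₁ = χ
      · exact ⟨a₂, ha₂, fun e => ha12 (h.trans e.symm)⟩
      · exact ⟨a₁, ha₁, h⟩
    obtain ⟨c, hc, hcne⟩ : ∃ c ∈ Y, c ≠ η := by
      by_cases h : c₁ = η
      · exact ⟨c₂, hc₂, fun e => hc12 (h.trans e.symm)⟩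
      · exact ⟨c₁, hc₁, h⟩
    by_contra hne
    have hz : Cfsg.classInner (ε • σ χ) (ε' • τ η) ≠ 0 := by
      rw [classInner_smul_left, classInner_smul_right, hε'c, ← mul_assoc]
      exact mul_ne_zero hε0 hne
    have e1 : ε • σ χ = ε' • τ η := by
      by_contra hc'
      exact hz (classInner_irr_of_ne (hεi χ hχ) (hε'i η hη) hc')
    obtain ⟨x, hx0, hx⟩ := IsIrrCharacter.exists_degree (hirr χ (hXS hχ))
    obtain ⟨y, hy0, hy⟩ := IsIrrCharacter.exists_degree (hirr b (hXS hb))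
    obtain ⟨z, hz0, hz'⟩ := IsIrrCharacter.exists_degree (hirr η (hYS hη))
    obtain ⟨w, hw0, hw⟩ := IsIrrCharacter.exists_degree (hirr c (hYS hc))
    have m1 : (y : ℤ) • χ - (x : ℤ) • b ∈ Cfsg.zspanOn X ({1}ᶜ : Set L) :=
      mem_zspanOn_one.mpr ⟨Submodule.sub_mem _ (Submodule.smul_mem _ _ (Submodule.subset_span hχ))
        (Submodule.smul_mem _ _ (Submodule.subset_span hb)), by simp [hx, hy]; ring⟩
    have m2 : (w : ℤ) • η - (z : ℤ) • c ∈ Cfsg.zspanOn Y ({1}ᶜ : Set L) :=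
      mem_zspanOn_one.mpr ⟨Submodule.sub_mem _ (Submodule.smul_mem _ _ (Submodule.subset_span hη))
        (Submodule.smul_mem _ _ (Submodule.subset_span hc)), by simp [hz', hw]; ring⟩
    have h := iso_inner hiso (spanOn_mono hXS _ m1) (spanOn_mono hYS _ m2)
    have oo : ∀ p ∈ X, ∀ q ∈ Y, Cfsg.classInner p q = 0 := fun p hp q hq =>
      classInner_irr_of_ne (hirr p (hXS hp)) (hirr q (hYS hq)) fun e =>
        Set.disjoint_left.mp hXY hp (e ▸ hq)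
    rw [← hσα _ m1, ← hτα _ m2, iso_sub hσ' (Submodule.smul_mem _ _ (Submodule.subset_span hχ))
      (Submodule.smul_mem _ _ (Submodule.subset_span hb)), iso_zsmul hσ' (Submodule.subset_span hχ),
      iso_zsmul hσ' (Submodule.subset_span hb),
      iso_sub hτ' (Submodule.smul_mem _ _ (Submodule.subset_span hη))
      (Submodule.smul_mem _ _ (Submodule.subset_span hc)), iso_zsmul hτ' (Submodule.subset_span hη),
      iso_zsmul hτ' (Submodule.subset_span hc)] at h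
    have sσ : ∀ p, σ p = ε • (ε • σ p) := fun p => by rw [smul_smul, hεε.1, one_smul]
    have sτ : ∀ p, τ p = ε' • (ε' • τ p) := fun p => by rw [smul_smul, hεε.2, one_smul]
    have n1 : Cfsg.classInner (ε • σ χ) (ε' • τ η) = 1 := by
      rw [← e1, classInner_self_irr (hεi χ hχ)]
    have n2 : Cfsg.classInner (ε • σ χ) (ε' • τ c) = 0 := by
      rw [e1]
      refine classInner_irr_of_ne (hε'i η hη) (hε'i c hc) fun e => hcne (hε'inj η hη c hc ?_).symm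
      rw [sτ η, sτ c, e]
    have n3 : Cfsg.classInner (ε • σ b) (ε' • τ η) = 0 := by
      rw [← e1]
      refine classInner_irr_of_ne (hεi b hb) (hεi χ hχ) fun e => hbne (hεinj b hb χ hχ ?_)
      rw [sσ b, sσ χ, e]
    simp only [classInner_sub_left, classInner_sub_right, classInner_zsmul_left,
      classInner_zsmul_right, oo χ hχ η hη, oo χ hχ c hc, oo b hb η hη, oo b hb c hc] at h
    have h2 := classInner_irr (hεi b hb) (hε'i c hc)
    simp only [classInner_smul_left, classInner_smul_right, hε'c] at n1 n2 n3 h2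
    have hk : ∃ k : ℕ, ε * (ε' * Cfsg.classInner (σ b) (τ c)) = k := by
      rw [mul_left_comm, h2]
      split_ifs
      · exact ⟨1, by simp⟩
      · exact ⟨0, by simp⟩
    obtain ⟨k, hk⟩ := hk
    have h3 : (y : ℂ) * w + (x : ℂ) * z * k = 0 := by
      push_cast at h
      linear_combination (ε * ε') * h - (y : ℂ) * w * n1 + (y : ℂ) * z * n2 + (x : ℂ) * w * n3 -
        (x : ℂ) * z * hk
    have h4 : y * w + x * z * k = 0 := by exact_mod_cast h3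
    have := Nat.mul_pos hy0 hw0
    omega
  refine ⟨horth, ?_⟩
  rintro ⟨χ₀, hχ₀, η₀, hη₀, he⟩
  have hfin : (X ∪ Y).Finite := irr_set_finite fun χ h => hirr χ (Set.union_subset hXS hYS h)
  set T := hfin.toFinset
  have hT : (↑T : Set (L → ℂ)) = X ∪ Y := Set.Finite.coe_toFinset _
  have hirrT : ∀ φ ∈ T, Cfsg.IsIrrCharacter L φ := fun φ hφ =>
    hirr φ (Set.union_subset hXS hYS (hT ▸ hφ))
  have hOT := irr_isOrth hirrT
  set v : (L → ℂ) → (G → ℂ) := fun φ => if φ ∈ X then σ φ else τ φ with hv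
  have hvX : ∀ φ ∈ X, v φ = σ φ := fun φ h => if_pos h
  have hvY : ∀ φ ∈ Y, v φ = τ φ := fun φ h => if_neg fun h' => Set.disjoint_left.mp hXY h' h
  obtain ⟨p, hp0, hp⟩ := IsIrrCharacter.exists_degree (hirr χ₀ (hXS hχ₀))
  obtain ⟨q, hq0, hq⟩ := IsIrrCharacter.exists_degree (hirr η₀ (hYS hη₀))
  have eσ : ∀ θ ∈ Cfsg.zspan X, extend T v θ = σ θ := by
    intro θ hθ
    induction hθ using Submodule.span_induction with
    | mem x hx => rw [extend_basis hOT v (by rw [← Finset.mem_coe, hT]; exact Or.inl hx), hvX x hx]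
    | zero => rw [extend_zero, iso_zero hσ']
    | add a b ha' hb' ha hb => rw [extend_add, ha, hb, iso_add hσ' ha' hb']
    | smul k a ha' ha => rw [extend_zsmul, ha, iso_zsmul hσ' ha']
  have eτ : ∀ θ ∈ Cfsg.zspan Y, extend T v θ = τ θ := by
    intro θ hθ
    induction hθ using Submodule.span_induction with
    | mem x hx => rw [extend_basis hOT v (by rw [← Finset.mem_coe, hT]; exact Or.inr hx), hvY x hx]
    | zero => rw [extend_zero, iso_zero hτ']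
    | add a b ha' hb' ha hb => rw [extend_add, ha, hb, iso_add hτ' ha' hb']
    | smul k a ha' ha => rw [extend_zsmul, ha, iso_zsmul hτ' ha']
  have hne : ∃ θ ∈ Cfsg.zspanOn (↑T : Set (L → ℂ)) ({1}ᶜ : Set L), θ ≠ 0 := by
    refine ⟨(p : ℤ) • η₀ - (q : ℤ) • χ₀, mem_zspanOn_one.mpr ⟨Submodule.sub_mem _
      (Submodule.smul_mem _ _ (Submodule.subset_span (by rw [hT]; exact Or.inr hη₀)))
      (Submodule.smul_mem _ _ (Submodule.subset_span (by rw [hT]; exact Or.inl hχ₀))),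
      by simp [hp, hq]; ring⟩, fun h => ?_⟩
    have := congrArg (fun f => Cfsg.classInner f η₀) h
    simp only [classInner_sub_left, classInner_zsmul_left, classInner_zero_left,
      classInner_self_irr (hirr η₀ (hYS hη₀)), classInner_irr_of_ne (hirr χ₀ (hXS hχ₀))
        (hirr η₀ (hYS hη₀)) (fun e => Set.disjoint_left.mp hXY hχ₀ (e ▸ hη₀))] at this
    simp at this
    omega
  rw [← hT]
  refine isCoherent_extend hOT hne v ?_ ?_ ?_
  · intro φ hφ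
    rw [← Finset.mem_coe, hT] at hφ
    rcases hφ with h | h
    · rw [hvX φ h]; exact iso_gen hσ' (Submodule.subset_span h)
    · rw [hvY φ h]; exact iso_gen hτ' (Submodule.subset_span h)
  · intro φ hφ η hη
    rw [← Finset.mem_coe, hT] at hφ hη
    rcases hφ with hφ | hφ <;> rcases hη with hη | hη
    · rw [hvX φ hφ, hvX η hη, iso_inner hσ' (Submodule.subset_span hφ) (Submodule.subset_span hη)]
    · rw [hvX φ hφ, hvY η hη, horth φ hφ η hη, classInner_irr_of_ne (hirr φ (hXS hφ))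
        (hirr η (hYS hη)) fun e => Set.disjoint_left.mp hXY hφ (e ▸ hη)]
    · rw [hvY φ hφ, hvX η hη, ← classInner_conj_symm, horth η hη φ hφ, map_zero,
        classInner_irr_of_ne (hirr φ (hYS hφ)) (hirr η (hXS hη))
          fun e => Set.disjoint_left.mp hXY hη (e ▸ hφ)]
    · rw [hvY φ hφ, hvY η hη, iso_inner hτ' (Submodule.subset_span hφ) (Submodule.subset_span hη)]
  · intro θ hθ
    rw [hT, mem_zspanOn_one, mem_zspan, Submodule.span_union, Submodule.mem_sup] at hθ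
    obtain ⟨⟨θX, hθX, θY, hθY, rfl⟩, h0⟩ := hθ
    obtain ⟨m, hm⟩ := IsGeneralizedCharacter.exists_one_int
      (zspan_gen (fun φ hφ => irr_gen (hirr φ (hXS hφ))) hθX)
    rw [Pi.add_apply, hm] at h0
    have hm' : θY 1 = -(m : ℂ) := by linear_combination h0
    have u1 : (p : ℤ) • θX - m • χ₀ ∈ Cfsg.zspanOn X ({1}ᶜ : Set L) :=
      mem_zspanOn_one.mpr ⟨Submodule.sub_mem _ (Submodule.smul_mem _ _ hθX)
        (Submodule.smul_mem _ _ (Submodule.subset_span hχ₀)), by simp [hm, hp]; ring⟩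
    have u2 : (q : ℤ) • θY + m • η₀ ∈ Cfsg.zspanOn Y ({1}ᶜ : Set L) :=
      mem_zspanOn_one.mpr ⟨Submodule.add_mem _ (Submodule.smul_mem _ _ hθY)
        (Submodule.smul_mem _ _ (Submodule.subset_span hη₀)), by simp [hm', hq]; ring⟩
    have u3 : (p : ℤ) • η₀ - (q : ℤ) • χ₀ ∈ spanOn S ({1}ᶜ : Set L) :=
      mem_zspanOn_one.mpr ⟨Submodule.sub_mem _
        (Submodule.smul_mem _ _ (Submodule.subset_span (hYS hη₀)))
        (Submodule.smul_mem _ _ (Submodule.subset_span (hXS hχ₀))), by simp [hp, hq]; ring⟩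
    have u0 : θX + θY ∈ spanOn S ({1}ᶜ : Set L) :=
      mem_zspanOn_one.mpr ⟨Submodule.add_mem _ (Submodule.span_mono hXS hθX)
        (Submodule.span_mono hYS hθY), by simp [hm, hm']⟩
    have e : ((p : ℤ) * q) • (θX + θY) = (q : ℤ) • ((p : ℤ) • θX - m • χ₀) +
        (p : ℤ) • ((q : ℤ) • θY + m • η₀) - m • ((p : ℤ) • η₀ - (q : ℤ) • χ₀) := by
      simp only [smul_add, smul_sub, smul_smul]
      rw [mul_comm (q : ℤ) (p : ℤ), mul_comm (q : ℤ) m, mul_comm (p : ℤ) m]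
      abel
    have he' : α ((p : ℤ) • η₀ - (q : ℤ) • χ₀) = (p : ℤ) • τ η₀ - (q : ℤ) • σ χ₀ := by
      rw [hp, hq] at he
      simpa only [← Int.cast_smul_eq_zsmul ℂ, Int.cast_natCast] using he
    have hpq : (p : ℤ) * q ≠ 0 := mul_ne_zero (by simpa using hp0.ne') (by simpa using hq0.ne')
    refine smul_right_injective (G → ℂ) hpq ?_
    show ((p : ℤ) * q) • extend T v (θX + θY) = ((p : ℤ) * q) • α (θX + θY)
    have k1 := spanOn_mono hXS _ u1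
    have k2 := spanOn_mono hYS _ u2
    rw [← extend_zsmul, ← iso_zsmul hiso u0, e,
      iso_sub hiso (Submodule.add_mem _ (Submodule.smul_mem _ _ k1) (Submodule.smul_mem _ _ k2))
        (Submodule.smul_mem _ _ u3),
      iso_add hiso (Submodule.smul_mem _ _ k1) (Submodule.smul_mem _ _ k2),
      iso_zsmul hiso k1, iso_zsmul hiso k2, iso_zsmul hiso u3, he', extend_sub, extend_add,
      extend_zsmul, extend_zsmul, extend_zsmul, eσ _ (mem_zspanOn_one.mp u1).1, hσα _ u1,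
      eτ _ (mem_zspanOn_one.mp u2).1, hτα _ u2, extend_sub, extend_zsmul, extend_zsmul,
      eσ _ (Submodule.subset_span hχ₀), eτ _ (Submodule.subset_span hη₀)]

end Cfsg.Agent.Char.Coherence
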