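import Cfsg.Agent.Lib.Char.CoherenceThm
import Cfsg.Agent.Lib.Char.CoherenceExt

/-!
# Gluing two coherent sets by a divisibility condition
-/

set_option linter.style.haveILetI false
set_option linter.unusedSectionVars false

namespace Cfsg.Agent.Char.Coherence

open Cfsg.Agent.Char
open scoped Classical

universe u v

variable {L : Type u} [Group L] [Fintype L] {G : Type v} [Group G] [Fintype G]

/-- The other coherent extension on a conjugate pair. -/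
noncomputable def swapExt (σ : (L → ℂ) → (G → ℂ)) : (L → ℂ) → (G → ℂ) :=
  fun θ => -σ (Cfsg.conjFun θ)

theorem swap_extension {χ : L → ℂ} (hχ : Cfsg.IsIrrCharacter L χ) {σ α : (L → ℂ) → (G → ℂ)}
    {X : Set (L → ℂ)} (hX : X = {χ, Cfsg.conjFun χ})
    (hσ : Cfsg.IsLinearIsometryOn (Cfsg.zspan X) σ)
    (hσα : ∀ θ ∈ Cfsg.zspanOn X ({1}ᶜ : Set L), σ θ = α θ) :
    Cfsg.IsLinearIsometryOn (Cfsg.zspan X) (swapExt σ) ∧
      ∀ θ ∈ Cfsg.zspanOn X ({1}ᶜ : Set L), swapExt σ θ = α θ := by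
  have hσ' : Cfsg.IsLinearIsometryOn (↑(Submodule.span ℤ X) : Set (L → ℂ)) σ := hσ
  have hirr : ∀ φ ∈ X, Cfsg.IsIrrCharacter L φ := by
    rw [hX]
    rintro φ (rfl | rfl)
    · exact hχ
    · exact IsIrrCharacter.conj hχ
  have hadd : ∀ a b : L → ℂ, Cfsg.conjFun (a + b) = Cfsg.conjFun a + Cfsg.conjFun b := fun a b => by
    funext x; simp [Cfsg.conjFun]
  have hsmul : ∀ (n : ℤ) (a : L → ℂ), Cfsg.conjFun (n • a) = n • Cfsg.conjFun a := fun n a => by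
    funext x; simp [Cfsg.conjFun]
  have hmem : ∀ θ ∈ Submodule.span ℤ X, Cfsg.conjFun θ ∈ Submodule.span ℤ X := by
    intro θ hθ
    induction hθ using Submodule.span_induction with
    | mem x hx =>
      refine Submodule.subset_span ?_
      rw [hX] at hx ⊢
      rcases hx with rfl | rfl
      · exact Or.inr rfl
      · exact Or.inl (conjFun_conjFun χ)
    | zero =>
      rw [show Cfsg.conjFun (0 : L → ℂ) = 0 from by funext x; simp [Cfsg.conjFun]]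
      exact Submodule.zero_mem _
    | add a b _ _ ha hb => rw [hadd]; exact Submodule.add_mem _ ha hb
    | smul n a _ ha => rw [hsmul]; exact Submodule.smul_mem _ _ ha
  refine ⟨⟨fun a ha b hb => ?_, fun a ha n => ?_, fun a ha b hb => ?_, fun a ha => ?_⟩, ?_⟩
  · simp only [swapExt]
    rw [hadd, iso_add hσ' (hmem a ha) (hmem b hb), neg_add]
  · simp only [swapExt]
    rw [hsmul, iso_zsmul hσ' (hmem a ha), smul_neg]
  · simp only [swapExt]
    rw [classInner_neg_left, classInner_neg_right, neg_neg, iso_inner hσ' (hmem a ha) (hmem b hb)]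
    obtain ⟨n, hn⟩ := IsGeneralizedCharacter.exists_classInner_int
      (zspan_gen (fun φ h => irr_gen (hirr φ h)) ha) (zspan_gen (fun φ h => irr_gen (hirr φ h)) hb)
    have : Cfsg.classInner (Cfsg.conjFun a) (Cfsg.conjFun b) = (starRingEnd ℂ) (Cfsg.classInner a b) := by
      simp [Cfsg.classInner, Cfsg.conjFun]
    rw [this, hn, map_intCast]
  · exact IsGeneralizedCharacter.neg (iso_gen hσ' (hmem a ha))
  · intro θ hθ
    obtain ⟨h1, h2⟩ := mem_zspanOn_one.mp hθ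
    rw [← hσα θ hθ]
    obtain ⟨m, k, rfl⟩ := Submodule.mem_span_pair.mp (hX ▸ h1 : θ ∈ Submodule.span ℤ {χ, Cfsg.conjFun χ})
    obtain ⟨d, hd0, hd⟩ := IsIrrCharacter.exists_degree hχ
    have hmk : k = -m := by
      simp only [Pi.add_apply, zsmul_eq_mul, Pi.mul_apply, Pi.intCast_apply, conjFun_one hχ, hd] at h2
      have : ((m : ℂ) + k) = 0 := by
        rw [← add_mul] at h2
        exact (mul_eq_zero.mp h2).resolve_right (Nat.cast_ne_zero.mpr hd0.ne')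
      have h : m + k = 0 := by exact_mod_cast this
      omega
    subst hmk
    simp only [swapExt]
    rw [hadd, hsmul, hsmul, conjFun_conjFun, show m • Cfsg.conjFun χ + -m • χ =
      -(m • χ + -m • Cfsg.conjFun χ) by rw [neg_smul, neg_smul]; abel,
      iso_neg hσ' h1, neg_neg]

theorem eq_pair {X : Finset (L → ℂ)} {χ : L → ℂ} (hχ : χ ∈ X)
    (hc : ∀ φ ∈ X, Cfsg.conjFun φ ∈ X ∧ Cfsg.conjFun φ ≠ φ) (hcard : X.card = 2) :
    X = {χ, Cfsg.conjFun χ} := by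
  refine (Finset.eq_of_subset_of_card_le ?_ ?_).symm
  · exact Finset.insert_subset hχ (Finset.singleton_subset_iff.mpr (hc χ hχ).1)
  · rw [hcard, Finset.card_pair (hc χ hχ).2.symm]

/-- Two coherent sets of irreducible characters glue when the images of the mixed difference
have coefficients divisible by the ratio of the degrees. -/
theorem glue_congr {S : Set (L → ℂ)} (hirr : ∀ ξ ∈ S, Cfsg.IsIrrCharacter L ξ) {X Y : Finset (L → ℂ)}
    (hXS : ↑X ⊆ S) (hYS : ↑Y ⊆ S) (hXY : Disjoint X Y)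
    (hXc : ∀ φ ∈ X, Cfsg.conjFun φ ∈ X ∧ Cfsg.conjFun φ ≠ φ)
    (hYc : ∀ φ ∈ Y, Cfsg.conjFun φ ∈ Y ∧ Cfsg.conjFun φ ≠ φ) {α : (L → ℂ) → (G → ℂ)}
    (hα : Cfsg.IsLinearIsometryOn (Cfsg.zspanOn S ({1}ᶜ : Set L)) α)
    (hα1 : ∀ θ ∈ Cfsg.zspanOn S ({1}ᶜ : Set L), α θ 1 = 0) {σ τ : (L → ℂ) → (G → ℂ)}
    (hσ : Cfsg.IsLinearIsometryOn (Cfsg.zspan (↑X : Set (L → ℂ))) σ)
    (hσα : ∀ θ ∈ Cfsg.zspanOn (↑X : Set (L → ℂ)) ({1}ᶜ : Set L), σ θ = α θ)
    (hτ : Cfsg.IsLinearIsometryOn (Cfsg.zspan (↑Y : Set (L → ℂ))) τ)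
    (hτα : ∀ θ ∈ Cfsg.zspanOn (↑Y : Set (L → ℂ)) ({1}ᶜ : Set L), τ θ = α θ)
    (deg : (L → ℂ) → ℕ) (hdeg : ∀ φ ∈ S, φ 1 = (deg φ : ℂ)) {χ₀ η₀ : L → ℂ} (hχ₀ : χ₀ ∈ X)
    (hη₀ : η₀ ∈ Y) (hYdeg : ∀ η ∈ Y, deg η = deg η₀) (hmin : ∀ ξ ∈ X, deg χ₀ ≤ deg ξ) {a : ℕ}
    (ha : 0 < a) (hda : deg χ₀ = a * deg η₀) {j : ℤ}
    (hj : Cfsg.classInner (α ((a : ℤ) • η₀ - χ₀)) (τ η₀) = ((a : ℤ) * j : ℤ)) :
    Cfsg.IsCoherent (↑X ∪ ↑Y : Set (L → ℂ)) ({1}ᶜ : Set L) α := by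
  have hα' : Cfsg.IsLinearIsometryOn (spanOn S ({1}ᶜ : Set L) : Set (L → ℂ)) α := hα
  have hσ' : Cfsg.IsLinearIsometryOn (↑(Submodule.span ℤ (↑X : Set (L → ℂ))) : Set (L → ℂ)) σ := hσ
  have hτ' : Cfsg.IsLinearIsometryOn (↑(Submodule.span ℤ (↑Y : Set (L → ℂ))) : Set (L → ℂ)) τ := hτ
  have hirX : ∀ ξ ∈ X, Cfsg.IsIrrCharacter L ξ := fun ξ h => hirr ξ (hXS h)
  have hirY : ∀ η ∈ Y, Cfsg.IsIrrCharacter L η := fun η h => hirr η (hYS h)
  have hpos : ∀ φ ∈ S, 0 < deg φ := fun φ h => Nat.pos_of_ne_zero fun h0 =>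
    IsIrrCharacter.one_ne_zero (hirr φ h) (by rw [hdeg φ h, h0, Nat.cast_zero])
  have hd0 := hpos χ₀ (hXS hχ₀)
  have hne : ∀ ξ ∈ X, ∀ η ∈ Y, ξ ≠ η := fun ξ h η h' e => Finset.disjoint_left.mp hXY h (e ▸ h')
  have hoXY : ∀ ξ ∈ X, ∀ η ∈ Y, Cfsg.classInner ξ η = 0 := fun ξ h η h' =>
    classInner_irr_of_ne (hirX ξ h) (hirY η h') (hne ξ h η h')
  have hoYX : ∀ η ∈ Y, ∀ ξ ∈ X, Cfsg.classInner η ξ = 0 := fun η h ξ h' =>
    classInner_irr_of_ne (hirY η h) (hirX ξ h') (hne ξ h' η h).symm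
  have hdisj : Disjoint (↑X : Set (L → ℂ)) ↑Y := Finset.disjoint_coe.mpr hXY
  have hX2 : ∃ a ∈ (↑X : Set (L → ℂ)), ∃ b ∈ (↑X : Set (L → ℂ)), a ≠ b :=
    ⟨χ₀, hχ₀, _, (hXc χ₀ hχ₀).1, (hXc χ₀ hχ₀).2.symm⟩
  have hY2 : ∃ a ∈ (↑Y : Set (L → ℂ)), ∃ b ∈ (↑Y : Set (L → ℂ)), a ≠ b :=
    ⟨η₀, hη₀, _, (hYc η₀ hη₀).1, (hYc η₀ hη₀).2.symm⟩
  have horth := (glue hirr hXS hYS hdisj hX2 hY2 hα hα1 hσ hσα hτ hτα).1
  set v := (a : ℤ) • η₀ - χ₀ with hv
  have hvmem : v ∈ spanOn S ({1}ᶜ : Set L) :=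
    mem_zspanOn_one.mpr ⟨Submodule.sub_mem _ (Submodule.smul_mem _ _ (Submodule.subset_span (hYS hη₀)))
      (Submodule.subset_span (hXS hχ₀)), by
        rw [hv, Pi.sub_apply, Pi.smul_apply, hdeg _ (hYS hη₀), hdeg _ (hXS hχ₀), hda, zsmul_eq_mul]
        push_cast
        ring⟩
  set ψ := α v with hψ
  set m : ℤ := j - 1
  -- coefficients on `Y`
  have hY : ∀ η ∈ Y, Cfsg.classInner ψ (τ η) = (((a : ℤ) * (m + if η = η₀ then 1 else 0) : ℤ) : ℂ) := by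
    intro η hη
    by_cases he : η = η₀
    · rw [if_pos he, he, hj]; simp [m]
    · rw [if_neg he, add_zero]
      have hmem : η₀ - η ∈ Cfsg.zspanOn (↑Y : Set (L → ℂ)) ({1}ᶜ : Set L) :=
        mem_zspanOn_one.mpr ⟨Submodule.sub_mem _ (Submodule.subset_span hη₀) (Submodule.subset_span hη),
          by rw [Pi.sub_apply, hdeg _ (hYS hη₀), hdeg _ (hYS hη), hYdeg η hη, sub_self]⟩
      have h := iso_inner hα' hvmem (spanOn_mono hYS _ hmem)
      rw [← hτα _ hmem, iso_sub hτ' (Submodule.subset_span hη₀) (Submodule.subset_span hη),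
        ← hψ, classInner_sub_right] at h
      rw [hv] at h
      simp only [classInner_sub_left, classInner_sub_right, classInner_zsmul_left,
        classInner_self_irr (hirY η₀ hη₀), classInner_irr_of_ne (hirY η₀ hη₀) (hirY η hη) (Ne.symm he),
        hoXY χ₀ hχ₀ η₀ hη₀, hoXY χ₀ hχ₀ η hη] at h
      rw [hj] at h
      push_cast at h ⊢
      simp only [m]
      push_cast
      linear_combination -h
  -- coefficients on `X`
  obtain ⟨c0, hc0⟩ := IsGeneralizedCharacter.exists_classInner_int (iso_gen hα' hvmem)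
    (iso_gen hσ' (Submodule.subset_span hχ₀))
  rw [← hψ] at hc0
  set k : ℤ := c0 + 1
  have hX : ∀ ξ ∈ X, Cfsg.classInner ψ (σ ξ) =
      (((k : ℝ) * deg ξ / deg χ₀ - if ξ = χ₀ then 1 else 0 : ℝ) : ℂ) := by
    intro ξ hξ
    have hmem : (deg χ₀ : ℤ) • ξ - (deg ξ : ℤ) • χ₀ ∈ Cfsg.zspanOn (↑X : Set (L → ℂ)) ({1}ᶜ : Set L) :=
      mem_zspanOn_one.mpr ⟨Submodule.sub_mem _ (Submodule.smul_mem _ _ (Submodule.subset_span hξ))
        (Submodule.smul_mem _ _ (Submodule.subset_span hχ₀)), by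
          rw [Pi.sub_apply, Pi.smul_apply, Pi.smul_apply, hdeg _ (hXS hξ), hdeg _ (hXS hχ₀),
            zsmul_eq_mul, zsmul_eq_mul]
          push_cast
          ring⟩
    have h := iso_inner hα' hvmem (spanOn_mono hXS _ hmem)
    rw [← hσα _ hmem, iso_sub hσ' (Submodule.smul_mem _ _ (Submodule.subset_span hξ))
      (Submodule.smul_mem _ _ (Submodule.subset_span hχ₀)), iso_zsmul hσ' (Submodule.subset_span hξ),
      iso_zsmul hσ' (Submodule.subset_span hχ₀), ← hψ, classInner_sub_right, classInner_zsmul_right,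
      classInner_zsmul_right, hc0] at h
    rw [hv] at h
    simp only [classInner_sub_left, classInner_sub_right, classInner_zsmul_left, classInner_zsmul_right,
      classInner_self_irr (hirX χ₀ hχ₀), hoYX η₀ hη₀ ξ hξ, hoYX η₀ hη₀ χ₀ hχ₀,
      classInner_irr (hirX χ₀ hχ₀) (hirX ξ hξ)] at h
    have hd0' : (deg χ₀ : ℂ) ≠ 0 := Nat.cast_ne_zero.mpr hd0.ne'
    by_cases he : ξ = χ₀
    · rw [if_pos he.symm] at h
      rw [if_pos he]
      push_cast at h ⊢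
      simp only [k]
      push_cast
      field_simp
      linear_combination h
    · rw [if_neg (Ne.symm he)] at h
      rw [if_neg he]
      push_cast at h ⊢
      simp only [k]
      push_cast
      field_simp
      linear_combination h
  -- Bessel
  set cY : (L → ℂ) → ℝ := fun η => (a : ℝ) * ((m : ℝ) + if η = η₀ then 1 else 0) with hcY
  set cX : (L → ℂ) → ℝ := fun ξ => (k : ℝ) * deg ξ / deg χ₀ - if ξ = χ₀ then 1 else 0 with hcX
  have hnorm : Cfsg.classInner ψ ψ = (((a : ℝ) ^ 2 + 1 : ℝ) : ℂ) := by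
    rw [hψ, iso_inner hα' hvmem hvmem, hv]
    simp only [classInner_sub_left, classInner_sub_right, classInner_zsmul_left, classInner_zsmul_right,
      classInner_self_irr (hirX χ₀ hχ₀), classInner_self_irr (hirY η₀ hη₀), hoYX η₀ hη₀ χ₀ hχ₀,
      hoXY χ₀ hχ₀ η₀ hη₀]
    push_cast
    ring
  have hB := bessel (Y.disjSum X) (Sum.elim τ σ) (fun _ => 1) (Sum.elim cY cX) (fun _ _ => one_pos)
    (by
      rintro (i | i) hi (l | l) hl hne' <;> simp only [Finset.inl_mem_disjSum,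
        Finset.inr_mem_disjSum] at hi hl <;> simp only [Sum.elim_inl, Sum.elim_inr]
      · rw [iso_inner hτ' (Submodule.subset_span hi) (Submodule.subset_span hl)]
        exact classInner_irr_of_ne (hirY i hi) (hirY l hl) fun e => hne' (congrArg _ e)
      · rw [← classInner_conj_symm, horth l hl i hi, map_zero]
      · exact horth i hi l hl
      · rw [iso_inner hσ' (Submodule.subset_span hi) (Submodule.subset_span hl)]
        exact classInner_irr_of_ne (hirX i hi) (hirX l hl) fun e => hne' (congrArg _ e))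
    (by
      rintro (i | i) hi <;> simp only [Finset.inl_mem_disjSum, Finset.inr_mem_disjSum] at hi <;>
        simp only [Sum.elim_inl, Sum.elim_inr]
      · rw [iso_inner hτ' (Submodule.subset_span hi) (Submodule.subset_span hi),
          classInner_self_irr (hirY i hi)]; simp
      · rw [iso_inner hσ' (Submodule.subset_span hi) (Submodule.subset_span hi),
          classInner_self_irr (hirX i hi)]; simp)
    (x := ψ)
    (by
      rintro (i | i) hi <;> simp only [Finset.inl_mem_disjSum, Finset.inr_mem_disjSum] at hi <;>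
        simp only [Sum.elim_inl, Sum.elim_inr]
      · rw [hY i hi, hcY]; simp only; split_ifs <;> push_cast <;> ring
      · rw [hX i hi])
    hnorm
  simp only [Finset.sum_disjSum, Sum.elim_inl, Sum.elim_inr, div_one] at hB
  obtain ⟨hB1, hB2⟩ := hB
  set M : ℝ := ∑ ξ ∈ X, ((deg ξ : ℝ) / deg χ₀) ^ 2 with hM
  have hsY : ∑ η ∈ Y, cY η ^ 2 = (a : ℝ) ^ 2 * ((Y.card : ℝ) * (m : ℝ) ^ 2 + 2 * m + 1) := by
    have : ∀ η ∈ Y, cY η ^ 2 = (a : ℝ) ^ 2 * (m : ℝ) ^ 2 +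
        if η = η₀ then (a : ℝ) ^ 2 * (2 * m + 1) else 0 := fun η _ => by
      simp only [hcY]; split_ifs <;> ring
    rw [Finset.sum_congr rfl this, Finset.sum_add_distrib, Finset.sum_const, nsmul_eq_mul,
      Finset.sum_ite_eq', if_pos hη₀]
    ring
  have hd0R : (deg χ₀ : ℝ) ≠ 0 := Nat.cast_ne_zero.mpr hd0.ne'
  have hsX : ∑ ξ ∈ X, cX ξ ^ 2 = (k : ℝ) ^ 2 * M - 2 * k + 1 := by
    have : ∀ ξ ∈ X, cX ξ ^ 2 = (k : ℝ) ^ 2 * ((deg ξ : ℝ) / deg χ₀) ^ 2 +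
        if ξ = χ₀ then 1 - 2 * (k : ℝ) else 0 := fun ξ _ => by
      simp only [hcX]
      split_ifs with h
      · subst h; field_simp; ring
      · ring
    rw [Finset.sum_congr rfl this, Finset.sum_add_distrib, Finset.sum_ite_eq', if_pos hχ₀,
      ← Finset.mul_sum, ← hM]
    ring
  have hMX : (X.card : ℝ) ≤ M := by
    rw [hM, ← nsmul_one X.card, ← Finset.sum_const]
    refine Finset.sum_le_sum fun ξ hξ => one_le_pow₀ ?_
    rw [le_div_iff₀ (Nat.cast_pos.mpr hd0), one_mul]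
    exact Nat.cast_le.mpr (hmin ξ hξ)
  have hXcard : (2 : ℝ) ≤ X.card := by
    have h : ({χ₀, Cfsg.conjFun χ₀} : Finset (L → ℂ)).card ≤ X.card :=
      Finset.card_le_card (Finset.insert_subset hχ₀ (Finset.singleton_subset_iff.mpr (hXc χ₀ hχ₀).1))
    rw [Finset.card_pair (hXc χ₀ hχ₀).2.symm] at h
    exact_mod_cast h
  have hYcard : (2 : ℝ) ≤ Y.card := by
    have h : ({η₀, Cfsg.conjFun η₀} : Finset (L → ℂ)).card ≤ Y.card :=
      Finset.card_le_card (Finset.insert_subset hη₀ (Finset.singleton_subset_iff.mpr (hYc η₀ hη₀).1))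
    rw [Finset.card_pair (hYc η₀ hη₀).2.symm] at h
    exact_mod_cast h
  have hp : 0 ≤ (k : ℝ) ^ 2 * M - 2 * k := by
    rcases le_or_gt k 0 with h | h
    · have : (k : ℝ) ≤ 0 := by exact_mod_cast h
      nlinarith
    · have : (1 : ℝ) ≤ k := by exact_mod_cast h
      nlinarith
  have hq : 0 ≤ (Y.card : ℝ) * (m : ℝ) ^ 2 + 2 * m := by
    rcases le_or_gt 0 m with h | h
    · have : (0 : ℝ) ≤ m := by exact_mod_cast h
      nlinarith
    · have : (m : ℝ) ≤ -1 := by exact_mod_cast (by omega : m ≤ -1)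
      nlinarith
  rw [hsY, hsX] at hB1
  have ha2 : (0 : ℝ) < (a : ℝ) ^ 2 := by positivity
  have hp0 : (k : ℝ) ^ 2 * M - 2 * k = 0 := by nlinarith [mul_nonneg ha2.le hq]
  have hq0 : (Y.card : ℝ) * (m : ℝ) ^ 2 + 2 * m = 0 := by nlinarith [mul_nonneg ha2.le hq]
  have hk : k = 0 ∨ (k = 1 ∧ X.card = 2) := by
    by_cases h0 : k = 0
    · exact Or.inl h0
    have h0' : (k : ℝ) ≠ 0 := Int.cast_ne_zero.mpr h0
    have h1 : (k : ℝ) * M = 2 := mul_left_cancel₀ h0' (by linear_combination hp0)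
    have hk0 : (0 : ℝ) < k := by nlinarith
    have hk1 : (1 : ℝ) ≤ k := by exact_mod_cast (by exact_mod_cast hk0 : (0 : ℤ) < k)
    refine Or.inr ⟨?_, ?_⟩
    · have : (k : ℝ) ≤ 1 := by nlinarith
      exact_mod_cast le_antisymm this hk1
    · have : (X.card : ℝ) ≤ 2 := by nlinarith
      exact_mod_cast le_antisymm this hXcard
  have hm : m = 0 ∨ (m = -1 ∧ Y.card = 2) := by
    by_cases h0 : m = 0
    · exact Or.inl h0
    have h0' : (m : ℝ) ≠ 0 := Int.cast_ne_zero.mpr h0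
    have h1 : (Y.card : ℝ) * m = -2 := mul_left_cancel₀ h0' (by linear_combination hq0)
    have hm0 : (m : ℝ) < 0 := by nlinarith
    have hm1 : (m : ℝ) ≤ -1 := by
      have : m < 0 := by exact_mod_cast hm0
      exact_mod_cast (by omega : m ≤ -1)
    refine Or.inr ⟨?_, ?_⟩
    · have : (-1 : ℝ) ≤ m := by nlinarith
      exact_mod_cast le_antisymm hm1 this
    · have : (Y.card : ℝ) ≤ 2 := by nlinarith
      exact_mod_cast le_antisymm this hYcard
  have hexp := hB2 (by rw [hsY, hsX]; nlinarith)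
  -- the correct extensions
  obtain ⟨τ'', hτ'', hτα'', hsumY⟩ : ∃ τ'', Cfsg.IsLinearIsometryOn (Cfsg.zspan (↑Y : Set (L → ℂ))) τ'' ∧
      (∀ θ ∈ Cfsg.zspanOn (↑Y : Set (L → ℂ)) ({1}ᶜ : Set L), τ'' θ = α θ) ∧
      ∑ η ∈ Y, (cY η : ℂ) • τ η = (a : ℂ) • τ'' η₀ := by
    rcases hm with hm | ⟨hm, hc⟩
    · refine ⟨τ, hτ, hτα, ?_⟩
      rw [Finset.sum_eq_single η₀ (fun η _ h => by simp [hcY, hm, h]) (fun h => absurd hη₀ h)]
      simp [hcY, hm]
    · have hpair := eq_pair hη₀ hYc hc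
      obtain ⟨h1, h2⟩ := swap_extension (hirY η₀ hη₀)
        (X := (↑Y : Set (L → ℂ))) (by rw [hpair]; simp) hτ hτα
      refine ⟨swapExt τ, h1, h2, ?_⟩
      rw [hpair, Finset.sum_pair (hYc η₀ hη₀).2.symm]
      simp [hcY, hm, swapExt, (hYc η₀ hη₀).2]
  obtain ⟨σ'', hσ'', hσα'', hsumX⟩ : ∃ σ'', Cfsg.IsLinearIsometryOn (Cfsg.zspan (↑X : Set (L → ℂ))) σ'' ∧
      (∀ θ ∈ Cfsg.zspanOn (↑X : Set (L → ℂ)) ({1}ᶜ : Set L), σ'' θ = α θ) ∧
      ∑ ξ ∈ X, (cX ξ : ℂ) • σ ξ = -σ'' χ₀ := by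
    rcases hk with hk | ⟨hk, hc⟩
    · refine ⟨σ, hσ, hσα, ?_⟩
      rw [Finset.sum_eq_single χ₀ (fun ξ _ h => by simp [hcX, hk, h]) (fun h => absurd hχ₀ h)]
      simp [hcX, hk]
    · have hpair := eq_pair hχ₀ hXc hc
      obtain ⟨h1, h2⟩ := swap_extension (hirX χ₀ hχ₀)
        (X := (↑X : Set (L → ℂ))) (by rw [hpair]; simp) hσ hσα
      refine ⟨swapExt σ, h1, h2, ?_⟩
      have hd : deg (Cfsg.conjFun χ₀) = deg χ₀ := Nat.cast_injective (R := ℂ) (by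
        rw [← hdeg _ (hXS (hXc χ₀ hχ₀).1), ← hdeg _ (hXS hχ₀), conjFun_one (hirX χ₀ hχ₀)])
      rw [hpair, Finset.sum_pair (hXc χ₀ hχ₀).2.symm]
      simp [hcX, hk, swapExt, (hXc χ₀ hχ₀).2, hd, hd0.ne']
  have hkey : ψ = (a : ℂ) • τ'' η₀ - σ'' χ₀ := by
    rw [hexp]
    rw [hsumY, hsumX, sub_eq_add_neg]
  refine (glue hirr hXS hYS hdisj hX2 hY2 hα hα1 hσ'' hσα'' hτ'' hτα'').2 ⟨χ₀, hχ₀, η₀, hη₀, ?_⟩
  rw [hdeg _ (hXS hχ₀), hdeg _ (hYS hη₀), hda]
  have e : (((a * deg η₀ : ℕ) : ℂ) • η₀ - (deg η₀ : ℂ) • χ₀) = (deg η₀ : ℤ) • v := by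
    rw [hv, smul_sub, smul_smul, ← Int.cast_smul_eq_zsmul ℂ, ← Int.cast_smul_eq_zsmul ℂ]
    push_cast
    rw [mul_comm (a : ℂ)]
  rw [e, iso_zsmul hα' hvmem, ← hψ, hkey, smul_sub, ← Int.cast_smul_eq_zsmul ℂ,
    ← Int.cast_smul_eq_zsmul ℂ, smul_smul]
  push_cast
  rw [mul_comm (a : ℂ)]

end Cfsg.Agent.Char.Coherence
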