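import Cfsg.Agent.Lib.Char.FeitCoherence
import Cfsg.Agent.Lib.Char.GlueCongruence
import Cfsg.Agent.Lib.Char.TICongruence
import Cfsg.Agent.Lib.Char.Fixed
import Mathlib.GroupTheory.Sylow

/-!
# Coherence for a TI kernel of a Frobenius normaliser of odd order
-/

set_option linter.style.haveILetI false
set_option linter.unusedSectionVars false

namespace Cfsg.Agent.Char.CohTI

open Cfsg.Agent.Char
open scoped Classical

universe u v

section

variable {L : Type u} [Group L] [Fintype L] (K : Subgroup L) [hK : K.Normal]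

theorem zspan_vanish {α : L → ℂ} (h : α ∈ Cfsg.zspan (Cfsg.inducedIrrAbove K ⊥)) :
    (∀ x, x ∉ K → α x = 0) ∧ Cfsg.IsClassFunction L α := by
  induction h using Submodule.span_induction with
  | mem φ hφ =>
    obtain ⟨θ, -, -, -, rfl⟩ := hφ
    exact ⟨fun x hx => indFun_eq_zero_of_not_mem K θ hx, isClassFunction_indFun K θ⟩
  | zero => exact ⟨fun _ _ => rfl, fun _ _ => rfl⟩
  | add a b _ _ ha hb =>
    exact ⟨fun x hx => by rw [Pi.add_apply, ha.1 x hx, hb.1 x hx, add_zero],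
      fun g x => by rw [Pi.add_apply, Pi.add_apply, ha.2 g x, hb.2 g x]⟩
  | smul n a _ ha =>
    exact ⟨fun x hx => by rw [Pi.smul_apply, ha.1 x hx, smul_zero],
      fun g x => by rw [Pi.smul_apply, Pi.smul_apply, ha.2 g x]⟩

theorem exists_central (hnil : Group.IsNilpotent K) (B : Subgroup L) [B.Normal] (hB : B ≠ ⊥)
    (hBK : B ≤ K) : ∃ Z : Subgroup L, Z.Normal ∧ Z ≠ ⊥ ∧ Z ≤ B ∧
      ∀ z ∈ Z, ∀ k ∈ K, z * k = k * z := by
  haveI := hnil
  have hmap : Group.IsNilpotent (K.map (QuotientGroup.mk' (⊥ : Subgroup L))) :=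
    Group.nilpotent_of_surjective ((QuotientGroup.mk' (⊥ : Subgroup L)).subgroupMap K)
      (MonoidHom.subgroupMap_surjective _ K)
  suffices h : ∀ C : Subgroup L, C.Normal → C ≠ ⊥ → C ≤ B → ∃ Z : Subgroup L, Z.Normal ∧ Z ≠ ⊥ ∧ Z ≤ B ∧
      ∀ z ∈ Z, ∀ k ∈ K, z * k = k * z from h B inferInstance hB le_rfl
  intro C
  induction C using WellFoundedLT.induction with
  | _ C ih =>
    intro hCn hC hCB
    haveI := hCn
    by_cases h : ⁅C, K⁆ = ⊥
    · exact ⟨C, hCn, hC, hCB, fun z hz k hk => commutatorElement_eq_one_iff_mul_comm.mp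
        (Subgroup.mem_bot.mp (h ▸ Subgroup.commutator_mem_commutator hz hk))⟩
    · have hlt : ⁅C, K⁆ < C := by
        have := Coherence.sup_commutator_lt (M := ⊥) (bot_lt_iff_ne_bot.mpr hC) (hCB.trans hBK) hmap
        rwa [sup_bot_eq] at this
      exact ih _ hlt inferInstance h (hlt.le.trans hCB)

end

variable {G : Type v} [Group G] [Fintype G] (H : Subgroup G)
  [Fintype ↥(Subgroup.normalizer (H : Set G))]

local notation "NH" => Subgroup.normalizer (H : Set G)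

theorem isometry (hTI : Cfsg.IsTISubset (H : Set G)) :
    Cfsg.IsLinearIsometryOn (Cfsg.zspanOn (Cfsg.inducedIrrAbove
        (H.subgroupOf (Subgroup.normalizer (H : Set G))) ⊥) ({1}ᶜ : Set _))
      (fun α => Cfsg.indFun (Subgroup.normalizer (H : Set G)) α) ∧
    ∀ α ∈ Cfsg.zspanOn (Cfsg.inducedIrrAbove (H.subgroupOf (Subgroup.normalizer (H : Set G))) ⊥)
      ({1}ᶜ : Set _), Cfsg.indFun (Subgroup.normalizer (H : Set G)) α 1 = 0 := by
  refine ⟨⟨fun a _ b _ => indFun_add _ a b, fun a _ n => ?_, fun a ha b hb => ?_, fun a ha => ?_⟩,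
    fun a ha => ?_⟩
  · show Cfsg.indFun NH (n • a) = n • Cfsg.indFun NH a
    rw [← Int.cast_smul_eq_zsmul ℂ, ← Int.cast_smul_eq_zsmul ℂ, indFun_smul]
  · obtain ⟨ha1, ha2⟩ := Coherence.mem_zspanOn_one.mp ha
    obtain ⟨hb1, -⟩ := Coherence.mem_zspanOn_one.mp hb
    obtain ⟨a3, -⟩ := zspan_vanish _ ha1
    obtain ⟨b3, b4⟩ := zspan_vanish _ hb1
    exact classInner_indFun_TI (H : Set G) hTI a b b4
      (fun x hx => a3 x fun h => hx (Subgroup.mem_subgroupOf.mp h))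
      (fun x hx => b3 x fun h => hx (Subgroup.mem_subgroupOf.mp h)) ha2
  · refine IsGeneralizedCharacter.indFun NH (Coherence.zspan_gen (fun φ hφ => ?_) ha.1)
    obtain ⟨θ, hθ, -, -, rfl⟩ := hφ
    exact IsGeneralizedCharacter.of_isCharacter
      (isCharacter_indFun _ (IsIrrCharacter.isCharacter hθ))
  · rw [indFun_one_apply, (Coherence.mem_zspanOn_one.mp ha).2, mul_zero]

theorem coherent_TI (hTI : Cfsg.IsTISubset (H : Set G))
    (hodd : Odd (Nat.card ↥(Subgroup.normalizer (H : Set G)))) (hH : H ≠ ⊥)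
    (hne : ¬ Subgroup.normalizer (H : Set G) ≤ H)
    (hF : ∀ k ∈ H.subgroupOf (Subgroup.normalizer (H : Set G)), k ≠ 1 →
      Subgroup.centralizer ({k} : Set ↥(Subgroup.normalizer (H : Set G))) ≤
        H.subgroupOf (Subgroup.normalizer (H : Set G))) :
    Cfsg.IsCoherent (Cfsg.inducedIrrAbove (H.subgroupOf (Subgroup.normalizer (H : Set G))) ⊥)
      ({1}ᶜ : Set _) (fun α => Cfsg.indFun (Subgroup.normalizer (H : Set G)) α) := by
  set K := H.subgroupOf NH with hKdef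
  have hHL : H ≤ NH := Subgroup.le_normalizer
  obtain ⟨hτ, hτ1⟩ := isometry H hTI
  set ι : (NH → ℂ) → (G → ℂ) := fun α => Cfsg.indFun NH α with hι
  have hK1 : K ≠ ⊥ := fun h => hH (by
    rw [← Subgroup.map_subgroupOf_eq_of_le hHL, ← hKdef, h, Subgroup.map_bot])
  have hKtop : K ≠ ⊤ := fun h => hne (Subgroup.subgroupOf_eq_top.mp h)
  have hLodd : Odd (Nat.card NH) := hodd
  have hKodd : Odd (Nat.card K) := Odd.of_dvd_nat hLodd (Subgroup.card_subgroup_dvd_card K)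
  have he : Odd K.index := Odd.of_dvd_nat hLodd K.index_dvd_card
  have he0 : 0 < K.index := Nat.pos_of_ne_zero Subgroup.index_ne_zero_of_finite
  have hcard : Nat.card K ≠ K.index + 1 := fun h => by
    rw [Nat.odd_iff] at hKodd he
    omega
  rcases Feit.coherent_or_exception K hF hτ hτ1 hK1 hKtop hcard with h | ⟨p, hp, ⟨m, hm⟩, hnab, -⟩
  · exact h
  haveI := Fact.mk hp
  haveI hnil := Feit.nilpotent K hF hKtop
  have hsolv : Group.IsSolvable K := inferInstance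
  have hm0 : m ≠ 0 := fun h0 => hK1 (Subgroup.card_eq_one.mp (by rw [hm, h0, pow_zero]))
  have hpK : p ∣ Nat.card K := hm ▸ dvd_pow_self p hm0
  have hp2 : p ≠ 2 := fun h => by
    rw [h] at hpK
    exact (Nat.not_even_iff_odd.mpr hKodd) (even_iff_two_dvd.mpr hpK)
  have hcop : Nat.Coprime p K.index := (Frob.coprime hF).coprime_dvd_left hpK
  set C1 := ⁅K, K⁆ with hC1
  have hC1K : C1 ≤ K := Subgroup.commutator_le_left K K
  have hC1ne : C1 ≠ ⊥ := fun h => hnab fun a ha b hb => commutatorElement_eq_one_iff_mul_comm.mp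
    (Subgroup.mem_bot.mp (h ▸ Subgroup.commutator_mem_commutator ha hb))
  obtain ⟨Z, hZn, hZ1, hZC, hZc⟩ := exists_central K hnil C1 hC1ne hC1K
  haveI := hZn
  have hZK : Z ≤ K := hZC.trans hC1K
  -- the two coherent pieces
  set S := Cfsg.inducedIrrAbove K ⊥ with hS
  have hirr : ∀ φ ∈ S, Cfsg.IsIrrCharacter NH φ := fun φ h => Feit.above_irr K hF h
  have hconj : ∀ φ ∈ S, Cfsg.conjFun φ ∈ S ∧ Cfsg.conjFun φ ≠ φ := by
    intro φ hφ
    refine ⟨IndSet.conj_mem_above K ⊥ hφ, fun h => ?_⟩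
    have h1 := eq_one_of_real hLodd (hirr φ hφ) fun g => congrFun h g
    rw [hS, Feit.above_bot_eq K hF] at hφ
    obtain ⟨-, k, -, hk⟩ := hφ
    exact hk (by rw [h1])
  have hSne : S.Nonempty := IndSet.above_nonempty K fun h => hK1 (le_bot_iff.mp h)
  obtain ⟨R, hR⟩ := Coherence.exists_system hSne hirr hconj hτ hτ1
  have hXcoh : Cfsg.IsCoherent (S \ Cfsg.inducedIrrAbove K Z) ({1}ᶜ : Set NH) ι :=
    Central.coherent_pgroup K hR hp hp2 hm hcop Z hZ1 hZK hZc fun χ h => hirr χ h.1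
  have hqK : ¬ K ≤ C1 := by
    intro h
    refine hK1 ?_
    have hnilmap : Group.IsNilpotent (K.map (QuotientGroup.mk' (⊥ : Subgroup NH))) :=
      Group.nilpotent_of_surjective ((QuotientGroup.mk' (⊥ : Subgroup NH)).subgroupMap K)
        (MonoidHom.subgroupMap_surjective _ K)
    by_contra hb
    have := Coherence.sup_commutator_lt (M := ⊥) (bot_lt_iff_ne_bot.mpr hb) le_rfl hnilmap
    rw [sup_bot_eq] at this
    exact this.not_ge h
  have hq : K.index + 1 < C1.relIndex K := by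
    have h1 : 1 < C1.relIndex K := by
      have h0 : C1.relIndex K ≠ 0 := Subgroup.index_ne_zero_of_finite
      have h2 : C1.relIndex K ≠ 1 := fun h => hqK (Subgroup.relIndex_eq_one.mp h)
      omega
    have := Chief.two_mul_add_one_le he
      (Odd.of_dvd_nat hKodd (Subgroup.relIndex_dvd_card C1 K)) h1
      (Feit.index_dvd_sub_one K hF C1 K hC1K le_rfl le_rfl)
    omega
  have hYcoh := Feit.coherent_abelianised K hF hτ hτ1 C1 le_rfl hq
  -- finsets
  have hfin := Coherence.irr_set_finite hirr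
  set X := hfin.toFinset.filter (fun φ => φ ∉ Cfsg.inducedIrrAbove K Z) with hXdef
  set Y := hfin.toFinset.filter (fun φ => φ ∈ Cfsg.inducedIrrAbove K C1) with hYdef
  have hXmem : ∀ φ, φ ∈ X ↔ φ ∈ S \ Cfsg.inducedIrrAbove K Z := fun φ => by simp [hXdef]
  have hYmem : ∀ φ, φ ∈ Y ↔ φ ∈ Cfsg.inducedIrrAbove K C1 := fun φ => by
    simp only [hYdef, Finset.mem_filter, Set.Finite.mem_toFinset, and_iff_right_iff_imp]
    exact fun h => IndSet.above_subset_bot K C1 h
  have hXset : (↑X : Set (NH → ℂ)) = S \ Cfsg.inducedIrrAbove K Z := Set.ext fun φ => hXmem φ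
  have hYset : (↑Y : Set (NH → ℂ)) = Cfsg.inducedIrrAbove K C1 := Set.ext fun φ => hYmem φ
  have hXS : (↑X : Set (NH → ℂ)) ⊆ S := hXset ▸ Set.sdiff_subset
  have hYS : (↑Y : Set (NH → ℂ)) ⊆ S := hYset ▸ IndSet.above_subset_bot K C1
  have hXY : Disjoint X Y := Finset.disjoint_left.mpr fun φ hx hy =>
    ((hXmem φ).mp hx).2 (IndSet.above_subset K Z C1 hZC ((hYmem φ).mp hy))
  have hXc : ∀ φ ∈ X, Cfsg.conjFun φ ∈ X ∧ Cfsg.conjFun φ ≠ φ := fun φ h => by
    refine ⟨(hXmem _).mpr ⟨(hconj φ (hXS h)).1, fun h' => ((hXmem φ).mp h).2 ?_⟩, (hconj φ (hXS h)).2⟩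
    simpa [Coherence.conjFun_conjFun] using IndSet.conj_mem_above K Z h'
  have hYc : ∀ φ ∈ Y, Cfsg.conjFun φ ∈ Y ∧ Cfsg.conjFun φ ≠ φ := fun φ h =>
    ⟨(hYmem _).mpr (IndSet.conj_mem_above K C1 ((hYmem φ).mp h)), (hconj φ (hYS h)).2⟩
  obtain ⟨-, σ, hσ, hσα⟩ := hXset.symm ▸ hXcoh
  obtain ⟨-, τ, hτY, hταY⟩ := hYset.symm ▸ hYcoh
  -- degrees
  set d : (NH → ℂ) → ℕ := Cfsg.charDegree with hdd
  have hd : ∀ φ ∈ S, φ 1 = (d φ : ℂ) := fun φ h =>
    CharX.deg_spec (IsIrrCharacter.isCharacter (hirr φ h))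
  set e := K.index with hedef
  have hYdeg : ∀ η ∈ Y, d η = e := by
    intro η hη
    obtain ⟨θ, hθ, -, hθC, rfl⟩ := (hYmem η).mp hη
    refine Nat.cast_injective (R := ℂ) ?_
    rw [← hd _ (hYS hη), indFun_one_apply, degree_one_of_commutators hθ fun a b => hθC _
      (Subgroup.commutator_mem_commutator a.2 b.2), mul_one]
  have hXdeg : ∀ ξ ∈ X, ∃ i, d ξ = e * p ^ i := by
    intro ξ hξ
    obtain ⟨θ, hθ, -, -, rfl⟩ := hXS hξ
    obtain ⟨i, -, hi⟩ := (Nat.dvd_prime_pow hp).mp (hm ▸ CharX.irr_deg_dvd_card ⟨θ, hθ⟩)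
    refine ⟨i, Nat.cast_injective (R := ℂ) ?_⟩
    rw [← hd _ (hXS hξ), IndSet.indFun_degree K (IsIrrCharacter.isCharacter hθ), ← hedef]
    rw [show Cfsg.charDegree θ = p ^ i from hi]
  obtain ⟨θz, hθz⟩ := Central.exists_nontrivial_on K Z hZ1 hZK
  have hXne : X.Nonempty := by
    refine ⟨Cfsg.indFun K (θz : K → ℂ), (hXmem _).mpr ?_⟩
    have hθ1 : (θz : K → ℂ) ≠ fun _ => 1 := fun h => hθz fun a _ => by rw [h]
    refine ⟨⟨θz, θz.2, hθ1, fun a ha => ?_, rfl⟩, fun h => hθz ((IndSet.mem_above_iff K Z θz.2 hθ1).mp h)⟩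
    rw [Subgroup.mem_bot] at ha
    rw [show a = 1 from Subtype.ext ha]
  obtain ⟨χ₀, hχ₀, hmin⟩ := X.exists_min_image d hXne
  obtain ⟨i₀, hi₀⟩ := hXdeg χ₀ hχ₀
  obtain ⟨θl, hθl, -⟩ := IndSet.exists_linear K hsolv hqK
  set η₀ := Cfsg.indFun K (θl : K → ℂ)
  have hη₀ : η₀ ∈ Y := (hYmem _).mpr ((IndSet.mem_above_iff_exists K).mpr ⟨θl, hθl, rfl⟩)
  set a := p ^ i₀ with ha
  have ha0 : 0 < a := pow_pos hp.pos _
  have hXeq : (↑X : Set (NH → ℂ)) = {χ | Cfsg.IsIrrCharacter NH χ ∧ ∃ z ∈ Z, χ z ≠ χ 1} := by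
    rw [hXset]
    exact Central.irr_over_central K Z hZK fun χ h => hirr χ h.1
  -- the image of `η₀`
  set θ := τ η₀ with hθ
  have hτY' : Cfsg.IsLinearIsometryOn (↑(Submodule.span ℤ (↑Y : Set (NH → ℂ))) : Set (NH → ℂ)) τ := hτY
  have hσ' : Cfsg.IsLinearIsometryOn (↑(Submodule.span ℤ (↑X : Set (NH → ℂ))) : Set (NH → ℂ)) σ := hσ
  have hθg : Cfsg.IsGeneralizedCharacter G θ := Coherence.iso_gen hτY' (Submodule.subset_span hη₀)
  have hθc := IsGeneralizedCharacter.isClassFunction hθg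
  set ρ : NH → ℂ := fun x => θ x with hρ
  have hρg : Cfsg.IsGeneralizedCharacter NH ρ := IsGeneralizedCharacter.restrict hθg NH
  obtain ⟨c, hρe, hc⟩ := IsGeneralizedCharacter.exists_coeff hρg
  set r : ℤ := c ⟨χ₀, hirr χ₀ (hXS hχ₀)⟩ with hr
  have hχ₀d : χ₀ 1 = (d χ₀ : ℂ) := hd χ₀ (hXS hχ₀)
  have horth := (Coherence.glue hirr hXS hYS (Finset.disjoint_coe.mpr hXY)
    ⟨χ₀, hχ₀, _, (hXc χ₀ hχ₀).1, (hXc χ₀ hχ₀).2.symm⟩
    ⟨η₀, hη₀, _, (hYc η₀ hη₀).1, (hYc η₀ hη₀).2.symm⟩ hτ hτ1 hσ hσα hτY hταY).1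
  have hprop : ∀ ξ : Cfsg.IrrCharacter NH, (ξ : NH → ℂ) ∈ X →
      (d χ₀ : ℂ) * c ξ = (d (ξ : NH → ℂ) : ℂ) * r := by
    intro ξ hξ
    set u := (d χ₀ : ℤ) • (ξ : NH → ℂ) - (d (ξ : NH → ℂ) : ℤ) • χ₀ with hu
    have hmem : u ∈ Cfsg.zspanOn (↑X : Set (NH → ℂ)) ({1}ᶜ : Set NH) :=
      Coherence.mem_zspanOn_one.mpr ⟨Submodule.sub_mem _ (Submodule.smul_mem _ _ (Submodule.subset_span hξ))
        (Submodule.smul_mem _ _ (Submodule.subset_span hχ₀)), by
          rw [hu, Pi.sub_apply, Pi.smul_apply, Pi.smul_apply, hd _ (hXS hξ), hχ₀d,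
            zsmul_eq_mul, zsmul_eq_mul]
          push_cast
          ring⟩
    have h : Cfsg.classInner (Cfsg.indFun NH u) θ = 0 := by
      rw [show Cfsg.indFun NH u = ι u from rfl, ← hσα u hmem, hu,
        Coherence.iso_sub hσ' (Submodule.smul_mem _ _ (Submodule.subset_span hξ))
          (Submodule.smul_mem _ _ (Submodule.subset_span hχ₀)),
        Coherence.iso_zsmul hσ' (Submodule.subset_span hξ),
        Coherence.iso_zsmul hσ' (Submodule.subset_span hχ₀), classInner_sub_left,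
        Coherence.classInner_zsmul_left, Coherence.classInner_zsmul_left, horth _ hξ η₀ hη₀,
        horth _ hχ₀ η₀ hη₀, mul_zero, mul_zero, sub_zero]
    rw [classInner_indFun_left NH u hθc, ← hρ, hu, classInner_sub_left,
      Coherence.classInner_zsmul_left, Coherence.classInner_zsmul_left, sub_eq_zero] at h
    have h1 : Cfsg.classInner (ξ : NH → ℂ) ρ = (c ξ : ℂ) := by
      rw [← classInner_conj_symm, hc, map_intCast]
    have h2 : Cfsg.classInner χ₀ ρ = (r : ℂ) := by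
      rw [← classInner_conj_symm, show χ₀ = ((⟨χ₀, hirr χ₀ (hXS hχ₀)⟩ : Cfsg.IrrCharacter NH) : NH → ℂ)
        from rfl, hc, map_intCast]
    rw [h1, h2] at h
    exact_mod_cast h
  have hcore : ∀ z : NH, z ∈ Z → z ≠ 1 →
      (d χ₀ : ℂ) * (θ 1 - θ z) = (r : ℂ) * (Nat.card NH : ℂ) := by
    intro z hz hz1
    have e1 : θ 1 = ρ 1 := by simp [hρ]
    have e2 : θ z = ρ z := rfl
    rw [e1, e2]
    conv_lhs => rw [hρe]
    simp only [Finset.sum_apply, Pi.smul_apply, smul_eq_mul]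
    rw [← Finset.sum_sub_distrib, Finset.mul_sum]
    have key : ∀ ξ : Cfsg.IrrCharacter NH, (d χ₀ : ℂ) * ((c ξ : ℂ) * (ξ : NH → ℂ) 1 - (c ξ : ℂ) * (ξ : NH → ℂ) z) =
        (r : ℂ) * ((ξ : NH → ℂ) 1 * (ξ : NH → ℂ) 1 - (ξ : NH → ℂ) z * (starRingEnd ℂ) ((ξ : NH → ℂ) 1)) := by
      intro ξ
      have hξd : (ξ : NH → ℂ) 1 = (d (ξ : NH → ℂ) : ℂ) := CharX.irr_deg ξ
      rw [hξd, map_natCast]
      by_cases hξ : (ξ : NH → ℂ) ∈ X
      · linear_combination ((d (ξ : NH → ℂ) : ℂ) - (ξ : NH → ℂ) z) * hprop ξ hξ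
      · have : (ξ : NH → ℂ) z = (ξ : NH → ℂ) 1 := by
          by_contra hne'
          refine hξ ?_
          rw [← Finset.mem_coe, hXeq]
          exact ⟨ξ.2, z, hz, hne'⟩
        rw [this, hξd]
        ring
    rw [Finset.sum_congr rfl fun ξ _ => key ξ, ← Finset.mul_sum, Finset.sum_sub_distrib,
      column_orth_of_not_isConj (fun h => hz1 (isConj_one_left.mp h)), sub_zero, ← sum_sq_degree]
    simp only [pow_two]
  -- the congruence
  have hirrθ : Cfsg.IsIrrCharacter G θ ∨ Cfsg.IsIrrCharacter G (-θ) :=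
    IsGeneralizedCharacter.of_norm_one hθg (by
      rw [hθ, Coherence.iso_inner hτY' (Submodule.subset_span hη₀) (Submodule.subset_span hη₀),
        classInner_self_irr (hirr _ (hYS hη₀))])
  obtain ⟨ε, hε, hεirr⟩ : ∃ ε : ℤ, (ε = 1 ∨ ε = -1) ∧ Cfsg.IsIrrCharacter G ((ε : ℂ) • θ) := by
    rcases hirrθ with h | h
    · exact ⟨1, Or.inl rfl, by simpa using h⟩
    · exact ⟨-1, Or.inr rfl, by simpa using h⟩
  have hHcard : Nat.card H = Nat.card K :=
    (Nat.card_congr (Subgroup.subgroupOfEquivOfLe hHL).toEquiv).symm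
  have hsyl : Nat.card H = p ^ (Nat.card G).factorization p := by
    rw [hHcard, hm]
    congr 1
    have h1 : p ^ m ∣ Nat.card G := hm ▸ hHcard ▸ Subgroup.card_subgroup_dvd_card H
    have h2 : ¬ p ^ (m + 1) ∣ Nat.card G := fun h => by
      have := Sylow.prime_dvd_card_quotient_normalizer h (hHcard.trans hm)
      exact hp.ne_one (Nat.eq_one_of_dvd_coprimes hcop dvd_rfl this)
    have h3 := (hp.pow_dvd_iff_le_factorization Nat.card_pos.ne').mp h1
    have h4 : ¬ m + 1 ≤ (Nat.card G).factorization p := fun h =>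
      h2 ((hp.pow_dvd_iff_le_factorization Nat.card_pos.ne').mpr h)
    omega
  let P : Sylow p G := Sylow.ofCard H hsyl
  have hPH : (P : Subgroup G) = H := rfl
  obtain ⟨z₀, hz₀, hz₀1⟩ : ∃ z ∈ Z, z ≠ 1 := Subgroup.bot_or_exists_ne_one Z |>.resolve_left hZ1
  set Z' := Z.map (NH).subtype with hZ'
  obtain ⟨n, dd, hn, hdd', hdvd⟩ := TICongr.dvd_sub_value (G := G) p P hTI hodd Z'
    (by rw [hPH]; rintro _ ⟨z, hz, rfl⟩; exact Subgroup.mem_subgroupOf.mp (hZK hz))
    (by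
      rintro x hx _ ⟨z, hz, rfl⟩
      exact ⟨⟨x, hx⟩ * z * ⟨x, hx⟩⁻¹, hZn.conj_mem z hz ⟨x, hx⟩, rfl⟩)
    (by
      rintro _ ⟨z, hz, rfl⟩ y hy
      exact congrArg Subtype.val (hZc z hz ⟨y, hHL hy⟩ hy))
    ((ε : ℂ) • θ) hεirr
    (by
      rintro _ ⟨z, hz, rfl⟩ _ ⟨z', hz', rfl⟩ hne1 hne2
      have h1 := hcore z hz (fun h => hne1 (by rw [h, map_one]))
      have h2 := hcore z' hz' (fun h => hne2 (by rw [h, map_one]))
      rw [← h2] at h1
      have hd0 : (d χ₀ : ℂ) ≠ 0 := by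
        rw [hi₀]; exact Nat.cast_ne_zero.mpr (Nat.mul_pos he0 ha0).ne'
      have h3 := mul_left_cancel₀ hd0 h1
      simp only [Pi.smul_apply]
      rw [show θ ((NH).subtype z) = θ z from rfl, show θ ((NH).subtype z') = θ z' from rfl,
        sub_right_injective h3])
    (z₀ : G) ⟨z₀, hz₀, rfl⟩ (fun h => hz₀1 (Subtype.ext h))
  obtain ⟨t, ht⟩ := hdvd
  have hjr : r = (a : ℤ) * (ε * t) := by
    have h := hcore z₀ hz₀ hz₀1
    simp only [Pi.smul_apply, smul_eq_mul] at hn hdd'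
    have hεε : (ε : ℂ) * ε = 1 := by rcases hε with rfl | rfl <;> norm_num
    have hLc : (Nat.card NH : ℂ) = (Nat.card K : ℂ) * (e : ℂ) := by
      rw [← Nat.cast_mul, hedef, Subgroup.card_mul_index]
    have ht' : ((dd : ℂ) - n) = (Nat.card K : ℂ) * t := by
      rw [hPH, hHcard] at ht
      exact_mod_cast ht
    rw [hi₀, hLc] at h
    push_cast at h
    have key : ((Nat.card K : ℂ) * e) * ((a : ℂ) * ((ε : ℂ) * t)) = ((Nat.card K : ℂ) * e) * r := by
      linear_combination h + (e : ℂ) * a * (θ 1 - θ z₀) * hεε - (e : ℂ) * a * (ε : ℂ) * hdd' +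
        (e : ℂ) * a * (ε : ℂ) * hn - (e : ℂ) * a * (ε : ℂ) * ht'
    have hne' : ((Nat.card K : ℂ) * e) ≠ 0 :=
      mul_ne_zero (Nat.cast_ne_zero.mpr Nat.card_pos.ne') (Nat.cast_ne_zero.mpr he0.ne')
    exact_mod_cast (mul_left_cancel₀ hne' key).symm
  set s : ℤ := c ⟨η₀, hirr η₀ (hYS hη₀)⟩
  have hj : Cfsg.classInner (ι ((a : ℤ) • η₀ - χ₀)) (τ η₀) = (((a : ℤ) * (s - ε * t) : ℤ) : ℂ) := by
    rw [← hθ, hι]
    simp only
    rw [classInner_indFun_left NH _ hθc, ← hρ, classInner_sub_left, Coherence.classInner_zsmul_left]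
    have h1 : Cfsg.classInner η₀ ρ = (s : ℂ) := by
      rw [← classInner_conj_symm, show η₀ = ((⟨η₀, hirr η₀ (hYS hη₀)⟩ : Cfsg.IrrCharacter NH) : NH → ℂ)
        from rfl, hc, map_intCast]
    have h2 : Cfsg.classInner χ₀ ρ = (r : ℂ) := by
      rw [← classInner_conj_symm, show χ₀ = ((⟨χ₀, hirr χ₀ (hXS hχ₀)⟩ : Cfsg.IrrCharacter NH) : NH → ℂ)
        from rfl, hc, map_intCast]
    rw [h1, h2, hjr]
    push_cast
    ring
  have hcohXY := Coherence.glue_congr hirr hXS hYS hXY hXc hYc hτ hτ1 hσ hσα hτY hταY d hd hχ₀ hη₀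
    (fun η h => (hYdeg η h).trans (hYdeg η₀ hη₀).symm) hmin ha0
    (by rw [hi₀, hYdeg η₀ hη₀, mul_comm]) hj
  -- all the others
  set rest := hfin.toFinset.filter (fun φ => φ ∉ X ∪ Y) with hrest
  have hgrow := Feit.coherent_grow hirr hτ hτ1 d hd (X ∪ Y)
    (by push_cast; exact Set.union_subset hXS hYS) (by push_cast; exact hcohXY)
    (Finset.mem_union_right X hη₀) rest
    (fun φ h => hfin.mem_toFinset.mp (Finset.mem_filter.mp h).1)
    (fun χ hχ => by
      obtain ⟨θ', hθ', -, -, rfl⟩ := hfin.mem_toFinset.mp (Finset.mem_filter.mp hχ).1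
      rw [hYdeg η₀ hη₀]
      refine ⟨Cfsg.charDegree θ', Nat.cast_injective (R := ℂ) ?_⟩
      rw [← hd _ (hfin.mem_toFinset.mp (Finset.mem_filter.mp hχ).1),
        IndSet.indFun_degree K (IsIrrCharacter.isCharacter hθ')])
    (fun χ hχ => by
      obtain ⟨hχS, hχn⟩ := Finset.mem_filter.mp hχ
      rw [hfin.mem_toFinset] at hχS
      obtain ⟨θ', hθ', hθ'1, -, rfl⟩ := hχS
      set t' := Cfsg.charDegree θ' with ht'
      have hmemS : Cfsg.indFun K θ' ∈ S := hfin.mem_toFinset.mp (Finset.mem_filter.mp hχ).1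
      have hdt : d (Cfsg.indFun K θ') = e * t' := Nat.cast_injective (R := ℂ)
        ((hd _ hmemS).symm.trans (IndSet.indFun_degree K (IsIrrCharacter.isCharacter hθ')))
      have ht0 : 0 < t' := CharX.irr_deg_pos ⟨θ', hθ'⟩
      have ht1 : t' ≠ 1 := by
        intro h1
        obtain ⟨f, hf⟩ := exists_hom_of_degree_one (IsIrrCharacter.isCharacter hθ')
          ((CharX.deg_spec (IsIrrCharacter.isCharacter hθ')).trans (by rw [← ht', h1, Nat.cast_one]))
        refine hχn (Finset.mem_union_right _ ((hYmem _).mpr ⟨θ', hθ', hθ'1, fun k hk => ?_, rfl⟩))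
        have hker : commutator K ≤ f.ker := Abelianization.commutator_subset_ker f
        have hk' : k ∈ commutator K := by
          have h2 : (⁅K, K⁆).subgroupOf K = commutator K := by
            refine Subgroup.map_injective K.subtype_injective ?_
            rw [Subgroup.map_subgroupOf_eq_of_le hC1K, Subgroup.map_subtype_commutator]
          rw [← h2, Subgroup.mem_subgroupOf]
          exact hk
        rw [hf]
        simp only
        rw [MonoidHom.mem_ker.mp (hker hk'), map_one]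
      have hle : t' ^ 2 ≤ Z.relIndex K := by
        have := IndSet.degree_sq_le (B := ⊥) (C := K) (D := Z) K le_rfl
          (fun x hx y hy => by
            rw [Subgroup.mem_bot, hZc x hx y hy, mul_inv_cancel_right, mul_inv_cancel])
          hθ' (fun a ha => by
            rw [Subgroup.mem_bot] at ha
            rw [show a = 1 from Subtype.ext ha]) (CharX.irr_deg ⟨θ', hθ'⟩)
        rwa [Subgroup.relIndex_self, one_pow, one_mul] at this
      have hsum : ∑ φ ∈ X, d φ ^ 2 = Z.index * (Nat.card Z - 1) := by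
        apply Nat.cast_injective (R := ℂ)
        rw [Nat.cast_mul, Nat.cast_sub Nat.card_pos, Nat.cast_one, Nat.cast_sum,
          ← Frob.sum_rel_sq (K := Z)]
        symm
        refine Finset.sum_bij (fun ξ _ => (ξ : NH → ℂ)) (fun ξ hξ => ?_)
          (fun _ _ _ _ h => Subtype.ext h) (fun φ hφ => ?_) (fun ξ hξ => ?_)
        · rw [← Finset.mem_coe, hXeq]
          exact ⟨ξ.2, (Finset.mem_filter.mp hξ).2⟩
        · have hφ' := hφ
          rw [← Finset.mem_coe, hXeq] at hφ'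
          exact ⟨⟨φ, hφ'.1⟩, Finset.mem_filter.mpr ⟨Finset.mem_univ _, hφ'.2⟩, rfl⟩
        · rw [CharX.irr_deg, Nat.cast_pow]
      have hZ2 : 2 * e + 1 ≤ Nat.card Z := by
        refine Chief.two_mul_add_one_le he (Odd.of_dvd_nat hLodd (Subgroup.card_subgroup_dvd_card Z))
          ((Subgroup.one_lt_card_iff_ne_bot Z).mpr hZ1) ?_
        refine Chief.index_dvd_card_sub_one K Z fun z hz hz1 =>
          le_antisymm (hF z (hZK hz) hz1) fun k hk => ?_
        exact Subgroup.mem_centralizer_singleton_iff.mpr (hZc z hz k hk).symm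
      rw [hYdeg η₀ hη₀, hdt, Finset.sum_union hXY, hsum]
      refine lt_of_lt_of_le ?_ (Nat.le_add_right _ _)
      rw [← Subgroup.relIndex_mul_index hZK, ← hedef]
      have h5 : 2 * e * t' < Z.relIndex K * (Nat.card Z - 1) := by
        have h6 : t' < t' ^ 2 := by
          rw [pow_two]
          exact lt_mul_left ht0 (by omega)
        calc 2 * e * t' < 2 * e * t' ^ 2 := Nat.mul_lt_mul_of_pos_left h6 (by omega)
          _ ≤ (Nat.card Z - 1) * Z.relIndex K := Nat.mul_le_mul (by omega) hle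
          _ = Z.relIndex K * (Nat.card Z - 1) := mul_comm _ _
      calc 2 * e * (e * t') = e * (2 * e * t') := by ring
        _ < e * (Z.relIndex K * (Nat.card Z - 1)) := Nat.mul_lt_mul_of_pos_left h5 he0
        _ = Z.relIndex K * e * (Nat.card Z - 1) := by ring)
  have hall : (↑(X ∪ Y ∪ rest) : Set (NH → ℂ)) = S := by
    push_cast
    refine Set.Subset.antisymm (Set.union_subset (Set.union_subset hXS hYS) fun φ h =>
      hfin.mem_toFinset.mp (Finset.mem_filter.mp h).1) fun φ hφ => ?_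
    by_cases h : φ ∈ X ∪ Y
    · exact Or.inl (by simpa using h)
    · exact Or.inr (Finset.mem_filter.mpr ⟨hfin.mem_toFinset.mpr hφ, h⟩)
  rwa [hall] at hgrow

end Cfsg.Agent.Char.CohTI
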