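import Cfsg.Agent.Lib.Char.CoherenceGrow
import Cfsg.Agent.Lib.Char.Orbit
import Mathlib.GroupTheory.Sylow
import Mathlib.Data.Nat.Factorization.Basic

/-!
# Coherence for a nilpotent section with fixed-point-free action on its abelianisation
-/

set_option linter.style.haveILetI false
set_option linter.unusedSectionVars false

namespace Cfsg.Agent.Char.Chief

open Cfsg.Agent.Char
open scoped Classical

universe u v

theorem index_dvd_card_sub_one {Q : Type u} [Group Q] [Finite Q] (K N : Subgroup Q) [N.Normal]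
    (hC : ∀ n ∈ N, n ≠ 1 → Subgroup.centralizer ({n} : Set Q) = K) :
    K.index ∣ Nat.card N - 1 := by
  haveI : Fintype Q := Fintype.ofFinite Q
  haveI hN : N.Normal := inferInstance
  set s := (Finset.univ.filter fun x : Q => x ∈ N).erase 1 with hs
  have hcard : s.card = Nat.card N - 1 := by
    rw [hs, Finset.card_erase_of_mem (by simp), Nat.card_eq_fintype_card, ← Fintype.card_subtype]
  rw [← hcard, Finset.card_eq_sum_card_image ConjClasses.mk s]
  refine Finset.dvd_sum fun c hc => ?_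
  obtain ⟨n, hn, rfl⟩ := Finset.mem_image.mp hc
  obtain ⟨hn1, hn2⟩ := Finset.mem_erase.mp hn
  have hnN : n ∈ N := (Finset.mem_filter.mp hn2).2
  have e : (s.filter fun a => ConjClasses.mk a = ConjClasses.mk n) = classFinset n := by
    ext a
    simp only [Finset.mem_filter, mem_classFinset, ConjClasses.mk_eq_mk_iff_isConj]
    refine ⟨fun h => h.2.symm, fun h => ⟨?_, h.symm⟩⟩
    obtain ⟨g, rfl⟩ := isConj_iff.mp h
    simp only [hs, Finset.mem_erase, Finset.mem_filter, Finset.mem_univ, true_and]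
    exact ⟨fun h1 => hn1 (conj_eq_one_iff.mp h1), hN.conj_mem n hnN g⟩
  rw [e, card_classFinset, hC n hnN hn1]

/-- In a finite nilpotent group only the whole group covers the abelianisation. -/
theorem sup_commutator_ne_top {Q : Type u} [Group Q] [Finite Q] [Group.IsNilpotent Q]
    (H : Subgroup Q) (hH : H ≠ ⊤) : H ⊔ commutator Q ≠ ⊤ := by
  obtain h | ⟨M, hM, hHM⟩ := eq_top_or_exists_le_coatom H
  · exact absurd h hH
  haveI : M.Normal := Subgroup.NormalizerCondition.normal_of_coatom M Group.normalizerCondition_of_isNilpotent hM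
  intro h
  haveI : Nontrivial (Q ⧸ M) := QuotientGroup.nontrivial_iff.mpr hM.1
  refine (Group.IsSolvable.commutator_lt_top_of_nontrivial (Q ⧸ M)).ne ?_
  have h2 : (H ⊔ commutator Q).map (QuotientGroup.mk' M) = ⊤ := by
    rw [h]; exact Subgroup.map_top_of_surjective _ (QuotientGroup.mk'_surjective M)
  rw [Subgroup.map_sup, (Subgroup.map_eq_bot_iff H).mpr (by rw [QuotientGroup.ker_mk']; exact hHM),
    bot_sup_eq, commutator_def, Subgroup.map_commutator,
    Subgroup.map_top_of_surjective _ (QuotientGroup.mk'_surjective M)] at h2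
  exact h2

theorem card_prime_pow_of_abelianization {Q : Type u} [Group Q] [Finite Q] [Group.IsNilpotent Q]
    {p a : ℕ} (hp : p.Prime) (h : (commutator Q).index = p ^ a) : ∃ m, Nat.card Q = p ^ m := by
  haveI := Fact.mk hp
  obtain ⟨P⟩ : Nonempty (Sylow p Q) := inferInstance
  by_cases hP : (P : Subgroup Q) = ⊤
  · obtain ⟨m, hm⟩ := IsPGroup.iff_card.mp P.isPGroup'
    refine ⟨m, ?_⟩
    rw [hP, Subgroup.card_top] at hm
    exact hm
  exfalso
  apply sup_commutator_ne_top _ hP
  rw [← Subgroup.index_eq_one]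
  have h1 : ((P : Subgroup Q) ⊔ commutator Q).index ∣ (P : Subgroup Q).index :=
    Subgroup.index_dvd_of_le le_sup_left
  have h2 : ((P : Subgroup Q) ⊔ commutator Q).index ∣ p ^ a := h ▸ Subgroup.index_dvd_of_le le_sup_right
  exact Nat.eq_one_of_dvd_coprimes (Nat.Coprime.pow_right a
    ((hp.coprime_iff_not_dvd.mpr P.not_dvd_index).symm)) h1 h2

theorem comm_of_prime_abelianization {Q : Type u} [Group Q] [Finite Q] [Group.IsNilpotent Q]
    (h : (commutator Q).index.Prime) (a b : Q) : a * b = b * a := by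
  obtain ⟨x, hx⟩ : ∃ x : Q, x ∉ commutator Q := by
    by_contra hall
    push Not at hall
    rw [show commutator Q = ⊤ from eq_top_iff.mpr fun x _ => hall x, Subgroup.index_top] at h
    exact Nat.not_prime_one h
  have h1 : Subgroup.zpowers x ⊔ commutator Q = ⊤ := by
    rw [← Subgroup.index_eq_one]
    rcases (Nat.dvd_prime h).mp (Subgroup.index_dvd_of_le
      (le_sup_right (a := Subgroup.zpowers x) (b := commutator Q))) with e | e
    · exact e
    · exfalso
      have := Subgroup.relIndex_mul_index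
        (le_sup_right (a := Subgroup.zpowers x) (b := commutator Q))
      rw [e, mul_eq_right₀ h.ne_zero, Subgroup.relIndex_eq_one] at this
      exact hx (this (le_sup_left (b := commutator Q) (Subgroup.mem_zpowers x)))
  have h2 : Subgroup.zpowers x = ⊤ := by
    by_contra h2
    exact sup_commutator_ne_top _ h2 h1
  obtain ⟨i, rfl⟩ := Subgroup.mem_zpowers_iff.mp (h2 ▸ Subgroup.mem_top a : a ∈ Subgroup.zpowers x)
  obtain ⟨j, rfl⟩ := Subgroup.mem_zpowers_iff.mp (h2 ▸ Subgroup.mem_top b : b ∈ Subgroup.zpowers x)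
  exact ((Commute.refl x).zpow_zpow i j).eq

variable {L : Type u} [Group L] [Fintype L] (K : Subgroup L) [hK : K.Normal]

theorem exists_between (H : Subgroup L) [hH : H.Normal] (hHK : H ≤ K) (hab : ⁅K, K⁆ ≤ H)
    {p q : ℕ} (hp : p.Prime) (hq : q.Prime) (hpq : p ≠ q)
    (hpn : p ∣ H.relIndex K) (hqn : q ∣ H.relIndex K) :
    ∃ N : Subgroup L, N.Normal ∧ H < N ∧ N < K := by
  set π := QuotientGroup.mk' H
  have hcomm : ∀ x ∈ K, ∀ y ∈ K, Commute (π x) (π y) := fun x hx y hy => by
    rw [← commutatorElement_eq_one_iff_commute, ← map_commutatorElement]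
    exact (QuotientGroup.eq_one_iff _).mpr (hab (Subgroup.commutator_mem_commutator hx hy))
  set m := p ^ H.relIndex K with hm
  let N : Subgroup L :=
    { carrier := {x | x ∈ K ∧ π x ^ m = 1}
      mul_mem' := fun {x y} hx hy => ⟨K.mul_mem hx.1 hy.1, by
        rw [map_mul, (hcomm x hx.1 y hy.1).mul_pow, hx.2, hy.2, one_mul]⟩
      one_mem' := ⟨K.one_mem, by simp⟩
      inv_mem' := fun {x} hx => ⟨K.inv_mem hx.1, by rw [map_inv, inv_pow, hx.2, inv_one]⟩ }
  have hHN : H ≤ N := fun x hx =>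
    ⟨hHK hx, by rw [(QuotientGroup.eq_one_iff x).mpr hx |> fun h => (show π x = 1 from h), one_pow]⟩
  have hex : ∀ r : ℕ, r.Prime → r ∣ H.relIndex K → ∃ x ∈ K, orderOf (π x) = r := by
    intro r hr hrn
    haveI := Fact.mk hr
    have hcard : Nat.card (K.map π) = H.relIndex K := by
      rw [← Subgroup.relIndex_bot_left, ← Subgroup.relIndex_comap]
      rw [MonoidHom.comap_bot, QuotientGroup.ker_mk']
    obtain ⟨⟨y, hy⟩, hord⟩ := exists_prime_orderOf_dvd_card' r (hcard.symm ▸ hrn)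
    obtain ⟨x, hx, rfl⟩ := hy
    exact ⟨x, hx, (Subgroup.orderOf_coe _).trans hord⟩
  refine ⟨N, ⟨fun x hx g => ⟨hK.conj_mem x hx.1 g, by
    rw [map_mul, map_mul, map_inv, conj_pow, hx.2, mul_one, mul_inv_cancel]⟩⟩, ?_, ?_⟩
  · obtain ⟨x, hx, hox⟩ := hex p hp hpn
    refine lt_of_le_of_ne hHN fun e => ?_
    have hxN : x ∈ N := ⟨hx, orderOf_dvd_iff_pow_eq_one.mp (hox ▸ dvd_pow_self p
      (Subgroup.index_ne_zero_of_finite))⟩
    have h1 : π x = 1 := (QuotientGroup.eq_one_iff x).mpr (e ▸ hxN)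
    rw [h1, orderOf_one] at hox
    exact hp.one_lt.ne hox
  · obtain ⟨y, hy, hoy⟩ := hex q hq hqn
    refine lt_of_le_of_ne (fun x hx => hx.1) fun e => ?_
    have hyN : y ∈ N := e.symm ▸ hy
    have h1 := orderOf_dvd_iff_pow_eq_one.mpr hyN.2
    rw [hoy] at h1
    exact hpq ((Nat.prime_dvd_prime_iff_eq hq hp).mp (hq.dvd_of_dvd_pow h1)).symm

/-- Index facts about sections between the derived group and `K`. -/
theorem index_dvd_relIndex_sub_one (H N : Subgroup L) [hH : H.Normal] [N.Normal] (hHN : H ≤ N)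
    (hNK : N ≤ K) (hab : ⁅K, K⁆ ≤ H)
    (hfrob : ∀ k ∈ K, k ∉ H → ∀ x : L, x * k * x⁻¹ * k⁻¹ ∈ H → x ∈ K) :
    K.index ∣ H.relIndex N - 1 := by
  set π := QuotientGroup.mk' H
  haveI : (N.map π).Normal := Subgroup.Normal.map inferInstance _ (QuotientGroup.mk'_surjective H)
  have h := index_dvd_card_sub_one (K.map π) (N.map π) fun n hn hn1 => by
    obtain ⟨k, hk, rfl⟩ := hn
    have hkH : k ∉ H := fun h => hn1 ((QuotientGroup.eq_one_iff k).mpr h)
    ext c
    obtain ⟨x, rfl⟩ := QuotientGroup.mk'_surjective H c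
    rw [Subgroup.mem_centralizer_singleton_iff]
    constructor
    · intro hc
      refine ⟨x, hfrob k (hNK hk) hkH x ?_, rfl⟩
      rw [← QuotientGroup.eq_one_iff]
      show π (x * k * x⁻¹ * k⁻¹) = 1
      rw [map_mul, map_mul, map_mul, map_inv, map_inv, show π x * π k = π k * π x from hc,
        mul_assoc (π k) (π x), mul_inv_cancel, mul_one, mul_inv_cancel]
    · rintro ⟨z, hz, hzx⟩
      rw [← hzx, ← commutatorElement_eq_one_iff_mul_comm, ← map_commutatorElement]
      exact (QuotientGroup.eq_one_iff _).mpr (hab (Subgroup.commutator_mem_commutator hz (hNK hk)))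
  have h1 : (K.map π).index = K.index := by
    rw [Subgroup.index_map, QuotientGroup.ker_mk', MonoidHom.range_eq_top.mpr
      (QuotientGroup.mk'_surjective H), Subgroup.index_top, mul_one,
      sup_eq_left.mpr (hHN.trans hNK)]
  have h2 : Nat.card (N.map π) = H.relIndex N := by
    rw [← Subgroup.relIndex_bot_left, ← Subgroup.relIndex_comap]
    rw [MonoidHom.comap_bot, QuotientGroup.ker_mk']
  rwa [h1, h2] at h

theorem two_mul_add_one_le {e a : ℕ} (he : Odd e) (ha : Odd a) (ha1 : 1 < a) (h : e ∣ a - 1) :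
    2 * e + 1 ≤ a := by
  obtain ⟨k, hk⟩ := h
  rcases k with _ | _ | k
  · omega
  · exfalso
    simp only [Nat.zero_add, mul_one] at hk
    rw [← hk, Nat.odd_iff] at he
    rw [Nat.odd_iff] at ha
    omega
  · have : e * 2 ≤ e * (k + 1 + 1) := Nat.mul_le_mul_left e (by omega)
    omega

variable {G : Type v} [Group G] [Fintype G] {τ : (L → ℂ) → (G → ℂ)}
  {R : (L → ℂ) → Finset (G → ℂ)}

theorem coherent_derived (hS : Cfsg.IsCoherenceSystem (Cfsg.inducedIrrAbove K ⊥) τ R)
    (H : Subgroup L) [H.Normal] (hab : ⁅K, K⁆ ≤ H) (hKH : ¬ K ≤ H) :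
    Cfsg.IsCoherent (Cfsg.inducedIrrAbove K H) ({1}ᶜ : Set L) τ := by
  refine Coherence.coherent_of_equal_degree (Coherence.sys_mono hS (IndSet.above_subset_bot K H)
    (fun φ h => IndSet.conj_mem_above K H h) (IndSet.above_nonempty K hKH)) ?_
  have h : ∀ φ ∈ Cfsg.inducedIrrAbove K H, φ 1 = (K.index : ℂ) := by
    rintro φ ⟨θ, hθ, -, hθH, rfl⟩
    rw [indFun_one_apply, degree_one_of_commutators hθ fun a b => hθH _ (hab ?_), mul_one]
    exact Subgroup.commutator_mem_commutator a.2 b.2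
  intro φ hφ ψ hψ
  rw [h φ hφ, h ψ hψ]

/-- Coherence over a nilpotent section whose abelianisation is acted on without fixed points. -/
theorem coherent_frob (hsolv : Group.IsSolvable K)
    (hS : Cfsg.IsCoherenceSystem (Cfsg.inducedIrrAbove K ⊥) τ R) (hodd : Odd (Nat.card L))
    (M : Subgroup L) [M.Normal] (hMK : M ≤ K)
    (hnil : Group.IsNilpotent (↥K ⧸ M.subgroupOf K))
    (H₁ : Subgroup L) (hH₁ : H₁ = ⁅K, K⁆ ⊔ M) (hH₁K : H₁ < K)
    (hfrob : ∀ k ∈ K, k ∉ H₁ → ∀ x : L, x * k * x⁻¹ * k⁻¹ ∈ H₁ → x ∈ K)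
    (hgood : (∃ N : Subgroup L, N.Normal ∧ H₁ < N ∧ N < K) ∨
      4 * K.index ^ 2 + 1 < H₁.relIndex K ∨ (¬ ∃ p m : ℕ, p.Prime ∧ M.relIndex K = p ^ m) ∨
      ⁅K, K⁆ ≤ M ∨ (∃ p m : ℕ, p.Prime ∧ M.relIndex K = p ^ m ∧ K.index ∣ p - 1)) :
    Cfsg.IsCoherent (Cfsg.inducedIrrAbove K M) ({1}ᶜ : Set L) τ := by
  subst hH₁
  set H₁ := ⁅K, K⁆ ⊔ M with hH₁
  have hab : ⁅K, K⁆ ≤ H₁ := le_sup_left
  have hMH₁ : M ≤ H₁ := le_sup_right
  have hder : ∀ {H : Subgroup L} [H.Normal], ⁅K, K⁆ ≤ H → ¬ K ≤ H →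
      Cfsg.IsCoherent (Cfsg.inducedIrrAbove K H) ({1}ᶜ : Set L) τ :=
    fun {H} _ h h' => coherent_derived K hS H h h'
  have habelian : ⁅K, K⁆ ≤ M → Cfsg.IsCoherent (Cfsg.inducedIrrAbove K M) ({1}ᶜ : Set L) τ :=
    fun h => hder h fun h' => hH₁K.not_ge (h'.trans hMH₁)
  have hlarge : 4 * K.index ^ 2 + 1 < H₁.relIndex K →
      Cfsg.IsCoherent (Cfsg.inducedIrrAbove K M) ({1}ᶜ : Set L) τ := fun h =>
    Coherence.coherent_down K hsolv hS M H₁ K hMH₁ hH₁K.le le_rfl
      (Coherence.nilpotent_map hnil) (hder hab hH₁K.not_ge) h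
  have hoddsec : ∀ A B : Subgroup L, Odd (A.relIndex B) := fun A B =>
    Odd.of_dvd_nat hodd ((Subgroup.relIndex_dvd_card A B).trans (Subgroup.card_subgroup_dvd_card B))
  have he : Odd K.index := Odd.of_dvd_nat hodd (Subgroup.index_dvd_card K)
  have hgt : ∀ {A B : Subgroup L}, A < B → 1 < A.relIndex B := fun {A B} h => by
    have h0 : A.relIndex B ≠ 0 := Subgroup.index_ne_zero_of_finite
    have h1 : A.relIndex B ≠ 1 := fun e => h.not_ge (Subgroup.relIndex_eq_one.mp e)
    omega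
  have hdvd : ∀ {N : Subgroup L} [N.Normal], H₁ ≤ N → N ≤ K → K.index ∣ H₁.relIndex N - 1 :=
    fun {N} _ h h' => index_dvd_relIndex_sub_one K H₁ N h h' hab hfrob
  have hbetween : (∃ N : Subgroup L, N.Normal ∧ H₁ < N ∧ N < K) →
      4 * K.index ^ 2 + 1 < H₁.relIndex K := by
    rintro ⟨N, hN, h1, h2⟩
    haveI := hN
    have e := Subgroup.relIndex_mul_relIndex H₁ N K h1.le h2.le
    set a := H₁.relIndex N
    set b := N.relIndex K
    have ha := two_mul_add_one_le he (hoddsec _ _) (hgt h1) (hdvd h1.le h2.le)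
    have hn : K.index ∣ H₁.relIndex K - 1 := hdvd (N := K) hH₁K.le le_rfl
    have hb1 : K.index ∣ b - 1 := by
      have ha' : K.index ∣ a - 1 := hdvd h1.le h2.le
      have hb0 : 1 ≤ b := (hgt h2).le
      have h3 : K.index ∣ (a - 1) * b := ha'.mul_right b
      have h4 : a * b - 1 = (a - 1) * b + (b - 1) := by
        obtain ⟨a', ha''⟩ : ∃ a', a = a' + 1 := ⟨a - 1, by omega⟩
        rw [ha'', add_mul, one_mul, Nat.add_sub_cancel]
        omega
      rw [← e, h4] at hn
      exact (Nat.dvd_add_right h3).mp hn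
    have hb := two_mul_add_one_le he (hoddsec _ _) (hgt h2) hb1
    have h5 := Nat.mul_le_mul ha hb
    have h6 : 0 < K.index := Nat.pos_of_ne_zero Subgroup.index_ne_zero_of_finite
    rw [← e]
    nlinarith
  haveI := hnil
  set C := commutator (K ⧸ M.subgroupOf K)
  have hC : C.index = H₁.relIndex K := by
    have hsurj := QuotientGroup.mk'_surjective (M.subgroupOf K)
    have hC' : C = (commutator K).map (QuotientGroup.mk' (M.subgroupOf K)) := by
      rw [commutator_def, Subgroup.map_commutator, Subgroup.map_top_of_surjective _ hsurj]; rfl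
    have hsup : commutator K ⊔ M.subgroupOf K = H₁.subgroupOf K := by
      refine Subgroup.map_injective K.subtype_injective ?_
      rw [Subgroup.map_sup, Subgroup.map_subgroupOf_eq_of_le hMK,
        Subgroup.map_subgroupOf_eq_of_le hH₁K.le, Subgroup.map_subtype_commutator]
    rw [hC', Subgroup.index_map, QuotientGroup.ker_mk', hsup,
      MonoidHom.range_eq_top.mpr hsurj, Subgroup.index_top, mul_one]
    rfl
  have hcardQ : Nat.card (K ⧸ M.subgroupOf K) = M.relIndex K := rfl
  rcases hgood with h | h | h | h | ⟨p, m, hp, hm, hpe⟩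
  · exact hlarge (hbetween h)
  · exact hlarge h
  · set n := H₁.relIndex K
    have hn1 : 1 < n := hgt hH₁K
    obtain ⟨p, hp, hpn⟩ := Nat.exists_prime_and_dvd hn1.ne'
    by_cases hall : ∀ q : ℕ, q.Prime → q ∣ n → q = p
    · exfalso
      have hpow : n = p ^ n.primeFactorsList.length :=
        Nat.eq_prime_pow_of_unique_prime_dvd (by omega) (fun hd hq => hall _ hd hq)
      obtain ⟨m, hm⟩ := card_prime_pow_of_abelianization hp (hC.trans hpow)
      exact h ⟨p, m, hp, hcardQ ▸ hm⟩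
    · push Not at hall
      obtain ⟨q, hq, hqn, hqp⟩ := hall
      exact hlarge (hbetween (exists_between K H₁ hH₁K.le hab hp hq (Ne.symm hqp) hpn hqn))
  · exact habelian h
  · have hn : H₁.relIndex K ∣ p ^ m := hm ▸ Subgroup.relIndex_dvd_of_le_left K hMH₁
    obtain ⟨a, -, ha⟩ := (Nat.dvd_prime_pow hp).mp hn
    rcases a with _ | _ | a
    · exact absurd (hgt hH₁K) (by rw [ha]; simp)
    · refine habelian (Subgroup.commutator_le.mpr fun x hx y hy => ?_)
      have hc := comm_of_prime_abelianization (Q := K ⧸ M.subgroupOf K)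
        (by rw [hC, ha]; simpa using hp) ((⟨x, hx⟩ : K) : K ⧸ M.subgroupOf K)
        ((⟨y, hy⟩ : K) : K ⧸ M.subgroupOf K)
      have := commutatorElement_eq_one_iff_mul_comm.mpr hc
      rw [← QuotientGroup.mk'_apply, ← QuotientGroup.mk'_apply, ← map_commutatorElement] at this
      exact Subgroup.mem_subgroupOf.mp ((QuotientGroup.eq_one_iff _).mp this)
    · refine hlarge ?_
      have hpodd : Odd p := by
        refine Odd.of_dvd_nat (hoddsec H₁ K) ?_
        rw [ha]; exact dvd_pow_self p (by omega)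
      have hp2 := two_mul_add_one_le he hpodd hp.one_lt hpe
      rw [ha]
      have h7 : p ^ 2 ≤ p ^ (a + 1 + 1) := Nat.pow_le_pow_right hp.pos (by omega)
      have h8 := Nat.mul_le_mul hp2 hp2
      rw [← pow_two p] at h8
      have h6 : 0 < K.index := Nat.pos_of_ne_zero Subgroup.index_ne_zero_of_finite
      nlinarith

end Cfsg.Agent.Char.Chief
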