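import Cfsg.Agent.Lib.Char.Gallagher

/-!
# Permutation characters, transport of induced functions, constituents and kernels
-/

set_option linter.style.haveILetI false
set_option linter.unusedSectionVars false
set_option maxHeartbeats 400000

namespace Cfsg.Agent.Char

open scoped ComplexConjugate

universe u v

variable {G : Type u} [Group G]

theorem IsIrrCharacter.norm_le [Finite G] {χ : G → ℂ} (h : Cfsg.IsIrrCharacter G χ) {d : ℕ}
    (hd : χ 1 = d) (g : G) : ‖χ g‖ ≤ d := by
  obtain ⟨n, ρ, -, rfl⟩ := h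
  rw [show (d : ℝ) = (Module.finrank ℂ (Fin n → ℂ) : ℝ) by
    exact_mod_cast hd.symm.trans ρ.char_one]
  exact norm_char_le ρ g

/-- An element in the kernel of a sum of characters is in the kernel of each summand. -/
theorem kernel_constituent [Finite G] (m : Cfsg.IrrCharacter G → ℕ)
    [Fintype (Cfsg.IrrCharacter G)] {g : G}
    (h : ∑ χ : Cfsg.IrrCharacter G, (m χ : ℂ) * (χ : G → ℂ) g =
      ∑ χ : Cfsg.IrrCharacter G, (m χ : ℂ) * (χ : G → ℂ) 1)
    (ψ : Cfsg.IrrCharacter G) (hψ : m ψ ≠ 0) : (ψ : G → ℂ) g = (ψ : G → ℂ) 1 := by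
  choose d hd using fun χ : Cfsg.IrrCharacter G =>
    IsCharacter.exists_degree (IsIrrCharacter.isCharacter χ.2)
  have hre : ∀ χ : Cfsg.IrrCharacter G,
      ((m χ : ℂ) * (χ : G → ℂ) g).re ≤ ((m χ : ℂ) * (χ : G → ℂ) 1).re := fun χ => by
    rw [hd]
    simp only [Complex.mul_re, Complex.natCast_re, Complex.natCast_im, zero_mul, sub_zero]
    exact mul_le_mul_of_nonneg_left
      ((Complex.re_le_norm _).trans (IsIrrCharacter.norm_le χ.2 (hd χ) g)) (Nat.cast_nonneg _)
  have hs := congrArg Complex.re h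
  rw [Complex.re_sum, Complex.re_sum] at hs
  have h1 := (Finset.sum_eq_sum_iff_of_le fun χ _ => hre χ).mp hs ψ (Finset.mem_univ _)
  rw [hd] at h1 ⊢
  simp only [Complex.mul_re, Complex.natCast_re, Complex.natCast_im, zero_mul, sub_zero] at h1
  have h2 := mul_left_cancel₀ (Nat.cast_ne_zero.mpr hψ) h1
  have h3 := IsIrrCharacter.norm_le ψ.2 (hd ψ) g
  have h4 : ((ψ : G → ℂ) g).im = 0 := by
    have h5 := Complex.normSq_apply ((ψ : G → ℂ) g)
    rw [Complex.normSq_eq_norm_sq, h2] at h5
    have h6 := pow_le_pow_left₀ (norm_nonneg _) h3 2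
    nlinarith [sq_nonneg ((ψ : G → ℂ) g).im]
  exact Complex.ext (by simpa using h2) (by simpa using h4)

variable [Fintype G]

theorem indFun_congr {A B : Subgroup G} (h : A = B) (θ : A → ℂ) (θ' : B → ℂ)
    (hc : ∀ x : A, θ x = θ' ⟨(x : G), h ▸ x.2⟩) : Cfsg.indFun A θ = Cfsg.indFun B θ' := by
  subst h
  exact congrArg (Cfsg.indFun A) (funext hc)

theorem indFun_map (H : Subgroup G) [Fintype H] (U : Subgroup H) (θ : U → ℂ)
    (θ' : U.map H.subtype → ℂ)
    (hc : ∀ u : U, θ' ⟨((u : H) : G), Subgroup.mem_map_of_mem H.subtype u.2⟩ = θ u) :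
    Cfsg.indFun H (Cfsg.indFun U θ) = Cfsg.indFun (U.map H.subtype) θ' := by
  rw [← indFun_trans (U.map H.subtype) H (Subgroup.map_subtype_le U) θ']
  congr 1
  exact indFun_congr (Subgroup.comap_map_eq_self_of_injective H.subtype_injective U).symm _ _
    fun u => (hc u).symm

theorem indFun_one_eq_card (U : Subgroup G) (g : G) :
    Cfsg.indFun U (fun _ => 1) g = (Nat.card (MulAction.fixedBy (G ⧸ U) g) : ℂ) := by
  rw [← indFun_stabilizer (G ⧸ U) ((1 : G) : G ⧸ U) g]
  exact congrFun (indFun_congr (MulAction.stabilizer_quotient U).symm (fun _ => (1 : ℂ)) (fun _ => 1)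
    fun _ => rfl) g

/-- A permutation character is the sum of the transitive ones. -/
theorem card_fixedBy_eq_sum (X : Type v) [MulAction G X] [Finite X]
    [Fintype (MulAction.orbitRel.Quotient G X)] (g : G) :
    (Nat.card (MulAction.fixedBy X g) : ℂ) =
      ∑ q : MulAction.orbitRel.Quotient G X,
        Cfsg.indFun (MulAction.stabilizer G q.out) (fun _ => 1) g := by
  have hone : ∀ q : MulAction.orbitRel.Quotient G X,
      Cfsg.indFun (MulAction.stabilizer G q.out) (fun _ => 1) g =
        (Nat.card (MulAction.fixedBy (MulAction.orbit G q.out) g) : ℂ) := fun q => by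
    rw [← indFun_stabilizer (MulAction.orbit G q.out) ⟨q.out, MulAction.mem_orbit_self _⟩ g]
    refine congrFun (indFun_congr ?_ (fun _ => (1 : ℂ)) (fun _ => 1) fun _ => rfl) g
    ext x
    simp only [MulAction.mem_stabilizer_iff, Subtype.ext_iff, MulAction.orbit.coe_smul]
  rw [Finset.sum_congr rfl fun q _ => hone q, ← Nat.cast_sum, ← Nat.card_sigma]
  congr 1
  have hfix : ∀ p : Σ q : MulAction.orbitRel.Quotient G X, MulAction.orbit G q.out,
      p.2 ∈ MulAction.fixedBy (MulAction.orbit G p.1.out) g ↔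
        (p.2 : X) ∈ MulAction.fixedBy X g := fun p => by
    simp only [MulAction.mem_fixedBy, Subtype.ext_iff, MulAction.orbit.coe_smul]
  let E : {p : Σ q : MulAction.orbitRel.Quotient G X, MulAction.orbit G q.out //
      p.2 ∈ MulAction.fixedBy (MulAction.orbit G p.1.out) g} ≃
      Σ q : MulAction.orbitRel.Quotient G X, MulAction.fixedBy (MulAction.orbit G q.out) g :=
    { toFun := fun p => ⟨p.1.1, ⟨p.1.2, p.2⟩⟩
      invFun := fun p => ⟨⟨p.1, p.2.1⟩, p.2.2⟩
      left_inv := fun p => rfl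
      right_inv := fun p => rfl }
  refine Nat.card_congr (Equiv.trans ?_ E)
  exact (MulAction.selfEquivSigmaOrbits G X).subtypeEquiv fun a => by
    rw [hfix]
    have e := (MulAction.selfEquivSigmaOrbits G X).symm_apply_apply a
    show a ∈ MulAction.fixedBy X g ↔ _
    conv_lhs => rw [← e]
    rfl

/-- The product of two transitive permutation characters. -/
theorem indFun_one_mul (H K : Subgroup G) :
    ∃ a : Subgroup G → ℕ, (∀ U, a U ≠ 0 → U ≤ H) ∧
      Cfsg.indFun H (fun _ => 1) * Cfsg.indFun K (fun _ => 1) =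
        ∑ U : Subgroup G, (a U : ℂ) • Cfsg.indFun U (fun _ => 1) := by
  classical
  haveI : Fintype H := Fintype.ofFinite H
  haveI : Fintype (MulAction.orbitRel.Quotient H (G ⧸ K)) := Fintype.ofFinite _
  let F : MulAction.orbitRel.Quotient H (G ⧸ K) → Subgroup G :=
    fun q => (MulAction.stabilizer H q.out).map H.subtype
  refine ⟨fun U => (Finset.univ.filter fun q => F q = U).card, fun U hU => ?_, ?_⟩
  · obtain ⟨q, hq⟩ := Finset.card_ne_zero.mp hU
    rw [← (Finset.mem_filter.mp hq).2]
    exact Subgroup.map_subtype_le _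
  have hres : (fun h : H => Cfsg.indFun K (fun _ => 1) (h : G) * 1) =
      ∑ q : MulAction.orbitRel.Quotient H (G ⧸ K),
        Cfsg.indFun (MulAction.stabilizer H q.out) (fun _ => 1) := by
    funext h
    rw [mul_one, indFun_one_eq_card, Finset.sum_apply, ← card_fixedBy_eq_sum (G ⧸ K) h]
    exact congrArg Nat.cast (Nat.card_congr (Equiv.subtypeEquivRight fun y => Iff.rfl))
  rw [mul_comm, mul_indFun H (isClassFunction_indFun K _) _, hres, indFun_sum,
    Finset.sum_congr rfl fun q _ => indFun_map H (MulAction.stabilizer H q.out) (fun _ => (1 : ℂ))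
      (fun _ => (1 : ℂ)) fun u => rfl,
    ← Finset.sum_fiberwise Finset.univ F]
  refine Finset.sum_congr rfl fun U _ => ?_
  rw [Finset.sum_congr rfl fun q hq => indFun_congr (G := G) (Finset.mem_filter.mp hq).2
      (fun _ => (1 : ℂ)) (fun _ => (1 : ℂ)) fun _ => rfl,
    Finset.sum_const, ← Nat.cast_smul_eq_nsmul ℂ]

end Cfsg.Agent.Char
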