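import Cfsg.Prelude.Def_OddOrderChar
import Cfsg.Agent.Lib.Char.Clifford
import Cfsg.Agent.Lib.Char.Degree
import Cfsg.Agent.Lib.Char.PermChar
import Cfsg.Agent.Lib.Char.DegreeCenter
import Mathlib.GroupTheory.Abelianization.Defs
import Mathlib.GroupTheory.Solvable
import Mathlib.GroupTheory.FiniteAbelian.Duality
import Mathlib.RingTheory.RootsOfUnity.AlgebraicallyClosed

/-!
# The sets of functions induced from a normal subgroup
-/

set_option linter.style.haveILetI false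
set_option linter.unusedSectionVars false

namespace Cfsg.Agent.Char.IndSet

open Cfsg.Agent.Char
open scoped Classical ComplexConjugate

universe u

variable {L : Type u} [Group L] [Fintype L] (K : Subgroup L) [hK : K.Normal]

theorem ind_eq_iff {θ φ : K → ℂ} (hθ : Cfsg.IsIrrCharacter K θ) (hφ : Cfsg.IsIrrCharacter K φ) :
    Cfsg.indFun K θ = Cfsg.indFun K φ ↔ ∃ g : L, conjChar K g θ = φ := by
  refine ⟨fun h => ?_, fun ⟨g, hg⟩ => hg ▸ (indFun_conjChar K θ g).symm⟩
  have h1 := classInner_indFun_normal K hθ hφ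
  have h2 := classInner_indFun_normal K hθ hθ
  rw [h] at h1
  rw [h, h1] at h2
  by_contra hno
  haveI : IsEmpty {g : L // conjChar K g θ = φ} := ⟨fun g => hno ⟨g.1, g.2⟩⟩
  haveI : Nonempty {g : L // conjChar K g θ = θ} := ⟨⟨1, conjChar_one K θ⟩⟩
  have h3 : Nat.card {g : L // conjChar K g θ = φ} = 0 := Nat.card_of_isEmpty
  rw [h3, Nat.cast_zero, mul_zero, eq_comm, mul_eq_zero, inv_eq_zero,
    Nat.cast_eq_zero, Nat.cast_eq_zero] at h2
  rcases h2 with h | h
  · exact Nat.card_pos.ne' h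
  · exact Nat.card_pos.ne' h

theorem trivial_conj (A : Subgroup L) [hA : A.Normal] {θ : K → ℂ}
    (h : ∀ a : K, (a : L) ∈ A → θ a = θ 1) (g : L) (a : K) (ha : (a : L) ∈ A) :
    conjChar K g θ a = conjChar K g θ 1 := by
  show θ (conjHom K g a) = θ (conjHom K g 1)
  rw [map_one]
  exact h _ (hA.conj_mem _ ha g)

theorem conjChar_const (g : L) : conjChar K g (fun _ : K => (1 : ℂ)) = fun _ => 1 := rfl

theorem mem_above_iff (A : Subgroup L) [A.Normal] {θ : K → ℂ} (hθ : Cfsg.IsIrrCharacter K θ)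
    (hθ1 : θ ≠ fun _ => 1) :
    Cfsg.indFun K θ ∈ Cfsg.inducedIrrAbove K A ↔ ∀ a : K, (a : L) ∈ A → θ a = θ 1 := by
  refine ⟨?_, fun h => ⟨θ, hθ, hθ1, h, rfl⟩⟩
  rintro ⟨φ, hφ, -, hφA, e⟩
  obtain ⟨g, rfl⟩ := (ind_eq_iff K hφ hθ).mp e.symm
  exact trivial_conj K A hφA g

theorem above_subset (A B : Subgroup L) (h : A ≤ B) :
    Cfsg.inducedIrrAbove K B ⊆ Cfsg.inducedIrrAbove K A :=
  fun _ ⟨θ, h1, h2, h3, h4⟩ => ⟨θ, h1, h2, fun a ha => h3 a (h ha), h4⟩

theorem above_subset_bot (A : Subgroup L) :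
    Cfsg.inducedIrrAbove K A ⊆ Cfsg.inducedIrrAbove K ⊥ := above_subset K ⊥ A bot_le

omit hK in
theorem conjFun_indFun (θ : K → ℂ) :
    Cfsg.conjFun (Cfsg.indFun K θ) = Cfsg.indFun K (Cfsg.conjFun θ) := by
  funext x
  show conj (Cfsg.indFun K θ x) = Cfsg.indFun K (Cfsg.conjFun θ) x
  rw [indFun_apply, indFun_apply, map_mul, map_inv₀, map_natCast, map_sum]
  congr 1
  refine Finset.sum_congr rfl fun y _ => ?_
  by_cases h : y⁻¹ * x * y ∈ K
  · rw [extendByZero_mem K _ h, extendByZero_mem K _ h]; rfl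
  · rw [extendByZero_not_mem K _ h, extendByZero_not_mem K _ h, map_zero]

omit hK in
theorem conj_mem_above (A : Subgroup L) {φ : L → ℂ} (h : φ ∈ Cfsg.inducedIrrAbove K A) :
    Cfsg.conjFun φ ∈ Cfsg.inducedIrrAbove K A := by
  obtain ⟨θ, hθ, hθ1, hA, rfl⟩ := h
  refine ⟨Cfsg.conjFun θ, IsIrrCharacter.conj hθ, fun h => hθ1 ?_,
    fun a ha => congrArg conj (hA a ha), conjFun_indFun K θ⟩
  funext k
  simpa [Cfsg.conjFun] using congrArg conj (congrFun h k)

/-- The non-principal irreducible characters of `K` trivial on `A`. -/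
noncomputable def over (A : Subgroup L) : Finset (Cfsg.IrrCharacter K) :=
  Finset.univ.filter fun θ : Cfsg.IrrCharacter K =>
    (θ : K → ℂ) ≠ (fun _ => 1) ∧ ∀ a : K, (a : L) ∈ A → (θ : K → ℂ) a = (θ : K → ℂ) 1

omit hK in
theorem mem_over {A : Subgroup L} {θ : Cfsg.IrrCharacter K} :
    θ ∈ over K A ↔
      (θ : K → ℂ) ≠ (fun _ => 1) ∧ ∀ a : K, (a : L) ∈ A → (θ : K → ℂ) a = (θ : K → ℂ) 1 := by
  simp [over]

omit hK in
theorem mem_above_iff_exists {A : Subgroup L} {φ : L → ℂ} :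
    φ ∈ Cfsg.inducedIrrAbove K A ↔ ∃ θ ∈ over K A, Cfsg.indFun K (θ : K → ℂ) = φ := by
  constructor
  · rintro ⟨θ, h1, h2, h3, h4⟩
    exact ⟨⟨θ, h1⟩, (mem_over K).mpr ⟨h2, h3⟩, h4.symm⟩
  · rintro ⟨θ, h, rfl⟩
    obtain ⟨h2, h3⟩ := (mem_over K).mp h
    exact ⟨θ, θ.2, h2, h3, rfl⟩

theorem sum_over_sq (A : Subgroup L) [hA : A.Normal] :
    ∑ θ ∈ over K A, Cfsg.charDegree (θ : K → ℂ) ^ 2 + 1 = A.relIndex K := by
  haveI : Fintype (K ⧸ A.subgroupOf K) := Fintype.ofFinite _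
  set t := (Finset.univ : Finset (Cfsg.IrrCharacter K)).filter fun θ : Cfsg.IrrCharacter K =>
    ∀ a ∈ A.subgroupOf K, (θ : K → ℂ) a = (θ : K → ℂ) 1 with ht
  have h := CharX.sum_trivialOn' (A.subgroupOf K) t (fun χ => by simp [ht])
    (fun f : K → ℂ => Cfsg.charDegree f ^ 2)
  have h2 : ∀ χ : Cfsg.IrrCharacter (K ⧸ A.subgroupOf K),
      Cfsg.charDegree (CharX.infl (A.subgroupOf K) χ : K → ℂ) =
        Cfsg.charDegree (χ : K ⧸ A.subgroupOf K → ℂ) := fun χ => by
    apply Nat.cast_injective (R := ℂ)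
    rw [← CharX.irr_deg, ← CharX.irr_deg, CharX.infl_apply]
    rfl
  simp only [h2] at h
  rw [CharX.sum_deg_sq] at h
  have ht2 : t = insert (principal K) (over K A) := by
    ext θ
    simp only [ht, Finset.mem_filter, Finset.mem_univ, true_and, Finset.mem_insert, mem_over,
      Subgroup.mem_subgroupOf]
    constructor
    · intro hθ
      by_cases e : (θ : K → ℂ) = fun _ => 1
      · exact Or.inl (Subtype.ext e)
      · exact Or.inr ⟨e, hθ⟩
    · rintro (rfl | ⟨-, hθ⟩)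
      · exact fun a _ => rfl
      · exact hθ
  rw [ht2, Finset.sum_insert (fun hp => ((mem_over K).mp hp).1 rfl)] at h
  have h1 : Cfsg.charDegree ((principal K : Cfsg.IrrCharacter K) : K → ℂ) = 1 := CharX.charDegree_one
  rw [h1, one_pow] at h
  rw [show A.relIndex K = Nat.card (K ⧸ A.subgroupOf K) from rfl, ← h]
  ring

theorem above_nonempty {A : Subgroup L} [A.Normal] (h : ¬ K ≤ A) :
    (Cfsg.inducedIrrAbove K A).Nonempty := by
  have h1 := sum_over_sq K A
  rcases (over K A).eq_empty_or_nonempty with he | ⟨θ, hθ⟩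
  · exfalso
    rw [he, Finset.sum_empty, zero_add] at h1
    exact h (Subgroup.relIndex_eq_one.mp h1.symm)
  · exact ⟨_, (mem_above_iff_exists K).mpr ⟨θ, hθ, rfl⟩⟩

theorem exists_linear {A : Subgroup L} [A.Normal] (hsolv : Group.IsSolvable K) (h : ¬ K ≤ A) :
    ∃ θ ∈ over K A, (θ : K → ℂ) 1 = 1 := by
  set M := A.subgroupOf K with hM
  haveI := hsolv
  haveI : Nontrivial (K ⧸ M) :=
    QuotientGroup.nontrivial_iff.mpr fun e => h (Subgroup.subgroupOf_eq_top.mp e)
  haveI : Group.IsSolvable (K ⧸ M) :=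
    Group.isSolvable_of_surjective (QuotientGroup.mk'_surjective M)
  obtain ⟨q, hq⟩ : ∃ q : K ⧸ M, Abelianization.of q ≠ 1 := by
    by_contra hall
    push Not at hall
    have : commutator (K ⧸ M) = ⊤ := by
      rw [eq_top_iff]
      intro q _
      rw [← Abelianization.ker_of]
      exact hall q
    exact (Group.IsSolvable.commutator_lt_top_of_nontrivial (K ⧸ M)).ne this
  haveI : Finite (Abelianization (K ⧸ M)) :=
    Finite.of_surjective _ (QuotientGroup.mk'_surjective (commutator (K ⧸ M)))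
  obtain ⟨f, hf⟩ :=
    CommGroup.exists_apply_ne_one_of_hasEnoughRootsOfUnity (Abelianization (K ⧸ M)) ℂ hq
  set g : K →* ℂˣ := (f.comp Abelianization.of).comp (QuotientGroup.mk' M) with hg
  refine ⟨⟨fun k => (g k : ℂ), isIrrCharacter_linear g⟩, (mem_over K).mpr ⟨fun e => ?_, fun a ha => ?_⟩,
    by simp⟩
  · obtain ⟨k, rfl⟩ := QuotientGroup.mk'_surjective M q
    exact hf (Units.ext (by simpa [hg] using congrFun e k))
  · have e : (a : K ⧸ M) = 1 := (QuotientGroup.eq_one_iff a).mpr (Subgroup.mem_subgroupOf.mpr ha)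
    simp [hg, e]

omit hK in
theorem indFun_degree {θ : K → ℂ} (hθ : Cfsg.IsCharacter K θ) :
    Cfsg.indFun K θ 1 = ((K.index * Cfsg.charDegree θ : ℕ) : ℂ) := by
  rw [indFun_one_apply, CharX.deg_spec hθ]
  push_cast
  rfl

/-- The weighted sum of squares of the degrees of a set of induced functions. -/
theorem sum_above (A : Subgroup L) [A.Normal] (d n : (L → ℂ) → ℕ)
    (hd : ∀ φ ∈ Cfsg.inducedIrrAbove K A, φ 1 = (d φ : ℂ))
    (hn : ∀ φ ∈ Cfsg.inducedIrrAbove K A, Cfsg.classInner φ φ = (n φ : ℂ)) :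
    ∑ φ ∈ (over K A).image (fun θ : Cfsg.IrrCharacter K => Cfsg.indFun K (θ : K → ℂ)),
        ((d φ : ℝ) ^ 2 / (n φ : ℝ)) = (K.index : ℝ) * ((A.relIndex K : ℝ) - 1) := by
  haveI : Fintype K := Fintype.ofFinite K
  have hsum : ((A.relIndex K : ℝ) - 1) =
      ∑ θ ∈ over K A, (Cfsg.charDegree (θ : K → ℂ) : ℝ) ^ 2 := by
    rw [← sum_over_sq K A]; push_cast; ring
  rw [hsum, Finset.mul_sum, ← Finset.sum_fiberwise_of_maps_to (s := over K A)
    (g := fun θ : Cfsg.IrrCharacter K => Cfsg.indFun K (θ : K → ℂ))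
    (fun θ hθ => Finset.mem_image_of_mem (fun θ : Cfsg.IrrCharacter K => Cfsg.indFun K (θ : K → ℂ)) hθ)]
  refine Finset.sum_congr rfl fun φ hφ => ?_
  obtain ⟨θ, hθ, rfl⟩ := Finset.mem_image.mp hφ
  have hmem := (mem_above_iff_exists K).mpr ⟨θ, hθ, rfl⟩
  have hdeg : d (Cfsg.indFun K (θ : K → ℂ)) = K.index * Cfsg.charDegree (θ : K → ℂ) :=
    Nat.cast_injective (R := ℂ) ((hd _ hmem).symm.trans
      (indFun_degree K (IsIrrCharacter.isCharacter θ.2)))
  have hnorm : n (Cfsg.indFun K (θ : K → ℂ)) * Nat.card K =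
      Nat.card (inertia K (θ : K → ℂ)) := by
    have h := hn _ hmem
    rw [classInner_indFun_normal K θ.2 θ.2] at h
    have e : Nat.card {g : L // conjChar K g (θ : K → ℂ) = (θ : K → ℂ)} =
        Nat.card (inertia K (θ : K → ℂ)) :=
      Nat.card_congr (Equiv.subtypeEquivRight fun g => (mem_inertia K).symm)
    rw [e, inv_mul_eq_iff_eq_mul₀ (Nat.cast_ne_zero.mpr Nat.card_pos.ne')] at h
    rw [mul_comm]
    exact_mod_cast h.symm
  have hfib : ∑ φ ∈ (over K A).filter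
      (fun φ : Cfsg.IrrCharacter K => Cfsg.indFun K (φ : K → ℂ) = Cfsg.indFun K (θ : K → ℂ)),
      (K.index : ℝ) * (Cfsg.charDegree (φ : K → ℂ) : ℝ) ^ 2 =
      ((inertia K (θ : K → ℂ)).index : ℝ) *
        ((K.index : ℝ) * (Cfsg.charDegree (θ : K → ℂ) : ℝ) ^ 2) := by
    rw [← card_conjOrbit]
    have hconst : ∀ φ ∈ (over K A).filter
        (fun φ : Cfsg.IrrCharacter K => Cfsg.indFun K (φ : K → ℂ) = Cfsg.indFun K (θ : K → ℂ)),
        (K.index : ℝ) * (Cfsg.charDegree (φ : K → ℂ) : ℝ) ^ 2 =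
          (K.index : ℝ) * (Cfsg.charDegree (θ : K → ℂ) : ℝ) ^ 2 := by
      intro φ hφ
      obtain ⟨-, e⟩ := Finset.mem_filter.mp hφ
      obtain ⟨g, hg⟩ := (ind_eq_iff K θ.2 φ.2).mp e.symm
      have h1 : (φ : K → ℂ) 1 = (θ : K → ℂ) 1 := by
        rw [← hg]; exact congrArg _ (map_one (conjHom K g))
      rw [CharX.irr_deg, CharX.irr_deg, Nat.cast_inj] at h1
      rw [h1]
    rw [Finset.sum_congr rfl hconst, Finset.sum_const, nsmul_eq_mul]
    congr 1
    rw [Nat.cast_inj]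
    refine Finset.card_bij (fun φ _ => (φ : K → ℂ)) (fun φ hφ => ?_)
      (fun a _ b _ e => Subtype.ext e) (fun f hf => ?_)
    · obtain ⟨-, e⟩ := Finset.mem_filter.mp hφ
      obtain ⟨g, hg⟩ := (ind_eq_iff K θ.2 φ.2).mp e.symm
      exact (mem_conjOrbit K).mpr ⟨g, hg.symm⟩
    · obtain ⟨g, rfl⟩ := (mem_conjOrbit K).mp hf
      refine ⟨⟨_, isIrrCharacter_conjChar K θ.2 g⟩, Finset.mem_filter.mpr ⟨(mem_over K).mpr
        ⟨fun e => ((mem_over K).mp hθ).1 ?_, trivial_conj K A ((mem_over K).mp hθ).2 g⟩,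
        indFun_conjChar K _ g⟩, rfl⟩
      have := congrArg (conjChar K g⁻¹) e
      rw [conjChar_const, ← conjChar_mul] at this
      rw [mul_inv_cancel, conjChar_one] at this
      exact this
  rw [hfib, hdeg]
  have hI : (Nat.card (inertia K (θ : K → ℂ)) : ℝ) * (inertia K (θ : K → ℂ)).index =
      (Nat.card K : ℝ) * K.index := by
    exact_mod_cast (Subgroup.card_mul_index _).trans (Subgroup.card_mul_index K).symm
  have hn0 : (0 : ℝ) < n (Cfsg.indFun K (θ : K → ℂ)) := by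
    refine Nat.cast_pos.mpr (Nat.pos_of_ne_zero fun h0 => ?_)
    rw [h0, zero_mul] at hnorm
    exact Nat.card_pos.ne' hnorm.symm
  have hK0 : (0 : ℝ) < Nat.card K := Nat.cast_pos.mpr Nat.card_pos
  rw [← hnorm] at hI
  push_cast at hI ⊢
  have hI' : (n (Cfsg.indFun K (θ : K → ℂ)) : ℝ) * (inertia K (θ : K → ℂ)).index = K.index := by
    apply mul_left_cancel₀ hK0.ne'
    linear_combination hI
  rw [div_eq_iff hn0.ne']
  linear_combination (-(K.index : ℝ) * (Cfsg.charDegree (θ : K → ℂ) : ℝ) ^ 2) * hI'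

/-- The degree bound for characters trivial on `B` when `D/B` is central in `C/B`. -/
theorem degree_sq_le {B C D : Subgroup L} [hB : B.Normal] (hCK : C ≤ K)
    (hcent : ∀ x ∈ D, ∀ y ∈ C, x * y * x⁻¹ * y⁻¹ ∈ B) {θ : K → ℂ}
    (hθ : Cfsg.IsIrrCharacter K θ) (hθB : ∀ a : K, (a : L) ∈ B → θ a = θ 1) {d : ℕ}
    (hd : θ 1 = d) : d ^ 2 ≤ C.relIndex K ^ 2 * D.relIndex C := by
  haveI : Fintype K := Fintype.ofFinite K
  haveI : Fintype (C.subgroupOf K) := Fintype.ofFinite _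
  obtain ⟨ψ, hψ⟩ := exists_restrict_constituent hθ (C.subgroupOf K)
  set b := Cfsg.charDegree (ψ : C.subgroupOf K → ℂ)
  have hle : d ≤ C.relIndex K * b := by
    refine degree_le_of_constituent (isCharacter_indFun (C.subgroupOf K)
      (IsIrrCharacter.isCharacter ψ.2)) hθ ?_ (a := C.relIndex K * b) ?_ hd
    · rw [← classInner_conj_symm, classInner_indFun_right (C.subgroupOf K) _
        (IsCharacter.isClassFunction (IsIrrCharacter.isCharacter hθ))]
      simpa using hψ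
    · rw [indFun_one_apply, CharX.irr_deg]
      push_cast
      rfl
  have hψB : ∀ a : C.subgroupOf K, ((a : K) : L) ∈ B →
      (ψ : C.subgroupOf K → ℂ) a = (ψ : C.subgroupOf K → ℂ) 1 := by
    intro a ha
    obtain ⟨m, hm⟩ := IsCharacter.exists_decomp
      (IsCharacter.restrict (IsIrrCharacter.isCharacter hθ) (C.subgroupOf K))
    refine kernel_constituent m ?_ ψ ?_
    · have e1 := congrFun hm a
      have e2 := congrFun hm 1
      simp only [Finset.sum_apply, Pi.smul_apply, smul_eq_mul] at e1 e2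
      rw [← e1, ← e2, OneMemClass.coe_one, hθB _ ha]
    · intro h0
      apply hψ
      rw [hm, classInner_combination, h0, Nat.cast_zero]
  set B' := (B.subgroupOf K).subgroupOf (C.subgroupOf K)
  set D' := (D.subgroupOf K).subgroupOf (C.subgroupOf K)
  haveI : B'.Normal := inferInstance
  obtain ⟨ψ', -, hval, hirr⟩ := IsCharacter.deflate (IsIrrCharacter.isCharacter ψ.2) B'
    (fun x hx => hψB x hx)
  have hnorm : ∀ z ∈ D', ‖(ψ : C.subgroupOf K → ℂ) z‖ = (b : ℝ) := by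
    intro z hz
    have hcz : (z : C.subgroupOf K ⧸ B') ∈ Subgroup.center _ := by
      rw [Subgroup.mem_center_iff]
      intro q
      obtain ⟨y, rfl⟩ := QuotientGroup.mk_surjective q
      rw [← QuotientGroup.mk_mul, ← QuotientGroup.mk_mul, QuotientGroup.eq]
      show (((y * z)⁻¹ * (z * y) : C.subgroupOf K) : K).1 ∈ B
      have := hcent ((z : K) : L) hz ((y : K) : L) y.2
      have h2 := hB.conj_mem _ this (((y : K) : L) * ((z : K) : L))⁻¹
      push_cast
      refine (iff_of_eq (congrArg (· ∈ B) ?_)).mp h2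
      group
    obtain ⟨c, hc1, hc, -⟩ := IsIrrCharacter.exists_central_scalar (hirr ψ.2) hcz
    have := hc 1
    rw [mul_one, hval, ← QuotientGroup.mk_one, hval, CharX.irr_deg] at this
    rw [this, norm_mul, hc1, one_mul, Complex.norm_natCast]
  have horth : ∑ x : C.subgroupOf K, ‖(ψ : C.subgroupOf K → ℂ) x‖ ^ 2 =
      (Nat.card (C.subgroupOf K) : ℝ) := by
    have h := classInner_self_irr ψ.2
    simp only [Cfsg.classInner, Complex.mul_conj, Complex.normSq_eq_norm_sq] at h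
    rw [inv_mul_eq_one₀ (Nat.cast_ne_zero.mpr Nat.card_pos.ne')] at h
    rw [← Complex.ofReal_inj]
    push_cast
    push_cast at h
    exact h.symm
  have hb : Nat.card D' * b ^ 2 ≤ Nat.card (C.subgroupOf K) := by
    rw [← Nat.cast_le (α := ℝ)]
    push_cast
    rw [← horth]
    refine le_trans (le_of_eq ?_) (Finset.sum_le_sum_of_subset_of_nonneg
      (Finset.subset_univ (Finset.univ.filter fun x => x ∈ D')) fun x _ _ => by positivity)
    rw [Finset.sum_congr rfl fun x hx => by rw [hnorm x (Finset.mem_filter.mp hx).2],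
      Finset.sum_const, nsmul_eq_mul, ← Fintype.card_subtype, Nat.card_eq_fintype_card]
  rw [← Subgroup.card_mul_index D'] at hb
  have hidx : D'.index = D.relIndex C := by
    show (D.subgroupOf K).relIndex (C.subgroupOf K) = D.relIndex C
    exact Subgroup.relIndex_subgroupOf hCK
  rw [hidx] at hb
  have hb' := Nat.le_of_mul_le_mul_left hb Nat.card_pos
  calc d ^ 2 ≤ (C.relIndex K * b) ^ 2 := Nat.pow_le_pow_left hle 2
    _ = C.relIndex K ^ 2 * b ^ 2 := mul_pow _ _ _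
    _ ≤ C.relIndex K ^ 2 * D.relIndex C := Nat.mul_le_mul_left _ hb'

end Cfsg.Agent.Char.IndSet
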