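import Cfsg.Agent.Lib.Char.Extension

/-!
# Character forms of the extension theorems, determinantal characters
-/

set_option linter.style.haveILetI false

namespace Cfsg.Agent.CharExtend

open Cfsg.Agent.Char
open scoped IsMulCommutative

universe u v

variable {G : Type u} [Group G]
variable {V : Type v} [AddCommGroup V] [Module ℂ V] [FiniteDimensional ℂ V]

/-- The determinant of a representation. -/
noncomputable def detHom (ρ : Representation ℂ G V) : G →* ℂˣ :=
  (LinearMap.det.comp ρ).toHomUnits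

theorem detHom_apply (ρ : Representation ℂ G V) (g : G) :
    (detHom ρ g : ℂ) = LinearMap.det (ρ g) := rfl

theorem det_eq_of_equiv {W : Type*} [AddCommGroup W] [Module ℂ W]
    {ρ : Representation ℂ G V} {τ : Representation ℂ G W} (e : ρ.Equiv τ) (g : G) :
    LinearMap.det (τ g) = LinearMap.det (ρ g) := by
  have h : τ g = e.toLinearEquiv.toLinearMap ∘ₗ ρ g ∘ₗ e.toLinearEquiv.symm.toLinearMap := by
    refine LinearMap.ext fun x => ?_
    have := e.toIntertwiningMap.isIntertwining ρ τ g (e.toLinearEquiv.symm x)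
    refine Eq.trans ?_ this.symm
    exact congrArg (τ g) (e.toLinearEquiv.apply_symm_apply x).symm
  rw [h, LinearMap.det_conj]

theorem detChar_eq [Finite G] (ρ : Representation ℂ G V) :
    Cfsg.detChar ρ.character = fun g => (detHom ρ g : ℂ) := by
  classical
  funext g
  unfold Cfsg.detChar
  rw [dif_pos (isCharacter_of_rep ρ)]
  generalize_proofs h1 h2
  obtain ⟨e⟩ := nonempty_equiv_of_char_eq h2.choose ρ h2.choose_spec
  exact (det_eq_of_equiv e g).symm

theorem detHom_unique {f f' : G →* ℂˣ} (h : (fun g => (f g : ℂ)) = fun g => (f' g : ℂ)) : f = f' :=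
  MonoidHom.ext fun g => Units.ext (congrFun h g)

/-- Linear characters as a monoid map into functions. -/
noncomputable def toFunHom (G : Type u) [Group G] : (G →* ℂˣ) →* (G → ℂ) where
  toFun f g := (f g : ℂ)
  map_one' := rfl
  map_mul' _ _ := rfl

theorem toFunHom_injective : Function.Injective (toFunHom G) := fun _ _ h => detHom_unique h

theorem orderOf_coe (f : G →* ℂˣ) : orderOf (fun g => (f g : ℂ)) = orderOf f :=
  orderOf_injective (toFunHom G) toFunHom_injective f

theorem detOrder_eq [Finite G] (ρ : Representation ℂ G V) :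
    Cfsg.detOrder ρ.character = orderOf (detHom ρ) := by
  rw [Cfsg.detOrder, detChar_eq, orderOf_coe]

theorem det_smul_rep (ρ η : Representation ℂ G V) (c : G →* ℂˣ)
    (h : ∀ g, η g = (c g : ℂ) • ρ g) : detHom η = c ^ Module.finrank ℂ V * detHom ρ := by
  refine MonoidHom.ext fun g => Units.ext ?_
  simp [detHom_apply, h, LinearMap.det_smul]

variable {N : Subgroup G} [hN : N.Normal]

/-- The transfer of an invariant linear character restricts to a power of it. -/
theorem exists_transfer_linear [Finite G] (f : N →* ℂˣ)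
    (hinv : ∀ (g : G) (n : N), f (conjHom N g n) = f n) (P : Subgroup G) (hNP : N ≤ P)
    (ν : P →* ℂˣ) (hν : ∀ n : N, ν ⟨n, hNP n.2⟩ = f n) :
    ∃ μ : G →* ℂˣ, (∀ n : N, μ n = f n ^ P.index) ∧ ∀ o : ℕ, ν ^ o = 1 → μ ^ o = 1 := by
  classical
  haveI : P.FiniteIndex := inferInstance
  haveI : Fintype (G ⧸ P) := P.fintypeQuotientOfFiniteIndex
  refine ⟨MonoidHom.transfer ν, fun n => ?_, fun o ho => ?_⟩
  · rw [MonoidHom.transfer_eq_prod_quotient_orbitRel_zpowers_quot,
      Subgroup.index_eq_sum_minimalPeriod P (n : G), ← Finset.prod_pow_eq_pow_sum]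
    refine Finset.prod_congr rfl fun q _ => ?_
    set k := Function.minimalPeriod (fun x => (n : G) • x) q.out
    rw [← map_pow, show f (n ^ k) = f (conjHom N q.out.out⁻¹ (n ^ k)) from (hinv _ _).symm, ← hν]
    congr 1
    ext
    simp only [conjHom_coe, SubmonoidClass.coe_pow, inv_inv]
    rfl
  · ext g
    rw [MonoidHom.pow_apply, MonoidHom.one_apply, MonoidHom.transfer_def ν default g,
      Subgroup.leftTransversals.diff, ← Finset.prod_pow, Finset.prod_eq_one fun q _ => ?_]
    rw [← MonoidHom.pow_apply, ho, MonoidHom.one_apply]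

/-- Extension by coprimality of a linear character. -/
theorem exists_linear_extension [Finite G] (f : N →* ℂˣ)
    (hinv : ∀ (g : G) (n : N), f (conjHom N g n) = f n)
    (hcop : Nat.Coprime N.index (orderOf f)) :
    ∃ μ : G →* ℂˣ, (∀ n : N, μ n = f n) ∧ orderOf μ = orderOf f := by
  obtain ⟨μ, hμ, hμo⟩ := exists_transfer_linear f hinv N le_rfl f (fun _ => rfl)
  obtain ⟨k, hk⟩ := exists_pow_eq_self_of_coprime hcop
  refine ⟨μ ^ k, fun n => ?_, ?_⟩
  · rw [MonoidHom.pow_apply, hμ, ← MonoidHom.pow_apply, ← MonoidHom.pow_apply, hk]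
  · refine Nat.dvd_antisymm (orderOf_dvd_of_pow_eq_one ?_) (orderOf_dvd_of_pow_eq_one ?_)
    · ext g
      have e := DFunLike.congr_fun (hμo _ (pow_orderOf_eq_one f)) g
      simp only [MonoidHom.pow_apply, MonoidHom.one_apply] at e ⊢
      rw [← pow_mul, mul_comm, pow_mul, e, one_pow]
    · ext n
      have e : (μ ^ k) (n : G) = f n := by
        rw [MonoidHom.pow_apply, hμ, ← MonoidHom.pow_apply, ← MonoidHom.pow_apply, hk]
      rw [MonoidHom.pow_apply, MonoidHom.one_apply, ← e, ← MonoidHom.pow_apply, pow_orderOf_eq_one,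
        MonoidHom.one_apply]

theorem pow_index_eq_one (c : G →* ℂˣ) (hc : ∀ n : N, c n = 1) : c ^ N.index = 1 := by
  ext g
  rw [MonoidHom.pow_apply, ← map_pow, MonoidHom.one_apply]
  exact congrArg Units.val (hc ⟨_, N.pow_index_mem g⟩)

theorem orderOf_dvd_index (c : G →* ℂˣ) (hc : ∀ n : N, c n = 1) : orderOf c ∣ N.index :=
  orderOf_dvd_of_pow_eq_one (x := c) (n := N.index) (by exact pow_index_eq_one c hc)

theorem eq_one_of_pow_coprime {M : Type*} [Monoid M] {x : M} {a b : ℕ} (ha : x ^ a = 1)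
    (hb : x ^ b = 1) (h : Nat.Coprime a b) : x = 1 := by
  simpa [h.gcd_eq_one] using (pow_gcd_eq_one (m := a) (n := b) (a := x)).mpr ⟨ha, hb⟩

theorem linear_eq_one (c : G →* ℂˣ) (hc : ∀ n : N, c n = 1) {d : ℕ} (hd : ∀ g, c g ^ d = 1)
    (h : Nat.Coprime d N.index) (g : G) : c g = 1 :=
  eq_one_of_pow_coprime (hd g)
    (by simpa using DFunLike.congr_fun (pow_index_eq_one c hc) g) h

theorem linear_unique [Finite G] (μ μ' : G →* ℂˣ) (h : ∀ n : N, μ n = μ' n)
    (h1 : Nat.Coprime N.index (orderOf μ)) (h2 : Nat.Coprime N.index (orderOf μ')) : μ' = μ := by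
  have hc : ∀ n : N, (μ' / μ) n = 1 := fun n => by simp [h]
  refine div_eq_one.mp (eq_one_of_pow_coprime (pow_index_eq_one _ hc) ?_
    (Nat.Coprime.mul_right h2 h1))
  ext g
  have e := DFunLike.congr_fun (pow_orderOf_eq_one μ) g
  have e' := DFunLike.congr_fun (pow_orderOf_eq_one μ') g
  simp only [MonoidHom.pow_apply, MonoidHom.one_apply, MonoidHom.div_apply] at e e' ⊢
  rw [div_pow, pow_mul, e', one_pow, mul_comm, pow_mul, e, one_pow, div_one]

/-- The standard situation: a representation affording an invariant irreducible character. -/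
theorem exists_setup {θ : N → ℂ} (hθ : Cfsg.IsIrrCharacter N θ)
    (hinv : ∀ (g : G) (n : N), θ ⟨g * n * g⁻¹, hN.conj_mem (n : G) n.2 g⟩ = θ n) :
    ∃ (d : ℕ) (σ : Representation ℂ N (Fin d → ℂ)), σ.IsIrreducible ∧ σ.character = θ ∧
      θ 1 = d ∧ ∀ g : G, conjChar N g σ.character = σ.character := by
  obtain ⟨d, σ, hσ, rfl⟩ := hθ
  exact ⟨d, σ, hσ, rfl, by simp, fun g => funext fun n => hinv g n⟩

theorem exists_char_of_rep {d : ℕ} {σ : Representation ℂ N (Fin d → ℂ)} [hσ : σ.IsIrreducible]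
    {η : Representation ℂ G (Fin d → ℂ)} (h : ∀ n : N, η n = σ n) :
    Cfsg.IsIrrCharacter G η.character ∧ ∀ n : N, η.character n = σ.character n := by
  haveI := isIrreducible_of_restrict σ η h
  exact ⟨isIrrCharacter_of_rep η, fun n => by simp only [Representation.character, h]⟩

theorem exists_extension_det [Finite G] {θ : N → ℂ} (hθ : Cfsg.IsIrrCharacter N θ)
    (hinv : ∀ (g : G) (n : N), θ ⟨g * n * g⁻¹, hN.conj_mem (n : G) n.2 g⟩ = θ n) {d : ℕ}
    (hd : θ 1 = d) (hcop : Nat.Coprime N.index d) (μ : G →* ℂˣ)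
    (hμ : ∀ n : N, (μ n : ℂ) = Cfsg.detChar θ n) :
    ∃ χ : G → ℂ, Cfsg.IsIrrCharacter G χ ∧ ∀ n : N, χ n = θ n := by
  obtain ⟨d', σ, hσ, rfl, hd', hi⟩ := exists_setup hθ hinv
  have hdd : d = d' := Nat.cast_injective (hd.symm.trans hd')
  subst hdd
  rw [detChar_eq] at hμ
  have h1 : (1 : ℤ) ∈ powSet σ := by
    refine one_mem_of_forall_prime _ fun p hp => ?_
    by_cases hpd : p ∣ N.index
    · refine ⟨_, finrank_mem_powSet σ μ hμ, ?_⟩
      rw [Module.finrank_fin_fun, Int.natCast_dvd_natCast]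
      exact fun h => hp.ne_one (Nat.dvd_one.mp (hcop ▸ Nat.dvd_gcd hpd h))
    · exact ⟨_, index_mem_powSet σ hi N le_rfl σ (fun _ => rfl),
        fun h => hpd (Int.natCast_dvd_natCast.mp h)⟩
  obtain ⟨η, hη⟩ := exists_extension_of_one_mem σ hi h1
  exact ⟨η.character, exists_char_of_rep hη⟩

theorem exists_extension_sylow [Finite G] {θ : N → ℂ} (hθ : Cfsg.IsIrrCharacter N θ)
    (hinv : ∀ (g : G) (n : N), θ ⟨g * n * g⁻¹, hN.conj_mem (n : G) n.2 g⟩ = θ n)
    (hsyl : ∀ p : ℕ, p.Prime → ∃ (P : Subgroup G) (hNP : N ≤ P) (η : P → ℂ),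
      Nat.Coprime P.index p ∧ Cfsg.IsCharacter P η ∧ ∀ n : N, η ⟨(n : G), hNP n.2⟩ = θ n) :
    ∃ χ : G → ℂ, Cfsg.IsIrrCharacter G χ ∧ ∀ n : N, χ n = θ n := by
  obtain ⟨d, σ, hσ, rfl, -, hi⟩ := exists_setup hθ hinv
  have h1 : (1 : ℤ) ∈ powSet σ := by
    refine one_mem_of_forall_prime _ fun p hp => ?_
    obtain ⟨P, hNP, η, hcop, hη, hres⟩ := hsyl p hp
    obtain ⟨m, ρ, rfl⟩ := hη
    obtain ⟨e⟩ := nonempty_equiv_of_char_eq
      (ρ.comp (Subgroup.inclusion hNP) : Representation ℂ N (Fin m → ℂ)) σ (funext hres)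
    refine ⟨_, index_mem_powSet σ hi P hNP (transport ρ e.toLinearEquiv) (fun n => ?_),
      fun h => hp.ne_one (Nat.dvd_one.mp (hcop ▸ Nat.dvd_gcd (Int.natCast_dvd_natCast.mp h) dvd_rfl))⟩
    refine LinearMap.ext fun x => ?_
    rw [transport_apply]
    refine (e.toIntertwiningMap.isIntertwining _ σ n (e.toLinearEquiv.symm x)).trans ?_
    exact congrArg (σ n) (e.toLinearEquiv.apply_symm_apply x)
  obtain ⟨η, hη⟩ := exists_extension_of_one_mem σ hi h1
  exact ⟨η.character, exists_char_of_rep hη⟩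

end Cfsg.Agent.CharExtend
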