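import Cfsg.Agent.Lib.Char.Clifford
import Cfsg.Agent.Lib.Char.Orbit
import Cfsg.Agent.Lib.Char.Complete
import Cfsg.Agent.Lib.Char.ExtensionChar

/-!
# Restriction of an invariant character to the bottom of an abelian chief factor
-/

set_option linter.style.haveILetI false

namespace Cfsg.Agent.Char.ChiefRestrict

open scoped ComplexConjugate commutatorElement
open Cfsg.Agent.Char

universe u

theorem isIrr_mul_linear {K : Type u} [Group K] [Finite K] {θ : K → ℂ}
    (hθ : Cfsg.IsIrrCharacter K θ) (l : K →* ℂˣ) :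
    Cfsg.IsIrrCharacter K (fun k => (l k : ℂ) * θ k) := by
  classical
  haveI : Fintype K := Fintype.ofFinite K
  refine IsCharacter.isIrr_of_norm_one (IsCharacter.mul
    (IsIrrCharacter.isCharacter (isIrrCharacter_linear l)) (IsIrrCharacter.isCharacter hθ)) ?_
  rw [← classInner_self_irr hθ]
  simp only [Cfsg.classInner]
  congr 1
  refine Finset.sum_congr rfl fun k _ => ?_
  have hn : ‖(l k : ℂ)‖ = 1 := by
    refine norm_eq_one_of_pow (Nat.card_pos (α := K)).ne' ?_
    rw [← Units.val_pow_eq_pow_val, ← map_pow, pow_card_eq_one', map_one, Units.val_one]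
  rw [Complex.mul_conj', Complex.mul_conj', norm_mul, hn, one_mul]

/-- If no non-trivial linear character of `K ⧸ L` fixes `θ` then `θ` stays irreducible on `L`. -/
theorem isIrr_restrict {K : Type u} [Group K] [Fintype K] (L : Subgroup K) [L.Normal] [Fintype L]
    (hab : ∀ a b : K, ⁅a, b⁆ ∈ L) {θ : K → ℂ} (hθ : Cfsg.IsIrrCharacter K θ)
    (hfree : ∀ l : K →* ℂˣ, (∀ x ∈ L, l x = 1) → (∀ k, (l k : ℂ) * θ k = θ k) → l = 1) :
    Cfsg.IsIrrCharacter L (fun x : L => θ x) := by
  classical
  refine IsCharacter.isIrr_of_norm_one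
    (IsCharacter.restrict (IsIrrCharacter.isCharacter hθ) L) ?_
  haveI : Fintype (K ⧸ L) := Fintype.ofFinite _
  have hcomm : ∀ a b : K ⧸ L, a * b = b * a := by
    intro a b
    obtain ⟨a, rfl⟩ := QuotientGroup.mk_surjective a
    obtain ⟨b, rfl⟩ := QuotientGroup.mk_surjective b
    rw [← commutatorElement_eq_one_iff_mul_comm]
    exact (QuotientGroup.eq_one_iff _).mpr (hab a b)
  have horth : ∀ k : K, ∑ χ : Cfsg.IrrCharacter (K ⧸ L), (χ : K ⧸ L → ℂ) k =
      if k ∈ L then (L.index : ℂ) else 0 := by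
    intro k
    have h1 : ∀ χ : Cfsg.IrrCharacter (K ⧸ L), (χ : K ⧸ L → ℂ) k =
        (χ : K ⧸ L → ℂ) k * conj ((χ : K ⧸ L → ℂ) 1) := fun χ => by
      rw [degree_one_of_comm hcomm χ.2, map_one, mul_one]
    rw [Finset.sum_congr rfl fun χ _ => h1 χ]
    split_ifs with hk
    · rw [(QuotientGroup.eq_one_iff k).mpr hk, column_orth_of_isConj (IsConj.refl _),
        show Subgroup.centralizer ({1} : Set (K ⧸ L)) = ⊤ by
          ext x; simp [Subgroup.mem_centralizer_singleton_iff],
        Subgroup.card_top, Subgroup.index_eq_card]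
    · exact column_orth_of_not_isConj fun h =>
        hk ((QuotientGroup.eq_one_iff k).mp (isConj_one_left.mp h))
  have hsum : ∑ χ : Cfsg.IrrCharacter (K ⧸ L),
      Cfsg.classInner (fun k : K => (χ : K ⧸ L → ℂ) k * θ k) θ = 1 := by
    rw [Finset.sum_eq_single (principal (K ⧸ L))]
    · simpa [principal] using classInner_self_irr hθ
    · intro χ _ hne
      obtain ⟨f, hf⟩ := exists_hom_of_degree_one (IsIrrCharacter.isCharacter χ.2)
        (degree_one_of_comm hcomm χ.2)
      have hl := isIrr_mul_linear hθ (f.comp (QuotientGroup.mk' L))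
      have e : (fun k : K => (χ : K ⧸ L → ℂ) k * θ k) =
          fun k => ((f.comp (QuotientGroup.mk' L)) k : ℂ) * θ k := by rw [hf]; rfl
      rw [e]
      refine classInner_irr_of_ne hl hθ fun heq => hne ?_
      have h1 := hfree _ (fun x hx => by
        simp [MonoidHom.comp_apply, (QuotientGroup.eq_one_iff x).mpr hx]) (fun k => congrFun heq k)
      refine Subtype.ext ?_
      rw [hf]
      funext q
      obtain ⟨k, rfl⟩ := QuotientGroup.mk_surjective q
      have := congrArg Units.val (DFunLike.congr_fun h1 k)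
      simpa [principal] using this
    · simp
  rw [← hsum]
  simp only [Cfsg.classInner]
  rw [← Finset.mul_sum, Finset.sum_comm]
  simp only [mul_assoc, ← Finset.sum_mul, horth, ite_mul, zero_mul]
  rw [← Finset.sum_filter, ← Finset.mul_sum, Finset.sum_subtype (p := fun k => k ∈ L) _ (by simp),
    ← mul_assoc, ← L.card_mul_index, Nat.cast_mul]
  congr 1
  field_simp [(Nat.cast_ne_zero.mpr L.index_ne_zero_of_finite : (L.index : ℂ) ≠ 0)]

variable {G : Type u} [Group G] [Fintype G]

theorem trichotomy (K L : Subgroup G) [hK : K.Normal] [hL : L.Normal] (hLK : L < K)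
    (hchief : ∀ M : Subgroup G, M.Normal → L ≤ M → M ≤ K → M = L ∨ M = K)
    (hab : ⁅K, K⁆ ≤ L) (θ : K → ℂ) (hθ : Cfsg.IsIrrCharacter K θ)
    (hinv : ∀ (g : G) (n : K), θ (conjHom K g n) = θ n) :
    Cfsg.IsIrrCharacter L (fun x : L => θ ⟨(x : G), hLK.le x.2⟩) ∨
    (∃ (φ : L → ℂ) (e : ℕ), Cfsg.IsIrrCharacter L φ ∧
      (fun x : L => θ ⟨(x : G), hLK.le x.2⟩) = (e : ℂ) • φ ∧ e ^ 2 = L.relIndex K) ∨
    (∃ F : Finset (L → ℂ), (∀ φ ∈ F, Cfsg.IsIrrCharacter L φ) ∧ F.card = L.relIndex K ∧
      (fun x : L => θ ⟨(x : G), hLK.le x.2⟩) = ∑ φ ∈ F, φ) := by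
  classical
  haveI : Fintype K := Fintype.ofFinite K
  set L' := L.subgroupOf K
  haveI : Fintype L' := Fintype.ofFinite L'
  haveI hL'n : L'.Normal := hL.subgroupOf K
  let eqv := Subgroup.subgroupOfEquivOfLe hLK.le
  have hab' : ∀ a b : K, ⁅a, b⁆ ∈ L' := fun a b => Subgroup.mem_subgroupOf.mpr (by
    simpa [commutatorElement_def] using hab (Subgroup.commutator_mem_commutator a.2 b.2))
  have htrans : ∀ φ : L' → ℂ, Cfsg.IsIrrCharacter L' φ →
      Cfsg.IsIrrCharacter L (fun x => φ (eqv.symm x)) := fun φ hφ =>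
    IsIrrCharacter.comp hφ eqv.symm.toMonoidHom eqv.symm.surjective
  have hchief' : ∀ U : Subgroup K, L' ≤ U → (∀ (g : G), ∀ u ∈ U, conjHom K g u ∈ U) →
      U = L' ∨ U = ⊤ := by
    intro U hLU hU
    have hn : (U.map K.subtype).Normal := ⟨by
      rintro _ ⟨u, hu, rfl⟩ g
      exact ⟨_, hU g u hu, rfl⟩⟩
    rcases hchief _ hn (fun x hx => ⟨⟨x, hLK.le hx⟩, hLU (Subgroup.mem_subgroupOf.mpr hx), rfl⟩)
      (Subgroup.map_subtype_le U) with h | h
    · exact Or.inl (le_antisymm (fun u hu => Subgroup.mem_subgroupOf.mpr (h ▸ ⟨u, hu, rfl⟩)) hLU)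
    · refine Or.inr (eq_top_iff.mpr fun u _ => ?_)
      obtain ⟨v, hv, hvu⟩ : (u : G) ∈ U.map K.subtype := h.symm ▸ u.2
      exact K.subtype_injective hvu ▸ hv
  by_cases hfree : ∀ l : K →* ℂˣ, (∀ x ∈ L', l x = 1) → (∀ k, (l k : ℂ) * θ k = θ k) → l = 1
  · exact Or.inl (htrans _ (isIrr_restrict L' hab' hθ hfree))
  push Not at hfree
  obtain ⟨l0, hl0L, hl0θ, hl01⟩ := hfree
  let U : Subgroup K :=
    { carrier := {k | ∀ l : K →* ℂˣ, (∀ x ∈ L', l x = 1) → (∀ k, (l k : ℂ) * θ k = θ k) → l k = 1}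
      one_mem' := fun l _ _ => map_one l
      mul_mem' := fun {a b} ha hb l h1 h2 => by rw [map_mul, ha l h1 h2, hb l h1 h2, one_mul]
      inv_mem' := fun {a} ha l h1 h2 => by rw [map_inv, ha l h1 h2, inv_one] }
  have hvanish : ∀ k : K, k ∉ L' → θ k = 0 := by
    intro k hk
    rcases hchief' U (fun x hx l h1 _ => h1 x hx) (fun g u hu l h1 h2 => hu (l.comp (conjHom K g))
      (fun x hx => h1 _ (Subgroup.mem_subgroupOf.mpr
        (hL.conj_mem _ (Subgroup.mem_subgroupOf.mp hx) g)))
      (fun k => by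
        have := h2 (conjHom K g k)
        rwa [hinv] at this)) with hU | hU
    · by_contra h0
      refine hk (hU ▸ fun l h1 h2 => Units.ext ?_)
      exact mul_right_cancel₀ h0 ((h2 k).trans (one_mul _).symm)
    · exfalso
      refine hl01 (MonoidHom.ext fun k => ?_)
      have : k ∈ U := hU ▸ Subgroup.mem_top k
      exact this l0 hl0L hl0θ
  have hnorm : Cfsg.classInner (fun x : L' => θ x) (fun x : L' => θ x) = (L'.index : ℂ) := by
    have h := classInner_self_irr hθ
    simp only [Cfsg.classInner] at h ⊢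
    rw [← Finset.sum_subset (Finset.subset_univ (Finset.univ.filter fun k => k ∈ L'))
      (fun k _ hk => by
        rw [hvanish k (fun h => hk (Finset.mem_filter.mpr ⟨Finset.mem_univ _, h⟩)), zero_mul]),
      Finset.sum_subtype (p := fun k => k ∈ L') _ (by simp),
      inv_mul_eq_iff_eq_mul₀ (Nat.cast_ne_zero.mpr Nat.card_pos.ne'), mul_one,
      ← L'.card_mul_index, Nat.cast_mul] at h
    rw [h, inv_mul_cancel_left₀ (Nat.cast_ne_zero.mpr Nat.card_pos.ne')]
  obtain ⟨⟨φ, hφ⟩, hcon⟩ := exists_restrict_constituent hθ L'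
  obtain ⟨e, he⟩ := IsCharacter.exists_classInner_nat
    (IsCharacter.restrict (IsIrrCharacter.isCharacter hθ) L') (IsIrrCharacter.isCharacter hφ)
  have hcl := clifford L' hθ hφ hcon
  rw [he] at hcl
  have hirr : ∀ ψ ∈ conjOrbit L' φ, Cfsg.IsIrrCharacter L' ψ := fun ψ hψ => by
    obtain ⟨g, rfl⟩ := (mem_conjOrbit L').mp hψ
    exact isIrrCharacter_conjChar L' hφ g
  have hcount : e ^ 2 * (inertia L' φ).index = L'.index := by
    rw [hcl, classInner_smul_left, classInner_smul_right, classInner_sum_left,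
      Finset.sum_congr rfl fun ψ hψ => by
        rw [classInner_sum_right, Finset.sum_congr rfl fun ψ' hψ' =>
          classInner_irr (hirr ψ hψ) (hirr ψ' hψ'), Finset.sum_ite_eq, if_pos hψ],
      Finset.sum_const, card_conjOrbit, nsmul_eq_mul, mul_one, map_natCast] at hnorm
    have : ((e * (e * (inertia L' φ).index) : ℕ) : ℂ) = (L'.index : ℂ) := by
      push_cast; exact hnorm
    rw [sq, mul_assoc]
    exact_mod_cast this
  set I := inertia L' φ with hI
  have hIL : L' ≤ I := le_inertia L' (IsCharacter.isClassFunction (IsIrrCharacter.isCharacter hφ))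
  have hInv : ∀ g : G, ∀ u ∈ I, conjHom K g u ∈ I := by
    intro g u hu
    have hτmem : ∀ x : L', conjHom K g (x : K) ∈ L' := fun x =>
      Subgroup.mem_subgroupOf.mpr (hL.conj_mem _ (Subgroup.mem_subgroupOf.mp x.2) g)
    let τ : L' →* L' :=
      { toFun := fun x => ⟨_, hτmem x⟩
        map_one' := Subtype.ext (by simp)
        map_mul' := fun a b => Subtype.ext (by simp) }
    have hτs : Function.Surjective τ := Finite.injective_iff_surjective.mp fun a b h =>
      Subtype.ext (Subtype.ext (by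
        have := congrArg (fun z : L' => ((z : K) : G)) h
        simpa [τ] using this))
    have hψ : Cfsg.IsIrrCharacter L' (fun x => φ (τ x)) := IsIrrCharacter.comp hφ τ hτs
    have hψcon : Cfsg.classInner (fun x : L' => θ x) (fun x => φ (τ x)) ≠ 0 := by
      have e : Cfsg.classInner (fun x : L' => θ x) (fun x => φ (τ x)) =
          Cfsg.classInner (fun x : L' => θ x) φ := by
        simp only [Cfsg.classInner]
        congr 1
        refine Fintype.sum_bijective (τ : L' → L')
          ⟨Finite.injective_iff_surjective.mpr hτs, hτs⟩ _ _ fun x => ?_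
        exact congrArg (· * _) (hinv g (x : K)).symm
      rw [e]; exact hcon
    obtain ⟨m, hm⟩ := (mem_conjOrbit L').mp (restrict_constituent_conj L' hθ hφ hψ hcon hψcon)
    have hk' : m * u * m⁻¹ ∈ I := by
      have h1 : ⁅m, u⁆ ∈ I := hIL (hab' m u)
      simpa [commutatorElement_def] using I.mul_mem h1 hu
    rw [hI, mem_inertia_iff]
    intro x
    obtain ⟨y, rfl⟩ := hτs x
    have e1 : (⟨conjHom K g u * (τ y : K) * (conjHom K g u)⁻¹,
        hL'n.conj_mem _ (τ y).2 _⟩ : L') = τ ⟨u * y * u⁻¹, hL'n.conj_mem _ y.2 u⟩ :=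
      Subtype.ext (by simp [τ])
    rw [e1, congrFun hm _, congrFun hm y]
    have := (mem_inertia_iff L').mp hk' ⟨m * y * m⁻¹, hL'n.conj_mem _ y.2 m⟩
    refine Eq.trans (congrArg φ (Subtype.ext ?_)) this
    simp [mul_assoc]
  rcases hchief' I hIL hInv with h | h
  · right; right
    rw [h] at hcount
    have he1 : e = 1 := by
      have := Nat.eq_of_mul_eq_mul_right (Nat.pos_of_ne_zero L'.index_ne_zero_of_finite)
        (hcount.trans (one_mul _).symm)
      simpa using this
    refine ⟨(conjOrbit L' φ).image fun ψ x => ψ (eqv.symm x), ?_, ?_, ?_⟩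
    · intro ψ hψ
      obtain ⟨ψ', hψ', rfl⟩ := Finset.mem_image.mp hψ
      exact htrans ψ' (hirr ψ' hψ')
    · rw [Finset.card_image_of_injective _ (fun a b hab' => funext fun x => by
        simpa using congrFun hab' (eqv x)), card_conjOrbit, ← hI, h]
      rfl
    · rw [Finset.sum_image (fun a _ b _ hab' => funext fun x => by
        simpa using congrFun hab' (eqv x))]
      funext x
      have := congrFun hcl (eqv.symm x)
      rw [he1, Nat.cast_one, one_smul, Finset.sum_apply] at this
      rw [Finset.sum_apply]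
      exact this
  · right; left
    rw [h, Subgroup.index_top, mul_one] at hcount
    refine ⟨_, e, htrans φ hφ, ?_, hcount⟩
    have horb : conjOrbit L' φ = {φ} := by
      refine Finset.eq_singleton_iff_unique_mem.mpr
        ⟨(mem_conjOrbit L').mpr ⟨1, (conjChar_one L' φ).symm⟩, fun ψ hψ => ?_⟩
      obtain ⟨g, rfl⟩ := (mem_conjOrbit L').mp hψ
      exact (mem_inertia L').mp (by rw [← hI, h]; exact Subgroup.mem_top g)
    funext x
    have := congrFun hcl (eqv.symm x)
    rw [horb, Finset.sum_singleton] at this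
    exact this

end Cfsg.Agent.Char.ChiefRestrict
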