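import Cfsg.Agent.Lib.Char.Degree
import Mathlib.Algebra.BigOperators.Finprod
import Mathlib.Tactic.Group

/-!
# Convolution of irreducible characters and Frobenius' commutator formula
-/

set_option linter.style.haveILetI false

namespace Cfsg.Agent.CharX

open Cfsg.Agent.Char Module
open scoped ComplexConjugate

universe u

variable {G : Type u} [Group G] [Fintype G]

/-- The generalised orthogonality relation. -/
theorem convolution (χ ψ : Cfsg.IrrCharacter G) [Decidable (χ = ψ)] (g : G) :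
    ∑ x : G, (χ : G → ℂ) x * (ψ : G → ℂ) (x⁻¹ * g) =
      if χ = ψ then (Nat.card G : ℂ) * (ψ : G → ℂ) g / (ψ : G → ℂ) 1 else 0 := by
  obtain ⟨n, ρ, hρ, hψ⟩ := ψ.2
  haveI := hρ
  let f : G → ℂ := fun x => (χ : G → ℂ) x⁻¹
  have hcf : Cfsg.IsClassFunction G f := fun a b => by
    simp only [f, show (b * a * b⁻¹)⁻¹ = b * a⁻¹ * b⁻¹ by group]
    exact IsCharacter.isClassFunction (IsIrrCharacter.isCharacter χ.2) a⁻¹ b
  obtain ⟨c, hc⟩ := schur_scalar ρ (groupSum f ρ) (groupSum_comm hcf ρ)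
  have hn : (ψ : G → ℂ) 1 = (n : ℂ) := by
    rw [← hψ, Representation.char_one]; simp
  have hn0 : (n : ℂ) ≠ 0 := hn ▸ IsIrrCharacter.one_ne_zero ψ.2
  -- trace of the scalar
  have htr : c * n = (Nat.card G : ℂ) * Cfsg.classInner (ψ : G → ℂ) (χ : G → ℂ) := by
    have h1 := trace_groupSum f ρ
    rw [hc, map_smul, LinearMap.trace_id, smul_eq_mul, Module.finrank_fin_fun] at h1
    rw [h1, Cfsg.classInner, ← mul_assoc, mul_inv_cancel₀ (Nat.cast_ne_zero.2 Nat.card_pos.ne'), one_mul]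
    refine Finset.sum_congr rfl fun x _ => ?_
    simp only [f, hψ, IsCharacter.inv (IsIrrCharacter.isCharacter χ.2)]
    ring
  have hsum : ∑ x : G, (χ : G → ℂ) x * (ψ : G → ℂ) (x⁻¹ * g) = c * (ψ : G → ℂ) g := by
    have : LinearMap.trace ℂ _ (groupSum f ρ * ρ g) = ∑ x : G, f x * ρ.character (x * g) := by
      simp [groupSum, Finset.sum_mul, map_sum, Representation.character, ← map_mul]
    rw [hc, smul_mul_assoc, map_smul, smul_eq_mul, ← Module.End.one_eq_id, one_mul] at this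
    rw [← hψ, show c * ρ.character g = ∑ x : G, f x * ρ.character (x * g) from this]
    refine Fintype.sum_equiv (Equiv.inv G) _ _ fun x => ?_
    simp [f]
  rw [hsum, eq_div_of_mul_eq hn0 htr, hn, classInner_irr ψ.2 χ.2]
  by_cases h : χ = ψ
  · subst h
    rw [if_pos rfl, if_pos rfl, mul_one]
    ring
  · have h' : (ψ : G → ℂ) ≠ (χ : G → ℂ) := fun e => h (Subtype.ext e.symm)
    simp [h, h']

open scoped Classical in
/-- Frobenius: the number of ways of writing `z` as a commutator. -/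
theorem card_commutator_eq (z : G) :
    (Nat.card {xy : G × G // xy.1 * xy.2 * xy.1⁻¹ * xy.2⁻¹ = z} : ℂ) =
      (Nat.card G : ℂ) * ∑ χ : Cfsg.IrrCharacter G, (χ : G → ℂ) z / (χ : G → ℂ) 1 := by
  have h1 : Nat.card {xy : G × G // xy.1 * xy.2 * xy.1⁻¹ * xy.2⁻¹ = z} =
      ∑ x : G, (Finset.univ.filter fun y : G => y * x⁻¹ * y⁻¹ = x⁻¹ * z).card := by
    simp only [← Fintype.card_subtype, ← Nat.card_eq_fintype_card]
    rw [← Nat.card_sigma]
    refine Nat.card_congr ((Equiv.subtypeEquivRight fun xy => ?_).trans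
      (Equiv.subtypeProdEquivSigmaSubtype fun x y : G => y * x⁻¹ * y⁻¹ = x⁻¹ * z))
    constructor <;> intro h
    · rw [← h]; group
    · calc xy.1 * xy.2 * xy.1⁻¹ * xy.2⁻¹ = xy.1 * (xy.2 * xy.1⁻¹ * xy.2⁻¹) := by group
        _ = z := by rw [h]; group
  rw [h1, Nat.cast_sum]
  simp_rw [← column_orth_count]
  rw [Finset.sum_comm, Finset.mul_sum]
  refine Finset.sum_congr rfl fun χ _ => ?_
  have := convolution χ χ z
  rw [if_pos rfl] at this
  rw [← mul_div_assoc, ← this]
  refine Finset.sum_congr rfl fun x _ => ?_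
  rw [← IsCharacter.inv (IsIrrCharacter.isCharacter χ.2), inv_inv, mul_comm]

end Cfsg.Agent.CharX
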