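import Cfsg.Agent.Lib.Blocks.Center
import Cfsg.Agent.Lib.Blocks.LocalRing
import Cfsg.Agent.Lib.Blocks.GroupRing
import Cfsg.Agent.Lib.Char.Convolution

/-!
# The Glauberman correspondence for a `p`-group acting on a group of order prime to `p`

The correspondence is obtained from the fact that restriction to the fixed point subgroup is
multiplicative for convolution modulo `p`.
-/

set_option linter.unusedSectionVars false
set_option linter.style.haveILetI false

namespace Cfsg.Agent.GlaubermanMod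

open Cfsg Cfsg.Agent.Char Cfsg.Agent.CharX Cfsg.Agent.Blocks
open scoped ComplexConjugate

universe u v

theorem exists_isPModular (p : ℕ) [hp : Fact p.Prime] : ∃ M : Ideal AlgInt, IsPModular p M := by
  have hne : Ideal.span {(p : AlgInt)} ≠ ⊤ := by
    rw [Ne, Ideal.eq_top_iff_one, Ideal.mem_span_singleton]
    rintro ⟨c, hc⟩
    have h : (1 : ℂ) = (p : ℂ) * (c : ℂ) := by simpa using congrArg Subtype.val hc
    have hint : IsIntegral ℤ (((1 : ℕ) : ℂ) / (p : ℂ)) := by
      rw [Nat.cast_one, show (1 : ℂ) / p = c from by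
        rw [h, mul_div_cancel_left₀ _ (Nat.cast_ne_zero.2 hp.out.ne_zero)]]
      exact c.2
    exact hp.out.not_dvd_one (dvd_of_isIntegral_div hp.out.ne_zero hint)
  obtain ⟨M, hM, hle⟩ := Ideal.exists_le_maximal _ hne
  exact ⟨M, hp.out, hM, hle (Ideal.mem_span_singleton_self _)⟩

variable {H : Type u} [Group H] [Fintype H] {R : Type v} [Group R] (φ : R →* MulAut H)

/-- The subgroup of fixed points. -/
def fixedSub : Subgroup H where
  carrier := {h | ∀ u, φ u h = h}
  one_mem' u := map_one _
  mul_mem' ha hb u := by rw [map_mul, ha u, hb u]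
  inv_mem' ha u := by rw [map_inv, ha u]

theorem mem_fixedSub {h : H} : h ∈ fixedSub φ ↔ ∀ u, φ u h = h := Iff.rfl

/-- A function invariant under the action. -/
def IsInv (f : H → ℂ) : Prop := ∀ u h, f (φ u h) = f h

/-- The action on irreducible characters. -/
def irrAction : MulAction R (IrrCharacter H) where
  smul u χ := ⟨fun h => (χ : H → ℂ) (φ u⁻¹ h),
    IsIrrCharacter.comp χ.2 (φ u⁻¹ : H ≃* H).toMonoidHom (φ u⁻¹).surjective⟩
  one_smul χ := Subtype.ext (funext fun h => by
    show (χ : H → ℂ) (φ 1⁻¹ h) = _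
    rw [inv_one, map_one, MulAut.one_apply])
  mul_smul a b χ := Subtype.ext (funext fun h => by
    show (χ : H → ℂ) (φ (a * b)⁻¹ h) = (χ : H → ℂ) (φ b⁻¹ (φ a⁻¹ h))
    rw [mul_inv_rev, map_mul, MulAut.mul_apply])

/-- The restriction of a character to the fixed point subgroup. -/
def resC (f : H → ℂ) : fixedSub φ → ℂ := fun c => f c

theorem isCharacter_resC (χ : IrrCharacter H) : IsCharacter (fixedSub φ) (resC φ (χ : H → ℂ)) :=
  IsCharacter.restrict (irr_isCharacter χ) _

variable [Fintype (fixedSub φ)]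

/-- The multiplicity of `γ` in the restriction of `χ`. -/
noncomputable def mult (χ : IrrCharacter H) (γ : IrrCharacter (fixedSub φ)) : ℕ :=
  (IsCharacter.exists_classInner_nat (isCharacter_resC φ χ) (irr_isCharacter γ)).choose

theorem classInner_resC (χ : IrrCharacter H) (γ : IrrCharacter (fixedSub φ)) :
    classInner (resC φ (χ : H → ℂ)) (γ : fixedSub φ → ℂ) = (mult φ χ γ : ℂ) :=
  (IsCharacter.exists_classInner_nat (isCharacter_resC φ χ) (irr_isCharacter γ)).choose_spec

theorem resC_eq_sum (χ : IrrCharacter H) (c : fixedSub φ) :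
    (χ : H → ℂ) c = ∑ γ : IrrCharacter (fixedSub φ), (mult φ χ γ : ℂ) * (γ : fixedSub φ → ℂ) c := by
  classical
  have h := congrFun (IsCharacter.eq_sum (isCharacter_resC φ χ)) c
  simp only [Finset.sum_apply, Pi.smul_apply, smul_eq_mul, classInner_resC] at h
  exact h

variable {p : ℕ} [hp : Fact p.Prime] (hR : IsPGroup p R) (hH : ¬ p ∣ Nat.card H)

include hR in
/-- An invariant sum is congruent to the sum over the fixed points. -/
theorem sum_sub_fixed_mem {M : Ideal AlgInt} [M.IsPrime] (hM : IsPModular p M) {α : Type*}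
    [MulAction R α] [Fintype α] [DecidablePred (· ∈ MulAction.fixedPoints R α)] (f : α → ℂ)
    (hint : ∀ a, MemLocalRing M (f a)) (hf : ∀ (u : R) (a : α), f (u • a) = f a) :
    MemLocalIdeal M (∑ a, f a -
      ∑ a ∈ Finset.univ.filter (· ∈ MulAction.fixedPoints R α), f a) := by
  haveI := resField_charP hM
  let g : α → locRing M := fun a => ⟨f a, hint a⟩
  have h := sum_eq_sum_fixed (R := resField M) hR (fun a => res M (g a))
    (fun u a => congrArg (res M) (Subtype.ext (hf u a)))
  rw [← map_sum, ← map_sum, res_eq_res_iff, AddSubmonoidClass.coe_finsetSum,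
    AddSubmonoidClass.coe_finsetSum] at h
  exact h

include hR hH in
/-- Fixed elements conjugate in `H` are conjugate in the fixed point subgroup. -/
theorem isConj_fixed {c c' : fixedSub φ} (h : IsConj (c : H) c') : IsConj c c' := by
  classical
  obtain ⟨h₀, hh₀⟩ := isConj_iff.1 h
  let X := {x : H // x * (c : H) * x⁻¹ = c'}
  letI : MulAction R X :=
    { smul := fun u x => ⟨φ u x.1, by
        calc φ u x.1 * (c : H) * (φ u x.1)⁻¹ = φ u (x.1 * c * x.1⁻¹) := by
              rw [map_mul, map_mul, map_inv, c.2 u]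
          _ = c' := by rw [x.2, c'.2 u]⟩
      one_smul := fun x => Subtype.ext (by show φ 1 x.1 = x.1; simp)
      mul_smul := fun a b x => Subtype.ext (by show φ (a * b) x.1 = φ a (φ b x.1); simp) }
  haveI : Finite X := inferInstance
  have hcard : Nat.card X = Nat.card (Subgroup.centralizer ({(c : H)} : Set H)) := by
    refine Nat.card_congr
      { toFun := fun x => ⟨h₀⁻¹ * x.1, Subgroup.mem_centralizer_singleton_iff.2 ?_⟩
        invFun := fun z => ⟨h₀ * z.1, ?_⟩
        left_inv := fun x => Subtype.ext (mul_inv_cancel_left _ _)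
        right_inv := fun z => Subtype.ext (inv_mul_cancel_left _ _) }
    · calc h₀⁻¹ * x.1 * (c : H) = h₀⁻¹ * (x.1 * c * x.1⁻¹) * x.1 := by group
        _ = h₀⁻¹ * (h₀ * c * h₀⁻¹) * x.1 := by rw [x.2, hh₀]
        _ = (c : H) * (h₀⁻¹ * x.1) := by group
    · have := Subgroup.mem_centralizer_singleton_iff.1 z.2
      calc h₀ * z.1 * (c : H) * (h₀ * z.1)⁻¹ = h₀ * (z.1 * c) * z.1⁻¹ * h₀⁻¹ := by group
        _ = h₀ * (c * z.1) * z.1⁻¹ * h₀⁻¹ := by rw [this]
        _ = c' := by rw [← hh₀]; group
  obtain ⟨x, hx⟩ := hR.nonempty_fixed_point_of_prime_not_dvd_card X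
    (fun hd => hH ((hcard ▸ hd).trans (Subgroup.card_subgroup_dvd_card _)))
  exact isConj_iff.2 ⟨⟨x.1, fun u => congrArg Subtype.val (hx u)⟩, Subtype.ext x.2⟩

include hR hH in
/-- An invariant class contains a fixed element. -/
theorem exists_fixed_conj {k : H} (hk : ∀ u, IsConj k (φ u k)) :
    ∃ c : fixedSub φ, IsConj k (c : H) := by
  classical
  let X := {x : H // IsConj k x}
  letI : MulAction R X :=
    { smul := fun u x => ⟨φ u x.1, (hk u).trans ((φ u : H ≃* H).toMonoidHom.map_isConj x.2)⟩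
      one_smul := fun x => Subtype.ext (by show φ 1 x.1 = x.1; simp)
      mul_smul := fun a b x => Subtype.ext (by show φ (a * b) x.1 = φ a (φ b x.1); simp) }
  obtain ⟨x, hx⟩ := hR.nonempty_fixed_point_of_prime_not_dvd_card X (fun hd => hH
    ((Blocks.card_isConj_eq_index k ▸ hd).trans (Subgroup.index_dvd_card _)))
  exact ⟨⟨x.1, fun u => congrArg Subtype.val (hx u)⟩, x.2⟩

include hR hH in
theorem card_modEq : Nat.card H ≡ Nat.card (fixedSub φ) [MOD p] := by
  letI : MulAction R H := MulAction.compHom H φ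
  rw [show Nat.card (fixedSub φ) = Nat.card (MulAction.fixedPoints R H) from
    Nat.card_congr (Equiv.subtypeEquivRight fun h => Iff.rfl)]
  exact hR.card_modEq_card_fixedPoints H

include hH in
theorem not_dvd_card_fixed : ¬ p ∣ Nat.card (fixedSub φ) :=
  fun h => hH (h.trans (Subgroup.card_subgroup_dvd_card _))

section
variable {M : Ideal AlgInt} [M.IsPrime] (hM : IsPModular p M)

include hH hM in
theorem coeff_mem_of_values (D : fixedSub φ → ℂ) (hD : ∀ c, MemLocalIdeal M (D c))
    (γ : IrrCharacter (fixedSub φ)) :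
    MemLocalIdeal M (classInner D (γ : fixedSub φ → ℂ)) := by
  refine MemLocalIdeal.mul_left (inv_natCast_memLocalRing hM (not_dvd_card_fixed φ hH)) ?_
  exact memLocalIdeal_sum _ _ fun c _ => MemLocalIdeal.mul_right (hD c)
    (mem_locRing_of_isIntegral (map_isIntegral_int (starRingEnd ℂ) (irr_isIntegral γ c)))

include hR hH hM in
/-- Restriction is multiplicative for convolution modulo `p`. -/
theorem mult_mul (χ χ' : IrrCharacter H) (hχ : IsInv φ (χ : H → ℂ)) (hχ' : IsInv φ (χ' : H → ℂ))
    [Decidable (χ = χ')] (γ : IrrCharacter (fixedSub φ)) :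
    (mult φ χ γ : resField M) * mult φ χ' γ * (charDegree (χ' : H → ℂ) : resField M) =
      if χ = χ' then (charDegree (γ : fixedSub φ → ℂ) : resField M) * mult φ χ' γ else 0 := by
  classical
  haveI := resField_charP hM
  letI : MulAction R H := MulAction.compHom H φ
  let C := fixedSub φ
  let D : C → ℂ := fun c => ∑ γ : IrrCharacter C,
    ((mult φ χ γ : ℂ) * mult φ χ' γ * ((Nat.card C : ℂ) / (γ : C → ℂ) 1) -
      (if χ = χ' then ((Nat.card H : ℂ) / (χ' : H → ℂ) 1) * mult φ χ' γ else 0)) * (γ : C → ℂ) c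
  have hD : ∀ c, MemLocalIdeal M (D c) := by
    intro c
    have h := sum_sub_fixed_mem hR hM (fun y : H => (χ : H → ℂ) y * (χ' : H → ℂ) (y⁻¹ * c))
      (fun y => (locRing M).mul_mem (mem_locRing_of_isIntegral (irr_isIntegral χ y))
        (mem_locRing_of_isIntegral (irr_isIntegral χ' _)))
      (fun u y => by
        show (χ : H → ℂ) (φ u y) * (χ' : H → ℂ) ((φ u y)⁻¹ * c) = _
        conv_lhs => rw [← c.2 u, ← map_inv, ← map_mul, hχ u y, hχ' u])
    rw [convolution χ χ', Finset.sum_subtype (p := (· ∈ C)) _ (fun y => by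
      simp only [Finset.mem_filter, Finset.mem_univ, true_and]; rfl)] at h
    have e1 : ∑ y : C, (χ : H → ℂ) y * (χ' : H → ℂ) ((y : H)⁻¹ * c) =
        ∑ γ : IrrCharacter C, (mult φ χ γ : ℂ) * mult φ χ' γ * ((Nat.card C : ℂ) / (γ : C → ℂ) 1) *
          (γ : C → ℂ) c := by
      have e : ∀ y : C, (χ : H → ℂ) y * (χ' : H → ℂ) ((y : H)⁻¹ * c) =
          ∑ γ : IrrCharacter C, ∑ γ' : IrrCharacter C, (mult φ χ γ : ℂ) * mult φ χ' γ' *
            ((γ : C → ℂ) y * (γ' : C → ℂ) (y⁻¹ * c)) := fun y => by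
        rw [show (y : H)⁻¹ * c = ((y⁻¹ * c : C) : H) from rfl, resC_eq_sum φ χ y, resC_eq_sum φ χ',
          Finset.sum_mul_sum]
        exact Finset.sum_congr rfl fun _ _ => Finset.sum_congr rfl fun _ _ => by ring
      simp only [e]
      rw [Finset.sum_comm]
      refine Finset.sum_congr rfl fun γ _ => ?_
      rw [Finset.sum_comm, Finset.sum_eq_single γ]
      · rw [← Finset.mul_sum, convolution γ γ, if_pos rfl]; ring
      · intro γ' _ hne
        rw [← Finset.mul_sum, convolution γ γ', if_neg hne.symm, mul_zero]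
      · exact fun h => absurd (Finset.mem_univ _) h
    rw [e1] at h
    have e2 : D c = -((if χ = χ' then (Nat.card H : ℂ) * (χ' : H → ℂ) c / (χ' : H → ℂ) 1 else 0) -
        ∑ γ : IrrCharacter C, (mult φ χ γ : ℂ) * mult φ χ' γ * ((Nat.card C : ℂ) / (γ : C → ℂ) 1) *
          (γ : C → ℂ) c) := by
      simp only [D, sub_mul, Finset.sum_sub_distrib, neg_sub, sub_right_inj]
      split_ifs with hc
      · rw [resC_eq_sum φ χ' c, Finset.mul_sum, Finset.sum_div]
        exact Finset.sum_congr rfl fun _ _ => by ring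
      · simp
    rw [e2]
    exact MemLocalIdeal.neg h
  have h1 := coeff_mem_of_values φ hH hM D hD γ
  rw [show D = ∑ γ : IrrCharacter C,
    ((mult φ χ γ : ℂ) * mult φ χ' γ * ((Nat.card C : ℂ) / (γ : C → ℂ) 1) -
      (if χ = χ' then ((Nat.card H : ℂ) / (χ' : H → ℂ) 1) * mult φ χ' γ else 0)) • (γ : C → ℂ) from
    funext fun c => by simp [D, Finset.sum_apply], classInner_combination] at h1
  -- clear denominators
  have h2 : MemLocalIdeal M
      (((mult φ χ γ * mult φ χ' γ * Nat.card C * charDegree (χ' : H → ℂ) : ℕ) : ℂ) -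
        ((if χ = χ' then Nat.card H * mult φ χ' γ * charDegree (γ : C → ℂ) else 0 : ℕ) : ℂ)) := by
    have h3 := MemLocalIdeal.mul_right h1
      (y := (((charDegree (χ' : H → ℂ) * charDegree (γ : C → ℂ) : ℕ)) : ℂ))
      (natCast_mem (locRing M) _)
    have hγ : (charDegree (γ : C → ℂ) : ℂ) ≠ 0 := Nat.cast_ne_zero.2 (irr_deg_pos γ).ne'
    have hχ1 : (charDegree (χ' : H → ℂ) : ℂ) ≠ 0 := Nat.cast_ne_zero.2 (irr_deg_pos χ').ne'
    convert h3 using 1
    rw [irr_deg γ, irr_deg χ']
    split_ifs <;> push_cast <;> field_simp <;> ring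
  have hn : (Nat.card C : resField M) = (Nat.card H : resField M) :=
    (CharP.natCast_eq_natCast (resField M) p).2 (card_modEq φ hR hH).symm
  have hn0 : (Nat.card C : resField M) ≠ 0 := fun h =>
    not_dvd_card_fixed φ hH ((CharP.cast_eq_zero_iff (resField M) p _).1 h)
  have h4 : ((mult φ χ γ * mult φ χ' γ * Nat.card C * charDegree (χ' : H → ℂ) : ℕ) : resField M) =
      ((if χ = χ' then Nat.card H * mult φ χ' γ * charDegree (γ : C → ℂ) else 0 : ℕ) : resField M) := by
    have : res M ((mult φ χ γ * mult φ χ' γ * Nat.card C * charDegree (χ' : H → ℂ) : ℕ) : locRing M) =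
        res M ((if χ = χ' then Nat.card H * mult φ χ' γ * charDegree (γ : C → ℂ) else 0 : ℕ) :
          locRing M) := res_eq_res_iff.2 (by simp only [SubringClass.coe_natCast]; exact h2)
    simpa only [map_natCast] using this
  refine mul_left_cancel₀ hn0 ?_
  split_ifs at h4 ⊢ <;> push_cast at h4 ⊢ <;> rw [← hn] at * <;> linear_combination h4

include hR hH hM in
theorem sum_mult_sq (χ : IrrCharacter H) (hχ : IsInv φ (χ : H → ℂ)) :
    ∑ γ : IrrCharacter (fixedSub φ), (mult φ χ γ : resField M) * mult φ χ γ = 1 := by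
  classical
  haveI := resField_charP hM
  letI : MulAction R H := MulAction.compHom H φ
  let C := fixedSub φ
  have h := sum_sub_fixed_mem hR hM (fun y : H => (χ : H → ℂ) y * conj ((χ : H → ℂ) y))
    (fun y => (locRing M).mul_mem (mem_locRing_of_isIntegral (irr_isIntegral χ y))
      (mem_locRing_of_isIntegral (map_isIntegral_int (starRingEnd ℂ) (irr_isIntegral χ y))))
    (fun u y => by
      show (χ : H → ℂ) (φ u y) * conj ((χ : H → ℂ) (φ u y)) = _
      rw [hχ u y])
  have e0 : ∑ y : H, (χ : H → ℂ) y * conj ((χ : H → ℂ) y) = (Nat.card H : ℂ) := by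
    have := classInner_self_irr χ.2
    rwa [classInner, inv_mul_eq_iff_eq_mul₀ (Nat.cast_ne_zero.2 Nat.card_pos.ne'), mul_one] at this
  have e1 : ∑ y : C, (χ : H → ℂ) y * conj ((χ : H → ℂ) y) =
      ((Nat.card C * ∑ γ : IrrCharacter C, mult φ χ γ * mult φ χ γ : ℕ) : ℂ) := by
    have := classInner_combination₂ (fun γ : IrrCharacter C => (mult φ χ γ : ℂ))
      (fun γ : IrrCharacter C => (mult φ χ γ : ℂ))
    rw [show (∑ γ : IrrCharacter C, (mult φ χ γ : ℂ) • (γ : C → ℂ)) = resC φ (χ : H → ℂ) from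
      funext fun c => by
        simp only [Finset.sum_apply, Pi.smul_apply, smul_eq_mul, resC]; exact (resC_eq_sum φ χ c).symm,
      classInner,
      inv_mul_eq_iff_eq_mul₀ (Nat.cast_ne_zero.2 Nat.card_pos.ne')] at this
    push_cast
    rw [show (∑ y : C, (χ : H → ℂ) y * conj ((χ : H → ℂ) y)) = _ from this]
    simp
  rw [e0, Finset.sum_subtype (p := (· ∈ C)) _ (fun y => by
    simp only [Finset.mem_filter, Finset.mem_univ, true_and]; rfl), e1] at h
  have h4 : (Nat.card H : resField M) =
      ((Nat.card C * ∑ γ : IrrCharacter C, mult φ χ γ * mult φ χ γ : ℕ) : resField M) := by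
    have : res M (Nat.card H : locRing M) =
        res M ((Nat.card C * ∑ γ : IrrCharacter C, mult φ χ γ * mult φ χ γ : ℕ) : locRing M) :=
      res_eq_res_iff.2 (by simpa using h)
    simpa only [map_natCast] using this
  have hn : (Nat.card C : resField M) = (Nat.card H : resField M) :=
    (CharP.natCast_eq_natCast (resField M) p).2 (card_modEq φ hR hH).symm
  have hn0 : (Nat.card C : resField M) ≠ 0 := fun h =>
    not_dvd_card_fixed φ hH ((CharP.cast_eq_zero_iff (resField M) p _).1 h)
  refine mul_left_cancel₀ hn0 ?_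
  push_cast at h4
  rw [mul_one, ← h4, hn]

include hR hH hM in
/-- The coefficients of a character of the fixed point subgroup over the restrictions. -/
theorem exists_coefficients (γ : IrrCharacter (fixedSub φ))
    [DecidablePred fun χ : IrrCharacter H => IsInv φ (χ : H → ℂ)]
    [DecidableEq (IrrCharacter (fixedSub φ))] :
    ∃ l : IrrCharacter H → resField M, ∀ γ' : IrrCharacter (fixedSub φ),
      ∑ χ ∈ Finset.univ.filter (fun χ : IrrCharacter H => IsInv φ (χ : H → ℂ)),
        l χ * (mult φ χ γ' : resField M) = if γ' = γ then 1 else 0 := by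
  classical
  haveI := resField_charP hM
  let C := fixedSub φ
  let f : H → ℂ := fun h => if e : ∃ c : C, IsConj h (c : H) then (γ : C → ℂ) e.choose else 0
  have hfC : ∀ c : C, f c = (γ : C → ℂ) c := by
    intro c
    have e : ∃ c' : C, IsConj (c : H) (c' : H) := ⟨c, IsConj.refl _⟩
    simp only [f, dif_pos e]
    exact irr_isConj γ (isConj_fixed φ hR hH e.choose_spec)
  have hfconj : ∀ h h', IsConj h h' → f h = f h' := by
    intro h h' hh
    simp only [f]
    by_cases e : ∃ c : C, IsConj h (c : H)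
    · have e' : ∃ c : C, IsConj h' (c : H) := ⟨e.choose, hh.symm.trans e.choose_spec⟩
      rw [dif_pos e, dif_pos e']
      exact irr_isConj γ (isConj_fixed φ hR hH (e'.choose_spec.symm.trans (hh.symm.trans e.choose_spec)))
    · rw [dif_neg e, dif_neg fun ⟨c, hc⟩ => e ⟨c, hh.trans hc⟩]
  have hfinv : ∀ u h, f (φ u h) = f h := by
    intro u h
    by_cases e : ∃ c : C, IsConj h (c : H)
    · obtain ⟨c, hc⟩ := e
      have hc' := (φ u : H ≃* H).toMonoidHom.map_isConj hc
      simp only [MulEquiv.coe_toMonoidHom, c.2 u] at hc'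
      rw [hfconj _ _ hc', hfconj _ _ hc]
    · simp only [f]
      rw [dif_neg e, dif_neg]
      rintro ⟨c, hc⟩
      refine e ⟨c, ?_⟩
      have hc' := (φ u⁻¹ : H ≃* H).toMonoidHom.map_isConj hc
      simp only [MulEquiv.coe_toMonoidHom, c.2 u⁻¹, ← MulAut.mul_apply, ← map_mul,
        inv_mul_cancel, map_one, MulAut.one_apply] at hc'
      exact hc'
  have hfloc : ∀ h, MemLocalRing M (f h) := by
    intro h
    simp only [f]
    split_ifs with e
    · exact mem_locRing_of_isIntegral (irr_isIntegral γ _)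
    · exact (mem_locRing.1 (locRing M).zero_mem)
  have hcl : IsClassFunction H f :=
    isClassFunction_iff.mpr hfconj
  have hlam : ∀ χ : IrrCharacter H, MemLocalRing M (classInner f (χ : H → ℂ)) := fun χ =>
    (locRing M).mul_mem (inv_natCast_memLocalRing hM hH) ((locRing M).sum_mem fun h _ =>
      (locRing M).mul_mem (hfloc h)
        (mem_locRing_of_isIntegral (map_isIntegral_int (starRingEnd ℂ) (irr_isIntegral χ h))))
  letI : MulAction R (IrrCharacter H) := irrAction φ
  have hfix : ∀ χ : IrrCharacter H, χ ∈ MulAction.fixedPoints R (IrrCharacter H) ↔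
      IsInv φ (χ : H → ℂ) := by
    intro χ
    refine ⟨fun h u y => ?_, fun h u => Subtype.ext (funext fun y => h u⁻¹ y)⟩
    have h1 := congrFun (congrArg Subtype.val (h u⁻¹)) y
    have h2 : (χ : H → ℂ) (φ u⁻¹⁻¹ y) = (χ : H → ℂ) y := h1
    rwa [inv_inv] at h2
  let D : C → ℂ := fun c => (γ : C → ℂ) c -
    ∑ χ ∈ Finset.univ.filter (fun χ : IrrCharacter H => IsInv φ (χ : H → ℂ)),
      classInner f (χ : H → ℂ) * (χ : H → ℂ) c
  have hD : ∀ c, MemLocalIdeal M (D c) := by
    intro c
    have h := sum_sub_fixed_mem hR hM (fun χ : IrrCharacter H => classInner f (χ : H → ℂ) * (χ : H → ℂ) c)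
      (fun χ => (locRing M).mul_mem (hlam χ) (mem_locRing_of_isIntegral (irr_isIntegral χ _)))
      (fun u χ => by
        show classInner f (fun y => (χ : H → ℂ) (φ u⁻¹ y)) * (χ : H → ℂ) (φ u⁻¹ c) = _
        rw [c.2 u⁻¹]
        congr 1
        unfold classInner
        congr 1
        refine Fintype.sum_equiv (φ u⁻¹).toEquiv _ _ fun y => ?_
        show _ = f (φ u⁻¹ y) * conj ((χ : H → ℂ) (φ u⁻¹ y))
        rw [hfinv])
    have e : ∑ χ : IrrCharacter H, classInner f (χ : H → ℂ) * (χ : H → ℂ) c = (γ : C → ℂ) c := by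
      have := congrFun (classFunction_eq_sum hcl) (c : H)
      simp only [Finset.sum_apply, Pi.smul_apply, smul_eq_mul] at this
      rw [← hfC c, this]
    rw [e, Finset.filter_congr (fun χ _ => hfix χ)] at h
    exact h
  refine ⟨fun χ => res M ⟨_, hlam χ⟩, fun γ' => ?_⟩
  have h1 := coeff_mem_of_values φ hH hM D hD γ'
  have e : D = (γ : C → ℂ) -
      ∑ χ ∈ Finset.univ.filter (fun χ : IrrCharacter H => IsInv φ (χ : H → ℂ)),
        classInner f (χ : H → ℂ) • resC φ (χ : H → ℂ) := funext fun c => by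
    simp [D, resC, Finset.sum_apply]
  rw [e, classInner_sub_left, classInner_sum_left, classInner_irr γ.2 γ'.2] at h1
  simp only [classInner_smul_left, classInner_resC] at h1
  have h2 : res M (if γ' = γ then 1 else 0 : locRing M) = res M (∑ χ ∈ Finset.univ.filter
      (fun χ : IrrCharacter H => IsInv φ (χ : H → ℂ)), ⟨_, hlam χ⟩ * (mult φ χ γ' : locRing M)) := by
    rw [res_eq_res_iff]
    convert h1 using 1
    simp only [AddSubmonoidClass.coe_finsetSum, Subring.coe_mul, SubringClass.coe_natCast]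
    congr 1
    by_cases hg : γ' = γ
    · rw [if_pos hg, if_pos (congrArg Subtype.val hg.symm)]; rfl
    · rw [if_neg hg, if_neg fun h => hg (Subtype.ext h.symm)]; rfl
  simp only [map_sum, map_mul, map_natCast, apply_ite (res M), map_one, map_zero] at h2
  exact h2.symm

include hR hH hM in
theorem mult_spec (χ : IrrCharacter H) (hχ : IsInv φ (χ : H → ℂ)) :
    ∃ γ : IrrCharacter (fixedSub φ),
      ((mult φ χ γ : resField M) = 1 ∨ (mult φ χ γ : resField M) = -1) ∧
      ∀ γ', γ' ≠ γ → (mult φ χ γ' : resField M) = 0 := by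
  classical
  haveI := resField_charP hM
  have hsum := sum_mult_sq φ hR hH hM χ hχ
  obtain ⟨γ, hγ⟩ : ∃ γ, (mult φ χ γ : resField M) ≠ 0 := by
    by_contra h
    push Not at h
    simp [h] at hsum
  have hd0 : (charDegree (χ : H → ℂ) : resField M) ≠ 0 := fun h =>
    hH (((CharP.cast_eq_zero_iff (resField M) p _).1 h).trans (irr_deg_dvd_card χ))
  have hother : ∀ γ', γ' ≠ γ → (mult φ χ γ' : resField M) = 0 := by
    obtain ⟨l, hl⟩ := exists_coefficients φ hR hH hM γ
    have key : ∀ γ', (if γ' = γ then 1 else 0) * (mult φ χ γ' : resField M) =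
        l χ * ((mult φ χ γ' : resField M) * mult φ χ γ') := by
      intro γ'
      rw [← hl γ', Finset.sum_mul, Finset.sum_eq_single χ]
      · ring
      · intro χ' hχ' hne
        have h := mult_mul φ hR hH hM χ' χ (Finset.mem_filter.1 hχ').2 hχ γ'
        rw [if_neg hne, mul_eq_zero] at h
        rw [mul_assoc, h.resolve_right hd0, mul_zero]
      · exact fun h => absurd hχ (by simpa using h)
    have hl0 : l χ ≠ 0 := fun h => hγ (by simpa [h] using key γ)
    intro γ' hne
    have := key γ'
    rw [if_neg hne, zero_mul] at this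
    exact mul_self_eq_zero.1 ((mul_eq_zero.1 this.symm).resolve_left hl0)
  refine ⟨γ, ?_, hother⟩
  rw [Finset.sum_eq_single γ (fun γ' _ h => by rw [hother γ' h, zero_mul])
    (fun h => absurd (Finset.mem_univ _) h)] at hsum
  exact mul_self_eq_one_iff.1 hsum

end

include hR hH in
/-- Every invariant irreducible character has exactly one constituent of multiplicity prime to
`p` on the fixed points, and that multiplicity is `±1` modulo `p`. -/
theorem exists_unique_constituent (χ : IrrCharacter H) (hχ : IsInv φ (χ : H → ℂ)) :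
    ∃ γ : IrrCharacter (fixedSub φ),
      ((mult φ χ γ : ZMod p) = 1 ∨ (mult φ χ γ : ZMod p) = -1) ∧
      ∀ γ', γ' ≠ γ → p ∣ mult φ χ γ' := by
  obtain ⟨M, hM⟩ := exists_isPModular p
  haveI := IsPModular.isPrime hM
  haveI := resField_charP hM
  obtain ⟨γ, h1, h2⟩ := mult_spec φ hR hH hM χ hχ
  refine ⟨γ, ?_, fun γ' h => (CharP.cast_eq_zero_iff (resField M) p _).1 (h2 γ' h)⟩
  refine h1.imp (fun h => ?_) (fun h => ?_) <;>
    refine (ZMod.castHom (dvd_refl p) (resField M)).injective ?_ <;>
    simp only [map_natCast, map_one, map_neg, h]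

include hR hH in
theorem exists_over (γ : IrrCharacter (fixedSub φ)) :
    ∃ χ : IrrCharacter H, IsInv φ (χ : H → ℂ) ∧ ¬ p ∣ mult φ χ γ := by
  classical
  obtain ⟨M, hM⟩ := exists_isPModular p
  haveI := IsPModular.isPrime hM
  haveI := resField_charP hM
  obtain ⟨l, hl⟩ := exists_coefficients φ hR hH hM γ
  have h := hl γ
  rw [if_pos rfl] at h
  obtain ⟨χ, hχ, hne⟩ := Finset.exists_ne_zero_of_sum_ne_zero (h ▸ one_ne_zero (α := resField M))
  exact ⟨χ, (Finset.mem_filter.1 hχ).2, fun hd =>
    hne (by rw [(CharP.cast_eq_zero_iff (resField M) p _).2 hd, mul_zero])⟩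

include hR hH in
theorem eq_of_common {χ χ' : IrrCharacter H} (hχ : IsInv φ (χ : H → ℂ))
    (hχ' : IsInv φ (χ' : H → ℂ)) {γ : IrrCharacter (fixedSub φ)} (h : ¬ p ∣ mult φ χ γ)
    (h' : ¬ p ∣ mult φ χ' γ) : χ = χ' := by
  classical
  obtain ⟨M, hM⟩ := exists_isPModular p
  haveI := IsPModular.isPrime hM
  haveI := resField_charP hM
  by_contra hne
  have e := mult_mul φ hR hH hM χ χ' hχ hχ' γ
  rw [if_neg hne, mul_eq_zero, mul_eq_zero, CharP.cast_eq_zero_iff (resField M) p,
    CharP.cast_eq_zero_iff (resField M) p, CharP.cast_eq_zero_iff (resField M) p] at e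
  exact e.elim (fun e => e.elim h h') fun hd => hH (hd.trans (irr_deg_dvd_card χ'))

end Cfsg.Agent.GlaubermanMod
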