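/-
Invariant characters and invariant classes under a solvable group acting coprimely.
-/
import Cfsg.Agent.Lib.Char.GlaubermanMod
import Cfsg.Agent.Lib.Char.Complete
import Mathlib.GroupTheory.Solvable

set_option linter.unusedSectionVars false
set_option linter.style.haveILetI false

namespace Cfsg.Agent.CoprimeCount

open Cfsg Cfsg.Agent.Char Cfsg.Agent.GlaubermanMod

universe u v

theorem exists_normal_pgroup (R : Type v) [Group R] [Finite R] [Nontrivial R]
    (hR : Group.IsSolvable R) :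
    ∃ p : ℕ, p.Prime ∧ ∃ A : Subgroup R, A.Normal ∧ A ≠ ⊥ ∧ IsPGroup p A := by
  classical
  obtain ⟨hn⟩ := hR
  set k := Nat.find hn with hk
  have hk0 : k ≠ 0 := by
    intro h
    have h1 := Nat.find_spec hn
    rw [← hk, h, derivedSeries_zero] at h1
    exact top_ne_bot h1
  obtain ⟨j, hj⟩ := Nat.exists_eq_succ_of_ne_zero hk0
  set D := derivedSeries R j with hD
  have hDne : D ≠ ⊥ := fun h => by
    have := Nat.find_min hn (m := j) (by omega)
    exact this h
  have hDcomm : ∀ a ∈ D, ∀ b ∈ D, a * b = b * a := by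
    intro a ha b hb
    have h1 := Nat.find_spec hn
    rw [← hk, hj, derivedSeries_succ, ← hD] at h1
    have h2 := Subgroup.commutator_mem_commutator ha hb
    rw [h1, Subgroup.mem_bot] at h2
    exact commutatorElement_eq_one_iff_mul_comm.mp h2
  set p := (Nat.card D).minFac
  have hp : p.Prime := Nat.minFac_prime fun h => hDne (Subgroup.eq_bot_of_card_eq _ h)
  haveI := Fact.mk hp
  let A : Subgroup R :=
    { carrier := {x | x ∈ D ∧ ∃ i : ℕ, x ^ p ^ i = 1}
      one_mem' := ⟨one_mem _, 0, one_pow _⟩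
      mul_mem' := by
        rintro a b ⟨ha, i, hi⟩ ⟨hb, j, hj⟩
        refine ⟨mul_mem ha hb, i + j, ?_⟩
        rw [(show Commute a b from hDcomm a ha b hb).mul_pow, pow_add, pow_mul, hi, one_pow,
          one_mul, ← pow_add, add_comm, pow_add, pow_mul, hj, one_pow]
      inv_mem' := by
        rintro a ⟨ha, i, hi⟩
        exact ⟨inv_mem ha, i, by rw [inv_pow, hi, inv_one]⟩ }
  refine ⟨p, hp, A, ⟨fun a ha g => ⟨(derivedSeries_normal R j).conj_mem a ha.1 g, ?_⟩⟩, ?_,
    fun a => ?_⟩
  · obtain ⟨i, hi⟩ := ha.2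
    exact ⟨i, by rw [conj_pow, hi, mul_one, mul_inv_cancel]⟩
  · obtain ⟨x, hx⟩ := exists_prime_orderOf_dvd_card' (G := D) p (Nat.minFac_dvd _)
    intro h
    have hmem : (x : R) ∈ A := ⟨x.2, 1, by
      rw [pow_one, ← hx, ← Subgroup.orderOf_coe, pow_orderOf_eq_one]⟩
    rw [h, Subgroup.mem_bot] at hmem
    rw [← Subgroup.orderOf_coe, hmem, orderOf_one] at hx
    exact hp.one_lt.ne hx
  · obtain ⟨i, hi⟩ := a.2.2
    exact ⟨i, Subtype.ext (by rw [Subgroup.coe_pow]; exact hi)⟩

variable {H : Type u} [Group H]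

/-- Fixed classes. -/
def IsFixedClass {R : Type v} [Group R] (φ : R →* MulAut H) (c : ConjClasses H) : Prop :=
  ∀ (u : R) (h : H), ConjClasses.mk h = c → ConjClasses.mk (φ u h) = c

theorem isFixedClass_mk {R : Type v} [Group R] (φ : R →* MulAut H) (h : H) :
    IsFixedClass φ (ConjClasses.mk h) ↔ ∀ u, IsConj (φ u h) h := by
  refine ⟨fun hc u => ConjClasses.mk_eq_mk_iff_isConj.1 (hc u h rfl), fun hc u k hk => ?_⟩
  rw [ConjClasses.mk_eq_mk_iff_isConj] at hk ⊢
  exact ((φ u : H ≃* H).toMonoidHom.map_isConj hk).trans (hc u)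

theorem card_classes_congr {A B : Type*} [Group A] [Group B] (e : A ≃* B) :
    Nat.card (ConjClasses A) = Nat.card (ConjClasses B) := by
  refine Nat.card_congr ⟨ConjClasses.map e.toMonoidHom, ConjClasses.map e.symm.toMonoidHom,
    fun c => ?_, fun c => ?_⟩
  all_goals
    obtain ⟨a, rfl⟩ := ConjClasses.mk_surjective c
    exact congrArg ConjClasses.mk (by simp)

theorem card_inv_aux : ∀ (n : ℕ) (H : Type u) [Group H] [Fintype H] (R : Type v) [Group R]
    [Finite R] (φ : R →* MulAut H), Nat.card R = n → Group.IsSolvable R →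
    (Nat.card H).Coprime (Nat.card R) →
    Nat.card {χ : IrrCharacter H // IsInv φ (χ : H → ℂ)} =
        Nat.card {c : ConjClasses H // IsFixedClass φ c} ∧
      Nat.card {χ : IrrCharacter H // IsInv φ (χ : H → ℂ)} =
        Nat.card (ConjClasses (fixedSub φ)) := by
  intro n
  induction n using Nat.strong_induction_on with
  | _ n ih =>
  intro H _ _ R _ _ φ hn hsolv hcop
  classical
  rcases subsingleton_or_nontrivial R with hR | hR
  · have h1 : ∀ (u : R) (h : H), φ u h = h := fun u h => by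
      rw [Subsingleton.elim u 1, map_one]; rfl
    rw [Nat.card_congr (Equiv.subtypeUnivEquiv fun χ : IrrCharacter H => show IsInv φ _ from
        fun u h => by rw [h1]),
      Nat.card_congr (Equiv.subtypeUnivEquiv fun c : ConjClasses H => show IsFixedClass φ c from
        fun u h hc => by rw [h1]; exact hc)]
    refine ⟨card_irrCharacter, card_irrCharacter.trans (card_classes_congr ?_).symm⟩
    exact { toFun := fun x => x.1, invFun := fun x => ⟨x, fun u => h1 u x⟩,
            left_inv := fun x => rfl, right_inv := fun x => rfl, map_mul' := fun _ _ => rfl }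
  obtain ⟨p, hp, A, hAn, hA1, hAp⟩ := exists_normal_pgroup R hsolv
  haveI := Fact.mk hp
  haveI := hAn
  have hpH : ¬ p ∣ Nat.card H := by
    intro hd
    obtain ⟨i, hi⟩ := IsPGroup.iff_card.1 hAp
    have hi0 : i ≠ 0 := fun h => hA1 (Subgroup.eq_bot_of_card_eq _ (by rw [hi, h, pow_zero]))
    have hdR : p ∣ Nat.card R :=
      (dvd_pow_self p hi0).trans (hi ▸ Subgroup.card_subgroup_dvd_card A)
    exact Nat.not_coprime_of_dvd_of_dvd hp.one_lt hd hdR hcop
  let ψ : A →* MulAut H := φ.comp A.subtype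
  let F := fixedSub ψ
  haveI : Fintype F := Fintype.ofFinite _
  have hstab : ∀ (u : R) (x : H), x ∈ F → φ u x ∈ F := by
    intro u x hx a
    have h1 := hx ⟨u⁻¹ * a * u, by simpa using hAn.conj_mem _ a.2 u⁻¹⟩
    simp only [ψ, MonoidHom.comp_apply, Subgroup.coe_subtype] at h1 ⊢
    rw [map_mul, map_mul, map_inv] at h1
    have h2 : φ u ((φ u)⁻¹ (φ a (φ u x))) = φ u x := congrArg (φ u) h1
    rwa [MulAut.apply_inv_self] at h2
  let res : R →* MulAut F :=
    { toFun := fun u =>
        { toFun := fun x => ⟨φ u x, hstab u x x.2⟩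
          invFun := fun x => ⟨φ u⁻¹ x, hstab u⁻¹ x x.2⟩
          left_inv := fun x => Subtype.ext (by simp)
          right_inv := fun x => Subtype.ext (by simp)
          map_mul' := fun a b => Subtype.ext (map_mul _ _ _) }
      map_one' := MulEquiv.ext fun x => Subtype.ext (by simp)
      map_mul' := fun a b => MulEquiv.ext fun x => Subtype.ext (by simp) }
  have hAker : A ≤ res.ker := fun a ha => MulEquiv.ext fun x => Subtype.ext (x.2 ⟨a, ha⟩)
  let χbar : R ⧸ A →* MulAut F := QuotientGroup.lift A res hAker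
  have hbar : ∀ (u : R) (x : F), ((χbar (u : R ⧸ A) x : F) : H) = φ u x := fun u x => rfl
  have hlt : Nat.card (R ⧸ A) < n := by
    rw [← hn, A.card_eq_card_quotient_mul_card_subgroup]
    exact lt_mul_of_one_lt_right Nat.card_pos (Subgroup.one_lt_card_iff_ne_bot _ |>.2 hA1)
  have hsolv' : Group.IsSolvable (R ⧸ A) := by
    haveI := hsolv; infer_instance
  have hcop' : (Nat.card F).Coprime (Nat.card (R ⧸ A)) :=
    (hcop.coprime_dvd_left (Subgroup.card_subgroup_dvd_card F)).coprime_dvd_right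
      (Subgroup.card_quotient_dvd_card A)
  obtain ⟨hIH, hIH2⟩ := ih _ hlt F (R ⧸ A) χbar rfl hsolv' hcop'
  -- the correspondence on characters
  have hinvA : ∀ {χ : IrrCharacter H}, IsInv φ (χ : H → ℂ) → IsInv ψ (χ : H → ℂ) :=
    fun h a x => h a x
  choose Γ hΓ1 hΓ2 using fun (χ : IrrCharacter H) (h : IsInv ψ (χ : H → ℂ)) =>
    exists_unique_constituent ψ hAp hpH χ h
  have hnd : ∀ χ h, ¬ p ∣ mult ψ χ (Γ χ h) := fun χ h hd => by
    rw [← ZMod.natCast_eq_zero_iff] at hd
    rcases hΓ1 χ h with e | e <;> simp [hd] at e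
  have heq : ∀ χ h γ, ¬ p ∣ mult ψ χ γ → Γ χ h = γ := fun χ h γ hd =>
    by_contra fun hne => hd (hΓ2 χ h γ (Ne.symm hne))
  let mv : R → IrrCharacter H → IrrCharacter H := fun u χ =>
    ⟨_, IsIrrCharacter.comp χ.2 (φ u : H ≃* H).toMonoidHom (φ u).surjective⟩
  let mvF : R → IrrCharacter F → IrrCharacter F := fun u γ =>
    ⟨_, IsIrrCharacter.comp γ.2 (res u : F ≃* F).toMonoidHom (res u).surjective⟩
  have hmvA : ∀ (u : R) (χ : IrrCharacter H), IsInv ψ (χ : H → ℂ) →
      IsInv ψ (mv u χ : H → ℂ) := by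
    intro u χ h a x
    show (χ : H → ℂ) (φ u (φ a x)) = (χ : H → ℂ) (φ u x)
    have h1 := h ⟨u * a * u⁻¹, hAn.conj_mem _ a.2 u⟩ (φ u x)
    simp only [ψ, MonoidHom.comp_apply, Subgroup.coe_subtype, map_mul, map_inv] at h1
    rwa [MulAut.mul_apply, MulAut.mul_apply, MulAut.inv_apply_self] at h1
  have hmult : ∀ u χ γ, mult ψ (mv u χ) (mvF u γ) = mult ψ χ γ := by
    intro u χ γ
    apply Nat.cast_injective (R := ℂ)
    rw [← classInner_resC, ← classInner_resC]
    unfold classInner
    congr 1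
    exact Fintype.sum_equiv (res u).toEquiv _ _ fun x => rfl
  have hequiv : ∀ u χ h, Γ (mv u χ) (hmvA u χ h) = mvF u (Γ χ h) := fun u χ h =>
    heq _ _ _ (by rw [hmult]; exact hnd χ h)
  have hmvF : ∀ (γ : IrrCharacter F), IsInv χbar (γ : F → ℂ) ↔ ∀ u, mvF u γ = γ := by
    intro γ
    refine ⟨fun h u => Subtype.ext (funext fun x => h (u : R ⧸ A) x), fun h q x => ?_⟩
    obtain ⟨u, rfl⟩ := QuotientGroup.mk_surjective q
    exact congrFun (congrArg Subtype.val (h u)) x
  have hGcongr : ∀ χ χ' h h', χ = χ' → Γ χ h = Γ χ' h' := by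
    rintro χ _ h h' rfl; rfl
  have hchar : Nat.card {χ : IrrCharacter H // IsInv φ (χ : H → ℂ)} =
      Nat.card {γ : IrrCharacter F // IsInv χbar (γ : F → ℂ)} := by
    refine Nat.card_eq_of_bijective (fun χ => ⟨Γ χ.1 (hinvA χ.2), (hmvF _).2 fun u => ?_⟩) ⟨?_, ?_⟩
    · rw [← hequiv]
      exact hGcongr _ _ _ _ (Subtype.ext (funext fun x => χ.2 u x))
    · intro χ χ' h
      have h' : Γ χ.1 (hinvA χ.2) = Γ χ'.1 (hinvA χ'.2) := congrArg Subtype.val h
      exact Subtype.ext (eq_of_common ψ hAp hpH (hinvA χ.2) (hinvA χ'.2) (hnd _ (hinvA χ.2))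
        (h' ▸ hnd _ (hinvA χ'.2)))
    · rintro ⟨γ, hγ⟩
      obtain ⟨χ, hχ, hd⟩ := GlaubermanMod.exists_over ψ hAp hpH γ
      have hinv : IsInv φ (χ : H → ℂ) := by
        intro u x
        have h1 := hmult u χ γ
        rw [(hmvF γ).1 hγ u] at h1
        exact congrFun (congrArg Subtype.val
          (eq_of_common ψ hAp hpH (hmvA u χ hχ) hχ (h1.symm ▸ hd) hd)) x
      exact ⟨⟨χ, hinv⟩, Subtype.ext (heq χ _ γ hd)⟩
  -- the correspondence on classes
  haveI : Finite (ConjClasses F) := Finite.of_surjective _ ConjClasses.mk_surjective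
  have hclass : Nat.card {c : ConjClasses F // IsFixedClass χbar c} =
      Nat.card {c : ConjClasses H // IsFixedClass φ c} := by
    refine Nat.card_eq_of_bijective (fun c => ⟨ConjClasses.map F.subtype c.1, ?_⟩) ⟨?_, ?_⟩
    · obtain ⟨a, ha⟩ := ConjClasses.mk_surjective c.1
      rw [← ha]
      refine (isFixedClass_mk φ (a : H)).2 fun u => ?_
      have hc := c.2
      rw [← ha, isFixedClass_mk] at hc
      exact F.subtype.map_isConj (hc (u : R ⧸ A))
    · rintro ⟨c, hc⟩ ⟨c', hc'⟩ h
      obtain ⟨a, rfl⟩ := ConjClasses.mk_surjective c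
      obtain ⟨a', rfl⟩ := ConjClasses.mk_surjective c'
      exact Subtype.ext (ConjClasses.mk_eq_mk_iff_isConj.2 (isConj_fixed ψ hAp hpH
        (ConjClasses.mk_eq_mk_iff_isConj.1 (congrArg Subtype.val h))))
    · rintro ⟨c, hc⟩
      obtain ⟨k, rfl⟩ := ConjClasses.mk_surjective c
      rw [isFixedClass_mk] at hc
      obtain ⟨a, ha⟩ := exists_fixed_conj ψ hAp hpH (k := k) fun v => (hc v).symm
      refine ⟨⟨ConjClasses.mk a, (isFixedClass_mk χbar a).2 fun q => ?_⟩,
        Subtype.ext (ConjClasses.mk_eq_mk_iff_isConj.2 ha.symm)⟩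
      obtain ⟨u, rfl⟩ := QuotientGroup.mk_surjective q
      refine isConj_fixed ψ hAp hpH ?_
      rw [hbar]
      exact (((φ u : H ≃* H).toMonoidHom.map_isConj ha.symm).trans (hc u)).trans ha
  refine ⟨by rw [hchar, hIH, hclass], ?_⟩
  rw [hchar, hIH2]
  refine card_classes_congr
    { toFun := fun x => ⟨((x : F) : H), fun u => congrArg Subtype.val (x.2 (u : R ⧸ A))⟩
      invFun := fun y => ⟨⟨(y : H), fun a => y.2 a⟩, fun q => ?_⟩
      left_inv := fun x => rfl
      right_inv := fun y => rfl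
      map_mul' := fun _ _ => rfl }
  obtain ⟨u, rfl⟩ := QuotientGroup.mk_surjective q
  exact Subtype.ext (y.2 u)

/-- As many invariant irreducible characters as fixed classes. -/
theorem card_inv_irr (n : ℕ) (H : Type u) [Group H] [Fintype H] (R : Type v) [Group R]
    [Finite R] (φ : R →* MulAut H) (hn : Nat.card R = n) (hsolv : Group.IsSolvable R)
    (hcop : (Nat.card H).Coprime (Nat.card R)) :
    Nat.card {χ : IrrCharacter H // IsInv φ (χ : H → ℂ)} =
      Nat.card {c : ConjClasses H // IsFixedClass φ c} :=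
  (card_inv_aux n H R φ hn hsolv hcop).1

/-- As many invariant irreducible characters as classes of the fixed subgroup. -/
theorem card_inv_irr_fixed (H : Type u) [Group H] [Fintype H] (R : Type v) [Group R]
    [Finite R] (φ : R →* MulAut H) (hsolv : Group.IsSolvable R)
    (hcop : (Nat.card H).Coprime (Nat.card R)) :
    Nat.card {χ : IrrCharacter H // IsInv φ (χ : H → ℂ)} =
      Nat.card (ConjClasses (fixedSub φ)) :=
  (card_inv_aux _ H R φ rfl hsolv hcop).2

end Cfsg.Agent.CoprimeCount
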