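import Cfsg.Agent.Lib.Char.Orbit
import Cfsg.Agent.Lib.Char.Degree

/-!
# Gallagher's theorem, averaged products over cosets
-/

set_option linter.style.haveILetI false
set_option linter.unusedSectionVars false

namespace Cfsg.Agent.Char

open scoped ComplexConjugate

universe u

variable {G : Type u} [Group G] [Fintype G]

theorem mul_indFun (H : Subgroup G) {ψ : G → ℂ} (hψ : Cfsg.IsClassFunction G ψ) (φ : H → ℂ) :
    ψ * Cfsg.indFun H φ = Cfsg.indFun H (fun h : H => ψ h * φ h) := by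
  funext g
  simp only [Pi.mul_apply, indFun_apply]
  rw [mul_left_comm, Finset.mul_sum]
  congr 1
  refine Finset.sum_congr rfl fun x _ => ?_
  by_cases hx : x⁻¹ * g * x ∈ H
  · rw [extendByZero_mem H _ hx, extendByZero_mem H _ hx]
    congr 1
    conv_rhs => rw [← hψ _ x]
    congr 1
    group
  · rw [extendByZero_not_mem H _ hx, extendByZero_not_mem H _ hx, mul_zero]

variable (N : Subgroup G) [hN : N.Normal] [Fintype N]

theorem classInner_indFun_invariant {θ : N → ℂ} (hθ : Cfsg.IsIrrCharacter N θ)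
    (hinv : ∀ g : G, conjChar N g θ = θ) :
    Cfsg.classInner (Cfsg.indFun N θ) (Cfsg.indFun N θ) = (N.index : ℂ) := by
  rw [classInner_indFun_normal N hθ hθ, Nat.card_congr (Equiv.subtypeUnivEquiv hinv),
    ← Subgroup.card_mul_index N, Nat.cast_mul, ← mul_assoc,
    inv_mul_cancel₀ (Nat.cast_ne_zero.mpr Nat.card_pos.ne'), one_mul]

theorem conjChar_restrict {χ : G → ℂ} (hχ : Cfsg.IsClassFunction G χ) {θ : N → ℂ}
    (hext : ∀ n : N, χ n = θ n) (g : G) : conjChar N g θ = θ :=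
  funext fun n => ((hext _).symm.trans (hχ n g)).trans (hext n)

/-- Gallagher's theorem in Isaacs's form. -/
theorem gallagher {φ θ : N → ℂ} (hφ : Cfsg.IsIrrCharacter N φ)
    (hφinv : ∀ g : G, conjChar N g φ = φ) {χ : G → ℂ} (hχ : Cfsg.IsCharacter G χ)
    (hext : ∀ n : N, χ n = θ n) (hprod : Cfsg.IsIrrCharacter N (φ * θ)) :
    (∀ β : Cfsg.IrrCharacter G, Cfsg.classInner (Cfsg.indFun N φ) β ≠ 0 →
      Cfsg.IsIrrCharacter G ((β : G → ℂ) * χ) ∧
        Cfsg.classInner (Cfsg.indFun N (φ * θ)) ((β : G → ℂ) * χ) ≠ 0) ∧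
    (∀ β β' : Cfsg.IrrCharacter G, Cfsg.classInner (Cfsg.indFun N φ) β ≠ 0 →
      Cfsg.classInner (Cfsg.indFun N φ) β' ≠ 0 → (β : G → ℂ) * χ = (β' : G → ℂ) * χ → β = β') ∧
    ∀ ψ : G → ℂ, Cfsg.IsIrrCharacter G ψ → Cfsg.classInner (Cfsg.indFun N (φ * θ)) ψ ≠ 0 →
      ∃ β : Cfsg.IrrCharacter G, Cfsg.classInner (Cfsg.indFun N φ) β ≠ 0 ∧
        (β : G → ℂ) * χ = ψ := by
  classical
  have hχcl := IsCharacter.isClassFunction hχ
  obtain ⟨a, ha⟩ := IsCharacter.exists_decomp (isCharacter_indFun N (IsIrrCharacter.isCharacter hφ))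
  have hind : Cfsg.indFun N (φ * θ) = ∑ β, (a β : ℂ) • ((β : G → ℂ) * χ) := by
    have h1 := mul_indFun N hχcl φ
    rw [show (fun h : N => χ h * φ h) = φ * θ from funext fun h => by
      rw [Pi.mul_apply, hext, mul_comm], ha, Finset.mul_sum] at h1
    rw [← h1]
    exact Finset.sum_congr rfl fun β _ => by rw [mul_smul_comm, mul_comm χ]
  have hcoef : ∀ β : Cfsg.IrrCharacter G, Cfsg.classInner (Cfsg.indFun N φ) β = a β := fun β => by
    rw [ha, classInner_combination]
  have hpc : ∀ β : Cfsg.IrrCharacter G, Cfsg.IsCharacter G ((β : G → ℂ) * χ) := fun β =>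
    IsCharacter.mul (IsIrrCharacter.isCharacter β.2) hχ
  choose k hk using fun β γ : Cfsg.IrrCharacter G =>
    IsCharacter.exists_classInner_nat (hpc β) (hpc γ)
  have hθ1 : θ 1 ≠ 0 := fun h0 =>
    IsIrrCharacter.one_ne_zero hprod (by rw [Pi.mul_apply, h0, mul_zero])
  have hkpos : ∀ β, 1 ≤ k β β := fun β => Nat.pos_of_ne_zero fun h0 => by
    have := classInner_self_eq_zero (a := (β : G → ℂ) * χ) (by rw [hk, h0, Nat.cast_zero])
    have h1 := congrFun this 1
    rw [Pi.mul_apply, Pi.zero_apply, mul_eq_zero] at h1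
    exact h1.elim (IsIrrCharacter.one_ne_zero β.2) fun e =>
      hθ1 ((hext 1).symm.trans (by simpa using e))
  have hθinv := conjChar_restrict N hχcl hext
  have hsum : ∑ β, ∑ γ, a β * a γ * k β γ = ∑ β, a β * a β := by
    have h1 := classInner_indFun_invariant N hprod fun g => funext fun n => by
      exact congrArg₂ (· * ·) (congrFun (hφinv g) n) (congrFun (hθinv g) n)
    have h2 := classInner_indFun_invariant N hφ hφinv
    rw [hind, classInner_sum_left, ← h2, ha, classInner_combination₂] at h1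
    simp only [classInner_smul_left, classInner_sum_right, classInner_smul_right, map_natCast, hk,
      Finset.mul_sum, ← mul_assoc] at h1
    refine Eq.trans ?_ (show ∑ x, ∑ y, a y * a x * k x y = ∑ x, a x * a x by exact_mod_cast h1)
    exact Finset.sum_congr rfl fun x _ => Finset.sum_congr rfl fun y _ => by ring
  have hge : ∀ β, a β * a β ≤ ∑ γ, a β * a γ * k β γ := fun β =>
    le_trans (Nat.le_mul_of_pos_right _ (hkpos β))
      (Finset.single_le_sum (f := fun γ => a β * a γ * k β γ) (fun γ _ => Nat.zero_le _)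
        (Finset.mem_univ β))
  have heq := (Finset.sum_eq_sum_iff_of_le fun β _ => hge β).mp hsum.symm
  have hone : ∀ β, a β ≠ 0 → k β β = 1 := fun β hβ => by
    have h1 := Finset.single_le_sum (f := fun γ => a β * a γ * k β γ) (fun γ _ => Nat.zero_le _)
      (Finset.mem_univ β)
    rw [← heq β (Finset.mem_univ β)] at h1
    exact le_antisymm (Nat.le_of_mul_le_mul_left (by simpa using h1)
      (Nat.mul_pos (Nat.pos_of_ne_zero hβ) (Nat.pos_of_ne_zero hβ))) (hkpos β)
  have hzero : ∀ β γ, a β ≠ 0 → a γ ≠ 0 → β ≠ γ → k β γ = 0 := fun β γ hβ hγ hne => by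
    have h1 : a β * a β * k β β + a β * a γ * k β γ ≤ ∑ δ, a β * a δ * k β δ := by
      rw [← Finset.sum_pair (f := fun δ => a β * a δ * k β δ) hne]
      exact Finset.sum_le_sum_of_subset (Finset.subset_univ _)
    rw [← heq β (Finset.mem_univ β), hone β hβ, mul_one, add_le_iff_nonpos_right,
      Nat.le_zero] at h1
    simpa [hβ, hγ] using h1
  have hirr : ∀ β, a β ≠ 0 → Cfsg.IsIrrCharacter G ((β : G → ℂ) * χ) := fun β hβ =>
    IsCharacter.isIrr_of_norm_one (hpc β) (by rw [hk, hone β hβ, Nat.cast_one])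
  refine ⟨fun β hβ => ?_, fun β β' hβ hβ' e => ?_, fun ψ hψ hne => ?_⟩
  · rw [hcoef, Nat.cast_ne_zero] at hβ
    refine ⟨hirr β hβ, ?_⟩
    rw [hind, classInner_sum_left]
    simp only [classInner_smul_left, hk]
    norm_cast
    intro h0
    have := Finset.sum_eq_zero_iff.mp h0 β (Finset.mem_univ β)
    rw [hone β hβ, mul_one] at this
    exact hβ this
  · rw [hcoef, Nat.cast_ne_zero] at hβ hβ'
    by_contra hne
    have := hk β β'
    rw [hzero β β' hβ hβ' hne, e, hk, hone β' hβ'] at this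
    simp at this
  · rw [hind, classInner_sum_left] at hne
    obtain ⟨β, -, hβ⟩ := Finset.exists_ne_zero_of_sum_ne_zero hne
    rw [classInner_smul_left, mul_ne_zero_iff] at hβ
    refine ⟨β, by rw [hcoef]; exact hβ.1, ?_⟩
    by_contra hh
    exact hβ.2 (classInner_irr_of_ne (hirr β (Nat.cast_ne_zero.mp hβ.1)) hψ hh)

theorem indFun_one_ne_zero_iff (β : Cfsg.IrrCharacter G) :
    Cfsg.classInner (Cfsg.indFun N (fun _ => 1)) β ≠ 0 ↔
      ∀ n : N, (β : G → ℂ) n = (β : G → ℂ) 1 := by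
  have hβ := IsIrrCharacter.isCharacter β.2
  rw [classInner_indFun_left N _ (IsCharacter.isClassFunction hβ),
    classInner_comm_of_isCharacter isCharacter_one (IsCharacter.restrict hβ N)]
  refine ⟨fun h n => restrict_over_one N β.2 h n, fun h => ?_⟩
  rw [show (fun n : N => (β : G → ℂ) n) = (β : G → ℂ) 1 • fun _ : N => (1 : ℂ) from
    funext fun n => by rw [h, Pi.smul_apply, smul_eq_mul, mul_one], classInner_smul_left,
    classInner_self_irr isIrrCharacter_one, mul_one]
  exact IsIrrCharacter.one_ne_zero β.2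

/-- Gallagher's theorem for an irreducible restriction. -/
theorem gallagher_one {χ : G → ℂ} (hχ : Cfsg.IsCharacter G χ)
    (hirr : Cfsg.IsIrrCharacter N (fun n : N => χ n)) :
    (∀ β : Cfsg.IrrCharacter G, (∀ n : N, (β : G → ℂ) n = (β : G → ℂ) 1) →
      Cfsg.IsIrrCharacter G ((β : G → ℂ) * χ)) ∧
    (∀ β β' : Cfsg.IrrCharacter G, (∀ n : N, (β : G → ℂ) n = (β : G → ℂ) 1) →
      (∀ n : N, (β' : G → ℂ) n = (β' : G → ℂ) 1) →
      (β : G → ℂ) * χ = (β' : G → ℂ) * χ → β = β') ∧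
    ∀ ψ : G → ℂ, Cfsg.IsIrrCharacter G ψ →
      Cfsg.classInner (fun n : N => ψ n) (fun n : N => χ n) ≠ 0 →
      ∃ β : Cfsg.IrrCharacter G, (∀ n : N, (β : G → ℂ) n = (β : G → ℂ) 1) ∧
        (β : G → ℂ) * χ = ψ := by
  have e : (fun _ : N => (1 : ℂ)) * (fun n : N => χ n) = fun n : N => χ n :=
    funext fun n => one_mul _
  obtain ⟨h1, h2, h3⟩ := gallagher N (φ := fun _ : N => (1 : ℂ)) (θ := fun n : N => χ n)
    isIrrCharacter_one (fun g => rfl) hχ (fun n => rfl) (e.symm ▸ hirr)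
  refine ⟨fun β hβ => (h1 β ((indFun_one_ne_zero_iff N β).mpr hβ)).1, fun β β' hβ hβ' =>
    h2 β β' ((indFun_one_ne_zero_iff N β).mpr hβ) ((indFun_one_ne_zero_iff N β').mpr hβ'),
    fun ψ hψ hne => ?_⟩
  obtain ⟨β, hβ, heq⟩ := h3 ψ hψ (by
    rw [e, classInner_indFun_left N _
      (IsCharacter.isClassFunction (IsIrrCharacter.isCharacter hψ)), ← classInner_conj_symm]
    simpa using hne)
  exact ⟨β, (indFun_one_ne_zero_iff N β).mp hβ, heq⟩

/-- The average over a coset of `ψ * conj χ`. -/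
noncomputable def cosetAvg (ψ χ : G → ℂ) : G → ℂ :=
  fun g => (Nat.card N : ℂ)⁻¹ * ∑ n : N, ψ ((n : G) * g) * conj (χ ((n : G) * g))

theorem isClassFunction_cosetAvg {ψ χ : G → ℂ} (hψ : Cfsg.IsClassFunction G ψ)
    (hχ : Cfsg.IsClassFunction G χ) : Cfsg.IsClassFunction G (cosetAvg N ψ χ) := by
  intro g x
  simp only [cosetAvg]
  congr 1
  refine Fintype.sum_equiv (Equiv.ofBijective (conjHom N x⁻¹)
    (Finite.surjective_iff_bijective.mp (conjHom_surjective N x⁻¹))) _ _ fun n => ?_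
  rw [← hψ _ x⁻¹, ← hχ _ x⁻¹]
  simp [mul_assoc]

theorem classInner_cosetAvg {ψ χ : G → ℂ} (hψ : Cfsg.IsClassFunction G ψ)
    (hχ : Cfsg.IsClassFunction G χ) (β : Cfsg.IrrCharacter G)
    [Decidable (∀ n : N, (β : G → ℂ) n = (β : G → ℂ) 1)] :
    Cfsg.classInner (cosetAvg N ψ χ) β =
      if ∀ n : N, (β : G → ℂ) n = (β : G → ℂ) 1 then Cfsg.classInner ψ ((β : G → ℂ) * χ) else 0 := by
  classical
  obtain ⟨K, -, hmem, htr⟩ := IsCharacter.exists_kernel (IsIrrCharacter.isCharacter β.2)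
  have hcard : (Nat.card N : ℂ) ≠ 0 := Nat.cast_ne_zero.mpr Nat.card_pos.ne'
  split_ifs with h
  · have hinv : ∀ (n : N) (g : G), (β : G → ℂ) ((n : G) * g) = (β : G → ℂ) g := fun n g =>
      htr n ((hmem _).mpr (h n)) g
    simp only [Cfsg.classInner, cosetAvg, Pi.mul_apply, map_mul]
    congr 1
    simp only [mul_assoc, Finset.sum_mul]
    rw [← Finset.mul_sum, Finset.sum_comm, inv_mul_eq_iff_eq_mul₀ hcard]
    rw [Nat.card_eq_fintype_card, ← Finset.card_univ, ← nsmul_eq_mul, ← Finset.sum_const]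
    refine Finset.sum_congr rfl fun n _ => ?_
    refine Fintype.sum_equiv (Equiv.mulLeft (n : G)) _ _ fun g => ?_
    simp only [Equiv.coe_mulLeft, hinv]
    ring
  · have hcl := IsCharacter.isClassFunction (IsIrrCharacter.isCharacter β.2)
    simp only [Cfsg.classInner]
    refine mul_eq_zero_of_right _ ?_
    have hshift : ∀ m : N, ∑ g : G, cosetAvg N ψ χ g * conj ((β : G → ℂ) g) =
        ∑ g : G, cosetAvg N ψ χ g * conj ((β : G → ℂ) ((m : G) * g)) := by
      intro m
      symm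
      refine Fintype.sum_equiv (Equiv.mulLeft (m : G)) _ _ fun g => ?_
      simp only [Equiv.coe_mulLeft]
      congr 1
      simp only [cosetAvg]
      congr 1
      refine Fintype.sum_equiv (Equiv.mulRight m⁻¹) _ _ fun n => ?_
      simp [mul_assoc]
    have h0 : (Nat.card N : ℂ) * ∑ g : G, cosetAvg N ψ χ g * conj ((β : G → ℂ) g) = 0 := by
      rw [Nat.card_eq_fintype_card, ← Finset.card_univ, ← nsmul_eq_mul, ← Finset.sum_const,
        Finset.sum_congr rfl fun m _ => hshift m, Finset.sum_comm]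
      refine Finset.sum_eq_zero fun g _ => ?_
      rw [← Finset.mul_sum, ← map_sum]
      have hz : ∑ m : N, (β : G → ℂ) ((m : G) * g) = 0 := by
        rw [← CharX.sum_coset_eq_zero β.2 N (by simpa using h) g]
        refine Finset.sum_congr rfl fun m _ => ?_
        rw [← hcl ((m : G) * g) g]
        congr 1
        group
      rw [hz, map_zero, mul_zero]
    exact (mul_eq_zero.mp h0).resolve_left hcard

end Cfsg.Agent.Char
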