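import Cfsg.Agent.Lib.Char.Gallagher
import Cfsg.Agent.Lib.Char.ExtensionChar
import Mathlib.RingTheory.RootsOfUnity.Basic

/-!
# The multiplicity of a constituent divides the index

For an invariant `θ` the pairs `(g, A)` of `CharExtend.interGroup` with `det A` a `|N|`-th root of
unity form a finite group on which `θ` extends; Gallagher's theorem gives a character of degree
`e` on which the preimage of `N` acts by scalars.
-/

set_option linter.style.haveILetI false
set_option linter.unusedSectionVars false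

namespace Cfsg.Agent.Char

open scoped ComplexConjugate
open Cfsg.Agent.CharExtend

universe u

variable {G : Type u} [Group G] [Fintype G] (N : Subgroup G) [hN : N.Normal] [Fintype N]

theorem exists_multiplicity_of_invariant {χ : G → ℂ} (hχ : Cfsg.IsIrrCharacter G χ) {θ : N → ℂ}
    (hθ : Cfsg.IsIrrCharacter N θ)
    (hinv : ∀ (g : G) (n : N), θ ⟨g * n * g⁻¹, hN.conj_mem (n : G) n.2 g⟩ = θ n)
    (hcon : Cfsg.classInner (fun n : N => χ n) θ ≠ 0) :
    ∃ e : ℕ, χ 1 = (e : ℂ) * θ 1 ∧ e ∣ N.index := by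
  classical
  obtain ⟨d, σ, hσ, rfl, hd, hi⟩ := exists_setup hθ hinv
  have hd0 : d ≠ 0 := by
    rintro rfl
    exact IsIrrCharacter.one_ne_zero hθ (by simpa using hd)
  set M := Nat.card N with hM
  have hM0 : M ≠ 0 := Nat.card_pos.ne'
  haveI : NeZero (d * M) := ⟨mul_ne_zero hd0 hM0⟩
  let D : interGroup σ →* ℂˣ :=
    (Units.map (LinearMap.det : (Module.End ℂ (Fin d → ℂ)) →* ℂ)).comp (op σ)
  let D₁ : interGroup σ →* ℂˣ := (powMonoidHom M).comp D
  have hD₁scal : ∀ z : ℂˣ, D₁ (scal σ z) = z ^ (d * M) := fun z => by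
    apply Units.ext
    simp [D₁, D, scalarUnit_val, LinearMap.det_smul, pow_mul]
  have hD₁emb : ∀ n : N, D₁ (emb σ n) = 1 := fun n => by
    rw [show D₁ (emb σ n) = D (emb σ n) ^ M from rfl, ← map_pow, ← map_pow, hM, pow_card_eq_one',
      map_one, map_one]
  let E := D₁.ker
  let π : E →* G := (proj σ).comp E.subtype
  have hπ : Function.Surjective π := by
    intro g
    obtain ⟨e, rfl⟩ := proj_surjective σ hi g
    obtain ⟨r, hr⟩ := IsAlgClosed.exists_pow_nat_eq (((D₁ e)⁻¹ : ℂˣ) : ℂ)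
      (Nat.pos_of_ne_zero (mul_ne_zero hd0 hM0))
    have hr0 : r ≠ 0 := by
      rintro rfl
      rw [zero_pow (mul_ne_zero hd0 hM0)] at hr
      exact Units.ne_zero _ hr.symm
    refine ⟨⟨scal σ (Units.mk0 r hr0) * e, ?_⟩, by simp [π]⟩
    rw [MonoidHom.mem_ker, map_mul, hD₁scal,
      show Units.mk0 r hr0 ^ (d * M) = (D₁ e)⁻¹ from Units.ext (by simpa using hr), inv_mul_cancel]
  have hsc : ∀ x : E, π x = 1 → ∃ z : ℂˣ, z ^ (d * M) = 1 ∧ (x : interGroup σ) = scal σ z := by
    intro x hx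
    obtain ⟨z, hz⟩ := exists_scal_of_proj_eq_one σ (x : interGroup σ) hx
    exact ⟨z, by rw [← hD₁scal, hz]; exact x.2, hz.symm⟩
  haveI : Finite E := by
    choose s hs using hπ
    refine Finite.of_surjective (fun p : rootsOfUnity (d * M) ℂ × G =>
      (⟨scal σ (p.1 : ℂˣ) * (s p.2 : interGroup σ), by
        rw [MonoidHom.mem_ker, map_mul, hD₁scal, (mem_rootsOfUnity _ _).mp p.1.2, one_mul]
        exact (s p.2).2⟩ : E)) fun x => ?_
    obtain ⟨z, hz, hx⟩ := hsc (x * (s (π x))⁻¹) (by rw [map_mul, map_inv, hs, mul_inv_cancel])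
    refine ⟨(⟨z, (mem_rootsOfUnity _ _).mpr hz⟩, π x), Subtype.ext ?_⟩
    show scal σ z * (s (π x) : interGroup σ) = x
    rw [← hx]
    simp
  haveI : Fintype E := Fintype.ofFinite E
  let ι : N →* E := (emb σ).codRestrict E fun n => hD₁emb n
  have hπι : ∀ n : N, π (ι n) = n := fun n => rfl
  have hιinj : Function.Injective ι := fun a b h => Subtype.ext (by rw [← hπι a, h, hπι b])
  let N' : Subgroup E := ι.range
  haveI : N'.Normal := ⟨by
    rintro _ ⟨n, rfl⟩ a
    exact ⟨_, Subtype.ext (conj_emb σ (a : interGroup σ) n).symm⟩⟩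
  haveI : Fintype N' := Fintype.ofFinite _
  let eqv : N ≃* N' := MonoidHom.ofInjective hιinj
  let ρE : Representation ℂ E (Fin d → ℂ) := (Units.coeHom _).comp ((op σ).comp E.subtype)
  have hρι : ∀ n : N, ρE.character (ι n : E) = σ.character n := fun n => rfl
  have hθ' : Cfsg.IsIrrCharacter N' (fun y => ρE.character y) := by
    have := IsIrrCharacter.comp hθ eqv.symm.toMonoidHom eqv.symm.surjective
    convert this using 1
    funext y
    obtain ⟨n, rfl⟩ := eqv.surjective y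
    simp only [MulEquiv.coe_toMonoidHom, MulEquiv.symm_apply_apply]
    exact hρι n
  have hψ : Cfsg.IsIrrCharacter E (fun x => χ (π x)) := IsIrrCharacter.comp hχ π hπ
  have hne : Cfsg.classInner (fun y : N' => χ (π y)) (fun y : N' => ρE.character y) ≠ 0 := by
    intro h0
    apply hcon
    rw [← h0]
    simp only [Cfsg.classInner]
    rw [Nat.card_congr eqv.toEquiv]
    congr 1
    exact Fintype.sum_equiv eqv.toEquiv _ _ fun n => rfl
  obtain ⟨β, hβ, heq⟩ := (gallagher_one N' (isCharacter_of_rep ρE) hθ').2.2 _ hψ hne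
  obtain ⟨e, he0, he⟩ := IsIrrCharacter.exists_degree β.2
  have hρ1 : ρE.character 1 = (d : ℂ) := by rw [Representation.char_one, Module.finrank_fin_fun]
  refine ⟨e, ?_, ?_⟩
  · have := congrFun heq 1
    rw [Pi.mul_apply, hρ1, he, map_one] at this
    rw [← this, hd]
  obtain ⟨K, -, hmem, htr⟩ := IsCharacter.exists_kernel (IsIrrCharacter.isCharacter β.2)
  rw [← Subgroup.index_comap_of_surjective N hπ]
  refine degree_dvd_index_of_scalar β.2 he _ fun x hx => ?_
  let n : N := ⟨π x, hx⟩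
  obtain ⟨z, hz, hxz⟩ := hsc ((ι n)⁻¹ * x) (by rw [map_mul, map_inv, hπι]; simp [n])
  have hxs : (β : E → ℂ) x = (β : E → ℂ) ((ι n)⁻¹ * x) := by
    rw [← htr (ι n) ((hmem _).mpr (hβ ⟨ι n, n, rfl⟩)) ((ι n)⁻¹ * x), mul_inv_cancel_left]
  have hzn : ‖(z : ℂ)‖ = 1 := norm_eq_one_of_pow (mul_ne_zero hd0 hM0) (by
    rw [← Units.val_pow_eq_pow_val, hz, Units.val_one])
  have h1 := congrFun heq ((ι n)⁻¹ * x)
  have hπs : π ((ι n)⁻¹ * x) = 1 := by
    show proj σ (((ι n)⁻¹ * x : E) : interGroup σ) = 1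
    rw [hxz, proj_scal]
  have h2 := congrFun heq 1
  rw [Pi.mul_apply, hπs] at h1
  rw [Pi.mul_apply, map_one, ← h1, he, hρ1] at h2
  have h3 : ρE.character ((ι n)⁻¹ * x) = (z : ℂ) * (d : ℂ) := by
    show LinearMap.trace ℂ _ ((op σ (((ι n)⁻¹ * x : E) : interGroup σ) : (Module.End ℂ (Fin d → ℂ))ˣ) :
      Module.End ℂ (Fin d → ℂ)) = _
    rw [hxz, op_scal, scalarUnit_val, map_smul, LinearMap.trace_id, Module.finrank_fin_fun,
      smul_eq_mul]
  rw [h3, ← mul_assoc] at h2
  have h4 := mul_right_cancel₀ (Nat.cast_ne_zero.mpr hd0) h2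
  rw [hxs, ← mul_one ‖(β : E → ℂ) _‖, ← hzn, ← norm_mul, ← h4, Complex.norm_natCast]

/-- `χ(1)/θ(1)` is an integer dividing the index of `N`. -/
theorem exists_ratio_dvd_index {χ : G → ℂ} (hχ : Cfsg.IsIrrCharacter G χ) {θ : N → ℂ}
    (hθ : Cfsg.IsIrrCharacter N θ) (hcon : Cfsg.classInner (fun n : N => χ n) θ ≠ 0) :
    ∃ e : ℕ, χ 1 = (e : ℂ) * θ 1 ∧ e ∣ N.index := by
  classical
  set T := inertia N θ with hTdef
  haveI : Fintype T := Fintype.ofFinite T
  have hNT : N ≤ T := le_inertia N (IsCharacter.isClassFunction (IsIrrCharacter.isCharacter hθ))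
  haveI : Fintype (N.subgroupOf T) := Fintype.ofFinite _
  obtain ⟨ψ, hψ, hind, hmult⟩ := clifford_correspondence_surjective N hθ hTdef hNT hχ hcon
  let eqv := Subgroup.subgroupOfEquivOfLe hNT
  have hθ' : Cfsg.IsIrrCharacter (N.subgroupOf T) (fun y => θ (eqv y)) :=
    IsIrrCharacter.comp hθ eqv.toMonoidHom eqv.surjective
  have hne : Cfsg.classInner (fun y : N.subgroupOf T => ψ y) (fun y => θ (eqv y)) ≠ 0 := by
    intro h0
    apply hcon
    rw [← hmult, ← h0]
    simp only [Cfsg.classInner]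
    rw [Nat.card_congr eqv.toEquiv]
    congr 1
    exact (Fintype.sum_equiv eqv.toEquiv _ _ fun y => rfl).symm
  obtain ⟨e, he, hdvd⟩ := exists_multiplicity_of_invariant (N.subgroupOf T) hψ hθ'
    (fun t y => congrFun ((mem_inertia N).mp t.2) (eqv y)) hne
  refine ⟨T.index * e, ?_, ?_⟩
  · rw [← hind, indFun_one_apply, he, map_one]
    push_cast
    ring
  · rw [← Subgroup.relIndex_mul_index hNT, mul_comm]
    exact Nat.mul_dvd_mul_right hdvd _

end Cfsg.Agent.Char
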