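/-
Characters of degree prime to the order of a coprime solvable complement.
-/
import Cfsg.Agent.Lib.Char.CoprimeCount
import Cfsg.Agent.Lib.Char.Degree
import Cfsg.Agent.Lib.Char.ExtensionChar
import Cfsg.Agent.Lib.Char.Gallagher
import Cfsg.Agent.Lib.Char.Multiplicity
import Cfsg.Agent.Lib.Char.Clifford

set_option linter.unusedSectionVars false
set_option linter.style.haveILetI false

namespace Cfsg.Agent.CoprimeDegree

open Cfsg Cfsg.Agent.Char Cfsg.Agent.GlaubermanMod Cfsg.Agent.CharX
open scoped Pointwise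

universe u

variable {G : Type u} [Group G] [Finite G]

/-- An invariant character of a normal Hall subgroup extends. -/
theorem exists_extension_coprime (N : Subgroup G) [hN : N.Normal]
    (hcop : (Nat.card N).Coprime N.index) {θ : N → ℂ} (hθ : IsIrrCharacter N θ)
    (hinv : ∀ g : G, conjChar N g θ = θ) :
    ∃ χ : G → ℂ, IsIrrCharacter G χ ∧ ∀ n : N, χ n = θ n := by
  obtain ⟨d, ρ, hρ, hρθ⟩ := hθ
  have hθ : IsIrrCharacter N θ := ⟨d, ρ, hρ, hρθ⟩
  have hd1 : θ 1 = (charDegree θ : ℂ) := deg_spec (IsIrrCharacter.isCharacter hθ)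
  have hdcop : Nat.Coprime N.index (charDegree θ) :=
    (hcop.coprime_dvd_left (degree_dvd_card hθ hd1)).symm
  have hpow : CharExtend.detHom ρ ^ Nat.card N = 1 := MonoidHom.ext fun n => by
    rw [MonoidHom.pow_apply, ← map_pow, pow_card_eq_one', map_one, MonoidHom.one_apply]
  have hocop : Nat.Coprime N.index (orderOf (CharExtend.detHom ρ)) :=
    (hcop.coprime_dvd_left (orderOf_dvd_of_pow_eq_one (x := CharExtend.detHom ρ)
      (n := Nat.card N) (by exact hpow))).symm
  have hfinv : ∀ (g : G) (n : N),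
      CharExtend.detHom ρ (conjHom N g n) = CharExtend.detHom ρ n := by
    intro g n
    obtain ⟨E⟩ := nonempty_equiv_of_char_eq
      (ρ.comp (conjHom N g) : Representation ℂ N (Fin d → ℂ)) ρ (funext fun k => by
        show ρ.character (conjHom N g k) = ρ.character k
        rw [hρθ]; exact congrFun (hinv g) k)
    exact Units.ext (CharExtend.det_eq_of_equiv E n).symm
  obtain ⟨μ, hμ, -⟩ := CharExtend.exists_linear_extension (CharExtend.detHom ρ) hfinv hocop
  exact CharExtend.exists_extension_det hθ (fun g n => congrFun (hinv g) n) hd1 hdcop μ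
    (fun n => by rw [← hρθ, CharExtend.detChar_eq, hμ])

variable (K H : Subgroup G) [hK : K.Normal]

/-- The action of a subgroup on a normal subgroup. -/
def actOn : H →* MulAut K := (MulAut.conjNormal (H := K)).comp H.subtype

theorem actOn_coe (u : H) (k : K) : ((actOn K H u k : K) : G) = (u : G) * k * (u : G)⁻¹ := rfl

theorem isComplement' (hKH : K ⊔ H = ⊤) (hcop : (Nat.card K).Coprime (Nat.card H)) :
    H.IsComplement' K :=
  Subgroup.isComplement'_of_disjoint_and_mul_eq_univ (Subgroup.disjoint_of_coprime_natCard hcop.symm) (by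
    rw [← Subgroup.mul_normal H K, sup_comm, hKH]; rfl)

theorem isInv_iff (hKH : K ⊔ H = ⊤) {θ : K → ℂ} (hθ : IsIrrCharacter K θ) :
    IsInv (actOn K H) θ ↔ ∀ g : G, conjChar K g θ = θ := by
  refine ⟨fun h g => ?_, fun h u k => congrFun (h u) k⟩
  obtain ⟨a, ha, b, hb, rfl⟩ := Set.mem_mul.1 (show g ∈ (K : Set G) * (H : Set G) by
    rw [← Subgroup.normal_mul, hKH]; exact Subgroup.mem_top g)
  rw [conjChar_mul, conjChar_of_mem K (IsCharacter.isClassFunction
    (IsIrrCharacter.isCharacter hθ)) ha]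
  exact funext fun k => h ⟨b, hb⟩ k

theorem eq_one_of_degree {χ : IrrCharacter G} {e a : ℕ}
    (hc : (charDegree (χ : G → ℂ)).Coprime a) (hd : e ∣ charDegree (χ : G → ℂ)) (he : e ∣ a) :
    e = 1 :=
  Nat.dvd_one.1 (hc ▸ Nat.dvd_gcd hd he)

theorem card_coprime_degree_eq (hKH : K ⊔ H = ⊤)
    (hcop : (Nat.card K).Coprime (Nat.card H)) :
    Nat.card {χ : IrrCharacter G // (charDegree (χ : G → ℂ)).Coprime (Nat.card H)} =
      Nat.card {θ : IrrCharacter K // IsInv (actOn K H) (θ : K → ℂ)} *
        Nat.card {l : IrrCharacter H // (l : H → ℂ) 1 = 1} := by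
  classical
  haveI : Fintype G := Fintype.ofFinite G
  haveI : Fintype K := Fintype.ofFinite _
  have hc := isComplement' K H hKH hcop
  have hidx : K.index = Nat.card H := hc.index_eq_card
  let r : G →* H := hc.QuotientMulEquiv.toMonoidHom.comp (QuotientGroup.mk' K)
  have hrH : ∀ x : H, r (x : G) = x := fun x => hc.QuotientMulEquiv.apply_symm_apply x
  have hrK : ∀ k : K, r (k : G) = 1 := fun k => by
    show hc.QuotientMulEquiv (QuotientGroup.mk' K (k : G)) = 1
    rw [show QuotientGroup.mk' K (k : G) = 1 from (QuotientGroup.eq_one_iff _).2 k.2, map_one]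
  have hrs : Function.Surjective r := fun x => ⟨x, hrH x⟩
  choose ext hext hres using fun θ : {θ : IrrCharacter K // IsInv (actOn K H) (θ : K → ℂ)} =>
    exists_extension_coprime K (hidx ▸ hcop) θ.1.2 ((isInv_iff K H hKH θ.1.2).1 θ.2)
  have hrest : ∀ θ, IsIrrCharacter K (fun n : K => ext θ n) := fun θ => by
    rw [show (fun n : K => ext θ n) = (θ.1 : K → ℂ) from funext (hres θ)]; exact θ.1.2
  let lift : {l : IrrCharacter H // (l : H → ℂ) 1 = 1} → IrrCharacter G := fun l =>
    ⟨_, IsIrrCharacter.comp l.1.2 r hrs⟩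
  have hliftK : ∀ (l) (n : K), (lift l : G → ℂ) n = 1 := fun l n => by
    show (l.1 : H → ℂ) (r n) = 1
    rw [hrK, l.2]
  have hlift1 : ∀ l, (lift l : G → ℂ) 1 = 1 := fun l => by
    show (l.1 : H → ℂ) (r 1) = 1
    rw [map_one, l.2]
  have hmem : ∀ θ l, IsIrrCharacter G ((lift l : G → ℂ) * ext θ) := fun θ l =>
    (gallagher_one K (IsIrrCharacter.isCharacter (hext θ)) (hrest θ)).1 (lift l)
      fun n => by rw [hliftK, hlift1]
  rw [← Nat.card_prod]
  symm
  refine Nat.card_eq_of_bijective (fun p => ⟨⟨_, hmem p.1 p.2⟩, ?_⟩) ⟨?_, ?_⟩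
  · have e : charDegree ((lift p.2 : G → ℂ) * ext p.1) = charDegree (p.1.1 : K → ℂ) := by
      unfold charDegree
      rw [Pi.mul_apply, hlift1, one_mul, ← hres p.1 1, OneMemClass.coe_one]
    show (charDegree ((lift p.2 : G → ℂ) * ext p.1)).Coprime (Nat.card H)
    rw [e]
    exact hcop.coprime_dvd_left (irr_deg_dvd_card p.1.1)
  · rintro ⟨θ, l⟩ ⟨θ', l'⟩ h
    have h' : (lift l : G → ℂ) * ext θ = (lift l' : G → ℂ) * ext θ' :=
      congrArg (fun x => (x.1 : G → ℂ)) h
    have hθ : θ = θ' := by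
      refine Subtype.ext (Subtype.ext (funext fun k => ?_))
      have := congrFun h' (k : G)
      rwa [Pi.mul_apply, Pi.mul_apply, hliftK, hliftK, one_mul, one_mul, hres, hres] at this
    subst hθ
    have hl := (gallagher_one K (IsIrrCharacter.isCharacter (hext θ)) (hrest θ)).2.1 (lift l)
      (lift l') (fun n => by rw [hliftK, hlift1]) (fun n => by rw [hliftK, hlift1]) h'
    refine Prod.ext rfl (Subtype.ext (Subtype.ext (funext fun x => ?_)))
    have := congrFun (congrArg Subtype.val hl) (x : G)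
    show (l.1 : H → ℂ) x = (l'.1 : H → ℂ) x
    simpa [lift, hrH] using this
  · rintro ⟨χ, hχ⟩
    obtain ⟨θ, hθ⟩ := exists_restrict_constituent χ.2 K
    obtain ⟨e, he, hed⟩ := exists_ratio_dvd_index K χ.2 θ.2 hθ
    rw [hidx] at hed
    have hdeg : charDegree (χ : G → ℂ) = e * charDegree (θ : K → ℂ) := by
      apply Nat.cast_injective (R := ℂ)
      rw [Nat.cast_mul, ← irr_deg, ← irr_deg, he]
    have he1 : e = 1 := eq_one_of_degree hχ ⟨_, hdeg⟩ hed
    rw [he1, Nat.cast_one, one_mul] at he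
    have hrt : (fun n : K => (χ : G → ℂ) n) = (θ : K → ℂ) :=
      eq_of_constituent_degree (IsCharacter.restrict (IsIrrCharacter.isCharacter χ.2) K) θ.2 hθ
        (by simpa using he)
    have hinv : IsInv (actOn K H) (θ : K → ℂ) :=
      (isInv_iff K H hKH θ.2).2 (conjChar_restrict K
        (IsCharacter.isClassFunction (IsIrrCharacter.isCharacter χ.2)) (congrFun hrt))
    obtain ⟨β, hβK, hβ⟩ := (gallagher_one K (IsIrrCharacter.isCharacter (hext ⟨θ, hinv⟩))
      (hrest ⟨θ, hinv⟩)).2.2 χ χ.2 (by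
        rwa [show (fun n : K => ext ⟨θ, hinv⟩ n) = (θ : K → ℂ) from funext (hres ⟨θ, hinv⟩)])
    have hβ1 : (β : G → ℂ) 1 = 1 := by
      have h1 := congrFun hβ 1
      have hx : ext ⟨θ, hinv⟩ (1 : G) = (θ : K → ℂ) 1 := by
        rw [← OneMemClass.coe_one K]; exact hres ⟨θ, hinv⟩ 1
      rw [Pi.mul_apply, hx, he] at h1
      exact mul_right_cancel₀ (IsIrrCharacter.one_ne_zero θ.2) (h1.trans (one_mul _).symm)
    obtain ⟨f, hf⟩ := exists_hom_of_degree_one (IsIrrCharacter.isCharacter β.2) hβ1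
    let l : {l : IrrCharacter H // (l : H → ℂ) 1 = 1} :=
      ⟨⟨fun x : H => (β : G → ℂ) x, by
        rw [show (fun x : H => (β : G → ℂ) x) = fun x : H => (f.comp H.subtype x : ℂ) from
          funext fun x => congrFun hf x]
        exact isIrrCharacter_linear _⟩, hβ1⟩
    refine ⟨⟨⟨θ, hinv⟩, l⟩, Subtype.ext (Subtype.ext ?_)⟩
    show (lift l : G → ℂ) * ext ⟨θ, hinv⟩ = (χ : G → ℂ)
    rw [← hβ]
    congr 1
    funext g
    show (β : G → ℂ) (r g : G) = (β : G → ℂ) g
    obtain ⟨a, ha, b, hb, rfl⟩ := Set.mem_mul.1 (show g ∈ (K : Set G) * (H : Set G) by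
      rw [← Subgroup.normal_mul, hKH]; exact Subgroup.mem_top g)
    have hfa : f a = 1 := Units.ext (((congrFun hf a).symm.trans (hβK ⟨a, ha⟩)).trans hβ1)
    rw [congrFun hf, congrFun hf, map_mul r, show r a = 1 from hrK ⟨a, ha⟩, one_mul,
      show r b = ⟨b, hb⟩ from hrH ⟨b, hb⟩, map_mul, hfa, one_mul]

theorem card_classes_fixed :
    Nat.card (ConjClasses (fixedSub (actOn K H))) =
      Nat.card (ConjClasses (K ⊓ Subgroup.centralizer (H : Set G) : Subgroup G)) := by
  refine CoprimeCount.card_classes_congr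
    { toFun := fun x => ⟨((x : K) : G), (x : K).2, Subgroup.mem_centralizer_iff.2 fun u hu => ?_⟩
      invFun := fun y => ⟨⟨(y : G), y.2.1⟩, fun u => Subtype.ext ?_⟩
      left_inv := fun x => rfl
      right_inv := fun y => rfl
      map_mul' := fun _ _ => rfl }
  · have := congrArg Subtype.val (x.2 ⟨u, hu⟩)
    rw [actOn_coe] at this
    exact mul_inv_eq_iff_eq_mul.1 this
  · rw [actOn_coe, Subgroup.mem_centralizer_iff.1 y.2.2 u u.2]
    group

/-- The number of irreducible characters of degree prime to the complement. -/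
theorem card_coprime_degree (hKH : K ⊔ H = ⊤) (hcop : (Nat.card K).Coprime (Nat.card H))
    (hsolv : Group.IsSolvable H) :
    Nat.card {χ : IrrCharacter G // (charDegree (χ : G → ℂ)).Coprime (Nat.card H)} =
      Nat.card (ConjClasses (K ⊓ Subgroup.centralizer (H : Set G) : Subgroup G)) *
        Nat.card (Abelianization H) := by
  haveI : Fintype K := Fintype.ofFinite _
  rw [card_coprime_degree_eq K H hKH hcop,
    CoprimeCount.card_inv_irr_fixed K H (actOn K H) hsolv hcop, card_classes_fixed, card_linear]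
  rfl

theorem card_coprime_degree_normalizer (hKH : K ⊔ H = ⊤)
    (hcop : (Nat.card K).Coprime (Nat.card H)) (hsolv : Group.IsSolvable H) :
    Nat.card {η : IrrCharacter (Subgroup.normalizer (H : Set G)) //
        (charDegree (η : Subgroup.normalizer (H : Set G) → ℂ)).Coprime (Nat.card H)} =
      Nat.card {χ : IrrCharacter G // (charDegree (χ : G → ℂ)).Coprime (Nat.card H)} := by
  rw [card_coprime_degree K H hKH hcop hsolv]
  generalize hN : Subgroup.normalizer (H : Set G) = N
  have hHN : H ≤ N := hN ▸ Subgroup.le_normalizer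
  let e : H.subgroupOf N ≃* H := Subgroup.subgroupOfEquivOfLe hHN
  have hce : Nat.card (H.subgroupOf N) = Nat.card H := Nat.card_congr e.toEquiv
  have hKH' : K.subgroupOf N ⊔ H.subgroupOf N = ⊤ := by
    refine eq_top_iff.2 fun g _ => ?_
    obtain ⟨a, ha, b, hb, hab⟩ := Set.mem_mul.1 (show (g : G) ∈ (K : Set G) * (H : Set G) by
      rw [← Subgroup.normal_mul, hKH]; exact Subgroup.mem_top _)
    have haN : a ∈ N := by
      rw [show a = (g : G) * b⁻¹ by rw [← hab, mul_inv_cancel_right]]
      exact N.mul_mem g.2 (N.inv_mem (hHN hb))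
    rw [show g = ⟨a, haN⟩ * ⟨b, hHN hb⟩ from Subtype.ext hab.symm]
    exact Subgroup.mul_mem_sup ha hb
  have hcop' : (Nat.card (K.subgroupOf N)).Coprime (Nat.card (H.subgroupOf N)) := by
    rw [hce]
    exact hcop.coprime_dvd_left
      (Subgroup.card_comap_dvd_of_injective K N.subtype N.subtype_injective)
  have h := card_coprime_degree (K.subgroupOf N) (H.subgroupOf N) hKH' hcop'
    (by haveI := hsolv; exact Group.isSolvable_of_isSolvable_injective (f := e.toMonoidHom) e.injective)
  rw [hce] at h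
  rw [h, Nat.card_congr e.abelianizationCongr.toEquiv]
  congr 1
  refine CoprimeCount.card_classes_congr
    { toFun := fun x => ⟨((x : N) : G), x.2.1, Subgroup.mem_centralizer_iff.2 fun u hu => ?_⟩
      invFun := fun y => ⟨⟨(y : G), ?_⟩, y.2.1, Subgroup.mem_centralizer_iff.2 fun u hu => ?_⟩
      left_inv := fun x => rfl
      right_inv := fun y => rfl
      map_mul' := fun _ _ => rfl }
  · exact congrArg Subtype.val (Subgroup.mem_centralizer_iff.1 x.2.2 ⟨u, hHN hu⟩ hu)
  · exact hN ▸ Subgroup.centralizer_le_normalizer _ y.2.2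
  · exact Subtype.ext (Subgroup.mem_centralizer_iff.1 y.2.2 u hu)

end Cfsg.Agent.CoprimeDegree
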