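import Cfsg.Agent.Lib.Char.Induction
import Cfsg.Agent.Lib.Char.Isometry
import Cfsg.Prelude.Def_OddOrderChar

/-!
# Coherence: linear algebra on the character lattice
-/

set_option linter.style.haveILetI false
set_option linter.unusedSectionVars false

namespace Cfsg.Agent.Char.Coherence

open scoped ComplexConjugate Classical
open Cfsg

universe u v

variable {L : Type u} [Group L] [Fintype L] {G : Type v} [Group G] [Fintype G]

/-- Functions vanishing outside a set, as a submodule. -/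
def vanishSub (A : Set L) : Submodule ℤ (L → ℂ) where
  carrier := {f | ∀ x, x ∉ A → f x = 0}
  add_mem' {f g} hf hg x hx := by simp [hf x hx, hg x hx]
  zero_mem' x _ := rfl
  smul_mem' n f hf x hx := by simp [hf x hx]

/-- The lattice of combinations vanishing outside a set. -/
def spanOn (S : Set (L → ℂ)) (A : Set L) : Submodule ℤ (L → ℂ) :=
  Submodule.span ℤ S ⊓ vanishSub A

theorem zspanOn_eq (S : Set (L → ℂ)) (A : Set L) : Cfsg.zspanOn S A = ↑(spanOn S A) := rfl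

theorem mem_zspanOn_one {S : Set (L → ℂ)} {θ : L → ℂ} :
    θ ∈ Cfsg.zspanOn S ({1}ᶜ : Set L) ↔ θ ∈ Cfsg.zspan S ∧ θ 1 = 0 := by
  simp [Cfsg.zspanOn]

theorem mem_zspan {S : Set (L → ℂ)} {θ : L → ℂ} :
    θ ∈ Cfsg.zspan S ↔ θ ∈ Submodule.span ℤ S := Iff.rfl

theorem subset_zspan {S : Set (L → ℂ)} {θ : L → ℂ} (h : θ ∈ S) : θ ∈ Cfsg.zspan S :=
  Submodule.subset_span h

theorem zspan_gen {S : Set (L → ℂ)} (hS : ∀ φ ∈ S, Cfsg.IsGeneralizedCharacter L φ) {θ : L → ℂ}
    (hθ : θ ∈ Cfsg.zspan S) : Cfsg.IsGeneralizedCharacter L θ := by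
  induction hθ using Submodule.span_induction with
  | mem x hx => exact hS x hx
  | zero => exact isGeneralizedCharacter_zero
  | add a b _ _ ha hb => exact IsGeneralizedCharacter.add ha hb
  | smul n a _ ha => exact IsGeneralizedCharacter.zsmul ha n

theorem gen_classInner_comm {a b : G → ℂ} (ha : Cfsg.IsGeneralizedCharacter G a)
    (hb : Cfsg.IsGeneralizedCharacter G b) : Cfsg.classInner b a = Cfsg.classInner a b := by
  obtain ⟨k, hk⟩ := IsGeneralizedCharacter.exists_classInner_int ha hb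
  rw [← classInner_conj_symm a b, hk, map_intCast]

theorem classInner_zsmul_left (n : ℤ) (a b : G → ℂ) :
    Cfsg.classInner (n • a) b = (n : ℂ) * Cfsg.classInner a b := by
  rw [← Int.cast_smul_eq_zsmul ℂ, classInner_smul_left]

theorem classInner_zsmul_right (n : ℤ) (a b : G → ℂ) :
    Cfsg.classInner a (n • b) = (n : ℂ) * Cfsg.classInner a b := by
  rw [← Int.cast_smul_eq_zsmul ℂ, classInner_smul_right, map_intCast]

/-! ## Isometries on submodules -/

section iso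

variable {M : Submodule ℤ (L → ℂ)} {τ : (L → ℂ) → (G → ℂ)}
  (hτ : Cfsg.IsLinearIsometryOn (M : Set (L → ℂ)) τ)
include hτ

theorem iso_zero : τ 0 = 0 := by
  have := hτ.2.1 0 M.zero_mem 0
  simpa using this

theorem iso_add {a b : L → ℂ} (ha : a ∈ M) (hb : b ∈ M) : τ (a + b) = τ a + τ b := hτ.1 a ha b hb

theorem iso_zsmul {a : L → ℂ} (ha : a ∈ M) (n : ℤ) : τ (n • a) = n • τ a := hτ.2.1 a ha n

theorem iso_neg {a : L → ℂ} (ha : a ∈ M) : τ (-a) = -τ a := by
  have := iso_zsmul hτ ha (-1)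
  simpa using this

theorem iso_sub {a b : L → ℂ} (ha : a ∈ M) (hb : b ∈ M) : τ (a - b) = τ a - τ b := by
  rw [sub_eq_add_neg, iso_add hτ ha (M.neg_mem hb), iso_neg hτ hb, ← sub_eq_add_neg]

theorem iso_inner {a b : L → ℂ} (ha : a ∈ M) (hb : b ∈ M) :
    Cfsg.classInner (τ a) (τ b) = Cfsg.classInner a b := hτ.2.2.1 a ha b hb

theorem iso_gen {a : L → ℂ} (ha : a ∈ M) : Cfsg.IsGeneralizedCharacter G (τ a) := hτ.2.2.2 a ha

end iso

/-! ## Orthogonal families -/

/-- A finite orthogonal family of virtual characters of nonzero norm. -/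
structure IsOrth (T : Finset (L → ℂ)) : Prop where
  gen : ∀ φ ∈ T, Cfsg.IsGeneralizedCharacter L φ
  ne : ∀ φ ∈ T, Cfsg.classInner φ φ ≠ 0
  orth : ∀ φ ∈ T, ∀ ψ ∈ T, φ ≠ ψ → Cfsg.classInner φ ψ = 0

/-- The linear map with prescribed values on an orthogonal family. -/
noncomputable def extend (T : Finset (L → ℂ)) (v : (L → ℂ) → (G → ℂ)) (θ : L → ℂ) : G → ℂ :=
  ∑ φ ∈ T, (Cfsg.classInner θ φ / Cfsg.classInner φ φ) • v φ

theorem extend_add (T : Finset (L → ℂ)) (v : (L → ℂ) → (G → ℂ)) (a b : L → ℂ) :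
    extend T v (a + b) = extend T v a + extend T v b := by
  simp [extend, classInner_add_left, add_div, add_smul, Finset.sum_add_distrib]

theorem extend_smul (T : Finset (L → ℂ)) (v : (L → ℂ) → (G → ℂ)) (c : ℂ) (a : L → ℂ) :
    extend T v (c • a) = c • extend T v a := by
  simp [extend, classInner_smul_left, mul_div_assoc, mul_smul, Finset.smul_sum]

theorem extend_zsmul (T : Finset (L → ℂ)) (v : (L → ℂ) → (G → ℂ)) (n : ℤ) (a : L → ℂ) :
    extend T v (n • a) = n • extend T v a := by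
  rw [← Int.cast_smul_eq_zsmul ℂ, extend_smul, Int.cast_smul_eq_zsmul]

theorem extend_sub (T : Finset (L → ℂ)) (v : (L → ℂ) → (G → ℂ)) (a b : L → ℂ) :
    extend T v (a - b) = extend T v a - extend T v b := by
  rw [eq_sub_iff_add_eq, ← extend_add, sub_add_cancel]

theorem extend_zero (T : Finset (L → ℂ)) (v : (L → ℂ) → (G → ℂ)) : extend T v 0 = 0 := by
  simpa using extend_smul T v 0 0

theorem extend_basis {T : Finset (L → ℂ)} (hT : IsOrth T) (v : (L → ℂ) → (G → ℂ)) {φ : L → ℂ}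
    (hφ : φ ∈ T) : extend T v φ = v φ := by
  rw [extend, Finset.sum_eq_single φ]
  · rw [div_self (hT.ne φ hφ), one_smul]
  · intro b hb hne
    rw [hT.orth φ hφ b hb hne.symm, zero_div, zero_smul]
  · exact fun h => absurd hφ h

theorem isLinearIsometryOn_extend {T : Finset (L → ℂ)} (hT : IsOrth T)
    {v : (L → ℂ) → (G → ℂ)} (hv : ∀ φ ∈ T, Cfsg.IsGeneralizedCharacter G (v φ))
    (hgram : ∀ φ ∈ T, ∀ ψ ∈ T, Cfsg.classInner (v φ) (v ψ) = Cfsg.classInner φ ψ) :
    Cfsg.IsLinearIsometryOn (Cfsg.zspan (↑T : Set (L → ℂ))) (extend T v) := by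
  refine ⟨fun a _ b _ => extend_add T v a b, fun a _ n => extend_zsmul T v n a, ?_, ?_⟩
  · intro a ha b hb
    induction ha using Submodule.span_induction with
    | mem x hx =>
      induction hb using Submodule.span_induction with
      | mem y hy => rw [extend_basis hT v hx, extend_basis hT v hy, hgram x hx y hy]
      | zero => simp [extend_zero]
      | add p q _ _ hp hq => rw [extend_add, classInner_add_right, classInner_add_right, hp, hq]
      | smul n p _ hp => rw [extend_zsmul, classInner_zsmul_right, classInner_zsmul_right, hp]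
    | zero => simp [extend_zero]
    | add p q _ _ hp hq => rw [extend_add, classInner_add_left, classInner_add_left, hp, hq]
    | smul n p _ hp => rw [extend_zsmul, classInner_zsmul_left, classInner_zsmul_left, hp]
  · intro a ha
    induction ha using Submodule.span_induction with
    | mem x hx => rw [extend_basis hT v hx]; exact hv x hx
    | zero => rw [extend_zero]; exact isGeneralizedCharacter_zero
    | add p q _ _ hp hq => rw [extend_add]; exact IsGeneralizedCharacter.add hp hq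
    | smul n p _ hp => rw [extend_zsmul]; exact IsGeneralizedCharacter.zsmul hp n

theorem isCoherent_extend {T : Finset (L → ℂ)} (hT : IsOrth T) {A : Set L}
    {τ : (L → ℂ) → (G → ℂ)} (hne : ∃ α ∈ Cfsg.zspanOn (↑T : Set (L → ℂ)) A, α ≠ 0)
    (v : (L → ℂ) → (G → ℂ)) (hv : ∀ φ ∈ T, Cfsg.IsGeneralizedCharacter G (v φ))
    (hgram : ∀ φ ∈ T, ∀ ψ ∈ T, Cfsg.classInner (v φ) (v ψ) = Cfsg.classInner φ ψ)
    (hagree : ∀ α ∈ Cfsg.zspanOn (↑T : Set (L → ℂ)) A, extend T v α = τ α) :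
    Cfsg.IsCoherent (↑T : Set (L → ℂ)) A τ :=
  ⟨hne, extend T v, isLinearIsometryOn_extend hT hv hgram, hagree⟩

/-- Bessel's inequality. -/
theorem bessel {ι : Type*} (s : Finset ι) (w : ι → G → ℂ) (n b : ι → ℝ)
    (hn : ∀ i ∈ s, 0 < n i) (horth : ∀ i ∈ s, ∀ j ∈ s, i ≠ j → Cfsg.classInner (w i) (w j) = 0)
    (hnorm : ∀ i ∈ s, Cfsg.classInner (w i) (w i) = (n i : ℂ)) {x : G → ℂ}
    (hb : ∀ i ∈ s, Cfsg.classInner x (w i) = (b i : ℂ)) {N : ℝ}
    (hx : Cfsg.classInner x x = (N : ℂ)) :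
    ∑ i ∈ s, b i ^ 2 / n i ≤ N ∧
      (N ≤ ∑ i ∈ s, b i ^ 2 / n i → x = ∑ i ∈ s, ((b i / n i : ℝ) : ℂ) • w i) := by
  set p := ∑ i ∈ s, ((b i / n i : ℝ) : ℂ) • w i with hp
  set Q := ∑ i ∈ s, b i ^ 2 / n i with hQ
  have hpw : ∀ j ∈ s, Cfsg.classInner p (w j) = (b j : ℂ) := by
    intro j hj
    rw [hp, classInner_sum_left, Finset.sum_eq_single j]
    · rw [classInner_smul_left, hnorm j hj, ← Complex.ofReal_mul, div_mul_cancel₀ _ (hn j hj).ne']
    · intro i hi hne
      rw [classInner_smul_left, horth i hi j hj hne, mul_zero]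
    · exact fun h => absurd hj h
  have key : ∀ y : G → ℂ, (∀ j ∈ s, Cfsg.classInner y (w j) = (b j : ℂ)) →
      Cfsg.classInner y p = (Q : ℂ) := by
    intro y hy
    rw [hp, classInner_sum_right, hQ, Complex.ofReal_sum]
    refine Finset.sum_congr rfl fun i hi => ?_
    rw [classInner_smul_right, Complex.conj_ofReal, hy i hi, ← Complex.ofReal_mul]
    congr 1
    ring
  have hxp := key x hb
  have hpp := key p hpw
  have hpx : Cfsg.classInner p x = (Q : ℂ) := by
    rw [← classInner_conj_symm x p, hxp, Complex.conj_ofReal]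
  have hres : Cfsg.classInner (x - p) (x - p) = ((N - Q : ℝ) : ℂ) := by
    rw [classInner_sub_left, classInner_sub_right, classInner_sub_right, hx, hxp, hpp, hpx]
    push_cast
    ring
  have h0 := classInner_self_nonneg (x - p)
  rw [hres, Complex.ofReal_re] at h0
  refine ⟨by linarith, fun hle => ?_⟩
  refine sub_eq_zero.mp (classInner_self_eq_zero ?_)
  rw [hres, show N - Q = 0 by linarith, Complex.ofReal_zero]

/-- Two differences of irreducible characters that are orthogonal involve four different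
characters. -/
theorem disjoint_of_diff {μ ν μ' ν' : Cfsg.IrrCharacter G} (h1 : μ ≠ ν) (h2 : μ' ≠ ν')
    (h : Cfsg.classInner ((μ : G → ℂ) - (ν : G → ℂ)) ((μ' : G → ℂ) - (ν' : G → ℂ)) = 0) :
    μ ≠ μ' ∧ μ ≠ ν' ∧ ν ≠ μ' ∧ ν ≠ ν' := by
  rw [classInner_diff] at h
  have h' : (if μ = μ' then 1 else 0) + (if ν = ν' then 1 else 0) - (if μ = ν' then 1 else 0) -
      (if ν = μ' then (1 : ℤ) else 0) = 0 := by exact_mod_cast h
  split_ifs at h' <;> first | exact ⟨‹_›, ‹_›, ‹_›, ‹_›⟩ | omega | (exfalso; simp_all)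

/-! ## Coherence systems -/

section sys

variable {S : Set (L → ℂ)} {τ : (L → ℂ) → (G → ℂ)} {R : (L → ℂ) → Finset (G → ℂ)}
  (hS : Cfsg.IsCoherenceSystem S τ R)
include hS

theorem sys_gen {φ : L → ℂ} (hφ : φ ∈ S) : Cfsg.IsGeneralizedCharacter L φ :=
  IsGeneralizedCharacter.of_isCharacter (hS.isCharacter φ hφ)

theorem sys_norm {φ : L → ℂ} (hφ : φ ∈ S) :
    ∃ n : ℕ, 0 < n ∧ Cfsg.classInner φ φ = n := by
  obtain ⟨n, hn⟩ := IsCharacter.exists_classInner_nat (hS.isCharacter φ hφ) (hS.isCharacter φ hφ)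
  refine ⟨n, Nat.pos_of_ne_zero ?_, hn⟩
  rintro rfl
  have := classInner_self_eq_zero (by simpa using hn)
  exact hS.conj_ne φ hφ (by rw [this]; funext x; simp [Cfsg.conjFun])

theorem sys_norm_ne {φ : L → ℂ} (hφ : φ ∈ S) : Cfsg.classInner φ φ ≠ 0 := by
  obtain ⟨n, hn, e⟩ := sys_norm hS hφ
  rw [e]; exact Nat.cast_ne_zero.mpr hn.ne'

theorem sys_isOrth {T : Finset (L → ℂ)} (hT : ↑T ⊆ S) : IsOrth T :=
  ⟨fun _ h => sys_gen hS (hT h), fun _ h => sys_norm_ne hS (hT h),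
    fun φ h ψ h' => hS.orthogonal φ (hT h) ψ (hT h')⟩

theorem sys_finite : S.Finite := by
  have : LinearIndependent ℂ (fun χ : S => (χ : L → ℂ)) := by
    rw [linearIndependent_iff']
    intro s c hc χ hχ
    have := congrArg (fun f => Cfsg.classInner f (χ : L → ℂ)) hc
    simp only [classInner_sum_left, classInner_smul_left, classInner_zero_left] at this
    rw [Finset.sum_eq_single χ] at this
    · exact (mul_eq_zero.mp this).resolve_right (sys_norm_ne hS χ.2)
    · intro b _ hb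
      rw [hS.orthogonal b b.2 χ χ.2 (fun e => hb (Subtype.ext e)), mul_zero]
    · exact fun h => absurd hχ h
  haveI := this.finite
  exact Set.toFinite S

theorem conj_one {φ : L → ℂ} (hφ : φ ∈ S) : Cfsg.conjFun φ 1 = φ 1 := by
  obtain ⟨d, hd⟩ := IsCharacter.exists_degree (hS.isCharacter φ hφ)
  simp [Cfsg.conjFun, hd]

theorem diff_mem {φ : L → ℂ} (hφ : φ ∈ S) :
    φ - Cfsg.conjFun φ ∈ Cfsg.zspanOn S ({1}ᶜ : Set L) :=
  mem_zspanOn_one.mpr ⟨Submodule.sub_mem _ (Submodule.subset_span hφ)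
    (Submodule.subset_span (hS.conj_mem φ hφ)), by simp [conj_one hS hφ]⟩

theorem inner_diff {φ : L → ℂ} (hφ : φ ∈ S) :
    Cfsg.classInner φ (φ - Cfsg.conjFun φ) = Cfsg.classInner φ φ := by
  rw [classInner_sub_right,
    hS.orthogonal φ hφ _ (hS.conj_mem φ hφ) (hS.conj_ne φ hφ).symm, sub_zero]

theorem conj_norm {φ : L → ℂ} (hφ : φ ∈ S) :
    Cfsg.classInner (Cfsg.conjFun φ) (Cfsg.conjFun φ) = Cfsg.classInner φ φ := by
  obtain ⟨n, -, hn⟩ := sys_norm hS hφ
  have : Cfsg.classInner (Cfsg.conjFun φ) (Cfsg.conjFun φ) =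
      conj (Cfsg.classInner φ φ) := by
    simp [Cfsg.classInner, Cfsg.conjFun]
  rw [this, hn, map_natCast]

/-- The coefficients of a virtual character on `R χ`. -/
theorem exists_coeff_R {χ : L → ℂ} (hχ : χ ∈ S) {x : G → ℂ}
    (hx : Cfsg.IsGeneralizedCharacter G x) {n : ℕ}
    (hxn : Cfsg.classInner x (τ (χ - Cfsg.conjFun χ)) = n) :
    ∃ a : (G → ℂ) → ℤ, (∀ α ∈ R χ, Cfsg.classInner x α = a α) ∧
      (n : ℤ) ≤ ∑ α ∈ R χ, a α ^ 2 ∧
      (∑ α ∈ R χ, a α ^ 2 ≤ (n : ℤ) → ∀ α ∈ R χ, a α = 0 ∨ a α = 1) := by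
  have h : ∀ α : G → ℂ, ∃ k : ℤ, α ∈ R χ → Cfsg.classInner x α = k := by
    intro α
    by_cases hα : α ∈ R χ
    · obtain ⟨k, hk⟩ := IsGeneralizedCharacter.exists_classInner_int hx (hS.virtual χ hχ α hα)
      exact ⟨k, fun _ => hk⟩
    · exact ⟨0, fun h => absurd h hα⟩
  choose a ha using h
  have hsum : ∑ α ∈ R χ, a α = (n : ℤ) := by
    have : ((∑ α ∈ R χ, a α : ℤ) : ℂ) = n := by
      rw [← hxn, hS.sum_eq χ hχ, classInner_sum_right, Int.cast_sum]
      exact Finset.sum_congr rfl fun α hα => (ha α hα).symm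
    exact_mod_cast this
  have hle : ∀ k : ℤ, k ≤ k ^ 2 := fun k => Int.le_self_sq k
  refine ⟨a, ha, hsum ▸ Finset.sum_le_sum fun α _ => hle _, fun h α hα => ?_⟩
  rw [← hsum] at h
  have := (Finset.sum_eq_sum_iff_of_le fun β _ => hle (a β)).mp
    (le_antisymm (Finset.sum_le_sum fun β _ => hle (a β)) h) α hα
  rcases eq_or_ne (a α) 0 with e | e
  · exact Or.inl e
  · right
    have h2 : a α * a α = a α * 1 := by rw [mul_one, ← sq]; exact this.symm
    exact mul_left_cancel₀ e h2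

/-- A coherent isometry sends a member into the span of its `R`. -/
theorem coherent_in_span {T : Set (L → ℂ)} {τ₁ : (L → ℂ) → (G → ℂ)}
    (hτ₁ : Cfsg.IsLinearIsometryOn (Cfsg.zspan T) τ₁)
    (hag : ∀ α ∈ Cfsg.zspanOn T ({1}ᶜ : Set L), τ₁ α = τ α)
    {φ : L → ℂ} (hφS : φ ∈ S) (hφ : φ ∈ T) (hφ' : Cfsg.conjFun φ ∈ T) :
    ∃ a : (G → ℂ) → ℤ, τ₁ φ = ∑ α ∈ R φ, (a α : ℂ) • α := by
  obtain ⟨n, -, hn⟩ := sys_norm hS hφS
  have hd : φ - Cfsg.conjFun φ ∈ Cfsg.zspanOn T ({1}ᶜ : Set L) :=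
    mem_zspanOn_one.mpr ⟨Submodule.sub_mem _ (Submodule.subset_span hφ)
      (Submodule.subset_span hφ'), by simp [conj_one hS hφS]⟩
  obtain ⟨a, ha, hle, -⟩ := exists_coeff_R hS hφS (iso_gen hτ₁ (subset_zspan hφ)) (n := n)
    (by rw [← hag _ hd, iso_inner hτ₁ (subset_zspan hφ) (mem_zspanOn_one.mp hd).1,
      inner_diff hS hφS, hn])
  refine ⟨a, ?_⟩
  have hb := bessel (R φ) (fun α => α) (fun _ => 1) (fun α => (a α : ℝ)) (fun _ _ => one_pos)
    (fun α hα β hβ h => by simpa [h] using hS.orthonormal φ hφS α hα β hβ)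
    (fun α hα => by simpa using hS.orthonormal φ hφS α hα α hα)
    (x := τ₁ φ) (fun α hα => by simpa using ha α hα) (N := (n : ℝ))
    (by rw [iso_inner hτ₁ (subset_zspan hφ) (subset_zspan hφ), hn]; simp)
  refine (hb.2 ?_).trans (Finset.sum_congr rfl fun α _ => by simp)
  simp only [div_one]
  exact_mod_cast hle

/-- Spans of `R`s of unrelated members are orthogonal. -/
theorem orth_span {χ φ : L → ℂ} (hχ : χ ∈ S) (hφ : φ ∈ S) (h1 : φ ≠ χ)
    (h2 : φ ≠ Cfsg.conjFun χ) (a : (G → ℂ) → ℤ) {β : G → ℂ} (hβ : β ∈ R χ) :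
    Cfsg.classInner (∑ α ∈ R φ, (a α : ℂ) • α) β = 0 := by
  rw [classInner_sum_left]
  refine Finset.sum_eq_zero fun α hα => ?_
  rw [classInner_smul_left, hS.disjoint χ hχ φ hφ (hS.orthogonal φ hφ χ hχ h1)
    (hS.orthogonal φ hφ _ (hS.conj_mem χ hχ) h2) α hα β hβ, mul_zero]

end sys

end Cfsg.Agent.Char.Coherence
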