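import Cfsg.Agent.Lib.Char.Coherence

/-!
# Coherence theorems
-/

set_option linter.style.haveILetI false
set_option linter.unusedSectionVars false

namespace Cfsg.Agent.Char.Coherence

open scoped ComplexConjugate Classical
open Cfsg

universe u v

variable {L : Type u} [Group L] [Fintype L] {G : Type v} [Group G] [Fintype G]

theorem irr_gen {χ : L → ℂ} (h : Cfsg.IsIrrCharacter L χ) : Cfsg.IsGeneralizedCharacter L χ :=
  IsGeneralizedCharacter.of_isCharacter (IsIrrCharacter.isCharacter h)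

theorem conjFun_one {χ : L → ℂ} (h : Cfsg.IsIrrCharacter L χ) : Cfsg.conjFun χ 1 = χ 1 := by
  obtain ⟨d, -, hd⟩ := IsIrrCharacter.exists_degree h
  simp [Cfsg.conjFun, hd]

theorem irr_isOrth {T : Finset (L → ℂ)} (hT : ∀ φ ∈ T, Cfsg.IsIrrCharacter L φ) : IsOrth T :=
  ⟨fun φ h => irr_gen (hT φ h), fun φ h => by rw [classInner_self_irr (hT φ h)]; exact one_ne_zero,
    fun φ h ψ h' hne => classInner_irr_of_ne (hT φ h) (hT ψ h') hne⟩

/-- Signs of an isometry that preserves vanishing at one. -/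
theorem exists_sign {S : Set (L → ℂ)} (hirr : ∀ χ ∈ S, Cfsg.IsIrrCharacter L χ) (hne : S.Nonempty)
    {τ₁ : (L → ℂ) → (G → ℂ)} (hτ₁ : Cfsg.IsLinearIsometryOn (Cfsg.zspan S) τ₁)
    (h0 : ∀ α ∈ Cfsg.zspan S, α 1 = 0 → τ₁ α 1 = 0) :
    ∃ ε : ℂ, (ε = 1 ∨ ε = -1) ∧ (∀ χ ∈ S, Cfsg.IsIrrCharacter G (ε • τ₁ χ)) ∧
      (∀ χ ∈ S, ∀ ψ ∈ S, τ₁ χ = τ₁ ψ → χ = ψ) := by
  have hone : ∀ χ ∈ S, Cfsg.IsIrrCharacter G (τ₁ χ) ∨ Cfsg.IsIrrCharacter G (-τ₁ χ) := fun χ hχ =>
    IsGeneralizedCharacter.of_norm_one (iso_gen hτ₁ (subset_zspan hχ))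
      (by rw [iso_inner hτ₁ (subset_zspan hχ) (subset_zspan hχ), classInner_self_irr (hirr χ hχ)])
  have hinj : ∀ χ ∈ S, ∀ ψ ∈ S, τ₁ χ = τ₁ ψ → χ = ψ := by
    intro χ hχ ψ hψ e
    by_contra hc
    have h := iso_inner hτ₁ (subset_zspan hχ) (subset_zspan hψ)
    rw [e, iso_inner hτ₁ (subset_zspan hψ) (subset_zspan hψ), classInner_self_irr (hirr ψ hψ),
      classInner_irr_of_ne (hirr χ hχ) (hirr ψ hψ) hc] at h
    exact one_ne_zero h
  have hprop : ∀ χ ∈ S, ∀ ψ ∈ S, ψ 1 * τ₁ χ 1 = χ 1 * τ₁ ψ 1 := by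
    intro χ hχ ψ hψ
    obtain ⟨a, -, ha⟩ := IsIrrCharacter.exists_degree (hirr χ hχ)
    obtain ⟨b, -, hb⟩ := IsIrrCharacter.exists_degree (hirr ψ hψ)
    have hm : (b : ℤ) • χ - (a : ℤ) • ψ ∈ Cfsg.zspan S :=
      Submodule.sub_mem _ (Submodule.smul_mem _ _ (subset_zspan hχ))
        (Submodule.smul_mem _ _ (subset_zspan hψ))
    have h := h0 _ hm (by simp [ha, hb, mul_comm])
    rw [iso_sub hτ₁ (Submodule.smul_mem _ _ (subset_zspan hχ))
      (Submodule.smul_mem _ _ (subset_zspan hψ)), iso_zsmul hτ₁ (subset_zspan hχ),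
      iso_zsmul hτ₁ (subset_zspan hψ)] at h
    simp only [Pi.sub_apply, Pi.smul_apply, zsmul_eq_mul, Int.cast_natCast] at h
    rw [ha, hb, ← sub_eq_zero]
    exact h
  obtain ⟨χ₀, hχ₀⟩ := hne
  have key : ∀ ε : ℂ, (ε = 1 ∨ ε = -1) → Cfsg.IsIrrCharacter G (ε • τ₁ χ₀) →
      ∀ χ ∈ S, Cfsg.IsIrrCharacter G (ε • τ₁ χ) := by
    intro ε hε h₀ χ hχ
    have h := hone χ hχ
    by_contra hc
    have hneg : Cfsg.IsIrrCharacter G (-(ε • τ₁ χ)) := by
      rcases hε with rfl | rfl <;> rcases h with h | h <;> simp_all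
    obtain ⟨a, ha0, ha⟩ := IsIrrCharacter.exists_degree (hirr χ hχ)
    obtain ⟨b, hb0, hb⟩ := IsIrrCharacter.exists_degree (hirr χ₀ hχ₀)
    obtain ⟨p, hp0, hp⟩ := IsIrrCharacter.exists_degree hneg
    obtain ⟨q, hq0, hq⟩ := IsIrrCharacter.exists_degree h₀
    have e := hprop χ hχ χ₀ hχ₀
    rw [ha, hb] at e
    simp only [Pi.smul_apply, Pi.neg_apply, smul_eq_mul] at hp hq
    have h2 : (b : ℂ) * p + a * q = 0 := by rw [← hp, ← hq]; linear_combination ε * -e
    have h3 : b * p + a * q = 0 := by exact_mod_cast h2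
    nlinarith [Nat.mul_pos hb0 hp0]
  rcases hone χ₀ hχ₀ with h | h
  · exact ⟨1, Or.inl rfl, key 1 (Or.inl rfl) (by rwa [one_smul]), hinj⟩
  · exact ⟨-1, Or.inr rfl, key (-1) (Or.inr rfl) (by simpa using h), hinj⟩

/-- Existence of a coherence system for irreducible characters. -/
theorem exists_system {S : Set (L → ℂ)} (hS : S.Nonempty) (hirr : ∀ χ ∈ S, Cfsg.IsIrrCharacter L χ)
    (hconj : ∀ χ ∈ S, Cfsg.conjFun χ ∈ S ∧ Cfsg.conjFun χ ≠ χ) {τ : (L → ℂ) → (G → ℂ)}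
    (hτ : Cfsg.IsLinearIsometryOn (Cfsg.zspanOn S ({1}ᶜ : Set L)) τ)
    (hτ1 : ∀ α ∈ Cfsg.zspanOn S ({1}ᶜ : Set L), τ α 1 = 0) :
    ∃ R : (L → ℂ) → Finset (G → ℂ), Cfsg.IsCoherenceSystem S τ R := by
  have hd : ∀ χ ∈ S, χ - Cfsg.conjFun χ ∈ spanOn S ({1}ᶜ : Set L) := fun χ hχ =>
    mem_zspanOn_one.mpr ⟨Submodule.sub_mem _ (Submodule.subset_span hχ)
      (Submodule.subset_span (hconj χ hχ).1), by simp [conjFun_one (hirr χ hχ)]⟩
  have hinn : ∀ χ ∈ S, ∀ φ ∈ S, Cfsg.classInner φ χ = 0 → Cfsg.classInner φ (Cfsg.conjFun χ) = 0 →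
      Cfsg.classInner (φ - Cfsg.conjFun φ) (χ - Cfsg.conjFun χ) = 0 := by
    intro χ hχ φ hφ h1 h2
    have i1 := hirr χ hχ
    have i2 := hirr φ hφ
    have i3 := hirr _ (hconj χ hχ).1
    have i4 := hirr _ (hconj φ hφ).1
    have n1 : φ ≠ χ := fun e => by rw [e, classInner_self_irr i1] at h1; exact one_ne_zero h1
    have n2 : φ ≠ Cfsg.conjFun χ := fun e => by rw [e, classInner_self_irr i3] at h2; exact one_ne_zero h2
    have cc : ∀ f : L → ℂ, Cfsg.conjFun (Cfsg.conjFun f) = f := fun f => by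
      funext x; simp [Cfsg.conjFun]
    have n3 : Cfsg.conjFun φ ≠ χ := fun e => n2 (by rw [← e, cc])
    have n4 : Cfsg.conjFun φ ≠ Cfsg.conjFun χ := fun e => n1 (by rw [← cc φ, e, cc])
    simp [classInner_sub_left, classInner_sub_right, h1, h2, classInner_irr_of_ne i4 i1 n3,
      classInner_irr_of_ne i4 i3 n4]
  have hex : ∀ χ : L → ℂ, ∃ p : Cfsg.IrrCharacter G × Cfsg.IrrCharacter G, χ ∈ S →
      p.1 ≠ p.2 ∧ τ (χ - Cfsg.conjFun χ) = (p.1 : G → ℂ) - (p.2 : G → ℂ) := by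
    intro χ
    by_cases hχ : χ ∈ S
    · obtain ⟨μ, ν, hne, e⟩ := IsGeneralizedCharacter.of_norm_two (hτ.2.2.2 _ (hd χ hχ))
        (by
          rw [hτ.2.2.1 _ (hd χ hχ) _ (hd χ hχ)]
          simp [classInner_sub_left, classInner_sub_right, classInner_self_irr (hirr χ hχ),
            classInner_self_irr (hirr _ (hconj χ hχ).1),
            classInner_irr_of_ne (hirr χ hχ) (hirr _ (hconj χ hχ).1) (hconj χ hχ).2.symm,
            classInner_irr_of_ne (hirr _ (hconj χ hχ).1) (hirr χ hχ) (hconj χ hχ).2]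
          norm_num)
        (hτ1 _ (hd χ hχ))
      exact ⟨(μ, ν), fun _ => ⟨hne, e⟩⟩
    · exact ⟨(principal G, principal G), fun h => absurd h hχ⟩
  choose p hp using hex
  have hneg : ∀ μ ν : Cfsg.IrrCharacter G, (μ : G → ℂ) ≠ -(ν : G → ℂ) := by
    intro μ ν e
    obtain ⟨a, ha, ea⟩ := IsIrrCharacter.exists_degree μ.2
    obtain ⟨b, hb, eb⟩ := IsIrrCharacter.exists_degree ν.2
    have := congrFun e 1
    rw [Pi.neg_apply, ea, eb, eq_neg_iff_add_eq_zero] at this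
    have : a + b = 0 := by exact_mod_cast this
    omega
  refine ⟨fun χ => {((p χ).1 : G → ℂ), -((p χ).2 : G → ℂ)},
    ⟨hS, fun χ hχ => IsIrrCharacter.isCharacter (hirr χ hχ), fun χ hχ => (hconj χ hχ).1,
      fun χ hχ => (hconj χ hχ).2, hτ, hτ1,
      fun χ hχ φ hφ h => classInner_irr_of_ne (hirr χ hχ) (hirr φ hφ) h, ?_, ?_, ?_, ?_⟩⟩
  · intro χ hχ α hα β hβ
    obtain ⟨hne, -⟩ := hp χ hχ
    have hne' : ((p χ).1 : G → ℂ) ≠ ((p χ).2 : G → ℂ) := fun e => hne (Subtype.ext e)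
    simp only [Finset.mem_insert, Finset.mem_singleton] at hα hβ
    rcases hα with rfl | rfl <;> rcases hβ with rfl | rfl
    · rw [if_pos rfl, classInner_self_irr (p χ).1.2]
    · rw [if_neg (hneg _ _), classInner_neg_right,
        classInner_irr_of_ne (p χ).1.2 (p χ).2.2 hne', neg_zero]
    · rw [if_neg (hneg _ _).symm, classInner_neg_left,
        classInner_irr_of_ne (p χ).2.2 (p χ).1.2 hne'.symm, neg_zero]
    · rw [if_pos rfl, classInner_neg_left, classInner_neg_right, neg_neg,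
        classInner_self_irr (p χ).2.2]
  · intro χ hχ α hα
    simp only [Finset.mem_insert, Finset.mem_singleton] at hα
    rcases hα with rfl | rfl
    · exact irr_gen (p χ).1.2
    · exact IsGeneralizedCharacter.neg (irr_gen (p χ).2.2)
  · intro χ hχ
    rw [Finset.sum_pair (hneg _ _), (hp χ hχ).2, sub_eq_add_neg]
  · intro χ hχ φ hφ h1 h2 α hα β hβ
    have h := hτ.2.2.1 _ (hd φ hφ) _ (hd χ hχ)
    rw [hinn χ hχ φ hφ h1 h2, (hp φ hφ).2, (hp χ hχ).2] at h
    obtain ⟨e1, e2, e3, e4⟩ := disjoint_of_diff (hp φ hφ).1 (hp χ hχ).1 h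
    simp only [Finset.mem_insert, Finset.mem_singleton] at hα hβ
    rcases hα with rfl | rfl <;> rcases hβ with rfl | rfl <;>
      simp [classInner_neg_left, classInner_neg_right,
        classInner_irr_of_ne (p φ).1.2 (p χ).1.2 (fun e => e1 (Subtype.ext e)),
        classInner_irr_of_ne (p φ).1.2 (p χ).2.2 (fun e => e2 (Subtype.ext e)),
        classInner_irr_of_ne (p φ).2.2 (p χ).1.2 (fun e => e3 (Subtype.ext e)),
        classInner_irr_of_ne (p φ).2.2 (p χ).2.2 (fun e => e4 (Subtype.ext e))]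

theorem diff_ne {S : Set (L → ℂ)} {τ : (L → ℂ) → (G → ℂ)} {R : (L → ℂ) → Finset (G → ℂ)}
    (hS : Cfsg.IsCoherenceSystem S τ R) {φ : L → ℂ} (hφ : φ ∈ S) : φ - Cfsg.conjFun φ ≠ 0 :=
  sub_ne_zero.mpr (hS.conj_ne φ hφ).symm

theorem conjFun_conjFun (f : L → ℂ) : Cfsg.conjFun (Cfsg.conjFun f) = f := by
  funext x; simp [Cfsg.conjFun]

/-- Equal degrees give coherence. -/
theorem coherent_of_equal_degree {S : Set (L → ℂ)} {τ : (L → ℂ) → (G → ℂ)}
    {R : (L → ℂ) → Finset (G → ℂ)} (hS : Cfsg.IsCoherenceSystem S τ R)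
    (hdeg : ∀ φ ∈ S, ∀ ψ ∈ S, φ 1 = ψ 1) : Cfsg.IsCoherent S ({1}ᶜ : Set L) τ := by
  obtain ⟨χ, hχ⟩ := hS.nonempty
  obtain ⟨n, hn0, hn⟩ := sys_norm hS hχ
  obtain ⟨d, hd⟩ := IsCharacter.exists_degree (hS.isCharacter χ hχ)
  have hiso : Cfsg.IsLinearIsometryOn (spanOn S ({1}ᶜ : Set L) : Set (L → ℂ)) τ := hS.isometry
  have hdiff : ∀ φ ∈ S, χ - φ ∈ spanOn S ({1}ᶜ : Set L) := fun φ hφ =>
    mem_zspanOn_one.mpr ⟨Submodule.sub_mem _ (Submodule.subset_span hχ)
      (Submodule.subset_span hφ), by simp [hdeg φ hφ χ hχ]⟩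
  have hχ' := hS.conj_mem χ hχ
  have hdec : ∀ φ ∈ S, φ ≠ χ → φ ≠ Cfsg.conjFun χ → ∃ a b : (G → ℂ) → ℤ,
      τ (χ - φ) = (∑ α ∈ R χ, (a α : ℂ) • α) - ∑ α ∈ R φ, (b α : ℂ) • α ∧
      ∑ α ∈ R χ, a α ^ 2 = (n : ℤ) ∧ ∀ α ∈ R χ, a α = 0 ∨ a α = 1 := by
    intro φ hφ n1 n2
    obtain ⟨m, -, hm⟩ := sys_norm hS hφ
    have hg := iso_gen hiso (hdiff φ hφ)
    have o1 := hS.orthogonal φ hφ χ hχ n1
    have o2 := hS.orthogonal φ hφ _ hχ' n2
    have o1' := hS.orthogonal χ hχ φ hφ n1.symm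
    have o3 : Cfsg.classInner χ (Cfsg.conjFun φ) = 0 :=
      hS.orthogonal χ hχ _ (hS.conj_mem φ hφ) fun e => n2 (by rw [e, conjFun_conjFun])
    obtain ⟨a, ha, hale, ha01⟩ := exists_coeff_R hS hχ hg (n := n)
      (by rw [iso_inner hiso (hdiff φ hφ) (diff_mem hS hχ), classInner_sub_left, inner_diff hS hχ,
        classInner_sub_right φ, o1, o2, hn]; simp)
    obtain ⟨b, hb, hble, -⟩ := exists_coeff_R hS hφ (IsGeneralizedCharacter.neg hg) (n := m)
      (by rw [classInner_neg_left, iso_inner hiso (hdiff φ hφ) (diff_mem hS hφ),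
        classInner_sub_left, inner_diff hS hφ, classInner_sub_right χ, o1', o3, hm]; simp)
    have hN : Cfsg.classInner (τ (χ - φ)) (τ (χ - φ)) = ((((n + m : ℕ)) : ℝ) : ℂ) := by
      rw [iso_inner hiso (hdiff φ hφ) (hdiff φ hφ), classInner_sub_left, classInner_sub_right,
        classInner_sub_right, o1, o1', hn, hm]
      push_cast; ring
    have hdisj : ∀ α ∈ R φ, ∀ β ∈ R χ, Cfsg.classInner α β = 0 := hS.disjoint χ hχ φ hφ o1 o2
    have hB := bessel ((R χ).disjSum (R φ)) (Sum.elim (fun α => α) (fun α => α))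
      (fun _ => 1) (Sum.elim (fun α => (a α : ℝ)) (fun α => -(b α : ℝ))) (fun _ _ => one_pos)
      (by
        rintro (i | i) hi (j | j) hj hne <;> simp only [Finset.inl_mem_disjSum,
          Finset.inr_mem_disjSum] at hi hj <;> simp only [Sum.elim_inl, Sum.elim_inr]
        · rw [hS.orthonormal χ hχ i hi j hj, if_neg (fun e => hne (congrArg _ e))]
        · rw [← classInner_conj_symm j i, hdisj j hj i hi, map_zero]
        · exact hdisj i hi j hj
        · rw [hS.orthonormal φ hφ i hi j hj, if_neg (fun e => hne (congrArg _ e))])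
      (by
        rintro (i | i) hi <;> simp only [Finset.inl_mem_disjSum, Finset.inr_mem_disjSum] at hi <;>
          simp only [Sum.elim_inl, Sum.elim_inr]
        · simp [hS.orthonormal χ hχ i hi i hi]
        · simp [hS.orthonormal φ hφ i hi i hi])
      (x := τ (χ - φ))
      (by
        rintro (i | i) hi <;> simp only [Finset.inl_mem_disjSum, Finset.inr_mem_disjSum] at hi <;>
          simp only [Sum.elim_inl, Sum.elim_inr]
        · simpa using ha i hi
        · have := hb i hi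
          rw [classInner_neg_left, neg_eq_iff_eq_neg] at this
          simpa using this)
      hN
    rw [Finset.sum_disjSum, Finset.sum_disjSum] at hB
    simp only [Sum.elim_inl, Sum.elim_inr, div_one, neg_sq] at hB
    have hale' : (n : ℝ) ≤ ∑ α ∈ R χ, (a α : ℝ) ^ 2 := by exact_mod_cast hale
    have hble' : (m : ℝ) ≤ ∑ α ∈ R φ, (b α : ℝ) ^ 2 := by exact_mod_cast hble
    have h1 := hB.1
    push_cast at h1
    have e1 : ∑ α ∈ R χ, a α ^ 2 = (n : ℤ) := by
      have : ∑ α ∈ R χ, (a α : ℝ) ^ 2 = (n : ℝ) := by linarith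
      exact_mod_cast this
    refine ⟨a, b, ?_, e1, ha01 e1.le⟩
    have e := hB.2 (by push_cast; linarith)
    rw [e, sub_eq_add_neg]
    congr 1
    rw [← Finset.sum_neg_distrib]
    exact Finset.sum_congr rfl fun α _ => by simp
  have sub_inner : ∀ a : (G → ℂ) → ℤ, ∀ β ∈ R χ,
      Cfsg.classInner β (∑ α ∈ R χ, (a α : ℂ) • α) = a β := by
    intro a β hβ
    rw [classInner_sum_right, Finset.sum_eq_single β]
    · simp [classInner_smul_right, hS.orthonormal χ hχ β hβ β hβ]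
    · intro b hb hne
      simp [classInner_smul_right, hS.orthonormal χ hχ β hβ b hb, hne.symm]
    · exact fun h => absurd hβ h
  have hA : ∃ A : G → ℂ, Cfsg.IsGeneralizedCharacter G A ∧ Cfsg.classInner A A = n ∧
      ∀ φ ∈ S, φ ≠ χ → Cfsg.classInner (τ (χ - φ)) A = n := by
    have mk : ∀ a : (G → ℂ) → ℤ, ∑ α ∈ R χ, a α ^ 2 = (n : ℤ) → (∀ α ∈ R χ, a α = 0 ∨ a α = 1) →
        Cfsg.IsGeneralizedCharacter G (∑ α ∈ R χ, (a α : ℂ) • α) ∧
        Cfsg.classInner (∑ α ∈ R χ, (a α : ℂ) • α) (∑ α ∈ R χ, (a α : ℂ) • α) = n ∧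
        Cfsg.classInner (τ (χ - Cfsg.conjFun χ)) (∑ α ∈ R χ, (a α : ℂ) • α) = n := by
      intro a hsq h01
      refine ⟨isGeneralizedCharacter_sum _ fun α hα =>
        IsGeneralizedCharacter.int_smul (hS.virtual χ hχ α hα) _, ?_, ?_⟩
      · rw [classInner_sum_left, ← Int.cast_natCast, ← hsq, Int.cast_sum]
        refine Finset.sum_congr rfl fun α hα => ?_
        rw [classInner_smul_left, sub_inner a α hα]
        push_cast; ring
      · rw [hS.sum_eq χ hχ, classInner_sum_left, ← Int.cast_natCast, ← hsq, Int.cast_sum]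
        refine Finset.sum_congr rfl fun α hα => ?_
        rw [sub_inner a α hα]
        rcases h01 α hα with e | e <;> simp [e]
    by_cases hex : ∃ φ₀ ∈ S, φ₀ ≠ χ ∧ φ₀ ≠ Cfsg.conjFun χ
    · obtain ⟨φ₀, hφ₀, k1, k2⟩ := hex
      obtain ⟨a, b, e, hsq, h01⟩ := hdec φ₀ hφ₀ k1 k2
      obtain ⟨g1, g2, g3⟩ := mk a hsq h01
      refine ⟨_, g1, g2, fun φ hφ hne => ?_⟩
      by_cases hc : φ = Cfsg.conjFun χ
      · rw [hc]; exact g3
      have h0 : Cfsg.classInner (τ (χ - φ₀)) (∑ α ∈ R χ, (a α : ℂ) • α) = n := by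
        have hz : Cfsg.classInner (∑ α ∈ R φ₀, (b α : ℂ) • α) (∑ α ∈ R χ, (a α : ℂ) • α) = 0 := by
          rw [classInner_sum_right]
          refine Finset.sum_eq_zero fun β hβ => ?_
          rw [classInner_smul_right, orth_span hS hχ hφ₀ k1 k2 b hβ, mul_zero]
        rw [e, classInner_sub_left, g2, hz, sub_zero]
      have o4 : Cfsg.classInner χ φ₀ = 0 := hS.orthogonal χ hχ φ₀ hφ₀ k1.symm
      have o5 : Cfsg.classInner φ χ = 0 := hS.orthogonal φ hφ χ hχ hne
      by_cases hc0 : φ = φ₀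
      · rw [hc0]; exact h0
      by_cases hc1 : φ = Cfsg.conjFun φ₀
      · have : χ - φ = (χ - φ₀) + (φ₀ - Cfsg.conjFun φ₀) := by rw [hc1]; abel
        rw [this, iso_add hiso (hdiff φ₀ hφ₀) (diff_mem hS hφ₀), classInner_add_left, h0,
          hS.sum_eq φ₀ hφ₀, classInner_sum_left, Finset.sum_eq_zero, add_zero]
        intro α hα
        rw [classInner_sum_right]
        refine Finset.sum_eq_zero fun β hβ => ?_
        rw [classInner_smul_right, hS.disjoint χ hχ φ₀ hφ₀ (hS.orthogonal φ₀ hφ₀ χ hχ k1)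
          (hS.orthogonal φ₀ hφ₀ _ hχ' k2) α hα β hβ, mul_zero]
      obtain ⟨a', b', e', -, -⟩ := hdec φ hφ hne hc
      have eA : ∑ α ∈ R χ, (a α : ℂ) • α = τ (χ - φ₀) + ∑ α ∈ R φ₀, (b α : ℂ) • α := by
        rw [e, sub_add_cancel]
      have hz : Cfsg.classInner (τ (χ - φ)) (∑ α ∈ R φ₀, (b α : ℂ) • α) = 0 := by
        rw [classInner_sum_right]
        refine Finset.sum_eq_zero fun β hβ => ?_
        rw [classInner_smul_right, e', classInner_sub_left,
          orth_span hS hφ₀ hφ hc0 hc1 b' hβ,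
          orth_span hS hφ₀ hχ k1.symm (fun h => k2 (by rw [h, conjFun_conjFun])) a' hβ]
        simp
      rw [eA, classInner_add_right, hz, add_zero, iso_inner hiso (hdiff φ hφ) (hdiff φ₀ hφ₀),
        classInner_sub_left, classInner_sub_right, classInner_sub_right, o4, o5,
        hS.orthogonal φ hφ φ₀ hφ₀ hc0, hn]
      simp
    · push Not at hex
      have hcard : ((R χ).card : ℂ) = 2 * n := by
        have h := iso_inner hiso (diff_mem hS hχ) (diff_mem hS hχ)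
        rw [hS.sum_eq χ hχ] at h
        simp only [classInner_sum_left, classInner_sum_right] at h
        rw [Finset.sum_congr rfl (fun α hα => Finset.sum_congr rfl
          (fun β hβ => hS.orthonormal χ hχ β hβ α hα))] at h
        simp only [classInner_sub_left, classInner_sub_right,
          hS.orthogonal χ hχ _ hχ' (hS.conj_ne χ hχ).symm,
          hS.orthogonal _ hχ' χ hχ (hS.conj_ne χ hχ), conj_norm hS hχ, hn] at h
        rw [Finset.sum_congr rfl (fun α hα => Finset.sum_ite_eq' _ _ _)] at h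
        simp at h
        rw [h]; ring
      have hcard' : (R χ).card = 2 * n := by exact_mod_cast hcard
      obtain ⟨U, hU, hUc⟩ := Finset.exists_subset_card_eq (s := R χ) (n := n) (by omega)
      obtain ⟨g1, g2, g3⟩ := mk (fun α => if α ∈ U then 1 else 0)
        (by simp [ite_pow, Finset.inter_eq_right.mpr hU, hUc])
        (fun α _ => by split_ifs <;> simp)
      refine ⟨_, g1, g2, fun φ hφ hne => ?_⟩
      rw [hex φ hφ hne]; exact g3
  obtain ⟨A, hAg, hAn, hA⟩ := hA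
  set T := (sys_finite hS).toFinset
  have hT : (↑T : Set (L → ℂ)) = S := Set.Finite.coe_toFinset _
  have hOT : IsOrth T := sys_isOrth hS (by rw [hT])
  set v : (L → ℂ) → (G → ℂ) := fun φ => A - τ (χ - φ) with hv
  have hvχ : v χ = A := by
    rw [hv]; simp [iso_zero hiso]
  have hne : ∃ α ∈ Cfsg.zspanOn (↑T : Set (L → ℂ)) ({1}ᶜ : Set L), α ≠ 0 := by
    rw [hT]; exact ⟨_, diff_mem hS hχ, diff_ne hS hχ⟩
  rw [← hT]
  refine isCoherent_extend hOT hne v (fun φ hφ => ?_) (fun φ hφ ψ hψ => ?_) ?_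
  · have hφ' : φ ∈ S := hT ▸ hφ
    exact IsGeneralizedCharacter.sub hAg (iso_gen hiso (hdiff φ hφ'))
  · have hφ' : φ ∈ S := hT ▸ hφ
    have hψ' : ψ ∈ S := hT ▸ hψ
    have hB : ∀ η ∈ S, Cfsg.classInner (τ (χ - η)) A = (n : ℂ) - Cfsg.classInner χ η := by
      intro η hη
      by_cases h : η = χ
      · subst h; simp [iso_zero hiso, hn]
      · rw [hA η hη h, hS.orthogonal χ hχ η hη (Ne.symm h), sub_zero]
    have hB' : ∀ η ∈ S, Cfsg.classInner A (τ (χ - η)) = (n : ℂ) - Cfsg.classInner η χ := by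
      intro η hη
      rw [← classInner_conj_symm, hB η hη, map_sub, map_natCast, classInner_conj_symm]
    simp only [hv, classInner_sub_left, classInner_sub_right, hB φ hφ', hB' ψ hψ', hAn,
      iso_inner hiso (hdiff φ hφ') (hdiff ψ hψ'), hn]
    rw [show Cfsg.classInner χ φ = Cfsg.classInner φ χ from
      gen_classInner_comm (sys_gen hS hφ') (sys_gen hS hχ),
      show Cfsg.classInner χ ψ = Cfsg.classInner ψ χ from
      gen_classInner_comm (sys_gen hS hψ') (sys_gen hS hχ)]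
    ring
  · have key : ∀ θ ∈ Cfsg.zspan S, ∃ m : ℤ, θ 1 = (m : ℂ) * χ 1 ∧
        θ - m • χ ∈ spanOn S ({1}ᶜ : Set L) ∧ extend T v (θ - m • χ) = τ (θ - m • χ) := by
      intro θ hθ
      induction hθ using Submodule.span_induction with
      | mem x hx =>
        refine ⟨1, by simp [hdeg x hx χ hχ], ?_, ?_⟩
        · simpa using (spanOn S ({1}ᶜ : Set L)).neg_mem (hdiff x hx)
        · rw [one_smul, extend_sub, extend_basis hOT v (by rw [← Finset.mem_coe, hT]; exact hx),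
            extend_basis hOT v (by rw [← Finset.mem_coe, hT]; exact hχ), hvχ, hv,
            ← neg_sub χ x, iso_neg hiso (hdiff x hx)]
          simp
      | zero => exact ⟨0, by simp, by simp, by simp [extend_zero, iso_zero hiso]⟩
      | add p q _ _ hp hq =>
        obtain ⟨m, m1, m2, m3⟩ := hp
        obtain ⟨k, k1, k2, k3⟩ := hq
        have e : p + q - (m + k) • χ = (p - m • χ) + (q - k • χ) := by rw [add_smul]; abel
        refine ⟨m + k, by simp [m1, k1, add_mul], e ▸ Submodule.add_mem _ m2 k2, ?_⟩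
        rw [e, extend_add, m3, k3, iso_add hiso m2 k2]
      | smul c p _ hp =>
        obtain ⟨m, m1, m2, m3⟩ := hp
        have e : c • p - (c * m) • χ = c • (p - m • χ) := by rw [smul_sub, smul_smul]
        refine ⟨c * m, by simp [m1, mul_assoc], e ▸ Submodule.smul_mem _ c m2, ?_⟩
        rw [e, extend_zsmul, m3, iso_zsmul hiso m2]
    intro θ hθ
    rw [hT, mem_zspanOn_one] at hθ
    obtain ⟨m, m1, -, m3⟩ := key θ hθ.1
    rw [hθ.2, eq_comm, mul_eq_zero] at m1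
    rcases m1 with h | h
    · rw [Int.cast_eq_zero] at h
      subst h
      simpa using m3
    · exact absurd (IsCharacter.eq_zero_of_one (hS.isCharacter χ hχ) h)
        (fun h0 => hS.conj_ne χ hχ (by rw [h0]; funext x; simp [Cfsg.conjFun]))

end Cfsg.Agent.Char.Coherence
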