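import Cfsg.Agent.Lib.Char.Galois

/-!
# Algebraic integers fixed by all automorphisms are rational
-/

namespace Cfsg.Agent.CharGalois

theorem eq_rat_of_fixed {P : ℂ} (hint : IsIntegral ℤ P) (hfix : ∀ σ : ℂ ≃+* ℂ, σ P = P) :
    ∃ q : ℚ, P = (q : ℂ) := by
  let P' : algebraicClosure ℚ ℂ := ⟨P, (mem_algebraicClosure_iff).2 hint.tower_top.isAlgebraic⟩
  have : IsAlgClosure ℚ (algebraicClosure ℚ ℂ) := algebraicClosure.isAlgClosure ℚ ℂ
  have : IsGalois ℚ (algebraicClosure ℚ ℂ) := IsAlgClosure.isGalois ℚ _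
  have hmem : P' ∈ Set.range (algebraMap ℚ (algebraicClosure ℚ ℂ)) := by
    rw [InfiniteGalois.mem_range_algebraMap_iff_fixed]
    intro τ
    obtain ⟨σ, hσ⟩ := exists_aut_extending τ.toRingEquiv
    exact Subtype.ext ((hσ P').symm.trans (hfix σ))
  obtain ⟨q, hq⟩ := hmem
  exact ⟨q, by rw [show P = ((P' : algebraicClosure ℚ ℂ) : ℂ) from rfl, ← hq]; simp⟩

end Cfsg.Agent.CharGalois
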