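import Cfsg.Agent.Lib.Char.CoherenceThm
import Cfsg.Agent.Lib.Char.CoherenceExt
import Cfsg.Agent.Lib.Char.InducedSet
import Mathlib.GroupTheory.Nilpotent

/-!
# Enlarging coherent sets of induced functions
-/

set_option linter.style.haveILetI false
set_option linter.unusedSectionVars false

namespace Cfsg.Agent.Char.Coherence

open Cfsg.Agent.Char
open scoped Classical

universe u v

variable {L : Type u} [Group L] [Fintype L] {G : Type v} [Group G] [Fintype G]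
  {τ : (L → ℂ) → (G → ℂ)} {R : (L → ℂ) → Finset (G → ℂ)}

theorem sys_mono {S T : Set (L → ℂ)} (hS : Cfsg.IsCoherenceSystem S τ R) (hTS : T ⊆ S)
    (hT : ∀ φ ∈ T, Cfsg.conjFun φ ∈ T) (hne : T.Nonempty) : Cfsg.IsCoherenceSystem T τ R where
  nonempty := hne
  isCharacter χ h := hS.isCharacter χ (hTS h)
  conj_mem := hT
  conj_ne χ h := hS.conj_ne χ (hTS h)
  isometry := by
    obtain ⟨h1, h2, h3, h4⟩ := hS.isometry
    have m : ∀ {α}, α ∈ Cfsg.zspanOn T ({1}ᶜ : Set L) → α ∈ Cfsg.zspanOn S ({1}ᶜ : Set L) :=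
      fun h => spanOn_mono hTS _ h
    exact ⟨fun a ha b hb => h1 a (m ha) b (m hb), fun a ha n => h2 a (m ha) n,
      fun a ha b hb => h3 a (m ha) b (m hb), fun a ha => h4 a (m ha)⟩
  map_one α h := hS.map_one α (spanOn_mono hTS _ h)
  orthogonal χ hχ φ hφ := hS.orthogonal χ (hTS hχ) φ (hTS hφ)
  orthonormal χ h := hS.orthonormal χ (hTS h)
  virtual χ h := hS.virtual χ (hTS h)
  sum_eq χ h := hS.sum_eq χ (hTS h)
  disjoint χ hχ φ hφ := hS.disjoint χ (hTS hχ) φ (hTS hφ)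

theorem coherent_mono {S T X : Set (L → ℂ)} (hS : Cfsg.IsCoherenceSystem S τ R)
    (hcoh : Cfsg.IsCoherent T ({1}ᶜ : Set L) τ) (hXT : X ⊆ T) (hXS : X ⊆ S)
    (hX : ∀ φ ∈ X, Cfsg.conjFun φ ∈ X) (hne : X.Nonempty) :
    Cfsg.IsCoherent X ({1}ᶜ : Set L) τ := by
  obtain ⟨-, τ₁, ⟨h1, h2, h3, h4⟩, hag⟩ := hcoh
  obtain ⟨φ, hφ⟩ := hne
  have m : ∀ {α}, α ∈ Cfsg.zspan X → α ∈ Cfsg.zspan T := fun h => Submodule.span_mono hXT h
  refine ⟨⟨φ - Cfsg.conjFun φ, mem_zspanOn_one.mpr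
    ⟨Submodule.sub_mem _ (Submodule.subset_span hφ) (Submodule.subset_span (hX φ hφ)), ?_⟩,
    diff_ne hS (hXS hφ)⟩, τ₁, ⟨fun a ha b hb => h1 a (m ha) b (m hb), fun a ha n => h2 a (m ha) n,
      fun a ha b hb => h3 a (m ha) b (m hb), fun a ha => h4 a (m ha)⟩,
    fun α hα => hag α (spanOn_mono hXT _ hα)⟩
  rw [Pi.sub_apply, conj_one hS (hXS hφ), sub_self]

/-- A coherent set absorbs every conjugate-closed set of small degrees. -/
theorem coherent_grow {S : Set (L → ℂ)} (hS : Cfsg.IsCoherenceSystem S τ R) (d n : (L → ℂ) → ℕ)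
    (hd : ∀ φ ∈ S, φ 1 = (d φ : ℂ)) (hn : ∀ φ ∈ S, Cfsg.classInner φ φ = (n φ : ℂ))
    (X : Finset (L → ℂ)) (hX : ↑X ⊆ S) (hXc : ∀ φ ∈ X, Cfsg.conjFun φ ∈ X)
    (hcoh : Cfsg.IsCoherent (↑X : Set (L → ℂ)) ({1}ᶜ : Set L) τ) {χ₁ : L → ℂ} (hχ₁ : χ₁ ∈ X)
    {Y : Set (L → ℂ)} (hY : Y ⊆ S)
    (hdvd : ∀ χ ∈ Y, d χ₁ ∣ d χ)
    (hsmall : ∀ χ ∈ Y, (2 * d χ * d χ₁ : ℝ) < ∑ φ ∈ X, ((d φ : ℝ) ^ 2 / (n φ : ℝ))) :
    ∃ T : Finset (L → ℂ), ↑X ∪ Y ⊆ ↑T ∧ ↑T ⊆ S ∧ (∀ φ ∈ T, Cfsg.conjFun φ ∈ T) ∧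
      Cfsg.IsCoherent (↑T : Set (L → ℂ)) ({1}ᶜ : Set L) τ := by
  have hfin : Y.Finite := (sys_finite hS).subset hY
  suffices h : ∀ s : Finset (L → ℂ), ↑s ⊆ Y → ∃ T : Finset (L → ℂ), X ⊆ T ∧ s ⊆ T ∧ ↑T ⊆ S ∧
      (∀ φ ∈ T, Cfsg.conjFun φ ∈ T) ∧ Cfsg.IsCoherent (↑T : Set (L → ℂ)) ({1}ᶜ : Set L) τ by
    obtain ⟨T, h1, h2, h3, h4, h5⟩ := h hfin.toFinset (by simp)
    exact ⟨T, Set.union_subset (Finset.coe_subset.mpr h1)
      (fun x hx => h2 (hfin.mem_toFinset.mpr hx)), h3, h4, h5⟩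
  intro s
  induction s using Finset.induction with
  | empty => exact fun _ => ⟨X, subset_rfl, Finset.empty_subset _, hX, hXc, hcoh⟩
  | insert χ s _ ih =>
    intro hs
    rw [Finset.coe_insert, Set.insert_subset_iff] at hs
    obtain ⟨T, h1, h2, h3, h4, h5⟩ := ih hs.2
    have hχS : χ ∈ S := hY hs.1
    by_cases hχT : χ ∈ T
    · exact ⟨T, h1, Finset.insert_subset hχT h2, h3, h4, h5⟩
    have hχT' : Cfsg.conjFun χ ∉ T := fun h => hχT (by simpa [conjFun_conjFun] using h4 _ h)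
    have hlt : (2 * d χ * d χ₁ : ℝ) < ∑ φ ∈ T, ((d φ : ℝ) ^ 2 / (n φ : ℝ)) :=
      (hsmall χ hs.1).trans_le
        (Finset.sum_le_sum_of_subset_of_nonneg h1 fun φ _ _ => by positivity)
    have hext := coherent_extend_pair hS d n hd hn T h3 h4 h5 hχS hχT hχT' (h1 hχ₁)
      (hdvd χ hs.1) hlt
    have hT' : (↑(T ∪ {χ, Cfsg.conjFun χ}) : Set (L → ℂ)) = ↑T ∪ {χ, Cfsg.conjFun χ} := by
      push_cast
      rfl
    refine ⟨T ∪ {χ, Cfsg.conjFun χ}, h1.trans Finset.subset_union_left,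
      Finset.insert_subset (by simp) (h2.trans Finset.subset_union_left), ?_, ?_, hT' ▸ hext⟩
    · rw [hT']
      exact Set.union_subset h3 (Set.insert_subset hχS (Set.singleton_subset_iff.mpr (hS.conj_mem χ hχS)))
    · intro φ hφ
      simp only [Finset.mem_union, Finset.mem_insert, Finset.mem_singleton] at hφ ⊢
      rcases hφ with h | rfl | rfl
      · exact Or.inl (h4 φ h)
      · exact Or.inr (Or.inr rfl)
      · exact Or.inr (Or.inl (conjFun_conjFun χ))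

open IndSet in
/-- Coherence passes from the characters over `A` to those over `B`. -/
theorem coherent_above (K : Subgroup L) [hK : K.Normal] (hsolv : Group.IsSolvable K)
    (hS : Cfsg.IsCoherenceSystem (Cfsg.inducedIrrAbove K ⊥) τ R) (A B C D : Subgroup L)
    [A.Normal] [B.Normal] (hAK : ¬ K ≤ A) (hBK : ¬ K ≤ B) (hCK : C ≤ K)
    (hcent : ∀ x ∈ D, ∀ y ∈ C, x * y * x⁻¹ * y⁻¹ ∈ B)
    (hA : Cfsg.IsCoherent (Cfsg.inducedIrrAbove K A) ({1}ᶜ : Set L) τ)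
    (hlt : 4 * C.index ^ 2 * D.relIndex C < (A.relIndex K - 1) ^ 2) :
    Cfsg.IsCoherent (Cfsg.inducedIrrAbove K B) ({1}ᶜ : Set L) τ := by
  set S := Cfsg.inducedIrrAbove K ⊥
  set d : (L → ℂ) → ℕ := Cfsg.charDegree with hdd
  have hd : ∀ φ ∈ S, φ 1 = (d φ : ℂ) := fun φ h => CharX.deg_spec (hS.isCharacter φ h)
  choose n hn using fun φ : L → ℂ => (show ∃ n : ℕ, φ ∈ S → Cfsg.classInner φ φ = (n : ℂ) from
    if h : φ ∈ S then ⟨_, fun _ => (sys_norm hS h).choose_spec.2⟩ else ⟨0, fun h' => absurd h' h⟩)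
  set X := (over K A).image (fun θ : Cfsg.IrrCharacter K => Cfsg.indFun K (θ : K → ℂ)) with hX
  have hXeq : (↑X : Set (L → ℂ)) = Cfsg.inducedIrrAbove K A := by
    ext φ
    simp [hX, mem_above_iff_exists]
  obtain ⟨θ₁, hθ₁, hθ₁1⟩ := exists_linear K hsolv hAK
  set χ₁ := Cfsg.indFun K (θ₁ : K → ℂ)
  have hχ₁X : χ₁ ∈ X := Finset.mem_image.mpr ⟨θ₁, hθ₁, rfl⟩
  have hχ₁S : χ₁ ∈ S := above_subset_bot K A (hXeq ▸ hχ₁X)
  have hdeg : ∀ θ : Cfsg.IrrCharacter K, Cfsg.indFun K (θ : K → ℂ) ∈ S →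
      d (Cfsg.indFun K (θ : K → ℂ)) = K.index * Cfsg.charDegree (θ : K → ℂ) := fun θ h =>
    Nat.cast_injective (R := ℂ) ((hd _ h).symm.trans
      (indFun_degree K (IsIrrCharacter.isCharacter θ.2)))
  have hd₁ : d χ₁ = K.index := by
    rw [hdeg θ₁ hχ₁S, show Cfsg.charDegree (θ₁ : K → ℂ) = 1 from
      Nat.cast_injective (R := ℂ) (by rw [← CharX.irr_deg, hθ₁1, Nat.cast_one]), mul_one]
  have hsum : ∑ φ ∈ X, ((d φ : ℝ) ^ 2 / (n φ : ℝ)) = (K.index : ℝ) * ((A.relIndex K : ℝ) - 1) :=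
    sum_above K A d n (fun φ h => hd φ (above_subset_bot K A h))
      (fun φ h => hn φ (above_subset_bot K A h))
  obtain ⟨T, hT1, hT2, -, hT4⟩ := coherent_grow hS d n hd (fun φ h => hn φ h) X
    (hXeq ▸ above_subset_bot K A) (fun φ h => by
      rw [← Finset.mem_coe, hXeq] at h ⊢
      exact conj_mem_above K A h) (hXeq.symm ▸ hA) hχ₁X (Y := Cfsg.inducedIrrAbove K B)
    (above_subset_bot K B)
    (fun χ hχ => by
      obtain ⟨θ, -, rfl⟩ := (mem_above_iff_exists K).mp hχ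
      rw [hd₁, hdeg θ (above_subset_bot K B hχ)]
      exact dvd_mul_right _ _)
    (fun χ hχ => by
      obtain ⟨θ, hθ, rfl⟩ := (mem_above_iff_exists K).mp hχ
      rw [hsum, hd₁, hdeg θ (above_subset_bot K B hχ)]
      set t := Cfsg.charDegree (θ : K → ℂ)
      have hb : t ^ 2 ≤ C.relIndex K ^ 2 * D.relIndex C :=
        degree_sq_le K hCK hcent θ.2 ((mem_over K).mp hθ).2 (CharX.irr_deg θ)
      have hbig : (2 * (K.index * t)) ^ 2 < (A.relIndex K - 1) ^ 2 := by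
        refine lt_of_le_of_lt ?_ hlt
        rw [← Subgroup.relIndex_mul_index hCK]
        calc (2 * (K.index * t)) ^ 2 = 4 * K.index ^ 2 * t ^ 2 := by ring
          _ ≤ 4 * K.index ^ 2 * (C.relIndex K ^ 2 * D.relIndex C) := Nat.mul_le_mul_left _ hb
          _ = 4 * (C.relIndex K * K.index) ^ 2 * D.relIndex C := by ring
      have h' : 2 * (K.index * t) < A.relIndex K - 1 := lt_of_pow_lt_pow_left₀ 2 (Nat.zero_le _) hbig
      have h1 : 1 ≤ A.relIndex K := by omega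
      have h'' : ((2 * (K.index * t) : ℕ) : ℝ) < ((A.relIndex K - 1 : ℕ) : ℝ) := Nat.cast_lt.mpr h'
      rw [Nat.cast_sub h1] at h''
      push_cast at h'' ⊢
      have he : (0 : ℝ) < K.index := Nat.cast_pos.mpr (Nat.pos_of_ne_zero Subgroup.index_ne_zero_of_finite)
      nlinarith [mul_lt_mul_of_pos_left h'' he])
  exact coherent_mono hS hT4 (fun φ h => hT1 (Or.inr h)) (above_subset_bot K B)
    (fun φ h => conj_mem_above K B h) (above_nonempty K hBK)

theorem sup_commutator_lt {M B H : Subgroup L} [M.Normal] [B.Normal] [H.Normal] (hMB : M < B)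
    (hBH : B ≤ H) (hnil : Group.IsNilpotent (H.map (QuotientGroup.mk' M))) :
    ⁅B, H⁆ ⊔ M < B := by
  refine lt_of_le_of_ne (sup_le (Subgroup.commutator_le_left B H) hMB.le) fun he => ?_
  set π := QuotientGroup.mk' M
  have hb : ⁅B.map π, H.map π⁆ = B.map π := by
    conv_rhs => rw [← he]
    rw [← Subgroup.map_commutator, Subgroup.map_sup,
      show M.map π = ⊥ from (Subgroup.map_eq_bot_iff M).mpr (by rw [QuotientGroup.ker_mk']),
      sup_bot_eq]
  have hle : B.map π ≤ H.map π := Subgroup.map_mono hBH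
  set Hb := H.map π
  set Bb := B.map π
  have hall : ∀ k, Bb ≤ Hb.lowerCentralSeries k := by
    intro k
    induction k with
    | zero => exact hle
    | succ k ih =>
      rw [← hb, Subgroup.lowerCentralSeries_succ]
      exact Subgroup.commutator_mono ih le_rfl
  obtain ⟨k, hk⟩ := (Subgroup.isNilpotent_iff_lowerCentralSeries Hb).mp hnil
  have := hall k
  rw [hk, le_bot_iff] at this
  have h2 : B ≤ M := by
    have := (Subgroup.map_eq_bot_iff B).mp this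
    rwa [QuotientGroup.ker_mk'] at this
  exact hMB.ne (le_antisymm hMB.le h2)

theorem nilpotent_map {M H : Subgroup L} [M.Normal] [(M.subgroupOf H).Normal]
    (hnil : Group.IsNilpotent (↥H ⧸ M.subgroupOf H)) :
    Group.IsNilpotent (H.map (QuotientGroup.mk' M)) := by
  set f := ((QuotientGroup.mk' M).subgroupMap H)
  have hker : M.subgroupOf H ≤ f.ker := fun x hx => Subtype.ext
    ((QuotientGroup.eq_one_iff (x : L)).mpr (Subgroup.mem_subgroupOf.mp hx))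
  haveI := hnil
  exact Group.nilpotent_of_surjective (QuotientGroup.lift _ f hker)
    fun y => by
      obtain ⟨x, rfl⟩ := MonoidHom.subgroupMap_surjective (QuotientGroup.mk' M) H y
      exact ⟨(x : H ⧸ M.subgroupOf H), rfl⟩

open IndSet in
theorem coherent_down (K : Subgroup L) [hK : K.Normal] (hsolv : Group.IsSolvable K)
    (hS : Cfsg.IsCoherenceSystem (Cfsg.inducedIrrAbove K ⊥) τ R) (M H₁ H : Subgroup L) [M.Normal]
    [H₁.Normal] [H.Normal] (hMH₁ : M ≤ H₁) (hH₁H : H₁ ≤ H) (hHK : H ≤ K)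
    (hnil : Group.IsNilpotent (H.map (QuotientGroup.mk' M)))
    (hcoh : Cfsg.IsCoherent (Cfsg.inducedIrrAbove K H₁) ({1}ᶜ : Set L) τ)
    (hbig : 4 * K.index ^ 2 + 1 < H₁.relIndex H) :
    Cfsg.IsCoherent (Cfsg.inducedIrrAbove K M) ({1}ᶜ : Set L) τ := by
  suffices h : ∀ (B : Subgroup L), B.Normal → M ≤ B → B ≤ H₁ →
      Cfsg.IsCoherent (Cfsg.inducedIrrAbove K B) ({1}ᶜ : Set L) τ →
      Cfsg.IsCoherent (Cfsg.inducedIrrAbove K M) ({1}ᶜ : Set L) τ from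
    h H₁ inferInstance hMH₁ le_rfl hcoh
  intro B
  induction B using WellFoundedLT.induction with
  | _ B ih =>
    intro hBn hMB hBH₁ hcB
    haveI := hBn
    rcases hMB.eq_or_lt with rfl | hMB'
    · exact hcB
    have hBH : B ≤ H := hBH₁.trans hH₁H
    have hlt' := sup_commutator_lt hMB' hBH hnil
    refine ih _ hlt' inferInstance le_sup_right (hlt'.le.trans hBH₁) ?_
    have hKB : ¬ K ≤ B := fun h => by
      have : H ≤ H₁ := (hHK.trans h).trans hBH₁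
      rw [Subgroup.relIndex_eq_one.mpr this] at hbig
      omega
    have hKB' : ¬ K ≤ ⁅B, H⁆ ⊔ M := fun h => hKB (h.trans hlt'.le)
    refine coherent_above K hsolv hS B (⁅B, H⁆ ⊔ M) H B hKB hKB' hHK
      (fun x hx y hy => le_sup_left (a := ⁅B, H⁆) (Subgroup.commutator_mem_commutator hx hy)) hcB ?_
    have hx : 4 * K.index ^ 2 + 1 < B.relIndex H :=
      hbig.trans_le (Subgroup.relIndex_le_of_le_left hBH₁ Subgroup.index_ne_zero_of_finite)
    rw [← Subgroup.relIndex_mul_index hHK, ← Subgroup.relIndex_mul_relIndex B H K hBH hHK]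
    set x := B.relIndex H
    set q := H.relIndex K
    set e := K.index
    have hq : 1 ≤ q := Nat.pos_of_ne_zero Subgroup.index_ne_zero_of_finite
    obtain ⟨y, hy⟩ : ∃ y, x = y + 1 := ⟨x - 1, by omega⟩
    have h1 : q * y ≤ x * q - 1 := by
      rw [hy, add_mul, one_mul, mul_comm y q]
      omega
    have h2 : (4 * e ^ 2) * x < y ^ 2 := by
      have h5 : 4 * e ^ 2 + 1 ≤ y := by omega
      have h6 : (4 * e ^ 2 + 1) * y ≤ y ^ 2 := by
        rw [pow_two y]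
        exact Nat.mul_le_mul_right y h5
      rw [hy, mul_add, mul_one]
      rw [add_mul, one_mul] at h6
      omega
    have h3 : (q * y) ^ 2 ≤ (x * q - 1) ^ 2 := Nat.pow_le_pow_left h1 2
    calc 4 * (q * e) ^ 2 * x = q ^ 2 * (4 * e ^ 2 * x) := by ring
      _ < q ^ 2 * y ^ 2 := Nat.mul_lt_mul_of_pos_left h2 (by positivity)
      _ = (q * y) ^ 2 := by ring
      _ ≤ (x * q - 1) ^ 2 := h3

end Cfsg.Agent.Char.Coherence
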