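import Cfsg.Agent.Lib.Char.Induction
import Cfsg.Agent.Lib.Char.Integral
import Cfsg.Prelude.Def_Solvable
import Mathlib.GroupTheory.Complement

/-!
# Frobenius' theorem: the Frobenius kernel is a normal complement
-/

set_option linter.style.haveILetI false

namespace Cfsg.Agent.Char

open scoped Pointwise

universe u

variable {G : Type u} [Group G]

/-- A malnormal subgroup: its conjugates by outside elements meet it trivially. -/
def Malnormal (H : Subgroup G) : Prop := ∀ g : G, g ∉ H → ∀ h ∈ H, g * h * g⁻¹ ∈ H → h = 1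

theorem indFun_malnormal [Fintype G] {H : Subgroup G} (hH : Malnormal H) {ψ : H → ℂ}
    (hψ : Cfsg.IsClassFunction H ψ) (t : H) (ht : t ≠ 1) : Cfsg.indFun H ψ t = ψ t := by
  classical
  have key : ∀ x : G, Cfsg.extendByZero H ψ (x⁻¹ * t * x) = if x ∈ H then ψ t else 0 := by
    intro x
    split_ifs with hx
    · rw [extendByZero_mem H ψ (H.mul_mem (H.mul_mem (H.inv_mem hx) t.2) hx),
        ← hψ t ⟨x⁻¹, H.inv_mem hx⟩]
      congr 1
      ext
      simp
    · refine extendByZero_not_mem H ψ fun hc => ht (Subtype.ext ?_)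
      exact hH x⁻¹ (fun h => hx (by simpa using H.inv_mem h)) t t.2 (by simpa using hc)
  rw [indFun_apply, Finset.sum_congr rfl fun x _ => key x, Finset.sum_ite, Finset.sum_const_zero,
    add_zero, Finset.sum_const, nsmul_eq_mul, ← Fintype.card_subtype, ← Nat.card_eq_fintype_card,
    ← mul_assoc, inv_mul_cancel₀ (Nat.cast_ne_zero.mpr Nat.card_pos.ne'), one_mul]

/-- An irreducible character of a malnormal subgroup extends to the whole group, constantly equal
to its degree off the conjugates of the subgroup. -/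
theorem exists_extension_malnormal [Fintype G] {H : Subgroup G} (hH : Malnormal H)
    {φ : H → ℂ} (hφ : Cfsg.IsIrrCharacter H φ) :
    ∃ χ : G → ℂ, Cfsg.IsIrrCharacter G χ ∧ (∀ h : H, χ h = φ h) ∧
      ∀ g : G, (∀ x : G, x⁻¹ * g * x ∉ H) → χ g = φ 1 := by
  haveI : Fintype H := Fintype.ofFinite H
  by_cases h1 : φ = fun _ => 1
  · exact ⟨fun _ => 1, isIrrCharacter_one, fun h => (congrFun h1 h).symm,
      fun g _ => (congrFun h1 1).symm⟩
  obtain ⟨d, hd0, hd⟩ := IsIrrCharacter.exists_degree hφ
  set ψ : H → ℂ := φ - (d : ℂ) • (fun _ : H => (1 : ℂ)) with hψdef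
  have hψc : Cfsg.IsClassFunction H ψ := by
    intro a b
    simp [hψdef, IsCharacter.isClassFunction (IsIrrCharacter.isCharacter hφ) a b]
  have hψ1 : ψ 1 = 0 := by simp [hψdef, hd]
  set χ : G → ℂ := (d : ℂ) • (fun _ : G => (1 : ℂ)) + Cfsg.indFun H ψ with hχdef
  have hχgen : Cfsg.IsGeneralizedCharacter G χ := by
    refine IsGeneralizedCharacter.add ?_ (IsGeneralizedCharacter.indFun H
      ⟨φ, (d : ℂ) • (fun _ => 1), IsIrrCharacter.isCharacter hφ,
        IsCharacter.nsmul isCharacter_one d, rfl⟩)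
    exact IsGeneralizedCharacter.of_isCharacter (IsCharacter.nsmul isCharacter_one d)
  have hon : ∀ h : H, χ h = φ h := by
    intro h
    by_cases hh : h = 1
    · subst hh
      simp [hχdef, indFun_one_apply, hψ1, hd]
    · rw [hχdef, Pi.add_apply, indFun_malnormal hH hψc h hh, hψdef]
      simp
  have hnorm : Cfsg.classInner χ χ = 1 := by
    have hone : Cfsg.IsClassFunction G (fun _ => (1 : ℂ)) := fun _ _ => rfl
    have hψo : Cfsg.classInner ψ (fun _ => 1) = -(d : ℂ) := by
      rw [hψdef, classInner_sub_left, classInner_smul_left, classInner_irr_of_ne hφ isIrrCharacter_one h1,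
        classInner_self_irr isIrrCharacter_one]
      ring
    have hi1 : Cfsg.classInner (Cfsg.indFun H ψ) (fun _ => 1) = -(d : ℂ) := by
      rw [classInner_indFun_left H ψ hone]
      exact hψo
    have hi2 : Cfsg.classInner (fun _ => 1) (Cfsg.indFun H ψ) = -(d : ℂ) := by
      rw [← classInner_conj_symm, hi1]
      simp
    have hii : Cfsg.classInner (Cfsg.indFun H ψ) (Cfsg.indFun H ψ) = 1 + (d : ℂ) * d := by
      rw [classInner_indFun_left H ψ (isClassFunction_indFun H ψ)]
      have e : Cfsg.classInner ψ (fun h : H => Cfsg.indFun H ψ h) = Cfsg.classInner ψ ψ := by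
        simp only [Cfsg.classInner]
        congr 1
        refine Finset.sum_congr rfl fun x _ => ?_
        by_cases hx : x = 1
        · simp [hx, hψ1]
        · rw [indFun_malnormal hH hψc x hx]
      rw [e, hψdef]
      simp only [classInner_sub_left, classInner_sub_right, classInner_smul_left,
        classInner_smul_right, classInner_self_irr hφ, classInner_self_irr isIrrCharacter_one,
        classInner_irr_of_ne hφ isIrrCharacter_one h1,
        classInner_irr_of_ne isIrrCharacter_one hφ (Ne.symm h1), map_natCast]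
      ring
    rw [hχdef]
    simp only [classInner_add_left, classInner_add_right, classInner_smul_left,
      classInner_smul_right, classInner_self_irr isIrrCharacter_one, hi1, hi2, hii, map_natCast]
    ring
  rcases IsGeneralizedCharacter.of_norm_one hχgen hnorm with h | h
  · refine ⟨χ, h, hon, fun g hg => ?_⟩
    simp [hχdef, indFun_eq_zero_of_forall H ψ hg, hd]
  · exfalso
    obtain ⟨e, he, he'⟩ := IsIrrCharacter.exists_degree h
    have := hon 1
    simp only [OneMemClass.coe_one] at this
    rw [Pi.neg_apply, this, hd] at he'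
    have h0 : ((e + d : ℕ) : ℂ) = 0 := by push_cast; rw [← he']; ring
    rw [Nat.cast_eq_zero] at h0
    omega

/-- Frobenius' theorem. -/
theorem exists_frobenius_kernel [Finite G] {H : Subgroup G} (hH : Malnormal H) :
    ∃ K : Subgroup G, K.Normal ∧ K ⊓ H = ⊥ ∧ Subgroup.IsComplement' K H ∧
      ∀ g : G, g ∈ K ↔ g = 1 ∨ ∀ x : G, x⁻¹ * g * x ∉ H := by
  classical
  haveI : Fintype G := Fintype.ofFinite G
  haveI : Fintype H := Fintype.ofFinite H
  choose χ hirr hon hoff using fun φ : Cfsg.IrrCharacter H => exists_extension_malnormal hH φ.2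
  choose N hNn hNmem hNmul using fun φ => IsCharacter.exists_kernel (IsIrrCharacter.isCharacter (hirr φ))
  set K := ⨅ φ, N φ with hK
  have hKn : K.Normal := Subgroup.normal_iInf_normal hNn
  have hχ1 : ∀ φ, χ φ 1 = (φ : H → ℂ) 1 := fun φ => by simpa using hon φ 1
  have hbot : K ⊓ H = ⊥ := by
    rw [eq_bot_iff]
    intro x ⟨hxK, hxH⟩
    have hc : IsConj (⟨x, hxH⟩ : H) 1 := (isConj_iff_forall_irr _ _).mpr fun φ => by
      have := (hNmem φ x).mp (Subgroup.mem_iInf.mp hxK φ)
      rw [hχ1] at this
      rw [← hon φ ⟨x, hxH⟩, this]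
    exact Subgroup.mem_bot.mpr (congrArg Subtype.val (isConj_one_left.mp hc))
  have hoffK : ∀ g : G, (∀ x : G, x⁻¹ * g * x ∉ H) → g ∈ K := by
    intro g hg
    rw [hK, Subgroup.mem_iInf]
    intro φ
    rw [hNmem, hoff φ g hg, hχ1]
  have honK : ∀ g : G, g ∈ K ↔ g = 1 ∨ ∀ x : G, x⁻¹ * g * x ∉ H := by
    intro g
    refine ⟨fun hg => or_iff_not_imp_left.mpr fun hg1 x hx => hg1 ?_, ?_⟩
    · have : x⁻¹ * g * x ∈ K ⊓ H := ⟨by simpa using hKn.conj_mem g hg x⁻¹, hx⟩
      rw [hbot, Subgroup.mem_bot] at this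
      exact conj_eq_one_iff.mp (show x⁻¹ * g * x⁻¹⁻¹ = 1 by simpa using this)
    · rintro (rfl | h)
      · exact K.one_mem
      · exact hoffK g h
  refine ⟨K, hKn, hbot, ?_, honK⟩
  -- counting
  set U := Finset.univ.filter (fun g : G => g ∉ K) with hU
  have hUcard : U.card ≤ Nat.card (G ⧸ H) * (Nat.card H - 1) := by
    have hsub : U ⊆ ((Finset.univ : Finset (G ⧸ H)) ×ˢ (Finset.univ.erase (1 : H))).image
        (fun p => p.1.out * (p.2 : G) * p.1.out⁻¹) := by
      intro g hg
      rw [hU, Finset.mem_filter, honK, not_or, not_forall] at hg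
      obtain ⟨-, hg1, x, hx⟩ := hg
      rw [not_not] at hx
      rw [Finset.mem_image]
      obtain ⟨h₀, hh₀⟩ := QuotientGroup.mk_out_eq_mul H x
      set q : G ⧸ H := (x : G ⧸ H)
      have hmem : (h₀ : G)⁻¹ * (x⁻¹ * g * x) * h₀ ∈ H := H.mul_mem (H.mul_mem (H.inv_mem h₀.2) hx) h₀.2
      refine ⟨(q, ⟨_, hmem⟩), Finset.mem_product.mpr ⟨Finset.mem_univ _,
        Finset.mem_erase.mpr ⟨?_, Finset.mem_univ _⟩⟩, ?_⟩
      · intro h
        have h' := congrArg Subtype.val h
        simp only [OneMemClass.coe_one] at h'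
        apply hg1
        have : x⁻¹ * g * x = 1 := by
          have := congrArg (fun z => (h₀ : G) * z * (h₀ : G)⁻¹) h'
          simpa [mul_assoc] using this
        have := congrArg (fun z => x * z * x⁻¹) this
        simpa [mul_assoc] using this
      · simp only [hh₀]
        group
    refine (Finset.card_le_card hsub).trans (Finset.card_image_le.trans ?_)
    simp [Nat.card_eq_fintype_card, Finset.card_erase_of_mem]
  have hKcard : U.card + Nat.card K = Nat.card G := by
    rw [Nat.card_eq_fintype_card (α := G), Nat.card_eq_fintype_card (α := K),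
      Fintype.card_subtype, ← Finset.card_univ (α := G), hU, add_comm,
      Finset.card_filter_add_card_filter_not]
  have hGH : Nat.card G = Nat.card (G ⧸ H) * Nat.card H :=
    Subgroup.card_eq_card_quotient_mul_card_subgroup H
  have hge : Nat.card (G ⧸ H) ≤ Nat.card K := by
    have hH1 : 1 ≤ Nat.card H := Nat.card_pos
    rw [Nat.mul_sub, mul_one] at hUcard
    have : Nat.card (G ⧸ H) ≤ Nat.card (G ⧸ H) * Nat.card H := Nat.le_mul_of_pos_right _ Nat.card_pos
    omega
  refine Subgroup.isComplement'_of_card_mul_and_disjoint (le_antisymm ?_ ?_) (disjoint_iff.mpr hbot)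
  · have hinj : Function.Injective (fun p : K × H => (p.1 : G) * p.2) :=
      Subgroup.mul_injective_of_disjoint (disjoint_iff.mpr hbot)
    simpa [Nat.card_prod] using Nat.card_le_card_of_injective _ hinj
  · rw [hGH]
    exact Nat.mul_le_mul_right _ hge

theorem malnormal_of_isFrobeniusComplement {H : Subgroup G} (h : Cfsg.IsFrobeniusComplement H) :
    Malnormal H := by
  intro g hg x hx hgx
  have hb := h.2.2 g hg
  have : g * x * g⁻¹ ∈ H ⊓ (MulAut.conj g • H) :=
    ⟨hgx, ⟨x, hx, by simp [MulAut.conj_apply]⟩⟩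
  rw [hb, Subgroup.mem_bot] at this
  exact conj_eq_one_iff.mp this

theorem frobeniusKernel_isSubgroup [Finite G] {H : Subgroup G} (h : Cfsg.IsFrobeniusComplement H) :
    ∃ N : Subgroup G, (N : Set G) = Cfsg.frobeniusKernel H ∧ N.Normal ∧
      Subgroup.IsComplement' N H := by
  obtain ⟨K, hKn, -, hc, hmem⟩ := exists_frobenius_kernel (malnormal_of_isFrobeniusComplement h)
  refine ⟨K, ?_, hKn, hc⟩
  ext g
  rw [SetLike.mem_coe, hmem, Cfsg.frobeniusKernel, Set.mem_setOf_eq]
  refine or_congr Iff.rfl (forall_congr' fun x => not_congr ?_)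
  rw [Subgroup.mem_pointwise_smul_iff_inv_smul_mem, ← map_inv]
  simp [MulAut.smul_def, mul_assoc]

end Cfsg.Agent.Char
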