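/-
The Frobenius-Schur indicator through invariant bilinear forms.
-/
import Cfsg.Agent.Lib.Char.Complete
import Cfsg.Agent.Lib.Char.Integral
import Mathlib.LinearAlgebra.Matrix.ToLin
import Mathlib.LinearAlgebra.Matrix.NonsingularInverse

set_option linter.unusedSectionVars false
set_option linter.style.haveILetI false

namespace Cfsg.Agent.FSchur

open Cfsg Cfsg.Agent.Char Matrix
open scoped ComplexConjugate

universe u

variable {G : Type u} [Group G] [Fintype G] {n : ℕ} (ρ : Representation ℂ G (Fin n → ℂ))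

/-- The matrix of a group element. -/
noncomputable def repMat (g : G) : Matrix (Fin n) (Fin n) ℂ := LinearMap.toMatrix' (ρ g)

theorem repMat_mul (g h : G) : repMat ρ (g * h) = repMat ρ g * repMat ρ h := by
  rw [repMat, repMat, repMat, map_mul, Module.End.mul_eq_comp, LinearMap.toMatrix'_comp]

theorem repMat_one : repMat ρ 1 = 1 := by
  rw [repMat, map_one, Module.End.one_eq_id, LinearMap.toMatrix'_id]

theorem repMat_inv_mul (g : G) : repMat ρ g⁻¹ * repMat ρ g = 1 := by
  rw [← repMat_mul, inv_mul_cancel, repMat_one]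

theorem repMat_mulVec (g : G) (v : Fin n → ℂ) : repMat ρ g *ᵥ v = ρ g v := by
  rw [repMat, ← Matrix.toLin'_apply, Matrix.toLin'_toMatrix']

theorem trace_repMat (g : G) : (repMat ρ g).trace = ρ.character g := by
  rw [← Matrix.trace_toLin'_eq, repMat, Matrix.toLin'_toMatrix']
  rfl

/-- An invariant bilinear form, as a matrix. -/
def IsInvForm (N : Matrix (Fin n) (Fin n) ℂ) : Prop :=
  ∀ g, (repMat ρ g)ᵀ * N * repMat ρ g = N

/-- The average of a matrix over the group. -/
noncomputable def avgForm (N : Matrix (Fin n) (Fin n) ℂ) : Matrix (Fin n) (Fin n) ℂ :=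
  (Nat.card G : ℂ)⁻¹ • ∑ g, (repMat ρ g)ᵀ * N * repMat ρ g

theorem isInvForm_avgForm (N : Matrix (Fin n) (Fin n) ℂ) : IsInvForm ρ (avgForm ρ N) := by
  intro h
  rw [avgForm, Matrix.mul_smul, Matrix.smul_mul, Finset.mul_sum, Finset.sum_mul]
  congr 1
  refine Fintype.sum_equiv (Equiv.mulRight h) _ _ fun g => ?_
  simp only [Equiv.coe_mulRight, repMat_mul, Matrix.transpose_mul, Matrix.mul_assoc]

theorem avgForm_eq_self {N : Matrix (Fin n) (Fin n) ℂ} (hN : IsInvForm ρ N) :
    avgForm ρ N = N := by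
  rw [avgForm, Finset.sum_congr rfl fun g _ => hN g, Finset.sum_const, Finset.card_univ,
    ← Nat.card_eq_fintype_card, ← Nat.cast_smul_eq_nsmul ℂ, smul_smul,
    inv_mul_cancel₀ (Nat.cast_ne_zero.2 Nat.card_pos.ne'), one_smul]

theorem isInvForm_transpose {N : Matrix (Fin n) (Fin n) ℂ} (hN : IsInvForm ρ N) :
    IsInvForm ρ Nᵀ := fun g => by
  have := congrArg Matrix.transpose (hN g)
  simpa [Matrix.transpose_mul, Matrix.mul_assoc] using this

/-- A non-zero invariant form of an irreducible representation is non-degenerate. -/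
theorem isUnit_of_isInvForm (hρ : ρ.IsIrreducible) {N : Matrix (Fin n) (Fin n) ℂ}
    (hN : IsInvForm ρ N) (hN0 : N ≠ 0) : IsUnit N := by
  classical
  haveI := hρ
  let K : Subrepresentation ρ :=
    { toSubmodule := LinearMap.ker (Matrix.toLin' N)
      apply_mem_toSubmodule := fun g v hv => by
        rw [LinearMap.mem_ker, Matrix.toLin'_apply] at hv ⊢
        have e : (repMat ρ g⁻¹)ᵀ * N = N * repMat ρ g := by
          conv_rhs => rw [← hN g⁻¹, Matrix.mul_assoc _ _ (repMat ρ g), repMat_inv_mul,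
            Matrix.mul_one]
        rw [← repMat_mulVec, Matrix.mulVec_mulVec, ← e, ← Matrix.mulVec_mulVec, hv,
          Matrix.mulVec_zero] }
  rw [← Matrix.mulVec_injective_iff_isUnit]
  rcases IsSimpleOrder.eq_bot_or_eq_top K with h | h
  · have : LinearMap.ker (Matrix.toLin' N) = ⊥ :=
      congrArg Subrepresentation.toSubmodule h
    rw [LinearMap.ker_eq_bot] at this
    exact fun v w hvw => this hvw
  · have : LinearMap.ker (Matrix.toLin' N) = ⊤ :=
      congrArg Subrepresentation.toSubmodule h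
    rw [LinearMap.ker_eq_top] at this
    exact absurd ((map_eq_zero_iff _ Matrix.toLin'.injective).1 this) hN0

/-- The invariant forms of an irreducible representation form at most a line. -/
theorem invForm_smul (hρ : ρ.IsIrreducible) {N₀ : Matrix (Fin n) (Fin n) ℂ}
    (h₀ : IsInvForm ρ N₀) (hne : N₀ ≠ 0) {N : Matrix (Fin n) (Fin n) ℂ} (hN : IsInvForm ρ N) :
    ∃ c : ℂ, N = c • N₀ := by
  classical
  haveI := hρ
  have hu := (Matrix.isUnit_iff_isUnit_det N₀).1 (isUnit_of_isInvForm ρ hρ h₀ hne)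
  have hcomm : ∀ g, N₀⁻¹ * N * repMat ρ g = repMat ρ g * (N₀⁻¹ * N) := fun g => by
    have e : ∀ {K : Matrix (Fin n) (Fin n) ℂ}, IsInvForm ρ K →
        (repMat ρ g⁻¹)ᵀ * K = K * repMat ρ g := by
      intro K hK
      conv_rhs => rw [← hK g⁻¹, Matrix.mul_assoc _ _ (repMat ρ g), repMat_inv_mul, Matrix.mul_one]
    calc N₀⁻¹ * N * repMat ρ g = N₀⁻¹ * ((repMat ρ g⁻¹)ᵀ * N) := by rw [Matrix.mul_assoc, e hN]
      _ = N₀⁻¹ * ((repMat ρ g⁻¹)ᵀ * N₀) * (N₀⁻¹ * N) := by
          rw [Matrix.mul_assoc, Matrix.mul_assoc, ← Matrix.mul_assoc N₀,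
            Matrix.mul_nonsing_inv _ hu, Matrix.one_mul]
      _ = repMat ρ g * (N₀⁻¹ * N) := by
          rw [e h₀, ← Matrix.mul_assoc N₀⁻¹, Matrix.nonsing_inv_mul _ hu, Matrix.one_mul]
  obtain ⟨c, hc⟩ := schur_scalar ρ (Matrix.toLin' (N₀⁻¹ * N)) fun g x => by
    rw [Matrix.toLin'_apply, Matrix.toLin'_apply, ← repMat_mulVec, ← repMat_mulVec,
      Matrix.mulVec_mulVec, Matrix.mulVec_mulVec, hcomm]
  refine ⟨c, ?_⟩
  have h1 : N₀⁻¹ * N = c • 1 := by
    apply Matrix.toLin'.injective
    rw [hc, map_smul, Matrix.toLin'_one]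
  calc N = N₀ * (N₀⁻¹ * N) := by
        rw [← Matrix.mul_assoc, Matrix.mul_nonsing_inv _ hu, Matrix.one_mul]
    _ = c • N₀ := by rw [h1, Matrix.mul_smul, Matrix.mul_one]

theorem avgForm_single_apply (i j k l : Fin n) :
    avgForm ρ (Matrix.single k l 1) i j =
      (Nat.card G : ℂ)⁻¹ * ∑ g, repMat ρ g k i * repMat ρ g l j := by
  classical
  simp only [avgForm, Matrix.smul_apply, Matrix.sum_apply, smul_eq_mul]
  congr 1
  refine Finset.sum_congr rfl fun g _ => ?_
  simp [Matrix.mul_apply, Matrix.single_apply, ite_and, Finset.sum_ite_eq']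

theorem sum_avgForm_same :
    ∑ i : Fin n, ∑ j : Fin n, avgForm ρ (Matrix.single i j 1) i j =
      (Nat.card G : ℂ)⁻¹ * ∑ g, ρ.character g * ρ.character g := by
  simp only [avgForm_single_apply, ← Finset.mul_sum]
  congr 1
  rw [Finset.sum_congr rfl fun i _ => Finset.sum_comm, Finset.sum_comm]
  refine Finset.sum_congr rfl fun g _ => ?_
  rw [← trace_repMat, Matrix.trace, Finset.sum_mul_sum]
  rfl

theorem sum_avgForm_swap :
    ∑ i : Fin n, ∑ j : Fin n, avgForm ρ (Matrix.single j i 1) i j =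
      (Nat.card G : ℂ)⁻¹ * ∑ g, ρ.character (g * g) := by
  simp only [avgForm_single_apply, ← Finset.mul_sum]
  congr 1
  rw [Finset.sum_congr rfl fun i _ => Finset.sum_comm, Finset.sum_comm]
  refine Finset.sum_congr rfl fun g _ => ?_
  rw [← trace_repMat, repMat_mul, Matrix.trace]
  simp only [Matrix.diag, Matrix.mul_apply]
  exact Finset.sum_congr rfl fun i _ => Finset.sum_congr rfl fun j _ => mul_comm _ _

theorem mean_sq_of_real (hρ : ρ.IsIrreducible)
    (hreal : ∀ g, conj (ρ.character g) = ρ.character g) :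
    (Nat.card G : ℂ)⁻¹ * ∑ g, ρ.character g * ρ.character g = 1 := by
  rw [← classInner_self_irr (χ := ρ.character) ⟨n, ρ, hρ, rfl⟩, classInner]
  congr 1
  exact Finset.sum_congr rfl fun g _ => by rw [hreal]

theorem exists_invForm (hρ : ρ.IsIrreducible)
    (hreal : ∀ g, conj (ρ.character g) = ρ.character g) :
    ∃ N, IsInvForm ρ N ∧ N ≠ 0 := by
  by_contra hnone
  push Not at hnone
  have h := sum_avgForm_same ρ
  rw [mean_sq_of_real ρ hρ hreal, Finset.sum_eq_zero fun i _ => Finset.sum_eq_zero fun j _ => by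
    rw [hnone _ (isInvForm_avgForm ρ _)]; rfl] at h
  exact zero_ne_one h

/-- The transpose of an invariant form is the indicator times the form. -/
theorem transpose_invForm (hρ : ρ.IsIrreducible)
    (hreal : ∀ g, conj (ρ.character g) = ρ.character g) {N₀ : Matrix (Fin n) (Fin n) ℂ}
    (h₀ : IsInvForm ρ N₀) :
    N₀ᵀ = ((Nat.card G : ℂ)⁻¹ * ∑ g, ρ.character (g * g)) • N₀ := by
  classical
  by_cases hne : N₀ = 0
  · simp [hne]
  obtain ⟨s, hs⟩ := invForm_smul ρ hρ h₀ hne (isInvForm_transpose ρ h₀)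
  have hco : ∀ k l : Fin n, ∃ c : ℂ, avgForm ρ (Matrix.single k l 1) = c • N₀ := fun k l =>
    invForm_smul ρ hρ h₀ hne (isInvForm_avgForm ρ _)
  choose c hc using hco
  have h1 : ∑ i : Fin n, ∑ j : Fin n, c i j * N₀ i j = 1 := by
    rw [← mean_sq_of_real ρ hρ hreal, ← sum_avgForm_same]
    exact Finset.sum_congr rfl fun i _ => Finset.sum_congr rfl fun j _ => by
      rw [hc, Matrix.smul_apply, smul_eq_mul]
  have h2 : (Nat.card G : ℂ)⁻¹ * ∑ g, ρ.character (g * g) =
      s * ∑ i : Fin n, ∑ j : Fin n, c i j * N₀ i j := by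
    rw [← sum_avgForm_swap, Finset.sum_comm, Finset.mul_sum]
    refine Finset.sum_congr rfl fun i _ => ?_
    rw [Finset.mul_sum]
    refine Finset.sum_congr rfl fun j _ => ?_
    rw [hc, Matrix.smul_apply, smul_eq_mul,
      show N₀ j i = s * N₀ i j from congrFun (congrFun hs i) j]
    ring
  rw [h2, h1, mul_one]
  exact hs

theorem indicator_eq_zero_of_not_real (hρ : ρ.IsIrreducible)
    (hreal : ¬ ∀ g, conj (ρ.character g) = ρ.character g) :
    (Nat.card G : ℂ)⁻¹ * ∑ g, ρ.character (g * g) = 0 := by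
  classical
  have hnone : ∀ N, IsInvForm ρ N → N = 0 := by
    intro N hN
    by_contra hne
    have hco : ∀ k l : Fin n, ∃ c : ℂ, avgForm ρ (Matrix.single k l 1) = c • N := fun k l =>
      invForm_smul ρ hρ hN hne (isInvForm_avgForm ρ _)
    choose c hc using hco
    have h1 : (Nat.card G : ℂ)⁻¹ * ∑ g, ρ.character g * ρ.character g =
        ∑ i : Fin n, ∑ j : Fin n, c i j * N i j := by
      rw [← sum_avgForm_same]
      exact Finset.sum_congr rfl fun i _ => Finset.sum_congr rfl fun j _ => by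
        rw [hc, Matrix.smul_apply, smul_eq_mul]
    have h0 : (Nat.card G : ℂ)⁻¹ * ∑ g, ρ.character g * ρ.character g = 0 := by
      have hirr : IsIrrCharacter G ρ.character := ⟨n, ρ, hρ, rfl⟩
      have := classInner_irr_of_ne hirr (IsIrrCharacter.conj hirr) fun e =>
        hreal fun g => (congrFun e g).symm
      rw [classInner] at this
      simpa using this
    have h3 : N = avgForm ρ N := (avgForm_eq_self ρ hN).symm
    have h4 : avgForm ρ N = (∑ i : Fin n, ∑ j : Fin n, c i j * N i j) • N := by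
      conv_lhs => rw [Matrix.matrix_eq_sum_single N]
      have hlin : ∀ (t : ℂ) (i j : Fin n), avgForm ρ (Matrix.single i j t) =
          t • avgForm ρ (Matrix.single i j 1) := by
        intro t i j
        have e : Matrix.single i j t = t • Matrix.single i j (1 : ℂ) := by simp
        conv_lhs => rw [e]
        simp only [avgForm, Matrix.mul_smul, Matrix.smul_mul, ← Finset.smul_sum]
        exact smul_comm _ _ _
      have hadd : ∀ {ι : Type} (t : Finset ι) (f : ι → Matrix (Fin n) (Fin n) ℂ),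
          avgForm ρ (∑ x ∈ t, f x) = ∑ x ∈ t, avgForm ρ (f x) := by
        intro ι t f
        simp only [avgForm, Finset.mul_sum, Finset.sum_mul, ← Finset.smul_sum]
        rw [Finset.sum_comm]
      rw [hadd, Finset.sum_smul]
      refine Finset.sum_congr rfl fun i _ => ?_
      rw [hadd, Finset.sum_smul]
      refine Finset.sum_congr rfl fun j _ => ?_
      rw [hlin, hc, smul_smul, mul_comm]
    rw [← h1, h0, zero_smul] at h4
    exact hne (h3.trans h4)
  rw [← sum_avgForm_swap]
  exact Finset.sum_eq_zero fun i _ => Finset.sum_eq_zero fun j _ => by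
    rw [hnone _ (isInvForm_avgForm ρ _)]; rfl

theorem indicator_cases (hρ : ρ.IsIrreducible)
    (hreal : ∀ g, conj (ρ.character g) = ρ.character g) :
    (Nat.card G : ℂ)⁻¹ * ∑ g, ρ.character (g * g) = 1 ∨
      ((Nat.card G : ℂ)⁻¹ * ∑ g, ρ.character (g * g) = -1 ∧ Even n) := by
  classical
  obtain ⟨N, hN, hN0⟩ := exists_invForm ρ hρ hreal
  have hT := transpose_invForm ρ hρ hreal hN
  set s := (Nat.card G : ℂ)⁻¹ * ∑ g, ρ.character (g * g)
  have h2 : (s * s) • N = N := by
    conv_rhs => rw [← Matrix.transpose_transpose N, hT, Matrix.transpose_smul, hT, smul_smul]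
  have hs : s * s = 1 := by
    have h3 : (s * s - 1) • N = 0 := by rw [sub_smul, h2, one_smul, sub_self]
    exact sub_eq_zero.1 ((smul_eq_zero.1 h3).resolve_right hN0)
  rcases mul_self_eq_one_iff.1 hs with h | h
  · exact Or.inl h
  refine Or.inr ⟨h, ?_⟩
  have hu := (Matrix.isUnit_iff_isUnit_det N).1 (isUnit_of_isInvForm ρ hρ hN hN0)
  by_contra hodd
  rw [h] at hT
  have hd := congrArg Matrix.det hT
  rw [Matrix.det_transpose, Matrix.det_smul, Fintype.card_fin,
    (Nat.not_even_iff_odd.1 hodd).neg_one_pow] at hd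
  exact hu.ne_zero (by linear_combination hd / 2)

/-- The indicator of an irreducible character. -/
theorem irr_indicator (χ : IrrCharacter G) :
    (¬ (∀ g, conj ((χ : G → ℂ) g) = (χ : G → ℂ) g) ∧
      (Nat.card G : ℂ)⁻¹ * ∑ g, (χ : G → ℂ) (g * g) = 0) ∨
    ((∀ g, conj ((χ : G → ℂ) g) = (χ : G → ℂ) g) ∧
      ((Nat.card G : ℂ)⁻¹ * ∑ g, (χ : G → ℂ) (g * g) = 1 ∨
        ((Nat.card G : ℂ)⁻¹ * ∑ g, (χ : G → ℂ) (g * g) = -1 ∧
          ∃ m : ℕ, Even m ∧ (χ : G → ℂ) 1 = m))) := by
  obtain ⟨f, hf⟩ := χ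
  obtain ⟨m, ρ, hρ, rfl⟩ := hf
  by_cases hreal : ∀ g, conj (ρ.character g) = ρ.character g
  · refine Or.inr ⟨hreal, ?_⟩
    rcases indicator_cases ρ hρ hreal with h | ⟨h, hm⟩
    · exact Or.inl h
    · exact Or.inr ⟨h, m, hm, by simp [Representation.char_one]⟩
  · exact Or.inl ⟨hreal, indicator_eq_zero_of_not_real ρ hρ hreal⟩

end Cfsg.Agent.FSchur
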