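import Cfsg.Agent.Lib.Char.Degree
import Cfsg.Agent.Lib.Blocks.Center

/-!
# Real irreducible characters and real classes
-/

set_option linter.unusedSectionVars false
set_option linter.style.haveILetI false

namespace Cfsg.Agent.RealChar

open Cfsg Cfsg.Agent.Char Cfsg.Agent.CharX
open scoped ComplexConjugate

universe u

variable {G : Type u} [Group G] [Fintype G]

/-- The complex conjugate of an irreducible character. -/
noncomputable def bar (χ : IrrCharacter G) : IrrCharacter G :=
  ⟨fun g => conj ((χ : G → ℂ) g),
    IsCharacter.isIrr_of_norm_one (IsCharacter.conj (IsIrrCharacter.isCharacter χ.2)) (by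
      have := congrArg conj (classInner_self_irr χ.2)
      simp only [classInner, map_mul, map_inv₀, map_natCast, map_sum, map_one] at this
      simpa [classInner] using this)⟩

theorem bar_eq_self_iff (χ : IrrCharacter G) :
    bar χ = χ ↔ ∀ g, ((χ : G → ℂ) g).im = 0 := by
  rw [Subtype.ext_iff, funext_iff]
  exact forall_congr' fun g => Complex.conj_eq_iff_im

/-- The number of real irreducible characters is the number of real classes. -/
theorem card_real :
    Nat.card {χ : IrrCharacter G // ∀ g, ((χ : G → ℂ) g).im = 0} =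
      Nat.card {c : ConjClasses G // ∀ g, ConjClasses.mk g = c → IsConj g g⁻¹} := by
  classical
  haveI : Finite (ConjClasses G) := Finite.of_surjective ConjClasses.mk ConjClasses.mk_surjective
  haveI : Fintype (ConjClasses G) := Fintype.ofFinite _
  have h1 : ∑ χ : IrrCharacter G, classInner (bar χ : G → ℂ) (χ : G → ℂ) =
      (Nat.card {χ : IrrCharacter G // ∀ g, ((χ : G → ℂ) g).im = 0} : ℂ) := by
    rw [Finset.sum_congr rfl (fun χ _ => classInner_irr (bar χ).2 χ.2), Finset.sum_boole,
      Nat.card_eq_fintype_card, Fintype.card_subtype]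
    congr 2
    refine Finset.filter_congr fun χ _ => ?_
    rw [← Subtype.ext_iff, bar_eq_self_iff]
  have h2 : ∑ χ : IrrCharacter G, classInner (bar χ : G → ℂ) (χ : G → ℂ) =
      ∑ g : G, if IsConj g g⁻¹ then (((Subgroup.centralizer ({g} : Set G)).index : ℂ))⁻¹ else 0 := by
    simp only [classInner, ← Finset.mul_sum]
    rw [Finset.sum_comm, Finset.mul_sum]
    refine Finset.sum_congr rfl fun g _ => ?_
    have e : ∑ χ : IrrCharacter G, (bar χ : G → ℂ) g * conj ((χ : G → ℂ) g) =
        ∑ χ : IrrCharacter G, (χ : G → ℂ) g⁻¹ * conj ((χ : G → ℂ) g) :=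
      Finset.sum_congr rfl fun χ _ => by
        rw [IsCharacter.inv (IsIrrCharacter.isCharacter χ.2)]; rfl
    rw [e]
    split_ifs with hg
    · rw [column_orth_of_isConj hg.symm]
      have hc : Nat.card (Subgroup.centralizer ({g⁻¹} : Set G)) =
          Nat.card (Subgroup.centralizer ({g} : Set G)) := by
        congr 2
        ext x
        rw [Subgroup.mem_centralizer_singleton_iff, Subgroup.mem_centralizer_singleton_iff]
        exact ⟨fun h => by simpa using (show Commute x g⁻¹ from h).inv_right.eq,
          fun h => (show Commute x g from h).inv_right.eq⟩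
      rw [hc]
      have hmul := (Subgroup.centralizer ({g} : Set G)).card_mul_index
      rw [← hmul, Nat.cast_mul]
      have : (Nat.card (Subgroup.centralizer ({g} : Set G)) : ℂ) ≠ 0 :=
        Nat.cast_ne_zero.2 Nat.card_pos.ne'
      field_simp
    · rw [column_orth_of_not_isConj (fun h => hg h.symm), mul_zero]
  rw [h1, ← Finset.sum_fiberwise_of_maps_to (g := ConjClasses.mk) (t := Finset.univ)
    (fun _ _ => Finset.mem_univ _)] at h2
  apply Nat.cast_injective (R := ℂ)
  rw [h2, Nat.card_eq_fintype_card, Fintype.card_subtype, Finset.card_filter, Nat.cast_sum]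
  refine Finset.sum_congr rfl fun c _ => ?_
  obtain ⟨x, rfl⟩ := ConjClasses.mk_surjective c
  have hclass : ∀ g, ConjClasses.mk g = ConjClasses.mk x ↔ IsConj x g := fun g =>
    ⟨fun h => (ConjClasses.mk_eq_mk_iff_isConj.1 h).symm,
      fun h => ConjClasses.mk_eq_mk_iff_isConj.2 h.symm⟩
  have hinv : ∀ {a b : G}, IsConj a b → IsConj a a⁻¹ → IsConj b b⁻¹ := by
    intro a b hab ha
    obtain ⟨d, rfl⟩ := isConj_iff.1 hab
    refine hab.symm.trans (ha.trans (isConj_iff.2 ⟨d, ?_⟩))
    group
  by_cases hx : IsConj x x⁻¹
  · rw [if_pos fun g hg => hinv ((hclass g).1 hg) hx, Nat.cast_one,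
      Finset.sum_congr rfl (fun g hg => by
        have h := (hclass g).1 (Finset.mem_filter.1 hg).2
        rw [if_pos (hinv h hx), show (Subgroup.centralizer ({g} : Set G)).index =
          (Subgroup.centralizer ({x} : Set G)).index by
            rw [← Blocks.card_isConj_eq_index, ← Blocks.card_isConj_eq_index]
            exact Nat.card_congr (Equiv.subtypeEquivRight fun y => ⟨h.trans, h.symm.trans⟩)]),
      Finset.sum_const, nsmul_eq_mul, ← Blocks.card_isConj_eq_index, ← Nat.card_eq_finsetCard,
      Nat.card_congr (Equiv.subtypeEquivRight (fun g => (show g ∈ Finset.univ.filter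
        (fun i => ConjClasses.mk i = ConjClasses.mk x) ↔ IsConj x g by simp [hclass])))]
    haveI : Nonempty {g : G // IsConj x g} := ⟨⟨x, IsConj.refl x⟩⟩
    exact mul_inv_cancel₀ (Nat.cast_ne_zero.2 Nat.card_pos.ne')
  · rw [if_neg fun h => hx (h x rfl), Nat.cast_zero]
    refine Finset.sum_eq_zero fun g hg => if_neg fun h => hx ?_
    exact hinv ((hclass g).1 (Finset.mem_filter.1 hg).2).symm h

end Cfsg.Agent.RealChar
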