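import Cfsg.Agent.Lib.Char.Fixed
import Cfsg.Agent.Lib.Char.RealClasses
import Cfsg.Agent.Lib.Char.FrobeniusSchur
import Cfsg.Agent.Lib.Blocks.Covering

/-!
# Real characters and normal subgroups of odd index
-/

set_option linter.style.haveILetI false
set_option linter.unusedSectionVars false

namespace Cfsg.Agent.OddIndexReal

open Cfsg Cfsg.Agent.Char Cfsg.Agent.RealChar
open scoped ComplexConjugate

universe u

variable {G : Type u} [Group G] [Fintype G]

/-- The Frobenius–Schur indicator. -/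
noncomputable def nu (χ : G → ℂ) : ℂ := (Nat.card G : ℂ)⁻¹ * ∑ s : G, χ (s * s)

open scoped Classical in
/-- The number of square roots, through the indicators. -/
theorem sum_nu_mul (n : G) :
    ∑ χ : IrrCharacter G, nu (χ : G → ℂ) * conj ((χ : G → ℂ) n) =
      (Nat.card {s : G // s * s = n} : ℂ) := by
  have hne : (Nat.card G : ℂ) ≠ 0 := Nat.cast_ne_zero.2 Nat.card_pos.ne'
  have hC : (Nat.card (Subgroup.centralizer ({n} : Set G)) : ℂ) ≠ 0 :=
    Nat.cast_ne_zero.2 Nat.card_pos.ne'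
  simp only [nu, Finset.mul_sum, Finset.sum_mul, mul_assoc]
  rw [Finset.sum_comm]
  simp only [← Finset.mul_sum]
  have key : ∀ s : G, ∑ χ : IrrCharacter G, (χ : G → ℂ) (s * s) * conj ((χ : G → ℂ) n) =
      if IsConj n (s * s) then (Nat.card (Subgroup.centralizer ({n} : Set G)) : ℂ) else 0 := by
    intro s
    split_ifs with h
    · have e : ∀ χ : IrrCharacter G, (χ : G → ℂ) (s * s) = (χ : G → ℂ) n := fun χ =>
        (isClassFunction_iff.mp (IsCharacter.isClassFunction (IsIrrCharacter.isCharacter χ.2)) _ _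
          h).symm
      simp only [e]
      exact column_orth_of_isConj (IsConj.refl n)
    · exact column_orth_of_not_isConj fun h' => h h'.symm
  rw [Finset.sum_congr rfl fun s _ => key s, ← Finset.sum_filter, Finset.sum_const, nsmul_eq_mul]
  have hfib : (Finset.univ.filter fun s : G => IsConj n (s * s)).card =
      (classFinset n).card * Nat.card {s : G // s * s = n} := by
    rw [Finset.card_eq_sum_card_fiberwise (t := classFinset n) (f := fun s : G => s * s)
      (fun s hs => by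
        simp only [classFinset, Finset.coe_filter, Finset.mem_univ, true_and, Set.mem_setOf_eq] at hs ⊢
        exact hs)]
    rw [Finset.sum_congr rfl (g := fun _ => Nat.card {s : G // s * s = n}) fun m hm => ?_,
      Finset.sum_const, smul_eq_mul]
    simp only [classFinset, Finset.mem_filter, Finset.mem_univ, true_and] at hm
    obtain ⟨c, hc⟩ := isConj_iff.1 hm
    rw [Finset.filter_filter, ← Fintype.card_subtype, ← Nat.card_eq_fintype_card]
    refine (Nat.card_congr ((MulAut.conj c).toEquiv.subtypeEquiv fun s => ?_)).symm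
    simp only [MulEquiv.toEquiv_eq_coe, MulEquiv.coe_toEquiv, MulAut.conj_apply]
    have e : c * s * c⁻¹ * (c * s * c⁻¹) = c * (s * s) * c⁻¹ := by group
    rw [e]
    constructor
    · intro h
      exact ⟨hm.trans (by rw [h, hc]), by rw [h, hc]⟩
    · rintro ⟨-, h⟩
      rw [← hc] at h
      exact mul_left_cancel (mul_right_cancel h)
  rw [hfib, card_classFinset, inv_mul_eq_iff_eq_mul₀ hne,
    ← (Subgroup.centralizer ({n} : Set G)).index_mul_card]
  push_cast
  ring

variable (K : Subgroup G) [K.Normal]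

section
variable {K}

theorem mem_of_sq_mem (hodd : Odd K.index) {g : G} (hg : g * g ∈ K) : g ∈ K := by
  obtain ⟨i, hi⟩ := hodd
  have h1 : g ^ (2 * i + 1) ∈ K := hi ▸ K.pow_index_mem g
  rw [pow_succ, pow_mul, sq] at h1
  exact (K.mul_mem_cancel_left (K.pow_mem hg i)).1 h1

theorem mem_of_real (hodd : Odd K.index) {g : G} (hg : IsConj g g⁻¹) : g ∈ K := by
  rw [← QuotientGroup.eq_one_iff]
  refine eq_one_of_isConj_inv (by rwa [← K.index_eq_card]) ?_
  rw [← QuotientGroup.mk_inv]
  exact ((MonoidHom.map_isConj (QuotientGroup.mk' K) hg)).symm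

theorem isConj_subgroup_of_real (hodd : Odd K.index) {k : K} (hk : IsConj (k : G) (k : G)⁻¹) :
    IsConj k k⁻¹ := by
  obtain ⟨x, hx⟩ := isConj_iff.1 hk
  have h2 : ∀ i, x ^ (2 * i + 1) * (k : G) * (x ^ (2 * i + 1))⁻¹ = (k : G)⁻¹ := by
    intro i
    induction i with
    | zero => simpa using hx
    | succ i ih =>
      rw [show 2 * (i + 1) + 1 = 2 + (2 * i + 1) by ring, pow_add, sq]
      calc x * x * x ^ (2 * i + 1) * (k : G) * (x * x * x ^ (2 * i + 1))⁻¹
          = x * (x * (x ^ (2 * i + 1) * (k : G) * (x ^ (2 * i + 1))⁻¹) * x⁻¹) * x⁻¹ := by group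
        _ = (k : G)⁻¹ := by
          have hx' : x * (k : G)⁻¹ * x⁻¹ = (k : G) := by
            calc x * (k : G)⁻¹ * x⁻¹ = (x * (k : G) * x⁻¹)⁻¹ := by group
              _ = k := by rw [hx, inv_inv]
          rw [ih, hx', hx]
  obtain ⟨i, hi⟩ := hodd
  exact isConj_iff.2 ⟨⟨x ^ (2 * i + 1), hi ▸ K.pow_index_mem x⟩, Subtype.ext (h2 i)⟩

end

variable [Fintype K]

theorem nu_sum_constituent (hodd : Odd K.index) (φ : IrrCharacter K) :
    ∑ χ : IrrCharacter G, nu (χ : G → ℂ) *
      conj (classInner (fun k : K => (χ : G → ℂ) k) (φ : K → ℂ)) = nu (φ : K → ℂ) := by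
  classical
  have hr : ∀ k : K, (Nat.card {s : G // s * s = (k : G)} : ℂ) =
      (Nat.card {s : K // s * s = k} : ℂ) := fun k => by
    rw [Nat.cast_inj]
    exact Nat.card_congr
      { toFun := fun s => ⟨⟨s.1, mem_of_sq_mem hodd (s.2.symm ▸ k.2)⟩, Subtype.ext s.2⟩
        invFun := fun s => ⟨(s.1 : G), congrArg Subtype.val s.2⟩
        left_inv := fun s => rfl
        right_inv := fun s => rfl }
  have h1 : ∀ k : K, ∑ χ : IrrCharacter G, nu (χ : G → ℂ) * conj ((χ : G → ℂ) k) =
      ∑ ψ : IrrCharacter K, nu (ψ : K → ℂ) * conj ((ψ : K → ℂ) k) := fun k => by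
    rw [sum_nu_mul, sum_nu_mul, hr]
  calc ∑ χ : IrrCharacter G, nu (χ : G → ℂ) *
        conj (classInner (fun k : K => (χ : G → ℂ) k) (φ : K → ℂ))
      = (Nat.card K : ℂ)⁻¹ * ∑ k : K,
          (∑ χ : IrrCharacter G, nu (χ : G → ℂ) * conj ((χ : G → ℂ) k)) * (φ : K → ℂ) k := by
        simp only [classInner, map_mul, map_inv₀, map_natCast, map_sum, Complex.conj_conj,
          Finset.mul_sum, Finset.sum_mul]
        rw [Finset.sum_comm]
        exact Finset.sum_congr rfl fun χ _ => Finset.sum_congr rfl fun k _ => by ring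
    _ = ∑ ψ : IrrCharacter K, nu (ψ : K → ℂ) * classInner (φ : K → ℂ) (ψ : K → ℂ) := by
        simp only [h1, classInner, Finset.mul_sum, Finset.sum_mul]
        rw [Finset.sum_comm]
        exact Finset.sum_congr rfl fun ψ _ => Finset.sum_congr rfl fun k _ => by ring
    _ = nu (φ : K → ℂ) := by
        rw [Finset.sum_eq_single φ (fun ψ _ hne => by
          rw [classInner_irr_of_ne φ.2 ψ.2 (fun h => hne (Subtype.ext h.symm)), mul_zero])
          (fun h => absurd (Finset.mem_univ _) h), classInner_self_irr φ.2, mul_one]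

theorem nu_cases (χ : IrrCharacter G) :
    (¬ (∀ g, ((χ : G → ℂ) g).im = 0) ∧ nu (χ : G → ℂ) = 0) ∨
      ((∀ g, ((χ : G → ℂ) g).im = 0) ∧ (nu (χ : G → ℂ) = 1 ∨ nu (χ : G → ℂ) = -1)) := by
  have hiff : (∀ g, ((χ : G → ℂ) g).im = 0) ↔ ∀ g, conj ((χ : G → ℂ) g) = (χ : G → ℂ) g :=
    forall_congr' fun g => Complex.conj_eq_iff_im.symm
  rcases FSchur.irr_indicator χ with ⟨h, h0⟩ | ⟨h, h1 | ⟨h1, -⟩⟩
  · exact Or.inl ⟨fun h' => h (hiff.1 h'), h0⟩
  · exact Or.inr ⟨hiff.2 h, Or.inl h1⟩
  · exact Or.inr ⟨hiff.2 h, Or.inr h1⟩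

/-- Conjugation of the real characters of a normal subgroup. -/
noncomputable instance realIrrAction : MulAction G {θ : IrrCharacter K // ∀ k : K, ((θ : K → ℂ) k).im = 0} where
  smul g θ := ⟨Blocks.cjIrr K g⁻¹ θ.1, fun k => θ.2 _⟩
  one_smul θ := Subtype.ext (by
    show Blocks.cjIrr K 1⁻¹ θ.1 = θ.1
    rw [inv_one, Blocks.cjIrr_one])
  mul_smul g h θ := Subtype.ext (by
    show Blocks.cjIrr K (g * h)⁻¹ θ.1 = Blocks.cjIrr K g⁻¹ (Blocks.cjIrr K h⁻¹ θ.1)
    rw [mul_inv_rev, Blocks.cjIrr_mul])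

/-- The real classes of a normal subgroup. -/
def RealCls : Type u := {c : ConjClasses K // ∀ k, ConjClasses.mk k = c → IsConj k k⁻¹}

variable {K}

theorem smul_real {g : G} {c : ConjClasses K} (hc : ∀ k, ConjClasses.mk k = c → IsConj k k⁻¹)
    (k : K) (hk : ConjClasses.mk k = ConjClasses.map (MulAut.conjNormal g : K ≃* K).toMonoidHom c) :
    IsConj k k⁻¹ := by
  obtain ⟨a, rfl⟩ := ConjClasses.mk_surjective c
  have h1 : IsConj k ((MulAut.conjNormal g : K ≃* K) a) := ConjClasses.mk_eq_mk_iff_isConj.1 hk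
  have h2 := MonoidHom.map_isConj (MulAut.conjNormal g : K ≃* K).toMonoidHom (hc a rfl)
  rw [map_inv] at h2
  refine h1.trans (h2.trans ?_)
  obtain ⟨w, hw⟩ := isConj_iff.1 h1
  refine isConj_iff.2 ⟨w⁻¹, ?_⟩
  simp only [MulEquiv.coe_toMonoidHom, ← hw]
  group

variable (K)

/-- Conjugation of the real classes of a normal subgroup. -/
instance realClsAction : MulAction G (RealCls K) where
  smul g c := ⟨ConjClasses.map (MulAut.conjNormal g : K ≃* K).toMonoidHom c.1, smul_real c.2⟩
  one_smul c := Subtype.ext (by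
    show ConjClasses.map _ c.1 = c.1
    obtain ⟨a, ha⟩ := ConjClasses.mk_surjective c.1
    rw [← ha]
    refine congrArg ConjClasses.mk (Subtype.ext ?_)
    simp)
  mul_smul g h c := Subtype.ext (by
    show ConjClasses.map _ c.1 = ConjClasses.map _ (ConjClasses.map _ c.1)
    obtain ⟨a, ha⟩ := ConjClasses.mk_surjective c.1
    rw [← ha]
    refine congrArg ConjClasses.mk ?_
    simp [map_mul, MulAut.mul_apply])

instance : Finite (RealCls K) := by
  haveI : Finite (ConjClasses K) := Finite.of_surjective ConjClasses.mk ConjClasses.mk_surjective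
  unfold RealCls; infer_instance

theorem card_fixed_eq (hodd : Odd K.index) (g : G) :
    Nat.card (MulAction.fixedBy {θ : IrrCharacter K // ∀ k : K, ((θ : K → ℂ) k).im = 0} g) =
      Nat.card (MulAction.fixedBy (RealCls K) g) := by
  classical
  obtain ⟨i, hi⟩ := hodd
  set f : K ≃* K := MulAut.conjNormal g
  let σ : K → K := fun k => (f k)⁻¹
  have hσ : ∀ a b, IsConj a b → IsConj (σ a) (σ b) := fun a b h => by
    obtain ⟨w, hw⟩ := isConj_iff.1 h
    refine isConj_iff.2 ⟨f w, ?_⟩
    simp only [σ, ← hw, map_mul, map_inv, mul_inv_rev, inv_inv, mul_assoc]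
  have hirr : ∀ χ : K → ℂ, IsIrrCharacter K χ → IsIrrCharacter K (fun k => χ (σ k)) := by
    intro χ hχ
    have h2 := (bar (⟨_, IsIrrCharacter.comp hχ f.toMonoidHom f.surjective⟩ : IrrCharacter K)).2
    convert h2 using 1
    funext k
    exact IsCharacter.inv (IsIrrCharacter.isCharacter hχ) (f k)
  have hfk : ∀ (j : ℕ) (k : K), ((f ^ j) k : G) = g ^ j * k * (g ^ j)⁻¹ := by
    intro j k
    induction j with
    | zero => simp
    | succ j ih =>
      rw [pow_succ', MulAut.mul_apply, MulAut.conjNormal_apply, ih, pow_succ']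
      group
  have hinner : ∀ k : K, IsConj ((f ^ (2 * i + 1)) k) k := fun k =>
    IsConj.symm (isConj_iff.2 ⟨⟨g ^ (2 * i + 1), hi ▸ K.pow_index_mem g⟩,
      Subtype.ext (hfk _ k).symm⟩)
  have h := card_fixed_irr σ hσ hirr
  refine Eq.trans ?_ (h.trans ?_)
  · refine Nat.card_congr
      { toFun := fun θ => ⟨θ.1.1, funext fun k => ?_⟩
        invFun := fun θ => ⟨⟨θ.1, fun k => ?_⟩, Subtype.ext (Subtype.ext (funext fun k => ?_))⟩
        left_inv := fun θ => rfl
        right_inv := fun θ => rfl }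
    · show (θ.1.1 : K → ℂ) (f k)⁻¹ = _
      rw [IsCharacter.inv (IsIrrCharacter.isCharacter θ.1.1.2), Complex.conj_eq_iff_im.2 (θ.1.2 _)]
      have h1 := congrFun (congrArg (fun t : {θ : IrrCharacter K // ∀ k : K, ((θ : K → ℂ) k).im = 0}
        => (t.1 : K → ℂ)) θ.2) (f k)
      refine h1.symm.trans ?_
      refine congrArg (θ.1.1 : K → ℂ) (Subtype.ext ?_)
      simp [conjHom, f, mul_assoc]
    all_goals
      have hk : ∀ k, conj ((θ.1 : K → ℂ) (f k)) = (θ.1 : K → ℂ) k := fun k => by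
        rw [← IsCharacter.inv (IsIrrCharacter.isCharacter θ.1.2)]
        exact congrFun θ.2 k
      have hj : ∀ j k, (θ.1 : K → ℂ) ((f ^ (2 * j + 1)) k) = conj ((θ.1 : K → ℂ) k) := by
        intro j
        induction j with
        | zero => intro k; rw [← hk k]; simp
        | succ j ih =>
          intro k
          rw [show 2 * (j + 1) + 1 = 1 + (1 + (2 * j + 1)) by ring, pow_add, pow_add, pow_one,
            MulAut.mul_apply, MulAut.mul_apply, ← Complex.conj_conj ((θ.1 : K → ℂ) (f (f _)))]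
          rw [hk, ← Complex.conj_conj ((θ.1 : K → ℂ) (f _)), hk, ih, Complex.conj_conj]
      have hre : ∀ k, conj ((θ.1 : K → ℂ) k) = (θ.1 : K → ℂ) k := fun k => by
        rw [← hj i k]
        exact isClassFunction_iff.mp (IsCharacter.isClassFunction
          (IsIrrCharacter.isCharacter θ.1.2)) _ _ (hinner k)
    · exact Complex.conj_eq_iff_im.1 (hre k)
    · show (θ.1 : K → ℂ) (conjHom K g⁻¹ k) = _
      rw [← hk (conjHom K g⁻¹ k), hre]
      refine congrArg (θ.1 : K → ℂ) (Subtype.ext ?_)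
      simp [conjHom, f, mul_assoc]
  · refine Nat.card_congr
      { toFun := fun C => ⟨⟨C.1, fun k hk => ?_⟩, Subtype.ext ?_⟩
        invFun := fun C => ⟨C.1.1, fun k hk => ?_⟩
        left_inv := fun C => rfl
        right_inv := fun C => rfl }
    rotate_left 2
    · have h1 := congrArg Subtype.val C.2
      have h2 : ConjClasses.map f.toMonoidHom C.1.1 = C.1.1 := h1
      rw [← hk] at h2
      have h3 : IsConj (f k) k := ConjClasses.mk_eq_mk_iff_isConj.1 h2
      obtain ⟨w, hw⟩ := isConj_iff.1 h3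
      refine IsConj.trans (isConj_iff.2 ⟨w, ?_⟩) (C.1.2 k hk).symm
      show w * (f k)⁻¹ * w⁻¹ = k⁻¹
      exact (show w * (f k)⁻¹ * w⁻¹ = (w * f k * w⁻¹)⁻¹ by group).trans (congrArg (·⁻¹) hw)
    all_goals
      have hk0 : ∀ k, ConjClasses.mk k = C.1 → IsConj (f k) k⁻¹ := fun k hk => by
        obtain ⟨w, hw⟩ := isConj_iff.1 (C.2 k hk)
        exact isConj_iff.2 ⟨w, by
          have h := congrArg (fun t => t⁻¹) hw
          simpa [σ, mul_assoc] using h⟩
      have hj : ∀ j k, ConjClasses.mk k = C.1 → IsConj ((f ^ (2 * j + 1)) k) k⁻¹ := by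
        intro j
        induction j with
        | zero => intro k hk; simpa using hk0 k hk
        | succ j ih =>
          intro k hk
          rw [show 2 * (j + 1) + 1 = 2 * j + 1 + (1 + 1) by ring, pow_add, pow_add, pow_one,
            MulAut.mul_apply, MulAut.mul_apply]
          have h1 : IsConj (f (f k)) k := by
            have h2 := MonoidHom.map_isConj f.toMonoidHom (hk0 k hk)
            simp only [MulEquiv.coe_toMonoidHom, map_inv] at h2
            obtain ⟨w, hw⟩ := isConj_iff.1 (hk0 k hk)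
            refine h2.trans (isConj_iff.2 ⟨w, ?_⟩)
            calc w * (f k)⁻¹ * w⁻¹ = (w * f k * w⁻¹)⁻¹ := by group
              _ = k := by rw [hw, inv_inv]
          exact (MonoidHom.map_isConj (f ^ (2 * j + 1) : K ≃* K).toMonoidHom h1).trans (ih k hk)
      have hre : ∀ k, ConjClasses.mk k = C.1 → IsConj k k⁻¹ := fun k hk =>
        (hinner k).symm.trans (hj i k hk)
    · exact hre k hk
    · obtain ⟨a, ha⟩ := ConjClasses.mk_surjective C.1
      show ConjClasses.map f.toMonoidHom C.1 = C.1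
      rw [← ha]
      exact ConjClasses.mk_eq_mk_iff_isConj.2 ((hk0 a ha).trans (hre a ha).symm)

/-- As many orbits on real characters as on real classes. -/
theorem card_orbits_eq (hodd : Odd K.index) :
    Nat.card (MulAction.orbitRel.Quotient G {θ : IrrCharacter K // ∀ k : K, ((θ : K → ℂ) k).im = 0}) =
      Nat.card (MulAction.orbitRel.Quotient G (RealCls K)) := by
  classical
  haveI : Fintype (RealCls K) := Fintype.ofFinite _
  have h1 := MulAction.sum_card_fixedBy_eq_card_orbits_mul_card_group G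
    {θ : IrrCharacter K // ∀ k : K, ((θ : K → ℂ) k).im = 0}
  have h2 := MulAction.sum_card_fixedBy_eq_card_orbits_mul_card_group G (RealCls K)
  rw [Finset.sum_congr rfl fun g _ => by
    rw [← Nat.card_eq_fintype_card, card_fixed_eq K hodd g, Nat.card_eq_fintype_card], h2] at h1
  rw [Nat.card_eq_fintype_card, Nat.card_eq_fintype_card]
  exact (Nat.eq_of_mul_eq_mul_right Fintype.card_pos h1).symm

/-- The real classes of `G` are the orbits of `G` on the real classes of `K`. -/
theorem card_realCls_orbits (hodd : Odd K.index) :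
    Nat.card {c : ConjClasses G // ∀ g, ConjClasses.mk g = c → IsConj g g⁻¹} =
      Nat.card (MulAction.orbitRel.Quotient G (RealCls K)) := by
  symm
  refine Nat.card_congr (Equiv.ofBijective (Quotient.lift (fun c : RealCls K =>
    (⟨ConjClasses.map K.subtype c.1, fun g hg => ?_⟩ :
      {c : ConjClasses G // ∀ g, ConjClasses.mk g = c → IsConj g g⁻¹})) ?_) ⟨?_, ?_⟩)
  · obtain ⟨a, ha⟩ := ConjClasses.mk_surjective c.1
    rw [← ha] at hg
    have h1 : IsConj g (a : G) := ConjClasses.mk_eq_mk_iff_isConj.1 hg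
    have h2 : IsConj (a : G) (a : G)⁻¹ := MonoidHom.map_isConj K.subtype (c.2 a ha)
    obtain ⟨w, hw⟩ := isConj_iff.1 h1
    refine h1.trans (h2.trans (isConj_iff.2 ⟨w⁻¹, ?_⟩))
    rw [← hw]; group
  · rintro c d ⟨g, rfl⟩
    refine Subtype.ext ?_
    show ConjClasses.map K.subtype (ConjClasses.map _ d.1) = ConjClasses.map K.subtype d.1
    obtain ⟨a, ha⟩ := ConjClasses.mk_surjective d.1
    rw [← ha]
    refine (ConjClasses.mk_eq_mk_iff_isConj.2 (isConj_iff.2 ⟨g, ?_⟩)).symm
    simp
  · intro x y hxy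
    induction x using Quotient.inductionOn with
    | _ c =>
    induction y using Quotient.inductionOn with
    | _ d =>
      obtain ⟨a, ha⟩ := ConjClasses.mk_surjective c.1
      obtain ⟨b, hb⟩ := ConjClasses.mk_surjective d.1
      have h := congrArg Subtype.val hxy
      simp only [Quotient.lift_mk, ← ha, ← hb] at h
      obtain ⟨g, hg⟩ := isConj_iff.1 (ConjClasses.mk_eq_mk_iff_isConj.1 h)
      refine (Quotient.sound (s := MulAction.orbitRel G (RealCls K)) ⟨g, Subtype.ext ?_⟩).symm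
      show ConjClasses.map _ c.1 = d.1
      rw [← ha, ← hb]
      exact congrArg ConjClasses.mk (Subtype.ext (by simpa using hg))
  · rintro ⟨C, hC⟩
    obtain ⟨g, rfl⟩ := ConjClasses.mk_surjective C
    have hgK := mem_of_real hodd (hC g rfl)
    refine ⟨Quotient.mk _ ⟨ConjClasses.mk (⟨g, hgK⟩ : K), fun k hk => ?_⟩, rfl⟩
    refine isConj_subgroup_of_real hodd ?_
    exact hC k (ConjClasses.mk_eq_mk_iff_isConj.2
      (MonoidHom.map_isConj K.subtype (ConjClasses.mk_eq_mk_iff_isConj.1 hk)))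

/-- Below a real character of `G` there is a real one of `K`. -/
theorem exists_real_constituent (hodd : Odd K.index) (χ : IrrCharacter G)
    (hχ : ∀ g, ((χ : G → ℂ) g).im = 0) : ∃ θ : IrrCharacter K, (∀ k, ((θ : K → ℂ) k).im = 0) ∧
      classInner (fun k : K => (χ : G → ℂ) k) (θ : K → ℂ) ≠ 0 := by
  obtain ⟨θ, hθ⟩ := exists_restrict_constituent χ.2 K
  refine ⟨θ, ?_, hθ⟩
  have hb : classInner (fun k : K => (χ : G → ℂ) k) (bar θ : K → ℂ) ≠ 0 := by
    have e : classInner (fun k : K => (χ : G → ℂ) k) (bar θ : K → ℂ) =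
        conj (classInner (fun k : K => (χ : G → ℂ) k) (θ : K → ℂ)) := by
      simp only [classInner, bar, map_mul, map_inv₀, map_natCast, map_sum, Complex.conj_conj]
      exact congrArg _ (Finset.sum_congr rfl fun k _ => by
        rw [Complex.conj_eq_iff_im.2 (hχ _)])
    rwa [e, map_ne_zero]
  obtain ⟨g, hg⟩ : ∃ g, (bar θ : K → ℂ) = conjChar K g (θ : K → ℂ) := by
    have h1 := congrArg (fun f => classInner f (bar θ : K → ℂ)) (clifford K χ.2 θ.2 hθ)
    by_contra hno
    push Not at hno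
    refine hb (h1.trans ?_)
    rw [classInner_smul_left, classInner_sum_left, Finset.sum_eq_zero, mul_zero]
    intro φ hφ
    obtain ⟨g, rfl⟩ := (mem_conjOrbit K).1 hφ
    exact classInner_irr_of_ne (isIrrCharacter_conjChar K θ.2 g) (bar θ).2 (Ne.symm (hno g))
  have hg' : ∀ k, conj ((θ : K → ℂ) k) = (θ : K → ℂ) (conjHom K g k) := fun k => congrFun hg k
  have h2 : ∀ j k, (θ : K → ℂ) (conjHom K (g ^ (2 * j + 1)) k) = conj ((θ : K → ℂ) k) := by
    intro j
    induction j with
    | zero => intro k; rw [hg']; simp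
    | succ j ih =>
      intro k
      have e1 : conjHom K (g ^ (2 * (j + 1) + 1)) k =
          conjHom K g (conjHom K g (conjHom K (g ^ (2 * j + 1)) k)) := Subtype.ext (by
        simp only [conjHom, MonoidHom.coe_mk, OneHom.coe_mk]
        rw [show 2 * (j + 1) + 1 = 2 * j + 1 + (1 + 1) by ring, pow_add, pow_add, pow_one]
        group)
      rw [e1, ← hg', ← Complex.conj_conj ((θ : K → ℂ) (conjHom K g _)), ← hg', Complex.conj_conj,
        Complex.conj_conj, ih]
  obtain ⟨i, hi⟩ := hodd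
  intro k
  refine Complex.conj_eq_iff_im.1 ((h2 i k).symm.trans ?_)
  have hmem : g ^ (2 * i + 1) ∈ K := hi ▸ K.pow_index_mem g
  exact (isClassFunction_iff.mp (IsCharacter.isClassFunction (IsIrrCharacter.isCharacter θ.2)) _ _
    (isConj_iff.2 ⟨⟨g ^ (2 * i + 1), hmem⟩⁻¹, Subtype.ext (by
      simp only [conjHom, MonoidHom.coe_mk, OneHom.coe_mk, Subgroup.coe_mul, Subgroup.coe_inv]
      group)⟩))

theorem exists_real_over (hodd : Odd K.index) (φ : IrrCharacter K)
    (hφ : ∀ k, ((φ : K → ℂ) k).im = 0) : ∃ χ : IrrCharacter G, (∀ g, ((χ : G → ℂ) g).im = 0) ∧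
      classInner (fun k : K => (χ : G → ℂ) k) (φ : K → ℂ) ≠ 0 := by
  by_contra hno
  push Not at hno
  have h := nu_sum_constituent K hodd φ
  rw [Finset.sum_eq_zero fun χ _ => ?_] at h
  · rcases nu_cases φ with ⟨h', -⟩ | ⟨-, h' | h'⟩
    · exact h' hφ
    · rw [h'] at h; exact one_ne_zero h.symm
    · rw [h'] at h; exact one_ne_zero (neg_eq_zero.1 h.symm)
  · rcases nu_cases χ with ⟨-, h'⟩ | ⟨h', -⟩
    · rw [h', zero_mul]
    · rw [hno χ h', map_zero, mul_zero]

/-- At most one real character lies over a real character of `K`. -/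
theorem real_over_unique (hodd : Odd K.index) (φ : IrrCharacter K)
    (hφ : ∀ k, ((φ : K → ℂ) k).im = 0) (χ₁ χ₂ : IrrCharacter G)
    (h1 : ∀ g, ((χ₁ : G → ℂ) g).im = 0) (h2 : ∀ g, ((χ₂ : G → ℂ) g).im = 0)
    (o1 : classInner (fun k : K => (χ₁ : G → ℂ) k) (φ : K → ℂ) ≠ 0)
    (o2 : classInner (fun k : K => (χ₂ : G → ℂ) k) (φ : K → ℂ) ≠ 0) : χ₁ = χ₂ := by
  classical
  let R := {θ : IrrCharacter K // ∀ k : K, ((θ : K → ℂ) k).im = 0}
  let f : {χ : IrrCharacter G // ∀ g, ((χ : G → ℂ) g).im = 0} → MulAction.orbitRel.Quotient G R :=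
    fun χ => Quotient.mk _
      ⟨(exists_real_constituent K hodd χ.1 χ.2).choose,
        (exists_real_constituent K hodd χ.1 χ.2).choose_spec.1⟩
  have hf : ∀ (χ : {χ : IrrCharacter G // ∀ g, ((χ : G → ℂ) g).im = 0}) (θ : R),
      classInner (fun k : K => (χ.1 : G → ℂ) k) (θ.1 : K → ℂ) ≠ 0 →
        f χ = Quotient.mk _ θ := by
    intro χ θ hθ
    set η := (exists_real_constituent K hodd χ.1 χ.2).choose with hη
    have hη2 := (exists_real_constituent K hodd χ.1 χ.2).choose_spec.2
    rw [← hη] at hη2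
    obtain ⟨g, hg⟩ : ∃ g, (η : K → ℂ) = conjChar K g (θ.1 : K → ℂ) := by
      by_contra hno
      push Not at hno
      refine hη2 ((congrArg (fun t => classInner t (η : K → ℂ)) (clifford K χ.1.2 θ.1.2 hθ)).trans ?_)
      rw [classInner_smul_left, classInner_sum_left, Finset.sum_eq_zero, mul_zero]
      intro ψ hψ
      obtain ⟨g, rfl⟩ := (mem_conjOrbit K).1 hψ
      exact classInner_irr_of_ne (isIrrCharacter_conjChar K θ.1.2 g) η.2 (Ne.symm (hno g))
    refine Quotient.sound (s := MulAction.orbitRel G R) ⟨g⁻¹, Subtype.ext ?_⟩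
    show Blocks.cjIrr K g⁻¹⁻¹ θ.1 = η
    rw [inv_inv]
    exact Subtype.ext hg.symm
  have hsurj : Function.Surjective f := by
    intro o
    induction o using Quotient.inductionOn with
    | _ θ =>
      obtain ⟨χ, hχ, hχθ⟩ := exists_real_over K hodd θ.1 θ.2
      exact ⟨⟨χ, hχ⟩, hf ⟨χ, hχ⟩ θ hχθ⟩
  have hinj := (Nat.bijective_iff_surjective_and_card f).2 ⟨hsurj, by
    rw [card_orbits_eq K hodd, ← card_realCls_orbits K hodd, card_real]⟩
  exact congrArg Subtype.val (hinj.1 ((hf ⟨χ₁, h1⟩ ⟨φ, hφ⟩ o1).trans (hf ⟨χ₂, h2⟩ ⟨φ, hφ⟩ o2).symm))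

end Cfsg.Agent.OddIndexReal
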