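import Cfsg.Agent.Lib.Char.Monomial

/-!
# Hall parts of elements, integrality criteria from Brauer induction
-/

set_option linter.style.haveILetI false
set_option linter.unusedSectionVars false

namespace Cfsg.Agent.Char

open scoped ComplexConjugate

universe u

variable {G : Type u} [Group G]

/-- An exponent which is `1` modulo `m` and `0` modulo `n`. -/
def hallExp {m n : ℕ} (h : Nat.Coprime m n) : ℕ := (Nat.chineseRemainder h 1 0 : ℕ)

theorem pow_hallExp_of_dvd {m n : ℕ} (h : Nat.Coprime m n) {u : G} (hu : u ^ m = 1) :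
    u ^ hallExp h = u := by
  conv_rhs => rw [← pow_one u]
  exact pow_eq_pow_iff_modEq.mpr
    ((Nat.chineseRemainder h 1 0).2.1.of_dvd (orderOf_dvd_of_pow_eq_one hu))

theorem pow_hallExp_eq_one {m n : ℕ} (h : Nat.Coprime m n) {v : G} (hv : v ^ n = 1) :
    v ^ hallExp h = 1 := by
  rw [← pow_zero v]
  exact pow_eq_pow_iff_modEq.mpr
    ((Nat.chineseRemainder h 1 0).2.2.of_dvd (orderOf_dvd_of_pow_eq_one hv))

theorem pow_hallExp_eq {m n : ℕ} (h : Nat.Coprime m n) {x u v : G} (hx : x = u * v)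
    (hc : Commute u v) (hu : u ^ m = 1) (hv : v ^ n = 1) : x ^ hallExp h = u := by
  rw [hx, hc.mul_pow, pow_hallExp_of_dvd h hu, pow_hallExp_eq_one h hv, mul_one]

theorem hallExp_pow_pow {m n : ℕ} (h : Nat.Coprime m n) {x : G} (hx : x ^ (m * n) = 1) :
    (x ^ hallExp h) ^ m = 1 := by
  obtain ⟨k, hk⟩ : n ∣ hallExp h :=
    Nat.modEq_zero_iff_dvd.mp (Nat.chineseRemainder h 1 0).2.2
  rw [← pow_mul, hk, show n * k * m = m * n * k by ring, pow_mul, hx, one_pow]

theorem hallExp_mul {m n : ℕ} (h : Nat.Coprime m n) {x : G} (hx : x ^ (m * n) = 1) :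
    x ^ hallExp h * x ^ hallExp h.symm = x := by
  rw [← pow_add]
  conv_rhs => rw [← pow_one x]
  refine pow_eq_pow_iff_modEq.mpr (Nat.ModEq.of_dvd (orderOf_dvd_of_pow_eq_one hx) ?_)
  refine (Nat.modEq_and_modEq_iff_modEq_mul h).mp ⟨?_, ?_⟩
  · exact (Nat.ModEq.add (Nat.chineseRemainder h 1 0).2.1 (Nat.chineseRemainder h.symm 1 0).2.2)
  · exact (Nat.ModEq.add (Nat.chineseRemainder h 1 0).2.2 (Nat.chineseRemainder h.symm 1 0).2.1)

theorem hallExp_eq_self_iff {m n : ℕ} (h : Nat.Coprime m n) {x : G} (hx : x ^ (m * n) = 1) :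
    x ^ hallExp h = x ↔ x ^ m = 1 :=
  ⟨fun e => e ▸ hallExp_pow_pow h hx, pow_hallExp_of_dvd h⟩

theorem hallExp_eq_one_iff {m n : ℕ} (h : Nat.Coprime m n) {x : G} (hx : x ^ (m * n) = 1) :
    x ^ hallExp h = 1 ↔ x ^ n = 1 := by
  refine ⟨fun e => ?_, pow_hallExp_eq_one h⟩
  have h2 := hallExp_mul h hx
  rw [e, one_mul] at h2
  rw [← h2]
  exact hallExp_pow_pow h.symm (by rw [mul_comm]; exact hx)

theorem pow_card_mul {m n : ℕ} [Finite G] (hdvd : Nat.card G ∣ m * n) (x : G) : x ^ (m * n) = 1 :=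
  orderOf_dvd_iff_pow_eq_one.mp ((orderOf_dvd_natCard x).trans hdvd)

theorem pow_eq_one_of_coprime [Finite G] {m n : ℕ} (hdvd : Nat.card G ∣ m * n) {x : G}
    (hx : Nat.Coprime (orderOf x) n) : x ^ m = 1 :=
  orderOf_dvd_iff_pow_eq_one.mp (hx.dvd_of_dvd_mul_right ((orderOf_dvd_natCard x).trans hdvd))

theorem coprime_order_of_pow [Finite G] {m n : ℕ} (h : Nat.Coprime m n) {x : G} (hx : x ^ m = 1) :
    Nat.Coprime (orderOf x) n :=
  h.coprime_dvd_left (orderOf_dvd_of_pow_eq_one hx)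

/-- In an elementary group taking the Hall part is multiplicative. -/
theorem hallExp_hom [Finite G] {p : ℕ} (hp : p.Prime) (hE : Cfsg.IsElementary p G) {m n : ℕ}
    (h : Nat.Coprime m n) (hdvd : Nat.card G ∣ m * n) (a b : G) :
    (a * b) ^ hallExp h = a ^ hallExp h * b ^ hallExp h := by
  classical
  haveI := Fact.mk hp
  obtain ⟨z, hz, hzp, k, hk⟩ := hE
  set C := Subgroup.zpowers z with hC
  haveI : C.Normal := ⟨fun y hy g => by
    obtain ⟨j, rfl⟩ := Subgroup.mem_zpowers_iff.mp hy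
    rw [Subgroup.mem_center_iff.mp (zpow_mem hz j) g, mul_inv_cancel_right]
    exact zpow_mem (Subgroup.mem_zpowers _) j⟩
  have hcen : ∀ c ∈ C, ∀ g : G, Commute c g := fun c hc g =>
    (Subgroup.mem_center_iff.mp ((Subgroup.zpowers_le.mpr hz) hc) g).symm
  obtain ⟨P⟩ : Nonempty (Sylow p G) := inferInstance
  have hsup : C ⊔ (P : Subgroup G) = ⊤ := by
    have hcardP : Nat.card (P : Subgroup G) = p ^ k := by
      rw [P.card_eq_multiplicity, ← Subgroup.card_mul_index C, hk,
        Nat.factorization_mul Nat.card_pos.ne' (pow_ne_zero _ hp.ne_zero)]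
      simp only [Finsupp.add_apply, hp.factorization_pow, Finsupp.single_eq_same]
      rw [Nat.card_zpowers, Nat.factorization_eq_zero_of_not_dvd fun h =>
        hp.ne_one (Nat.dvd_one.mp (hzp ▸ Nat.dvd_gcd h dvd_rfl)), zero_add]
    refine Subgroup.eq_top_of_card_eq _ (Nat.dvd_antisymm (Subgroup.card_subgroup_dvd_card _) ?_)
    rw [← Subgroup.card_mul_index C, hk, ← hcardP]
    refine Nat.Coprime.mul_dvd_of_dvd_of_dvd ?_ (Subgroup.card_dvd_of_le le_sup_left)
      (Subgroup.card_dvd_of_le le_sup_right)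
    rw [hcardP, Nat.card_zpowers]; exact hzp.pow_right k
  have hdec : ∀ g : G, ∃ c ∈ C, ∃ w ∈ (P : Subgroup G), g = c * w := fun g => by
    obtain ⟨c, hc, w, hw, e⟩ :=
      Subgroup.mem_sup_of_normal_left.mp (show g ∈ C ⊔ (P : Subgroup G) by rw [hsup]; trivial)
    exact ⟨c, hc, w, hw, e.symm⟩
  obtain ⟨c, hc, w, hw, rfl⟩ := hdec a
  obtain ⟨d, hd, v, hv, rfl⟩ := hdec b
  have hpow : ∀ y ∈ (P : Subgroup G), y ^ hallExp h = if p ∣ m then y else 1 := by
    intro y hy
    obtain ⟨j, hj⟩ := P.isPGroup' ⟨y, hy⟩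
    have hj' : orderOf y ∣ p ^ j := orderOf_dvd_of_pow_eq_one (congrArg Subtype.val hj)
    split_ifs with hpm
    · refine pow_hallExp_of_dvd h (pow_eq_one_of_coprime hdvd ?_)
      exact ((h.coprime_dvd_left hpm).pow_left j).coprime_dvd_left hj'
    · refine pow_hallExp_eq_one h (pow_eq_one_of_coprime (by rwa [mul_comm]) ?_)
      exact ((hp.coprime_iff_not_dvd.mpr hpm).pow_left j).coprime_dvd_left hj'
  rw [(hcen c hc w).mul_pow, (hcen d hd v).mul_pow, show c * w * (d * v) = c * d * (w * v) by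
      rw [mul_assoc, ← mul_assoc w, ← (hcen d hd w).eq]; group,
    (hcen (c * d) (C.mul_mem hc hd) (w * v)).mul_pow, (hcen c hc d).mul_pow,
    hpow _ (mul_mem hw hv), hpow _ hw, hpow _ hv]
  have hwd : (d ^ hallExp h) * (if p ∣ m then w else 1) = (if p ∣ m then w else 1) * d ^ hallExp h :=
    (hcen _ (C.pow_mem hd _) _).eq
  split_ifs with hpm <;> simp only [hpm, if_true, if_false] at hwd
  · rw [mul_assoc, ← mul_assoc (d ^ hallExp h), hwd]; group
  · simp

/-- The Hall projection of an elementary group. -/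
noncomputable def hallHom [Finite G] {p : ℕ} (hp : p.Prime) (hE : Cfsg.IsElementary p G) {m n : ℕ}
    (h : Nat.Coprime m n) (hdvd : Nat.card G ∣ m * n) : G →* G :=
  MonoidHom.mk' (fun x => x ^ hallExp h) (hallExp_hom hp hE h hdvd)

theorem card_range_hallHom_dvd [Finite G] {p : ℕ} (hp : p.Prime) (hE : Cfsg.IsElementary p G)
    {m n : ℕ} (h : Nat.Coprime m n) (hdvd : Nat.card G ∣ m * n) :
    Nat.card (hallHom hp hE h hdvd).range ∣ m := by
  refine Nat.Coprime.dvd_of_dvd_mul_right ?_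
    ((Subgroup.card_subgroup_dvd_card _).trans hdvd)
  refine Nat.coprime_of_dvd' fun q hq hq1 hq2 => ?_
  haveI := Fact.mk hq
  obtain ⟨⟨x, y, rfl⟩, hx⟩ := exists_prime_orderOf_dvd_card' q hq1
  rw [← orderOf_injective _ (Subgroup.subtype_injective _)] at hx
  have hqm : q ∣ m := hx ▸ orderOf_dvd_of_pow_eq_one (hallExp_pow_pow h (pow_card_mul hdvd y))
  exact (h.coprime_dvd_left hqm).coprime_dvd_right hq2 |> fun hc => by
    rw [(Nat.coprime_self q).mp hc]

theorem hallHom_commute [Finite G] {p : ℕ} (hp : p.Prime) (hE : Cfsg.IsElementary p G)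
    {m n : ℕ} (h : Nat.Coprime m n) (hdvd : Nat.card G ∣ m * n) {a b : G} (ha : a ^ m = 1)
    (hb : b ^ n = 1) : a * b = b * a := by
  have hdvd' : Nat.card G ∣ n * m := by rwa [mul_comm]
  let π := hallHom hp hE h hdvd
  let π' := hallHom hp hE h.symm hdvd'
  have h1 : π (a * b) = π (b * a) := by
    rw [map_mul, map_mul, show π b = 1 from pow_hallExp_eq_one h hb, mul_one, one_mul]
  have h2 : π' (a * b) = π' (b * a) := by
    rw [map_mul, map_mul, show π' a = 1 from pow_hallExp_eq_one h.symm ha, mul_one, one_mul]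
  rw [← hallExp_mul h (pow_card_mul hdvd (a * b)), ← hallExp_mul h (pow_card_mul hdvd (b * a))]
  exact congrArg₂ (· * ·) h1 h2

variable [Fintype G]

/-- Integrality of coefficients can be tested on elementary subgroups. -/
theorem isIntegral_classInner_of_elementary {θ : G → ℂ} (hθ : Cfsg.IsClassFunction G θ)
    (hE : ∀ (E : Subgroup G) [Fintype E] (p : ℕ), p.Prime → Cfsg.IsElementary p E →
      ∀ φ : E → ℂ, Cfsg.IsIrrCharacter E φ → IsIntegral ℤ (Cfsg.classInner (fun e : E => θ e) φ))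
    {χ : G → ℂ} (hχ : Cfsg.IsCharacter G χ) : IsIntegral ℤ (Cfsg.classInner θ χ) := by
  classical
  have key : ∀ f ∈ brauerSpan G, IsIntegral ℤ (Cfsg.classInner (θ * f) χ) := by
    intro f hf
    refine brauerSpan_induction (P := fun f => IsIntegral ℤ (Cfsg.classInner (θ * f) χ))
      (fun p E φ hp hEl hφ => ?_) ?_ (fun f g hf hg => ?_) (fun f hf => ?_) hf
    · haveI : Fintype E := Fintype.ofFinite E
      rw [mul_indFun E hθ φ, classInner_indFun_left E _ (IsCharacter.isClassFunction hχ)]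
      have e : Cfsg.classInner (fun e : E => θ e * φ e) (fun e : E => χ e) =
          Cfsg.classInner (fun e : E => θ e) ((fun e : E => χ e) * fun e => conj (φ e)) := by
        simp only [Cfsg.classInner, Pi.mul_apply, map_mul, Complex.conj_conj]
        congr 1
        exact Finset.sum_congr rfl fun e _ => by ring
      rw [e]
      obtain ⟨m, hm⟩ := IsCharacter.exists_decomp
        (IsCharacter.mul (IsCharacter.restrict hχ E) (IsCharacter.conj hφ))
      rw [hm, classInner_sum_right]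
      refine IsIntegral.sum _ fun ψ _ => ?_
      rw [classInner_smul_right, map_natCast]
      exact (isIntegral_algebraMap (R := ℤ) (x := (m ψ : ℤ))).mul (hE E p hp hEl ψ ψ.2)
        |> fun h => by simpa using h
    · rw [mul_zero, show Cfsg.classInner (0 : G → ℂ) χ = 0 by simp [Cfsg.classInner]]
      exact isIntegral_zero
    · rw [mul_add, classInner_add_left]; exact hf.add hg
    · rw [mul_neg, classInner_neg_left]; exact hf.neg
  have := key _ one_mem_brauerSpan
  rwa [show θ * (fun _ : G => (1 : ℂ)) = θ from funext fun x => mul_one _] at this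

/-- The function which is `n` where the `n`-part is conjugate to `g` has integral coefficients. -/
theorem isIntegral_classInner_hallClass {m n : ℕ} (hmn : Nat.card G = m * n) (h : Nat.Coprime m n)
    (g : G) (θ : G → ℂ) (hθ1 : ∀ x : G, IsConj (x ^ hallExp h.symm) g → θ x = n)
    (hθ0 : ∀ x : G, ¬ IsConj (x ^ hallExp h.symm) g → θ x = 0) {χ : G → ℂ}
    (hχ : Cfsg.IsCharacter G χ) : IsIntegral ℤ (Cfsg.classInner θ χ) := by
  classical
  have hval : ∀ x, θ x = if IsConj (x ^ hallExp h.symm) g then (n : ℂ) else 0 := fun x => by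
    split_ifs with hx
    · exact hθ1 x hx
    · exact hθ0 x hx
  have hθ : Cfsg.IsClassFunction G θ := by
    intro a b
    have hc : IsConj ((b * a * b⁻¹) ^ hallExp h.symm) (a ^ hallExp h.symm) :=
      (IsConj.symm (isConj_iff.mpr ⟨b, conj_pow.symm⟩))
    rw [hval, hval]
    exact if_congr ⟨fun e => (IsConj.symm hc).trans e, fun e => hc.trans e⟩ rfl rfl
  refine isIntegral_classInner_of_elementary hθ (fun E _ p hp hE φ hφ => ?_) hχ
  have hdvd : Nat.card E ∣ n * m := by
    rw [mul_comm, ← hmn]; exact Subgroup.card_subgroup_dvd_card E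
  set π := hallHom hp hE h.symm hdvd with hπ
  have hcard := Subgroup.card_mul_index π.ker
  rw [Subgroup.index_ker] at hcard
  obtain ⟨t, ht⟩ := card_range_hallHom_dvd hp hE h.symm hdvd
  obtain ⟨K, -, hKmem, htr⟩ := IsCharacter.exists_kernel (IsIrrCharacter.isCharacter hφ)
  haveI : Fintype π.ker := Fintype.ofFinite _
  rw [Cfsg.classInner, ← Finset.sum_fiberwise Finset.univ π, Finset.mul_sum]
  refine IsIntegral.sum _ fun v _ => ?_
  by_cases hv : ∃ x : E, π x = v
  swap
  · rw [Finset.sum_eq_zero (fun x hx => absurd ⟨x, (Finset.mem_filter.mp hx).2⟩ hv), mul_zero]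
    exact isIntegral_zero
  obtain ⟨x₀, hx₀⟩ := hv
  rw [Finset.sum_congr rfl fun (x : E) hx => show θ (x : G) * conj (φ x) =
      (if IsConj ((v : E) : G) g then (n : ℂ) else 0) * conj (φ x) by
    rw [hval, ← SubgroupClass.coe_pow, show x ^ hallExp h.symm = π x from rfl,
      (Finset.mem_filter.mp hx).2], ← Finset.mul_sum]
  have hsum : ∑ x ∈ Finset.univ.filter (fun x => π x = v), conj (φ x) =
      conj (∑ k : π.ker, φ (x₀ * k)) := by
    rw [map_sum]
    refine Finset.sum_bij (fun x hx => (⟨x₀⁻¹ * x, by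
        rw [MonoidHom.mem_ker, map_mul, map_inv, hx₀, (Finset.mem_filter.mp hx).2,
          inv_mul_cancel]⟩ : π.ker)) (fun _ _ => Finset.mem_univ _) (fun a _ b _ e => ?_)
      (fun k _ => ⟨x₀ * k, by
        rw [Finset.mem_filter]
        exact ⟨Finset.mem_univ _, by rw [map_mul, hx₀, MonoidHom.mem_ker.mp k.2, mul_one]⟩,
        Subtype.ext (by simp)⟩) (fun x hx => by simp)
    exact mul_left_cancel (congrArg Subtype.val e :)
  rw [hsum]
  split_ifs with hg
  swap
  · rw [zero_mul, mul_zero]; exact isIntegral_zero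
  by_cases htriv : ∀ k ∈ π.ker, φ k = φ 1
  · have hconst : ∀ k : π.ker, φ (x₀ * k) = φ x₀ := fun k => by
      rw [← IsCharacter.isClassFunction (IsIrrCharacter.isCharacter hφ) (x₀ * k) x₀⁻¹⁻¹⁻¹]
      simp only [inv_inv, inv_mul_cancel_left]
      exact htr _ ((hKmem _).mpr (htriv k k.2)) x₀
    rw [Finset.sum_congr rfl fun k _ => hconst k, Finset.sum_const, Finset.card_univ,
      nsmul_eq_mul, map_mul, map_natCast, ← Nat.card_eq_fintype_card]
    have hk0 : (Nat.card π.ker : ℂ) ≠ 0 := Nat.cast_ne_zero.mpr Nat.card_pos.ne'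
    have hr0 : (Nat.card π.range : ℂ) ≠ 0 := Nat.cast_ne_zero.mpr Nat.card_pos.ne'
    have e : (Nat.card E : ℂ)⁻¹ * ((n : ℂ) * ((Nat.card π.ker : ℂ) * conj (φ x₀))) =
        (t : ℂ) * conj (φ x₀) := by
      have hn : (n : ℂ) = (Nat.card π.range : ℂ) * t := by rw [← Nat.cast_mul, ← ht]
      rw [hn, show (Nat.card E : ℂ) = (Nat.card π.ker : ℂ) * (Nat.card π.range : ℂ) by
        rw [← Nat.cast_mul, hcard]]
      field_simp
    rw [e]
    exact (isIntegral_algebraMap (R := ℤ) (x := (t : ℤ))).mul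
      (IsCharacter.isIntegral (IsCharacter.conj (IsIrrCharacter.isCharacter hφ)) x₀) |> fun h => by simpa using h
  · push_neg at htriv
    rw [CharX.sum_coset_eq_zero hφ π.ker htriv x₀, map_zero, mul_zero, mul_zero]
    exact isIntegral_zero

/-- A divisibility theorem of Frobenius for Hall divisors. -/
theorem dvd_card_pow_eq_one {m n : ℕ} (hmn : Nat.card G = m * n) (h : Nat.Coprime m n) :
    m ∣ Nat.card {x : G // x ^ m = 1} := by
  classical
  have hn0 : n ≠ 0 := fun e => Nat.card_pos.ne' (hmn.trans (by rw [e, mul_zero]))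
  have hm0 : m ≠ 0 := fun e => Nat.card_pos.ne' (hmn.trans (by rw [e, zero_mul]))
  let θ : G → ℂ := fun x => if IsConj (x ^ hallExp h.symm) 1 then (n : ℂ) else 0
  have hint := isIntegral_classInner_hallClass hmn h 1 θ (fun x hx => if_pos hx) (fun x hx => if_neg hx)
    (isCharacter_one (G := G))
  have hiff : ∀ x : G, IsConj (x ^ hallExp h.symm) 1 ↔ x ^ m = 1 := fun x => by
    rw [isConj_one_left, hallExp_eq_one_iff h.symm
      (pow_card_mul (by rw [hmn, mul_comm]) x)]
  have e : Cfsg.classInner θ (fun _ => 1) = (Nat.card {x : G // x ^ m = 1} : ℂ) / (m : ℂ) := by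
    simp only [Cfsg.classInner, θ, hiff, map_one, mul_one, ← Finset.sum_filter, Finset.sum_const,
      nsmul_eq_mul, ← Fintype.card_subtype, ← Nat.card_eq_fintype_card]
    rw [show (Nat.card G : ℂ) = (m : ℂ) * n by rw [hmn, Nat.cast_mul]]
    have : (n : ℂ) ≠ 0 := Nat.cast_ne_zero.mpr hn0
    have : (m : ℂ) ≠ 0 := Nat.cast_ne_zero.mpr hm0
    field_simp
  rw [e] at hint
  exact dvd_of_isIntegral_div hm0 hint

end Cfsg.Agent.Char
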