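import Cfsg.Agent.Lib.Char.Monomial
import Mathlib.FieldTheory.IntermediateField.Adjoin.Algebra
import Mathlib.RingTheory.RootsOfUnity.Complex
import Mathlib.RepresentationTheory.Maschke

/-!
# Brauer's splitting field theorem
-/

set_option linter.style.haveILetI false
set_option linter.unusedSectionVars false
set_option maxHeartbeats 800000

namespace Cfsg.Agent.Char.Splitting

open scoped ComplexConjugate
open Cfsg.Agent.Char
open Module

universe u v

variable {G : Type u} [Group G] {F : IntermediateField ℚ ℂ}

/-- The complex function is the character of a representation over `F`. -/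
def Realised (F : IntermediateField ℚ ℂ) (χ : G → ℂ) : Prop :=
  ∃ (n : ℕ) (ρ : Representation F G (Fin n → F)), ∀ g, ((ρ.character g : F) : ℂ) = χ g

theorem exists_coord {V : Type v} [AddCommGroup V] [Module F V] [FiniteDimensional F V]
    (ρ : Representation F G V) :
    ∃ σ : Representation F G (Fin (finrank F V) → F), σ.character = ρ.character := by
  let e := (Module.finBasis F V).equivFun
  exact ⟨{ toFun := fun g => e.conj (ρ g)
           map_one' := by ext x; simp [LinearEquiv.conj_apply]
           map_mul' := fun g h => by ext x; simp [LinearEquiv.conj_apply] },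
    funext fun g => LinearMap.trace_conj' (ρ g) e⟩

theorem realised_of_rep {V : Type v} [AddCommGroup V] [Module F V] [FiniteDimensional F V]
    (ρ : Representation F G V) : Realised F (fun g => ((ρ.character g : F) : ℂ)) := by
  obtain ⟨σ, hσ⟩ := exists_coord ρ
  exact ⟨_, σ, fun g => by rw [hσ]⟩

theorem Realised.zero : Realised F (0 : G → ℂ) :=
  ⟨0, Representation.trivial F G (Fin 0 → F), fun g => by
    simp [Representation.character, show Representation.trivial F G (Fin 0 → F) g = 0 from
      Subsingleton.elim _ _]⟩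

theorem Realised.add {χ ψ : G → ℂ} (h1 : Realised F χ) (h2 : Realised F ψ) :
    Realised F (χ + ψ) := by
  obtain ⟨n, ρ, hρ⟩ := h1
  obtain ⟨m, σ, hσ⟩ := h2
  convert realised_of_rep (ρ.prod σ) using 1
  funext g
  rw [Pi.add_apply, ← hρ, ← hσ, ← IntermediateField.coe_add]
  exact congrArg _ (LinearMap.trace_prodMap' (ρ g) (σ g)).symm

/-- The complex matrices of a representation over `F`. -/
noncomputable def complexify {n : ℕ} (ρ : Representation F G (Fin n → F)) :
    Representation ℂ G (Fin n → ℂ) :=
  (Matrix.toLinAlgEquiv' : Matrix (Fin n) (Fin n) ℂ ≃ₐ[ℂ] _).toMonoidHom.comp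
    (((algebraMap F ℂ).mapMatrix : Matrix (Fin n) (Fin n) F →+* _).toMonoidHom.comp
      ((LinearMap.toMatrixAlgEquiv' : _ ≃ₐ[F] Matrix (Fin n) (Fin n) F).toMonoidHom.comp ρ))

theorem toMatrix_complexify {n : ℕ} (ρ : Representation F G (Fin n → F)) (g : G) (i j : Fin n) :
    LinearMap.toMatrix' (complexify ρ g) i j = ((LinearMap.toMatrix' (ρ g) i j : F) : ℂ) := by
  show LinearMap.toMatrix' (Matrix.toLin' ((LinearMap.toMatrix' (ρ g)).map (algebraMap F ℂ))) i j = _
  rw [LinearMap.toMatrix'_toLin']
  rfl

theorem character_complexify {n : ℕ} (ρ : Representation F G (Fin n → F)) (g : G) :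
    (complexify ρ).character g = ((ρ.character g : F) : ℂ) := by
  rw [Representation.character, Representation.character,
    LinearMap.trace_eq_matrix_trace ℂ (Pi.basisFun ℂ (Fin n)),
    LinearMap.trace_eq_matrix_trace F (Pi.basisFun F (Fin n)),
    LinearMap.toMatrix_eq_toMatrix', LinearMap.toMatrix_eq_toMatrix', Matrix.trace, Matrix.trace]
  push_cast
  exact Finset.sum_congr rfl fun i _ => toMatrix_complexify ρ g i i

theorem Realised.isCharacter {χ : G → ℂ} (h : Realised F χ) : Cfsg.IsCharacter G χ := by
  obtain ⟨n, ρ, hρ⟩ := h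
  exact ⟨n, complexify ρ, funext fun g => (character_complexify ρ g).trans (hρ g)⟩

theorem classInner_eq_finrank [Fintype G] {V : Type v} [AddCommGroup V] [Module F V] [FiniteDimensional F V]
    {W : Type v} [AddCommGroup W] [Module F W] [FiniteDimensional F W]
    (ρ : Representation F G V) (σ : Representation F G W) :
    Cfsg.classInner (fun g => ((σ.character g : F) : ℂ)) (fun g => ((ρ.character g : F) : ℂ)) =
      (finrank F (Representation.IntertwiningMap ρ σ) : ℂ) := by
  haveI : Invertible (Nat.card G : F) := invertibleOfNonzero (Nat.cast_ne_zero.mpr Nat.card_pos.ne')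
  have h := congrArg (fun x : F => (x : ℂ))
    (Representation.card_inv_mul_sum_char_mul_char_eq_finrank ρ σ)
  push_cast at h
  rw [← h]
  unfold Cfsg.classInner
  congr 1
  refine Finset.sum_congr rfl fun g _ => ?_
  rw [← IsCharacter.inv (Realised.isCharacter (realised_of_rep ρ)) g]

/-- Functions whose pairing with `a` is divisible by `D`. -/
noncomputable def multiples [Fintype G] (a : G → ℂ) (D : ℕ) : AddSubgroup (G → ℂ) where
  carrier := {f | ∃ z : ℤ, Cfsg.classInner f a = (z : ℂ) * D}
  zero_mem' := ⟨0, by simp [Cfsg.classInner]⟩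
  add_mem' := by
    rintro f g ⟨z, hz⟩ ⟨w, hw⟩
    exact ⟨z + w, by rw [classInner_add_left, hz, hw]; push_cast; ring⟩
  neg_mem' := by
    rintro f ⟨z, hz⟩
    exact ⟨-z, by rw [classInner_neg_left, hz]; push_cast; ring⟩

theorem mem_multiples_of_simple [Fintype G] {N : ℕ} (α : Representation F G (Fin N → F))
    (hsimp : ∀ a : Subrepresentation α, a = ⊥ ∨ a = ⊤) :
    ∀ (n : ℕ) (V : Type) [AddCommGroup V] [Module F V] [FiniteDimensional F V]
      (σ : Representation F G V), finrank F V ≤ n →
      (fun g => ((σ.character g : F) : ℂ)) ∈ multiples (fun g => ((α.character g : F) : ℂ))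
        (finrank F (Representation.IntertwiningMap α α)) := by
  classical
  haveI : NeZero (Nat.card G : F) := ⟨Nat.cast_ne_zero.mpr Nat.card_pos.ne'⟩
  intro n
  induction n with
  | zero =>
    intro V _ _ _ σ h
    haveI : Subsingleton V := (Module.finrank_zero_iff (R := F)).mp (Nat.le_zero.mp h)
    refine ⟨0, ?_⟩
    simp [Cfsg.classInner, Representation.character,
      show ∀ g, σ g = 0 from fun g => Subsingleton.elim _ _]
  | succ n ih =>
    intro V _ _ _ σ h
    by_cases hsub : Subsingleton (Representation.IntertwiningMap α σ)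
    · refine ⟨0, ?_⟩
      rw [classInner_eq_finrank, Module.finrank_zero_of_subsingleton]
      simp
    rw [not_subsingleton_iff_nontrivial] at hsub
    obtain ⟨T, hT⟩ := exists_ne (0 : Representation.IntertwiningMap α σ)
    let K : Subrepresentation α := ⟨LinearMap.ker T.toLinearMap, fun g x hx => by
      rw [LinearMap.mem_ker] at hx ⊢
      show T (α g x) = 0
      rw [T.isIntertwining]
      show σ g (T.toLinearMap x) = 0
      rw [hx, map_zero]⟩
    have hK : K = ⊥ := (hsimp K).resolve_right fun htop => hT (DFunLike.ext _ _ fun x => by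
      have : x ∈ K.toSubmodule := by rw [htop]; exact Submodule.mem_top (R := F) (x := x)
      exact LinearMap.mem_ker.mp this)
    have hinj : Function.Injective T.toLinearMap := LinearMap.ker_eq_bot.mp
      (congrArg Subrepresentation.toSubmodule hK)
    let R : Subrepresentation σ := ⟨LinearMap.range T.toLinearMap, fun g => by
      rintro _ ⟨x, rfl⟩
      exact ⟨α g x, T.isIntertwining _ _ g x⟩⟩
    obtain ⟨b, hb⟩ := exists_isCompl R
    have hc : IsCompl R.toSubmodule b.toSubmodule := by
      constructor
      · rw [disjoint_iff, ← Subrepresentation.toSubmodule_inf, hb.inf_eq_bot]; rfl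
      · rw [codisjoint_iff, ← Subrepresentation.toSubmodule_sup, hb.sup_eq_top]; rfl
    let e : (R.toRepresentation.prod b.toRepresentation).Equiv σ :=
      Representation.Equiv.mk (Submodule.prodEquivOfIsCompl _ _ hc) fun g => by
        refine LinearMap.ext fun x => ?_
        simp only [LinearMap.comp_apply, LinearEquiv.coe_coe, Submodule.coe_prodEquivOfIsCompl',
          map_add]
        rfl
    let eR : α.Equiv R.toRepresentation :=
      Representation.Equiv.mk (LinearEquiv.ofInjective T.toLinearMap hinj) fun g =>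
        LinearMap.ext fun x => Subtype.ext (T.isIntertwining _ _ g x)
    have hchar : (fun g => ((σ.character g : F) : ℂ)) =
        (fun g => ((α.character g : F) : ℂ)) + fun g => ((b.toRepresentation.character g : F) : ℂ) := by
      funext g
      rw [Pi.add_apply, ← IntermediateField.coe_add]
      refine congrArg _ ?_
      rw [← congrFun (Representation.char_iso e) g, congrFun (Representation.char_iso eR) g]
      exact LinearMap.trace_prodMap' _ _
    rw [hchar]
    refine (multiples _ _).add_mem ⟨1, by rw [classInner_eq_finrank]; simp⟩ (ih _ _ ?_)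
    have hfr := Submodule.finrank_add_eq_of_isCompl hc
    have hpos : 1 ≤ finrank F R.toSubmodule := by
      refine Submodule.one_le_finrank_iff.mpr fun hbot => hT (DFunLike.ext _ _ fun x => ?_)
      have : T.toLinearMap x ∈ R.toSubmodule := ⟨x, rfl⟩
      rw [hbot, Submodule.mem_bot] at this
      exact this
    omega

/-- Every irreducible character in the span of realised characters is realised. -/
theorem realised_of_span [Fintype G] {χ : G → ℂ} (hχ : Cfsg.IsIrrCharacter G χ)
    (hspan : χ ∈ AddSubgroup.closure {f : G → ℂ | Realised F f}) : Realised F χ := by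
  classical
  have hex : ∃ n, ∃ ρ : Representation F G (Fin n → F),
      Cfsg.classInner (fun g => ((ρ.character g : F) : ℂ)) χ ≠ 0 := by
    by_contra hno
    push Not at hno
    have h : χ ∈ multiples χ 0 := (AddSubgroup.closure_le _).mpr (fun f hf => by
      obtain ⟨n, ρ, hρ⟩ := hf
      refine ⟨0, ?_⟩
      rw [show f = fun g => ((ρ.character g : F) : ℂ) from funext fun g => (hρ g).symm, hno n ρ]
      simp) hspan
    obtain ⟨z, hz⟩ := h
    simp [classInner_self_irr hχ] at hz
  obtain ⟨α, hα⟩ := Nat.find_spec hex
  haveI : NeZero (Nat.card G : F) := ⟨Nat.cast_ne_zero.mpr Nat.card_pos.ne'⟩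
  have hsimp : ∀ a : Subrepresentation α, a = ⊥ ∨ a = ⊤ := by
    by_contra hc
    push Not at hc
    obtain ⟨a, ha0, ha1⟩ := hc
    obtain ⟨b, hb⟩ := exists_isCompl a
    have hc : IsCompl a.toSubmodule b.toSubmodule := by
      constructor
      · rw [disjoint_iff, ← Subrepresentation.toSubmodule_inf, hb.inf_eq_bot]; rfl
      · rw [codisjoint_iff, ← Subrepresentation.toSubmodule_sup, hb.sup_eq_top]; rfl
    let e : (a.toRepresentation.prod b.toRepresentation).Equiv α :=
      Representation.Equiv.mk (Submodule.prodEquivOfIsCompl _ _ hc) fun g => by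
        refine LinearMap.ext fun x => ?_
        simp only [LinearMap.comp_apply, LinearEquiv.coe_coe, Submodule.coe_prodEquivOfIsCompl',
          map_add]
        rfl
    have hchar : (fun g => ((α.character g : F) : ℂ)) =
        (fun g => ((a.toRepresentation.character g : F) : ℂ)) +
          fun g => ((b.toRepresentation.character g : F) : ℂ) := by
      funext g
      rw [Pi.add_apply, ← IntermediateField.coe_add]
      refine congrArg _ ?_
      rw [← congrFun (Representation.char_iso e) g]
      exact LinearMap.trace_prodMap' _ _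
    have hfr := Submodule.finrank_add_eq_of_isCompl hc
    rw [Module.finrank_fin_fun] at hfr
    have h1 := Submodule.one_le_finrank_iff.mpr fun h' =>
      ha0 (Subrepresentation.toSubmodule_injective h')
    have h2 := Submodule.one_le_finrank_iff.mpr (show b.toSubmodule ≠ ⊥ from fun hb0 => by
      rw [hb0] at hc
      exact ha1 (Subrepresentation.toSubmodule_injective (eq_top_of_isCompl_bot hc)))
    have hzero : ∀ (V : Type) [AddCommGroup V] [Module F V] [FiniteDimensional F V]
        (σ : Representation F G V), finrank F V < Nat.find hex →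
        Cfsg.classInner (fun g => ((σ.character g : F) : ℂ)) χ = 0 := by
      intro V _ _ _ σ hlt
      by_contra h
      obtain ⟨σ', hσ'⟩ := exists_coord σ
      exact Nat.find_min hex hlt ⟨σ', by rw [hσ']; exact h⟩
    refine hα ?_
    rw [hchar, classInner_add_left, hzero _ _ (by omega), hzero _ _ (by omega), add_zero]
  set a : G → ℂ := fun g => ((α.character g : F) : ℂ) with ha
  set D := finrank F (Representation.IntertwiningMap α α) with hD
  have hac : Cfsg.IsCharacter G a := Realised.isCharacter (realised_of_rep α)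
  have hmem : χ ∈ multiples a D := (AddSubgroup.closure_le _).mpr (fun f hf => by
    obtain ⟨n, ρ, hρ⟩ := hf
    show f ∈ multiples a D
    rw [show f = fun g => ((ρ.character g : F) : ℂ) from funext fun g => (hρ g).symm]
    exact mem_multiples_of_simple α hsimp _ _ ρ le_rfl) hspan
  obtain ⟨z, hz⟩ := hmem
  have hnorm : Cfsg.classInner a a = (D : ℂ) := classInner_eq_finrank α α
  obtain ⟨k, hk⟩ := IsCharacter.exists_decomp hac
  have hm : Cfsg.classInner a χ = (k ⟨χ, hχ⟩ : ℂ) := by
    rw [hk]
    exact classInner_combination (fun τ => (k τ : ℂ)) ⟨χ, hχ⟩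
  have hDk : D = ∑ τ, k τ * k τ := by
    have h : (D : ℂ) = ((∑ τ, k τ * k τ : ℕ) : ℂ) := by
      rw [← hnorm, hk, classInner_combination₂]
      push_cast
      simp
    exact_mod_cast h
  have hle : k ⟨χ, hχ⟩ * k ⟨χ, hχ⟩ ≤ D := hDk ▸ Finset.single_le_sum
    (f := fun τ => k τ * k τ) (fun τ _ => Nat.zero_le _) (Finset.mem_univ _)
  rw [classInner_comm_of_isCharacter (IsIrrCharacter.isCharacter hχ) hac, hm] at hz
  have hz' : (k ⟨χ, hχ⟩ : ℤ) = z * D := by exact_mod_cast hz
  have hk0 : k ⟨χ, hχ⟩ ≠ 0 := fun h0 => hα (by rw [hm, h0, Nat.cast_zero])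
  have hdvd : D ∣ k ⟨χ, hχ⟩ := by
    rw [← Int.natCast_dvd_natCast]
    exact ⟨z, by rw [hz', mul_comm]⟩
  have hle' := Nat.le_of_dvd (Nat.pos_of_ne_zero hk0) hdvd
  have hk1 : k ⟨χ, hχ⟩ = 1 := by
    have : k ⟨χ, hχ⟩ * k ⟨χ, hχ⟩ ≤ k ⟨χ, hχ⟩ * 1 := by omega
    have := Nat.le_of_mul_le_mul_left this (Nat.pos_of_ne_zero hk0)
    omega
  have hD1 : D = 1 := by rw [hk1] at hle hle'; omega
  have hirr : Cfsg.IsIrrCharacter G a :=
    IsCharacter.isIrr_of_norm_one hac (by rw [hnorm, hD1, Nat.cast_one])
  have heq : a = χ := by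
    by_contra hne
    exact hk0 (by
      have := hm.symm.trans (classInner_irr_of_ne hirr hχ hne)
      exact_mod_cast this)
  exact ⟨_, α, fun g => congrFun heq g⟩

/-- Monomial characters with values in `F` are realised. -/
theorem realised_induced [Fintype G] (H : Subgroup G) (l : H →* F) :
    Realised F (Cfsg.indFun H (fun h => ((l h : F) : ℂ))) := by
  classical
  haveI : Fintype H := Fintype.ofFinite H
  let P : (G → F) →ₗ[F] (G → F) :=
    { toFun := fun f x => (Nat.card H : F)⁻¹ * ∑ h : H, l h * f (x * h)
      map_add' := fun f f' => funext fun x => by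
        simp [mul_add, Finset.sum_add_distrib]
      map_smul' := fun c f => funext fun x => by
        simp only [Pi.smul_apply, smul_eq_mul, RingHom.id_apply, Finset.mul_sum]
        exact Finset.sum_congr rfl fun h _ => by ring }
  let W : Submodule F (G → F) :=
    { carrier := {f | ∀ (x : G) (h : H), l h * f (x * h) = f x}
      add_mem' := fun {a b} ha hb x h => by simp [mul_add, ha x h, hb x h]
      zero_mem' := fun x h => by simp
      smul_mem' := fun c a ha x h => by
        simp only [Pi.smul_apply, smul_eq_mul]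
        rw [mul_left_comm, ha x h] }
  let L : Representation F G (G → F) :=
    { toFun := fun g => LinearMap.funLeft F F fun x => g⁻¹ * x
      map_one' := by ext f x; simp [LinearMap.funLeft]
      map_mul' := fun a b => by ext f x; simp [LinearMap.funLeft, mul_assoc] }
  let S : Subrepresentation L := ⟨W, fun g f hf x h => by
    show l h * f (g⁻¹ * (x * h)) = f (g⁻¹ * x)
    rw [← mul_assoc]
    exact hf _ h⟩
  have hH0 : (Nat.card H : F) ≠ 0 := Nat.cast_ne_zero.mpr Nat.card_pos.ne'
  have hPmem : ∀ f, P f ∈ W := by
    intro f x k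
    show l k * ((Nat.card H : F)⁻¹ * ∑ h : H, l h * f (x * k * h)) =
      (Nat.card H : F)⁻¹ * ∑ h : H, l h * f (x * h)
    rw [mul_left_comm, Finset.mul_sum]
    congr 1
    refine Fintype.sum_equiv (Equiv.mulLeft k) _ _ fun h => ?_
    simp [mul_assoc]
  have hPid : ∀ f ∈ W, P f = f := fun f hf => funext fun x => by
    show (Nat.card H : F)⁻¹ * ∑ h : H, l h * f (x * h) = f x
    rw [Finset.sum_congr rfl fun h _ => hf x h, Finset.sum_const, Finset.card_univ, nsmul_eq_mul,
      ← Nat.card_eq_fintype_card, ← mul_assoc, inv_mul_cancel₀ hH0, one_mul]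
  convert realised_of_rep S.toRepresentation using 1
  funext g
  have hmaps : ∀ f, (L g ∘ₗ P) f ∈ W := fun f => S.apply_mem_toSubmodule g (hPmem f)
  have htr : S.toRepresentation.character g = LinearMap.trace F (G → F) (L g ∘ₗ P) := by
    rw [← LinearMap.trace_restrict_eq_of_forall_mem W (L g ∘ₗ P) hmaps]
    refine congrArg _ (LinearMap.ext fun w => Subtype.ext ?_)
    show L g (w : G → F) = L g (P w)
    rw [hPid _ w.2]
  show _ = ((S.toRepresentation.character g : F) : ℂ)
  rw [htr, LinearMap.trace_eq_matrix_trace F (Pi.basisFun F G), indFun_apply, Finset.mul_sum]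
  simp only [Matrix.trace, Matrix.diag, LinearMap.toMatrix_eq_toMatrix', LinearMap.toMatrix'_apply]
  push_cast
  refine Finset.sum_congr rfl fun x _ => ?_
  show _ = (((Nat.card H : F)⁻¹ * ∑ h : H, l h * (Pi.single x (1 : F) : G → F) (g⁻¹ * x * h) : F) : ℂ)
  simp only [Pi.single_apply]
  push_cast
  congr 1
  by_cases hx : x⁻¹ * g * x ∈ H
  · rw [extendByZero_mem H _ hx, Finset.sum_eq_single (⟨_, hx⟩ : H)]
    · simp [mul_assoc]
    · intro h _ hne
      rw [if_neg, IntermediateField.coe_zero, mul_zero]
      intro e
      refine hne (Subtype.ext ?_)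
      have : (h : G) = (g⁻¹ * x)⁻¹ * x := by rw [eq_inv_mul_iff_mul_eq]; exact e
      rw [this]; group
    · simp
  · rw [extendByZero_not_mem H _ hx]
    refine (Finset.sum_eq_zero fun h _ => ?_).symm
    rw [if_neg, IntermediateField.coe_zero, mul_zero]
    intro e
    refine hx ?_
    have : (h : G) = x⁻¹ * g * x := by
      rw [show (h : G) = (g⁻¹ * x)⁻¹ * x by rw [eq_inv_mul_iff_mul_eq]; exact e]
      group
    rw [← this]
    exact h.2

/-- Brauer's splitting field theorem. -/
theorem brauer_splitting [Finite G] (n : ℕ) (ρ : Representation ℂ G (Fin n → ℂ)) :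
    ∃ σ : Representation ℂ G (Fin n → ℂ), Nonempty (ρ.Equiv σ) ∧
      ∀ g : G, ∀ i j : Fin n, LinearMap.toMatrix' (σ g) i j ∈ Algebra.adjoin ℚ
        ({Complex.exp (2 * Real.pi * Complex.I / (Monoid.exponent G : ℂ))} : Set ℂ) := by
  classical
  haveI : Fintype G := Fintype.ofFinite G
  set ζ := Complex.exp (2 * Real.pi * Complex.I / (Monoid.exponent G : ℂ)) with hζ
  have he : Monoid.exponent G ≠ 0 := Monoid.exponent_ne_zero_of_finite
  have hprim : IsPrimitiveRoot ζ (Monoid.exponent G) := Complex.isPrimitiveRoot_exp _ he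
  let F := IntermediateField.adjoin ℚ ({ζ} : Set ℂ)
  have hsub : F.toSubalgebra = Algebra.adjoin ℚ ({ζ} : Set ℂ) :=
    IntermediateField.adjoin_simple_toSubalgebra_of_isAlgebraic
      (IsIntegral.isAlgebraic (IsIntegral.tower_top (hprim.isIntegral (Nat.pos_of_ne_zero he))))
  haveI : NeZero (Monoid.exponent G) := ⟨he⟩
  have hlam : ∀ (H : Subgroup G) (lam : H →* ℂˣ), ∃ l : H →* F, ∀ h, ((l h : F) : ℂ) = lam h := by
    intro H lam
    have hv : ∀ h : H, (lam h : ℂ) ∈ F := fun h => by
      have hp : (lam h : ℂ) ^ Monoid.exponent G = 1 := by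
        rw [← Units.val_pow_eq_pow_val, ← map_pow,
          show h ^ Monoid.exponent G = 1 from Subtype.ext (Monoid.pow_exponent_eq_one (h : G)),
          map_one, Units.val_one]
      obtain ⟨i, -, hi⟩ := hprim.eq_pow_of_pow_eq_one hp
      rw [← hi]
      exact pow_mem (IntermediateField.mem_adjoin_simple_self ℚ ζ) i
    exact ⟨{ toFun := fun h => ⟨_, hv h⟩
             map_one' := Subtype.ext (by simp)
             map_mul' := fun a b => Subtype.ext (by simp) }, fun h => rfl⟩
  have hirr : ∀ χ : Cfsg.IrrCharacter G, Realised F (χ : G → ℂ) := fun χ => by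
    refine realised_of_span χ.2 (AddSubgroup.closure_mono ?_
      (character_mem_linearSpan (IsIrrCharacter.isCharacter χ.2)))
    rintro f ⟨p, E, lam, -, -, rfl⟩
    obtain ⟨l, hl⟩ := hlam E lam
    simp only [← hl]
    exact realised_induced E l
  obtain ⟨m, hm⟩ := IsCharacter.exists_decomp (isCharacter_of_rep ρ)
  have hsum : ∀ s : Finset (Cfsg.IrrCharacter G),
      Realised F (∑ χ ∈ s, (m χ : ℂ) • (χ : G → ℂ)) := by
    intro s
    induction s using Finset.induction with
    | empty => simpa using Realised.zero
    | insert a s ha ih =>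
      rw [Finset.sum_insert ha]
      refine Realised.add ?_ ih
      generalize m a = k
      induction k with
      | zero => simpa using Realised.zero
      | succ k ihk => rw [Nat.cast_succ, add_smul, one_smul]; exact Realised.add ihk (hirr a)
  obtain ⟨n', σ, hσ⟩ := hsum Finset.univ
  have hchar : ρ.character = (complexify σ).character :=
    hm.trans (funext fun g => ((character_complexify σ g).trans (hσ g)).symm)
  have hn : n = n' := by
    have := congrFun hchar 1
    simpa using this
  subst hn
  refine ⟨complexify σ, nonempty_equiv_of_char_eq ρ _ hchar, fun g i j => ?_⟩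
  rw [toMatrix_complexify, ← hsub]
  exact (LinearMap.toMatrix' (σ g) i j).2

end Cfsg.Agent.Char.Splitting
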