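import Cfsg.Agent.Lib.Char.Quasi

/-!
# Brauer's induction theorem and the characterisation of characters
-/

set_option linter.style.haveILetI false
set_option linter.unusedSectionVars false
set_option maxHeartbeats 800000

namespace Cfsg.Agent.Char

open scoped ComplexConjugate

universe u v

theorem isElementary_of_equiv {p : ℕ} {A : Type u} {B : Type v} [Group A] [Group B]
    (e : A ≃* B) (h : Cfsg.IsElementary p A) : ∃ x : B, x ∈ Subgroup.center B ∧
      Nat.Coprime (orderOf x) p ∧ ∃ k : ℕ, (Subgroup.zpowers x).index = p ^ k := by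
  obtain ⟨x, hx, hc, k, hk⟩ := h
  refine ⟨e x, Subgroup.mem_center_iff.mpr fun y => ?_, ?_, k, ?_⟩
  · obtain ⟨y, rfl⟩ := e.surjective y
    rw [← map_mul, ← map_mul, Subgroup.mem_center_iff.mp hx]
  · rwa [MulEquiv.orderOf_eq]
  · rw [show e x = e.toMonoidHom x from rfl, ← MonoidHom.map_zpowers,
      Subgroup.index_map_of_bijective e.bijective, hk]

variable {G : Type u} [Group G]

/-- An invariant linear character trivial on the fixed points of a complementing `p`-subgroup is
trivial. -/
theorem linear_trivial_of_fixed [Finite G] {p : ℕ} [Fact p.Prime] (C P : Subgroup G) [hC : C.Normal]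
    (hP : IsPGroup p P) (hcop : Nat.Coprime (Nat.card C) p) (f : C →* ℂˣ)
    (hinv : ∀ (g : G) (c : C), f ⟨g * c * g⁻¹, hC.conj_mem (c : G) c.2 g⟩ = f c)
    (hker : ∀ c : C, (c : G) ∈ Subgroup.centralizer (P : Set G) → f c = 1) (c : C) : f c = 1 := by
  classical
  let X := {x : C // f x = f c}
  letI : MulAction P X :=
    { smul := fun g x => ⟨⟨(g : G) * ((x : C) : G) * (g : G)⁻¹, hC.conj_mem ((x : C) : G) (x : C).2 g⟩,
        (hinv g x).trans x.2⟩
      one_smul := fun x => Subtype.ext (Subtype.ext (by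
        show ((1 : P) : G) * ((x : C) : G) * ((1 : P) : G)⁻¹ = _; simp))
      mul_smul := fun a b x => Subtype.ext (Subtype.ext (by
        show ((a * b : P) : G) * ((x : C) : G) * ((a * b : P) : G)⁻¹ =
          (a : G) * ((b : G) * ((x : C) : G) * (b : G)⁻¹) * (a : G)⁻¹
        simp [mul_assoc])) }
  have hcard : Nat.card X = Nat.card f.ker := by
    refine Nat.card_congr ((Equiv.mulRight c⁻¹).subtypeEquiv fun x => ?_)
    rw [Equiv.coe_mulRight, MonoidHom.mem_ker, map_mul, map_inv, mul_inv_eq_one]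
  have hne : Nat.card (MulAction.fixedPoints P X) ≠ 0 := fun h0 => by
    have h1 := hP.card_modEq_card_fixedPoints (α := X)
    rw [h0, hcard, Nat.modEq_zero_iff_dvd] at h1
    exact (Fact.out : p.Prime).not_dvd_one
      (hcop ▸ Nat.dvd_gcd (h1.trans (Subgroup.card_subgroup_dvd_card f.ker)) dvd_rfl)
  obtain ⟨⟨⟨x, hx⟩, hfix⟩⟩ := (Nat.card_ne_zero.mp hne).1
  rw [← hx]
  refine hker x (Subgroup.mem_centralizer_iff.mpr fun g hg => ?_)
  have h2 := congrArg (fun y : X => ((y : C) : G)) (hfix ⟨g, hg⟩)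
  exact mul_inv_eq_iff_eq_mul.mp h2

variable [Fintype G]

/-- The integral span of the functions induced from characters of elementary subgroups. -/
def elemSpan (p : ℕ) (G : Type u) [Group G] [Fintype G] : AddSubgroup (G → ℂ) :=
  AddSubgroup.closure {f | ∃ (E : Subgroup G) (φ : E → ℂ),
    Cfsg.IsElementary p E ∧ Cfsg.IsCharacter E φ ∧ f = Cfsg.indFun E φ}

theorem indFun_mem_elemSpan {p : ℕ} (E : Subgroup G) {φ : E → ℂ} (hE : Cfsg.IsElementary p E)
    (hφ : Cfsg.IsCharacter E φ) : Cfsg.indFun E φ ∈ elemSpan p G :=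
  AddSubgroup.subset_closure ⟨E, φ, hE, hφ, rfl⟩

theorem char_mul_mem_elemSpan {p : ℕ} {χ f : G → ℂ} (hχ : Cfsg.IsCharacter G χ)
    (hf : f ∈ elemSpan p G) : χ * f ∈ elemSpan p G := by
  induction hf using AddSubgroup.closure_induction with
  | mem x hx =>
    obtain ⟨E, φ, hE, hφ, rfl⟩ := hx
    rw [mul_indFun E (IsCharacter.isClassFunction hχ) φ]
    exact indFun_mem_elemSpan E hE (IsCharacter.mul (IsCharacter.restrict hχ E) hφ)
  | zero => simp [(elemSpan p G).zero_mem]
  | add y z _ _ hy hz => rw [mul_add]; exact (elemSpan p G).add_mem hy hz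
  | neg y _ hy => rw [mul_neg]; exact (elemSpan p G).neg_mem hy

theorem indFun_elemSpan {p : ℕ} (H : Subgroup G) [Fintype H] {f : H → ℂ}
    (hf : f ∈ elemSpan p H) : Cfsg.indFun H f ∈ elemSpan p G := by
  induction hf using AddSubgroup.closure_induction with
  | mem x hx =>
    obtain ⟨E, φ, hE, hφ, rfl⟩ := hx
    let e := E.equivMapOfInjective H.subtype H.subtype_injective
    rw [indFun_map H E φ (fun y => φ (e.symm y)) (fun u => congrArg φ (e.symm_apply_apply u))]
    exact indFun_mem_elemSpan _ (isElementary_of_equiv e hE) (IsCharacter.comp hφ e.symm.toMonoidHom)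
  | zero => rw [indFun_zero]; exact (elemSpan p G).zero_mem
  | add y z _ _ hy hz => rw [indFun_add]; exact (elemSpan p G).add_mem hy hz
  | neg y _ hy => rw [indFun_neg]; exact (elemSpan p G).neg_mem hy

/-- The principal character of a quasi-elementary group is in the elementary span. -/
theorem one_mem_elemSpan_of_quasi {p : ℕ} (hp : p.Prime) :
    ∀ (n : ℕ) (H : Type u) [Group H] [Fintype H], Nat.card H = n → IsQuasi p H →
      (fun _ : H => (1 : ℂ)) ∈ elemSpan p H := by
  classical
  haveI := Fact.mk hp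
  intro n
  induction n using Nat.strong_induction_on with
  | _ n ih =>
  intro H _ _ hn hq
  obtain ⟨C, hC, hcyc, hcop, k, hk⟩ := hq
  haveI := hC
  haveI := hcyc
  haveI : Fintype C := Fintype.ofFinite C
  have hccomm : ∀ a ∈ C, ∀ b ∈ C, a * b = b * a := fun a ha b hb => by
    letI : CommGroup C := IsCyclic.commGroup
    exact congrArg Subtype.val (mul_comm (⟨a, ha⟩ : C) ⟨b, hb⟩)
  obtain ⟨P⟩ : Nonempty (Sylow p H) := inferInstance
  have hcardP : Nat.card (P : Subgroup H) = p ^ k := by
    rw [P.card_eq_multiplicity, ← Subgroup.card_mul_index C, hk,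
      Nat.factorization_mul Nat.card_pos.ne' (pow_ne_zero _ hp.ne_zero)]
    simp only [Finsupp.add_apply, hp.factorization_pow, Finsupp.single_eq_same]
    rw [Nat.factorization_eq_zero_of_not_dvd fun h =>
      hp.ne_one (Nat.dvd_one.mp (hcop ▸ Nat.dvd_gcd h dvd_rfl)), zero_add]
  have hcopP : ∀ (A B : Subgroup H), A ≤ C → B ≤ (P : Subgroup H) → A ⊓ B = ⊥ := by
    intro A B hA hB
    refine eq_bot_iff.mpr (le_trans (inf_le_inf hA hB) (le_of_eq ?_))
    refine Subgroup.inf_eq_bot_of_coprime ?_
    rw [hcardP]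
    exact hcop.pow_right k
  have hCP : C ⊔ (P : Subgroup H) = ⊤ := by
    refine Subgroup.eq_top_of_card_eq _ (Nat.dvd_antisymm (Subgroup.card_subgroup_dvd_card _) ?_)
    rw [← Subgroup.card_mul_index C, hk, ← hcardP]
    refine Nat.Coprime.mul_dvd_of_dvd_of_dvd ?_ (Subgroup.card_dvd_of_le le_sup_left)
      (Subgroup.card_dvd_of_le le_sup_right)
    rw [hcardP]; exact hcop.pow_right k
  set Z := C ⊓ Subgroup.centralizer ((P : Subgroup H) : Set H) with hZ
  have hZcenter : Z ≤ Subgroup.center H := by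
    intro z hz
    rw [Subgroup.mem_center_iff]
    intro y
    have hy : y ∈ C ⊔ (P : Subgroup H) := by rw [hCP]; trivial
    obtain ⟨a, ha, b, hb, rfl⟩ := Subgroup.mem_sup_of_normal_left.mp hy
    rw [mul_assoc, Subgroup.mem_centralizer_iff.mp hz.2 b hb, ← mul_assoc, hccomm a ha z hz.1,
      mul_assoc]
  haveI : Z.Normal := ⟨fun z hz g => by
    rw [Subgroup.mem_center_iff.mp (hZcenter hz) g, mul_inv_cancel_right]; exact hz⟩
  set E := Z ⊔ (P : Subgroup H) with hEdef
  haveI : Fintype E := Fintype.ofFinite E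
  have hcardE : Nat.card E = Nat.card Z * p ^ k := by
    rw [← hcardP]
    have h1 := Subgroup.card_mul_index (Z.subgroupOf E)
    rw [Nat.card_congr (Subgroup.subgroupOfEquivOfLe (le_sup_left : Z ≤ E)).toEquiv,
      show (Z.subgroupOf E).index = Z.relIndex E from rfl, hEdef, sup_comm,
      Subgroup.relIndex_sup_right, ← Subgroup.inf_relIndex_right, hcopP Z _ inf_le_left le_rfl,
      Subgroup.relIndex_bot_left] at h1
    rw [hEdef, sup_comm]
    exact h1.symm
  have hE : Cfsg.IsElementary p E := by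
    obtain ⟨z, hz⟩ : ∃ z : H, Subgroup.zpowers z = Z := by
      haveI : IsCyclic (Z : Subgroup H) := isCyclic_of_injective (Subgroup.inclusion
        (inf_le_left : Z ≤ C)) (Subgroup.inclusion_injective _)
      obtain ⟨z, hz⟩ := IsCyclic.exists_generator (α := Z)
      refine ⟨z, le_antisymm (Subgroup.zpowers_le.mpr z.2) fun y hy => ?_⟩
      obtain ⟨j, hj⟩ := Subgroup.mem_zpowers_iff.mp (hz ⟨y, hy⟩)
      exact Subgroup.mem_zpowers_iff.mpr ⟨j, congrArg Subtype.val hj⟩
    have hzZ : z ∈ Z := hz ▸ Subgroup.mem_zpowers z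
    refine ⟨⟨z, (le_sup_left : Z ≤ E) hzZ⟩, Subgroup.mem_center_iff.mpr fun y =>
      Subtype.ext (Subgroup.mem_center_iff.mp (hZcenter hzZ) y), ?_, k, ?_⟩
    · rw [← orderOf_injective E.subtype E.subtype_injective]
      show Nat.Coprime (orderOf z) p
      rw [← Nat.card_zpowers, hz]
      exact hcop.coprime_dvd_left (Subgroup.card_dvd_of_le inf_le_left)
    · have h1 := Subgroup.card_mul_index (Subgroup.zpowers (⟨z, (le_sup_left : Z ≤ E) hzZ⟩ : E))
      rw [Nat.card_zpowers, ← orderOf_injective E.subtype E.subtype_injective,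
        show orderOf (E.subtype (⟨z, (le_sup_left : Z ≤ E) hzZ⟩ : E)) = Nat.card Z from
          (Nat.card_zpowers z).symm.trans (congrArg (fun K : Subgroup H => Nat.card K) hz), hcardE] at h1
      exact mul_left_cancel₀ Nat.card_pos.ne' h1
  have hgen := indFun_mem_elemSpan (p := p) E hE isCharacter_one
  obtain ⟨m, hm⟩ := IsCharacter.exists_decomp (isCharacter_indFun E (θ := fun _ : E => (1 : ℂ))
    isCharacter_one)
  -- the multiplicity of the principal character
  have hmprin : m (principal H) = 1 := by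
    have h1 := classInner_indFun_left E (fun _ : E => (1 : ℂ))
      (IsCharacter.isClassFunction (IsIrrCharacter.isCharacter (principal H).2))
    rw [hm, classInner_combination] at h1
    have h2 : Cfsg.classInner (fun _ : E => (1 : ℂ)) (fun h : E => (principal H : H → ℂ) h) = 1 :=
      classInner_self_irr isIrrCharacter_one
    rw [h2] at h1
    exact_mod_cast h1
  suffices hothers : ∀ χ : Cfsg.IrrCharacter H, χ ≠ principal H → m χ ≠ 0 →
      (χ : H → ℂ) ∈ elemSpan p H by
    have hsplit := Finset.add_sum_erase Finset.univ (fun χ => (m χ : ℂ) • (χ : H → ℂ))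
      (Finset.mem_univ (principal H))
    rw [← hm, hmprin, Nat.cast_one, one_smul] at hsplit
    rw [show (fun _ : H => (1 : ℂ)) = (principal H : H → ℂ) from rfl, ← eq_sub_iff_add_eq.mpr hsplit |>.symm]
    refine (elemSpan p H).sub_mem hgen ((elemSpan p H).sum_mem fun χ hχ => ?_)
    by_cases h0 : m χ = 0
    · simp [h0, (elemSpan p H).zero_mem]
    · rw [Nat.cast_smul_eq_nsmul]
      exact (elemSpan p H).nsmul_mem (hothers χ (Finset.ne_of_mem_erase hχ) h0) _
  intro χ hχp hχ0
  obtain ⟨θ, hθ⟩ := exists_restrict_constituent χ.2 C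
  have hθc := IsIrrCharacter.isCharacter θ.2
  have hθ1 : (θ : C → ℂ) 1 = 1 :=
    degree_one_of_comm (fun a b => Subtype.ext (hccomm a a.2 b b.2)) θ.2
  obtain ⟨f, hf⟩ := exists_hom_of_degree_one hθc hθ1
  -- `θ` is trivial on `Z`
  have hχZ : ∀ z ∈ Z, (χ : H → ℂ) z = (χ : H → ℂ) 1 := by
    intro z hz
    refine kernel_constituent m ?_ χ hχ0
    have hval : Cfsg.indFun E (fun _ => (1 : ℂ)) z = Cfsg.indFun E (fun _ => (1 : ℂ)) 1 := by
      rw [indFun_apply, indFun_apply]
      congr 1
      refine Finset.sum_congr rfl fun x _ => ?_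
      rw [Subgroup.mem_center_iff.mp (hZcenter hz) x⁻¹, mul_assoc, inv_mul_cancel, mul_one, mul_one,
        inv_mul_cancel, extendByZero_one, extendByZero_mem E _ ((le_sup_left : Z ≤ E) hz)]
    rw [hm] at hval
    simpa using hval
  have hθZ : ∀ c : C, (c : H) ∈ Subgroup.centralizer ((P : Subgroup H) : Set H) → f c = 1 := by
    intro c hc
    obtain ⟨a, ha⟩ := IsCharacter.exists_decomp
      (IsCharacter.restrict (IsIrrCharacter.isCharacter χ.2) C)
    have hθa : a θ ≠ 0 := by
      rw [ha, classInner_combination, Nat.cast_ne_zero] at hθ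
      exact hθ
    have h1 := kernel_constituent a (g := c) (by
      have e1 := congrFun ha c
      have e2 := congrFun ha 1
      simp only [Finset.sum_apply, Pi.smul_apply, smul_eq_mul] at e1 e2
      rw [← e1, ← e2, OneMemClass.coe_one, hχZ _ ⟨c.2, hc⟩]) θ hθa
    rw [hθ1, hf] at h1
    exact Units.ext h1
  -- `θ` is not invariant
  have hθne : ∃ c : C, f c ≠ 1 := by
    by_contra hall
    push_neg at hall
    have hθeq : (θ : C → ℂ) = fun _ => 1 := by
      rw [hf]; funext c; rw [hall c, Units.val_one]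
    rw [hθeq] at hθ
    have htriv := restrict_over_one C χ.2 hθ
    have hone : Cfsg.classInner (fun c : C => Cfsg.indFun E (fun _ => (1 : ℂ)) c) (fun _ => 1) = 1 := by
      have hCE : ∀ (c : C) (x : H), x⁻¹ * (c : H) * x ∈ E ↔ x⁻¹ * (c : H) * x ∈ Z := by
        refine fun c x => ⟨fun hcE => ?_, fun h => (le_sup_left : Z ≤ E) h⟩
        obtain ⟨a, ha, b, hb, e⟩ := Subgroup.mem_sup_of_normal_left.mp hcE
        have hbC : b ∈ C := by
          have h' : b = a⁻¹ * (x⁻¹ * (c : H) * x) := by rw [← e]; group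
          rw [h']
          exact C.mul_mem (C.inv_mem ha.1) (by simpa using hC.conj_mem (c : H) c.2 x⁻¹)
        have hb1 : b = 1 := by
          have := (hcopP C (P : Subgroup H) le_rfl le_rfl).le ⟨hbC, hb⟩
          simpa using this
        rw [← e, hb1, mul_one]
        exact ha
      simp only [Cfsg.classInner, map_one, mul_one, indFun_apply, ← Finset.mul_sum]
      rw [Finset.sum_comm]
      have hx : ∀ x : H, ∑ c : C, Cfsg.extendByZero E (fun _ => (1 : ℂ)) (x⁻¹ * (c : H) * x) =
          (Nat.card Z : ℂ) := by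
        intro x
        have hv : ∀ c : C, Cfsg.extendByZero E (fun _ => (1 : ℂ)) (x⁻¹ * (c : H) * x) =
            if (c : H) ∈ Z then 1 else 0 := fun c => by
          have hiff : x⁻¹ * (c : H) * x ∈ Z ↔ (c : H) ∈ Z :=
            ⟨fun h => by simpa [mul_assoc] using Subgroup.Normal.conj_mem ‹Z.Normal› _ h x,
              fun h => by simpa using Subgroup.Normal.conj_mem ‹Z.Normal› _ h x⁻¹⟩
          split_ifs with hcZ
          · rw [extendByZero_mem E _ ((hCE c x).mpr (hiff.mpr hcZ))]
          · rw [extendByZero_not_mem E _ (fun h => hcZ (hiff.mp ((hCE c x).mp h)))]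
        rw [Finset.sum_congr rfl fun c _ => hv c, Finset.sum_boole, ← Fintype.card_subtype,
          ← Nat.card_eq_fintype_card]
        congr 1
        exact Nat.card_congr ((Subgroup.subgroupOfEquivOfLe (inf_le_left : Z ≤ C)).toEquiv)
      rw [Finset.sum_congr rfl fun x _ => hx x, Finset.sum_const, Finset.card_univ, nsmul_eq_mul,
        ← Nat.card_eq_fintype_card, hcardE, ← Subgroup.card_mul_index C, hk]
      push_cast
      have h1 : (Nat.card Z : ℂ) ≠ 0 := Nat.cast_ne_zero.mpr Nat.card_pos.ne'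
      have h2 : (Nat.card C : ℂ) ≠ 0 := Nat.cast_ne_zero.mpr Nat.card_pos.ne'
      have h3 : ((p : ℂ)) ^ k ≠ 0 := pow_ne_zero _ (Nat.cast_ne_zero.mpr hp.ne_zero)
      field_simp
    rw [show (fun c : C => Cfsg.indFun E (fun _ => (1 : ℂ)) c) =
        ∑ ψ, (m ψ : ℂ) • fun c : C => (ψ : H → ℂ) c from funext fun c => by
      rw [hm]; simp, classInner_sum_left] at hone
    choose b hb using fun ψ : Cfsg.IrrCharacter H => IsCharacter.exists_classInner_nat
      (IsCharacter.restrict (IsIrrCharacter.isCharacter ψ.2) C) (isCharacter_one (G := C))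
    have hsum : ∑ ψ, m ψ * b ψ = 1 := by
      have : ((∑ ψ, m ψ * b ψ : ℕ) : ℂ) = 1 := by
        rw [← hone, Nat.cast_sum]
        exact Finset.sum_congr rfl fun ψ _ => by rw [classInner_smul_left, hb, Nat.cast_mul]
      exact_mod_cast this
    have hbp : b (principal H) = 1 := by
      have := hb (principal H)
      rw [show (fun c : C => (principal H : H → ℂ) c) = fun _ => 1 from rfl,
        classInner_self_irr isIrrCharacter_one] at this
      exact_mod_cast this.symm
    have hbχ : b χ ≠ 0 := fun h0 => by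
      have := hb χ
      rw [h0, Nat.cast_zero] at this
      exact hθ this
    have h2 : m χ * b χ + m (principal H) * b (principal H) ≤ ∑ ψ, m ψ * b ψ := by
      rw [← Finset.sum_pair (f := fun ψ => m ψ * b ψ) hχp]
      exact Finset.sum_le_sum_of_subset (Finset.subset_univ _)
    have := Nat.mul_pos (Nat.pos_of_ne_zero hχ0) (Nat.pos_of_ne_zero hbχ)
    rw [hsum, hmprin, hbp] at h2
    omega
  set T := inertia C (θ : C → ℂ) with hTdef
  haveI : Fintype T := Fintype.ofFinite T
  have hTne : T ≠ ⊤ := fun htop => by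
    obtain ⟨c, hc⟩ := hθne
    refine hc (linear_trivial_of_fixed C (P : Subgroup H) P.isPGroup' hcop f (fun g c => ?_) hθZ c)
    have hg : g ∈ T := by rw [htop]; trivial
    have := congrFun ((mem_inertia C).mp hg) c
    simp only [conjChar, hf] at this
    exact Units.ext this
  have hCT : C ≤ T := le_inertia C (IsCharacter.isClassFunction hθc)
  obtain ⟨ψ, hψ, hind, -⟩ := clifford_correspondence_surjective C θ.2 hTdef hCT χ.2 hθ
  have hlt : Nat.card T < n := by
    rw [← hn]
    exact lt_of_le_of_ne (Nat.le_of_dvd Nat.card_pos (Subgroup.card_subgroup_dvd_card T))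
      fun e => hTne (Subgroup.eq_top_of_card_eq _ e)
  have h1 := ih _ hlt T rfl (IsQuasi.comap hp T.subtype T.subtype_injective
    ⟨C, hC, hcyc, hcop, k, hk⟩)
  rw [← hind]
  refine indFun_elemSpan T ?_
  have := char_mul_mem_elemSpan (IsIrrCharacter.isCharacter hψ) h1
  rwa [show ψ * (fun _ : T => (1 : ℂ)) = ψ from funext fun t => mul_one _] at this

/-- Local form of Brauer's induction theorem. -/
theorem exists_elem_const {p : ℕ} (hp : p.Prime) :
    ∃ m : ℤ, ¬ (p : ℤ) ∣ m ∧ (fun _ : G => (m : ℂ)) ∈ elemSpan p G := by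
  classical
  obtain ⟨m, a, hm, ha, he⟩ := exists_solomon (G := G) hp
  refine ⟨m, hm, ?_⟩
  rw [he]
  refine (elemSpan p G).sum_mem fun H _ => ?_
  by_cases h0 : a H = 0
  · simp [h0, (elemSpan p G).zero_mem]
  · haveI : Fintype H := Fintype.ofFinite H
    rw [Int.cast_smul_eq_zsmul]
    exact (elemSpan p G).zsmul_mem
      (indFun_elemSpan H (one_mem_elemSpan_of_quasi hp _ H rfl (ha H h0))) _

/-- The integral span of characters induced from all elementary subgroups. -/
def brauerSpan (G : Type u) [Group G] [Fintype G] : AddSubgroup (G → ℂ) :=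
  ⨆ p : {p : ℕ // p.Prime}, elemSpan (p : ℕ) G

theorem one_mem_brauerSpan : (fun _ : G => (1 : ℂ)) ∈ brauerSpan G := by
  let A : AddSubgroup ℤ := (brauerSpan G).comap
    ((Pi.constAddMonoidHom G ℂ).comp (Int.castAddHom ℂ))
  obtain ⟨a, ha⟩ := Int.subgroup_cyclic A
  rw [← AddSubgroup.zmultiples_eq_closure] at ha
  have hA : (1 : ℤ) ∈ A := by
    by_contra h1
    rw [ha, Int.mem_zmultiples_iff] at h1
    obtain ⟨p, hp, hpa⟩ := Nat.exists_prime_and_dvd
      (fun e => h1 (Int.natAbs_dvd_natAbs.mp (by simp [e])) : a.natAbs ≠ 1)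
    obtain ⟨m, hm, hmR⟩ := exists_elem_const (G := G) hp
    have : m ∈ A := le_iSup (fun p : {p : ℕ // p.Prime} => elemSpan (p : ℕ) G) ⟨p, hp⟩ hmR
    rw [ha, Int.mem_zmultiples_iff] at this
    exact hm ((Int.natCast_dvd.mpr hpa).trans this)
  have h : (fun _ : G => ((1 : ℤ) : ℂ)) ∈ brauerSpan G := hA
  simpa using h

/-- An induction principle on the functions induced from elementary subgroups. -/
theorem brauerSpan_induction {P : (G → ℂ) → Prop}
    (mem : ∀ (p : ℕ) (E : Subgroup G) (φ : E → ℂ), p.Prime → Cfsg.IsElementary p E →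
      Cfsg.IsCharacter E φ → P (Cfsg.indFun E φ))
    (zero : P 0) (add : ∀ f g, P f → P g → P (f + g)) (neg : ∀ f, P f → P (-f))
    {f : G → ℂ} (hf : f ∈ brauerSpan G) : P f := by
  refine AddSubgroup.iSup_induction (fun p : {p : ℕ // p.Prime} => elemSpan (p : ℕ) G) (C := P) hf
    (fun p x hx => ?_) zero add
  induction hx using AddSubgroup.closure_induction with
  | mem y hy =>
    obtain ⟨E, φ, hE, hφ, rfl⟩ := hy
    exact mem _ E φ p.2 hE hφ
  | zero => exact zero
  | add y z _ _ hy hz => exact add y z hy hz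
  | neg y _ hy => exact neg y hy

/-- Brauer's characterisation of generalized characters. -/
theorem isGeneralizedCharacter_of_elementary {θ : G → ℂ} (hθ : Cfsg.IsClassFunction G θ)
    (hE : ∀ (E : Subgroup G) (p : ℕ), p.Prime → Cfsg.IsElementary p E →
      Cfsg.IsGeneralizedCharacter E (fun e : E => θ e)) : Cfsg.IsGeneralizedCharacter G θ := by
  have key : ∀ f ∈ brauerSpan G, Cfsg.IsGeneralizedCharacter G (θ * f) := by
    intro f hf
    refine brauerSpan_induction (P := fun f => Cfsg.IsGeneralizedCharacter G (θ * f))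
      (fun p E φ hp hEl hφ => ?_) ?_ (fun f g hf hg => ?_) (fun f hf => ?_) hf
    · rw [mul_indFun E hθ φ]
      exact IsGeneralizedCharacter.indFun E (IsGeneralizedCharacter.mul (hE E p hp hEl)
        (IsGeneralizedCharacter.of_isCharacter hφ))
    · rw [mul_zero]; exact isGeneralizedCharacter_zero
    · rw [mul_add]; exact IsGeneralizedCharacter.add hf hg
    · rw [mul_neg]; exact IsGeneralizedCharacter.neg hf
  have := key _ one_mem_brauerSpan
  rwa [show θ * (fun _ : G => (1 : ℂ)) = θ from funext fun x => mul_one _] at this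

end Cfsg.Agent.Char
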