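import Cfsg.Agent.Lib.Char.ExtensionChar
import Cfsg.Agent.Lib.Char.Galois
import Mathlib.FieldTheory.Galois.Infinite

/-!
# Determinants along homomorphisms and field automorphisms; fixed elements of cyclotomic fields
-/

set_option autoImplicit false
set_option linter.style.haveILetI false
set_option linter.unusedSectionVars false

namespace Cfsg.Agent.DetComp

open Cfsg Cfsg.Agent.Char Cfsg.Agent.CharExtend

universe u v w x

variable {A : Type u} [Group A] [Finite A] {B : Type v} [Group B] [Finite B]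

theorem detHom_eq_of_char {V : Type w} [AddCommGroup V] [Module ℂ V] [FiniteDimensional ℂ V]
    {W : Type x} [AddCommGroup W] [Module ℂ W] [FiniteDimensional ℂ W]
    (ρ : Representation ℂ A V) (τ : Representation ℂ A W) (h : ρ.character = τ.character) :
    detHom ρ = detHom τ := by
  obtain ⟨e⟩ := nonempty_equiv_of_char_eq ρ τ h
  exact MonoidHom.ext fun g => Units.ext (det_eq_of_equiv e g).symm

theorem detChar_comp (e : A →* B) {χ : B → ℂ} (hχ : Cfsg.IsCharacter B χ) :
    Cfsg.detChar (fun a => χ (e a)) = fun a => Cfsg.detChar χ (e a) := by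
  obtain ⟨n, ρ, rfl⟩ := hχ
  rw [detChar_eq ρ]
  exact (detChar_eq (ρ.comp e) :)

theorem detOrder_comp (e : A →* B) (he : Function.Surjective e) {χ : B → ℂ}
    (hχ : Cfsg.IsCharacter B χ) : Cfsg.detOrder (fun a => χ (e a)) = Cfsg.detOrder χ := by
  let F : (B → ℂ) →* (A → ℂ) :=
    { toFun := fun f a => f (e a), map_one' := rfl, map_mul' := fun _ _ => rfl }
  rw [Cfsg.detOrder, detChar_comp e hχ]
  exact orderOf_injective F (fun f g h => funext fun b => by
    obtain ⟨a, rfl⟩ := he b
    exact congrFun h a) _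

theorem orderOf_detHom_ne_zero {V : Type w} [AddCommGroup V] [Module ℂ V] [FiniteDimensional ℂ V]
    (ρ : Representation ℂ A V) : orderOf (detHom ρ) ≠ 0 := by
  refine Nat.pos_iff_ne_zero.1 (IsOfFinOrder.orderOf_pos ?_)
  refine isOfFinOrder_iff_pow_eq_one.2 ⟨Nat.card A, Nat.card_pos, MonoidHom.ext fun g => ?_⟩
  rw [MonoidHom.pow_apply, ← map_pow, pow_card_eq_one', map_one, MonoidHom.one_apply]

theorem det_twistRep {n : ℕ} (σ : ℂ ≃+* ℂ) (ρ : Representation ℂ A (Fin n → ℂ)) (g : A) :
    LinearMap.det (CharGalois.twistRep σ ρ g) = σ (LinearMap.det (ρ g)) := by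
  rw [← LinearMap.det_toMatrix', ← LinearMap.det_toMatrix' (f := ρ g), RingEquiv.map_det]
  congr 1
  ext i j
  simp only [LinearMap.toMatrix'_apply, CharGalois.twistRep_apply, RingEquiv.mapMatrix_apply,
    Matrix.map_apply]
  refine congrArg σ (congrFun (congrArg (ρ g) (funext fun k => ?_)) i)
  simp [apply_ite σ.symm, Pi.single_apply]

theorem detOrder_galois (σ : ℂ ≃+* ℂ) {χ : A → ℂ} (hχ : Cfsg.IsCharacter A χ) :
    Cfsg.detOrder (fun a => σ (χ a)) = Cfsg.detOrder χ := by
  obtain ⟨n, ρ, rfl⟩ := hχ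
  rw [show (fun a => σ (ρ.character a)) = (CharGalois.twistRep σ ρ).character from
    funext fun a => (CharGalois.character_twistRep σ ρ a).symm, detOrder_eq, detOrder_eq]
  have h : detHom (CharGalois.twistRep σ ρ) =
      (Units.map σ.toRingHom.toMonoidHom).comp (detHom ρ) :=
    MonoidHom.ext fun g => Units.ext (det_twistRep σ ρ g)
  rw [h]
  let F : (A →* ℂˣ) →* (A →* ℂˣ) :=
    { toFun := fun f => (Units.map σ.toRingHom.toMonoidHom).comp f
      map_one' := MonoidHom.ext fun _ => map_one (Units.map σ.toRingHom.toMonoidHom)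
      map_mul' := fun f g => MonoidHom.ext fun a => map_mul (Units.map σ.toRingHom.toMonoidHom) (f a) (g a) }
  exact orderOf_injective F (fun f g h => MonoidHom.ext fun a => Units.ext
    (σ.injective (congrArg Units.val (DFunLike.congr_fun h a) :))) _

/-- An algebraic number fixed by the automorphisms fixing a set of algebraic numbers lies in the
field they generate. -/
theorem mem_adjoin_set_of_fixed {S : Set ℂ} {z : ℂ} (hS : ∀ w ∈ S, IsAlgebraic ℚ w)
    (hz : IsAlgebraic ℚ z) (hfix : ∀ σ : ℂ ≃+* ℂ, (∀ w ∈ S, σ w = w) → σ z = z) :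
    z ∈ IntermediateField.adjoin ℚ S := by
  haveI : IsAlgClosure ℚ (algebraicClosure ℚ ℂ) := algebraicClosure.isAlgClosure ℚ ℂ
  haveI : Normal ℚ (algebraicClosure ℚ ℂ) := IsAlgClosure.normal ℚ _
  haveI : IsGalois ℚ (algebraicClosure ℚ ℂ) := ⟨⟩
  let z' : algebraicClosure ℚ ℂ := ⟨z, mem_algebraicClosure_iff.2 hz⟩
  set S' : Set (algebraicClosure ℚ ℂ) := {w | (w : ℂ) ∈ S} with hS'
  set L := IntermediateField.adjoin ℚ S' with hL
  have hmem : z' ∈ L := by
    rw [← InfiniteGalois.fixedField_fixingSubgroup L, IntermediateField.mem_fixedField_iff]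
    intro τ hτ
    obtain ⟨σ, hσ⟩ := CharGalois.exists_aut_extending τ.toRingEquiv
    refine Subtype.ext ((hσ z').symm.trans (hfix σ fun w hw => ?_))
    let w' : algebraicClosure ℚ ℂ := ⟨w, mem_algebraicClosure_iff.2 (hS w hw)⟩
    exact (hσ w').trans (congrArg Subtype.val ((IntermediateField.mem_fixingSubgroup_iff L τ).1 hτ w'
      (IntermediateField.subset_adjoin ℚ S' hw)))
  suffices h : ∀ w ∈ L, (w : ℂ) ∈ IntermediateField.adjoin ℚ S from h z' hmem
  intro w hw
  induction hw using IntermediateField.adjoin_induction with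
  | mem x hx => exact IntermediateField.subset_adjoin ℚ S hx
  | algebraMap q =>
    rw [show ((algebraMap ℚ (algebraicClosure ℚ ℂ) q : algebraicClosure ℚ ℂ) : ℂ) =
      algebraMap ℚ ℂ q by simp]
    exact IntermediateField.algebraMap_mem _ q
  | add a b _ _ ha hb => exact add_mem ha hb
  | inv a _ ha => exact inv_mem ha
  | mul a b _ _ ha hb => exact mul_mem ha hb

/-- An algebraic number fixed by the automorphisms fixing a root of unity lies in the field it
generates. -/
theorem mem_adjoin_of_fixed {ζ z : ℂ} (hζ : IsAlgebraic ℚ ζ) (hz : IsAlgebraic ℚ z)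
    (hfix : ∀ σ : ℂ ≃+* ℂ, σ ζ = ζ → σ z = z) :
    z ∈ IntermediateField.adjoin ℚ ({ζ} : Set ℂ) :=
  mem_adjoin_set_of_fixed (fun _ hw => Set.mem_singleton_iff.1 hw ▸ hζ) hz
    fun σ h => hfix σ (h ζ rfl)

/-- Automorphisms fixing a set fix the field it generates. -/
theorem fixed_of_mem_adjoin_set {S : Set ℂ} {z : ℂ} (σ : ℂ ≃+* ℂ) (hσ : ∀ w ∈ S, σ w = w)
    (hz : z ∈ IntermediateField.adjoin ℚ S) : σ z = z := by
  induction hz using IntermediateField.adjoin_induction with
  | mem x hx => exact hσ x hx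
  | algebraMap q => exact map_ratCast σ q
  | add a b _ _ ha hb => rw [map_add, ha, hb]
  | inv a _ ha => rw [map_inv₀, ha]
  | mul a b _ _ ha hb => rw [map_mul, ha, hb]

/-- Automorphisms fixing a generator fix the field it generates. -/
theorem fixed_of_mem_adjoin {ζ z : ℂ} (σ : ℂ ≃+* ℂ) (hσ : σ ζ = ζ)
    (hz : z ∈ IntermediateField.adjoin ℚ ({ζ} : Set ℂ)) : σ z = z :=
  fixed_of_mem_adjoin_set σ (fun _ hw => Set.mem_singleton_iff.1 hw ▸ hσ) hz

end Cfsg.Agent.DetComp
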