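import Cfsg.Agent.Lib.Char.Multiplicity
import Cfsg.Agent.Lib.Char.CoprimeCount
import Cfsg.Agent.Lib.Char.Degree
import Cfsg.Agent.Lib.Char.Orbit
import Cfsg.Agent.Lib.PLocal.PSolvable
import Cfsg.Agent.Lib.Solvable.Fitting

/-!
Itô's theorem and its converse for `p`-soluble groups.
-/

set_option linter.style.haveILetI false
set_option linter.unusedSectionVars false
set_option autoImplicit false

namespace Cfsg.Agent.Char.Ito

open Cfsg.Agent.Char

universe u

variable {G : Type u} [Group G] [Finite G]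

/-- An irreducible character lies over every irreducible character of a normal subgroup. -/
theorem exists_above [Fintype G] (N : Subgroup G) [N.Normal] [Fintype N]
    (θ : Cfsg.IrrCharacter N) :
    ∃ χ : Cfsg.IrrCharacter G, Cfsg.classInner (fun n : N => (χ : G → ℂ) n) (θ : N → ℂ) ≠ 0 := by
  obtain ⟨χ, hχ⟩ := IsCharacter.exists_constituent
    (isCharacter_indFun N (IsIrrCharacter.isCharacter θ.2)) fun h => by
      have h1 : Cfsg.indFun N (θ : N → ℂ) 1 = 0 := by rw [h]; rfl
      rw [indFun_one_apply] at h1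
      exact mul_ne_zero (Nat.cast_ne_zero.2 Subgroup.index_ne_zero_of_finite)
        (IsIrrCharacter.one_ne_zero θ.2) h1
  refine ⟨χ, fun h => hχ ?_⟩
  rw [← classInner_conj_symm, classInner_indFun_right N (θ : N → ℂ)
    (IsCharacter.isClassFunction (IsIrrCharacter.isCharacter χ.2)), h, map_zero]

/-- The degrees below divide the degrees above. -/
theorem dvd_of_over [Fintype G] (N : Subgroup G) [N.Normal] [Fintype N] (χ : Cfsg.IrrCharacter G)
    (θ : Cfsg.IrrCharacter N)
    (h : Cfsg.classInner (fun n : N => (χ : G → ℂ) n) (θ : N → ℂ) ≠ 0) :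
    Cfsg.charDegree (θ : N → ℂ) ∣ Cfsg.charDegree (χ : G → ℂ) := by
  obtain ⟨e, he, -⟩ := exists_ratio_dvd_index N χ.2 θ.2 h
  rw [Cfsg.Agent.CharX.irr_deg, Cfsg.Agent.CharX.irr_deg θ, ← Nat.cast_mul, Nat.cast_inj] at he
  exact ⟨e, by rw [he, mul_comm]⟩

/-- Itô: the degrees divide the index of an abelian normal subgroup. -/
theorem degree_dvd_index [Fintype G] (A : Subgroup G) [A.Normal] (hA : IsMulCommutative A)
    (χ : Cfsg.IrrCharacter G) : Cfsg.charDegree (χ : G → ℂ) ∣ A.index := by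
  haveI : Fintype A := Fintype.ofFinite A
  obtain ⟨θ, hθ⟩ := exists_restrict_constituent χ.2 A
  obtain ⟨e, he, hdvd⟩ := exists_ratio_dvd_index A χ.2 θ.2 hθ
  rw [degree_one_of_comm (fun a b => hA.is_comm.comm a b) θ.2, mul_one,
    Cfsg.Agent.CharX.irr_deg, Nat.cast_inj] at he
  exact he ▸ hdvd

/-- A group all whose irreducible characters are linear is commutative. -/
theorem comm_of_all_linear [Fintype G]
    (h : ∀ χ : Cfsg.IrrCharacter G, (χ : G → ℂ) 1 = 1) : IsMulCommutative G := by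
  classical
  have h1 := Cfsg.Agent.CharX.sum_deg_sq (G := G)
  have h2 : ∀ χ : Cfsg.IrrCharacter G, Cfsg.charDegree (χ : G → ℂ) = 1 := fun χ => by
    have := h χ
    rwa [Cfsg.Agent.CharX.irr_deg, Nat.cast_eq_one] at this
  simp only [h2, one_pow, Finset.sum_const, Finset.card_univ, smul_eq_mul, mul_one] at h1
  have h3 := card_linear (G := G)
  rw [Nat.card_congr (Equiv.subtypeUnivEquiv h), Nat.card_eq_fintype_card, h1] at h3
  have hbot : commutator G = ⊥ := by
    have := (commutator G).card_mul_index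
    rw [← h3] at this
    refine Subgroup.card_eq_one.1 (Nat.eq_of_mul_eq_mul_right (Nat.card_pos (α := G)) ?_)
    rw [this, one_mul]
  rw [commutator_eq_bot_iff_center_eq_top] at hbot
  exact ⟨⟨fun a b => (Subgroup.mem_center_iff.1 (hbot ▸ Subgroup.mem_top b) a)⟩⟩

/-- A subgroup meeting every class is the whole group. -/
theorem eq_top_of_meets {N : Type u} [Group N] [Finite N] (C : Subgroup N)
    (h : ∀ x : N, ∃ y : N, y * x * y⁻¹ ∈ C) : C = ⊤ := by
  classical
  haveI := Fintype.ofFinite N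
  let f : Option ((N ⧸ C) × {c : C // c ≠ 1}) → N := fun o =>
    o.elim 1 fun qc => qc.1.out * ((qc.2.1 : C) : N) * qc.1.out⁻¹
  have hf : Function.Surjective f := by
    intro x
    by_cases hx : x = 1
    · exact ⟨none, hx.symm⟩
    obtain ⟨y, hy⟩ := h x
    obtain ⟨c, hc⟩ : ∃ c : C, ((y⁻¹ : N) : N ⧸ C).out = y⁻¹ * c :=
      ⟨⟨y * ((y⁻¹ : N) : N ⧸ C).out, by
        have := QuotientGroup.eq.1 (Quotient.out_eq ((y⁻¹ : N) : N ⧸ C)).symm
        simpa using this⟩, by simp⟩
    refine ⟨some (((y⁻¹ : N) : N ⧸ C), ⟨c⁻¹ * ⟨_, hy⟩ * c, fun e => hx ?_⟩), ?_⟩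
    · have := congrArg (fun z : C => y⁻¹ * ((c : N) * (z : N) * (c : N)⁻¹) * y) e
      simpa [mul_assoc] using this
    · show ((y⁻¹ : N) : N ⧸ C).out * ((c : N)⁻¹ * (y * x * y⁻¹) * (c : N)) *
        ((y⁻¹ : N) : N ⧸ C).out⁻¹ = x
      rw [hc]; group
  have hle := Nat.card_le_card_of_surjective f hf
  rw [Finite.card_option, Nat.card_prod] at hle
  have hne : Nat.card {c : C // c ≠ 1} = Nat.card C - 1 := by
    rw [Nat.card_eq_fintype_card, Nat.card_eq_fintype_card, Fintype.card_subtype_compl,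
      Fintype.card_subtype_eq]
  rw [hne, ← Subgroup.index, ← C.card_mul_index] at hle
  by_contra htop
  have h2 : 2 ≤ C.index := by
    have := Subgroup.index_ne_zero_of_finite (H := C)
    have : C.index ≠ 1 := fun e => htop (Subgroup.index_eq_one.1 e)
    omega
  have h3 : 1 ≤ Nat.card C := Nat.card_pos
  obtain ⟨k, hk⟩ : ∃ k, Nat.card C = k + 1 := ⟨Nat.card C - 1, by omega⟩
  rw [hk, Nat.add_sub_cancel] at hle
  nlinarith

/-- A `p`-group fixing every irreducible character of a `p'`-group centralises it. -/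
theorem centralizes_of_invariant {N : Type u} [Group N] [Fintype N] {R : Type u} [Group R]
    [Finite R] {p : ℕ} [Fact p.Prime] (hR : IsPGroup p R) (hN : ¬ p ∣ Nat.card N)
    (φ : R →* MulAut N) (hinv : ∀ χ : Cfsg.IrrCharacter N, ∀ u n, (χ : N → ℂ) (φ u n) = (χ : N → ℂ) n) :
    ∀ u n, φ u n = n := by
  classical
  have hconj : ∀ (u : R) (n : N), IsConj (φ u n) n := fun u n =>
    (isConj_iff_forall_irr _ _).2 fun χ => hinv χ u n
  let C : Subgroup N :=
    { carrier := {n | ∀ u, φ u n = n}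
      one_mem' := fun u => map_one _
      mul_mem' := fun {a b} ha hb u => by rw [map_mul, ha u, hb u]
      inv_mem' := fun {a} ha u => by rw [map_inv, ha u] }
  suffices hC : C = ⊤ from fun u n => (hC ▸ Subgroup.mem_top n : n ∈ C) u
  refine eq_top_of_meets C fun x => ?_
  let S := {n : N // IsConj x n}
  letI : MulAction R S :=
    { smul := fun u n => ⟨φ u n.1, n.2.trans (hconj u n.1).symm⟩
      one_smul := fun n => Subtype.ext (show φ 1 n.1 = n.1 by rw [map_one]; rfl)
      mul_smul := fun u v n => Subtype.ext (show φ (u * v) n.1 = φ u (φ v n.1) by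
        rw [map_mul]; rfl) }
  have hcard : ¬ p ∣ Nat.card S := by
    intro hd
    refine hN (hd.trans ?_)
    have e : Nat.card S = Nat.card (MulAction.orbit (ConjAct N) x) :=
      Nat.card_congr (Equiv.subtypeEquivRight fun n => by
        rw [ConjAct.mem_orbit_conjAct]; exact ⟨fun h => h.symm, fun h => h.symm⟩)
    rw [e, Nat.card_congr (MulAction.orbitEquivQuotientStabilizer (ConjAct N) x)]
    exact (Subgroup.card_quotient_dvd_card _).trans (dvd_of_eq (Nat.card_congr ConjAct.ofConjAct.toEquiv))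
  obtain ⟨n, hn⟩ := hR.nonempty_fixed_point_of_prime_not_dvd_card S hcard
  obtain ⟨y, hy⟩ := isConj_iff.1 n.2
  exact ⟨y, fun u => by rw [hy]; exact congrArg Subtype.val (hn u)⟩

theorem converse (n : ℕ) : ∀ (G : Type u) [Group G] [Finite G] (p : ℕ) [Fact p.Prime],
    Nat.card G = n → Cfsg.IsPSolvable p G →
    (∀ χ : Cfsg.IrrCharacter G, ¬ p ∣ Cfsg.charDegree (χ : G → ℂ)) →
    ∀ P : Sylow p G, (P : Subgroup G).Normal ∧ IsMulCommutative P := by
  induction n using Nat.strong_induction_on with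
  | _ n ih => ?_
  intro G _ _ p _ hn hsolv hdeg P
  classical
  have hp : p.Prime := Fact.out
  haveI : Fintype G := Fintype.ofFinite G
  rcases subsingleton_or_nontrivial G with hG | hG
  · exact ⟨⟨fun a ha g => by rwa [Subsingleton.elim (g * a * g⁻¹) a]⟩,
      ⟨⟨fun a b => Subsingleton.elim _ _⟩⟩⟩
  -- quotients inherit
  have hquot : ∀ (N : Subgroup G) [N.Normal], N ≠ ⊥ →
      (((P : Subgroup G).map (QuotientGroup.mk' N)).Normal ∧
        IsMulCommutative ((P : Subgroup G).map (QuotientGroup.mk' N))) := by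
    intro N _ hN
    have hlt : Nat.card (G ⧸ N) < n := by
      rw [← hn, N.card_eq_card_quotient_mul_card_subgroup]
      exact lt_mul_of_one_lt_right Nat.card_pos (Subgroup.one_lt_card_iff_ne_bot _ |>.2 hN)
    exact ih _ hlt (G ⧸ N) p rfl (Cfsg.Agent.PSolvable.quotient N hsolv)
      (fun φ => hdeg (Cfsg.Agent.CharX.infl N φ))
      (P.mapSurjective (QuotientGroup.mk'_surjective N))
  rcases Cfsg.Agent.PSolvable.exists_core_ne_bot hsolv with hO | hO
  · -- a normal `p`-subgroup
    let N := Cfsg.pCore p G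
    haveI : N.Normal := inferInstance
    obtain ⟨hn1, -⟩ := hquot N hO
    have hNP : N ≤ (P : Subgroup G) := Cfsg.Agent.PBasic.pCore_le_sylow P
    have hPn : (P : Subgroup G).Normal := by
      have := hn1.comap (QuotientGroup.mk' N)
      rwa [Subgroup.comap_map_eq_self (by rwa [QuotientGroup.ker_mk'])] at this
    refine ⟨hPn, ?_⟩
    haveI := hPn
    haveI : Fintype (P : Subgroup G) := Fintype.ofFinite _
    refine comm_of_all_linear fun ψ => ?_
    obtain ⟨χ, hχ⟩ := exists_above (P : Subgroup G) ψ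
    obtain ⟨k, hk⟩ := IsPGroup.iff_card.1 P.isPGroup'
    obtain ⟨j, -, hj⟩ := (Nat.dvd_prime_pow hp).1 (hk ▸ Cfsg.Agent.CharX.irr_deg_dvd_card ψ)
    rw [Cfsg.Agent.CharX.irr_deg, Nat.cast_eq_one, hj]
    rcases j with - | j
    · rw [pow_zero]
    · exact absurd ((hj ▸ dvd_pow_self p (Nat.succ_ne_zero j) : p ∣ Cfsg.charDegree (ψ : ↥(P : Subgroup G) → ℂ)).trans
        (dvd_of_over _ χ ψ hχ)) (hdeg χ)
  · -- a normal `p'`-subgroup
    let N := Cfsg.pPrimeCore p G
    haveI : N.Normal := Cfsg.Agent.FittingCores.pPrimeCore_normal p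
    have hNp : ¬ p ∣ Nat.card N := (hp.coprime_iff_not_dvd).1
      (Cfsg.Agent.FittingCores.pPrimeCore_coprime p).symm
    obtain ⟨hn1, hn2⟩ := hquot N hO
    let L : Subgroup G := (P : Subgroup G) ⊔ N
    haveI hLn : L.Normal := by
      have := hn1.comap (QuotientGroup.mk' N)
      rwa [Subgroup.comap_map_eq, QuotientGroup.ker_mk'] at this
    haveI : Fintype L := Fintype.ofFinite L
    haveI : Fintype N := Fintype.ofFinite N
    let N' : Subgroup L := N.subgroupOf L
    haveI : Fintype N' := Fintype.ofFinite N'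
    have hNL : N ≤ L := le_sup_right
    have hN'idx : ∃ i, N'.index = p ^ i := by
      obtain ⟨i, hi⟩ := IsPGroup.iff_card.1 P.isPGroup'
      obtain ⟨j, -, hj⟩ := (Nat.dvd_prime_pow hp).1 (show N.relIndex L ∣ p ^ i by
        have h1 : N.relIndex L = N.relIndex (P : Subgroup G) :=
          Subgroup.relIndex_sup_right (P : Subgroup G) N
        rw [h1, ← hi]
        exact Subgroup.relIndex_dvd_card _ _)
      exact ⟨j, hj⟩
    have hcent : ∀ (u : (P : Subgroup G)) (n : N), (MulAut.conjNormal (u : G) : N ≃* N) n = n := by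
      refine centralizes_of_invariant P.isPGroup' hNp
        (MulAut.conjNormal.comp (P : Subgroup G).subtype) fun θ u n => ?_
      let eN : N' ≃* N := Subgroup.subgroupOfEquivOfLe hNL
      let θ' : Cfsg.IrrCharacter N' :=
        ⟨_, IsIrrCharacter.comp θ.2 eN.toMonoidHom eN.surjective⟩
      obtain ⟨ψ, hψ⟩ := exists_above N' θ'
      obtain ⟨χ, hχ⟩ := exists_above L ψ
      have hpψ : ¬ p ∣ Cfsg.charDegree (ψ : L → ℂ) := fun h => hdeg χ (h.trans (dvd_of_over L χ ψ hχ))
      have hcd := clifford_degree N' ψ.2 θ'.2 hψ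
      obtain ⟨m, hm⟩ := IsCharacter.exists_classInner_nat
        (IsCharacter.restrict (IsIrrCharacter.isCharacter ψ.2) N') (IsIrrCharacter.isCharacter θ'.2)
      rw [hm, Cfsg.Agent.CharX.irr_deg, Cfsg.Agent.CharX.irr_deg θ', ← Nat.cast_mul,
        ← Nat.cast_mul, Nat.cast_inj] at hcd
      obtain ⟨i, hi⟩ := hN'idx
      obtain ⟨j, -, hj⟩ := (Nat.dvd_prime_pow hp).1 (hi ▸ Subgroup.index_dvd_of_le
        (le_inertia N' (IsCharacter.isClassFunction (IsIrrCharacter.isCharacter θ'.2))))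
      rcases j with - | j
      · rw [pow_zero] at hj
        have hu : (⟨(u : G), Subgroup.mem_sup_left u.2⟩ : L) ∈ inertia N' (θ' : N' → ℂ) := by
          rw [Subgroup.index_eq_one.1 hj]; trivial
        refine Eq.trans ?_ (((mem_inertia_iff N').1 hu (eN.symm n)).trans
          (congrArg (θ : N → ℂ) (eN.apply_symm_apply n)))
        exact congrArg (θ : N → ℂ) (Subtype.ext (MulAut.conjNormal_apply (u : G) n))
      · exact absurd (Dvd.dvd.mul_right (Dvd.dvd.mul_left (hj ▸ dvd_pow_self p (Nat.succ_ne_zero j)) _) _)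
          (hcd ▸ hpψ)
    have hcomm : ∀ u ∈ (P : Subgroup G), ∀ x ∈ N, Commute u x := fun u hu x hx => by
      have h := congrArg Subtype.val (hcent ⟨u, hu⟩ ⟨x, hx⟩)
      rw [MulAut.conjNormal_apply] at h
      exact mul_inv_eq_iff_eq_mul.1 h
    have hPn : (P : Subgroup G).Normal := by
      refine ⟨fun a ha g => ?_⟩
      have hL : g * a * g⁻¹ ∈ (P : Subgroup G) ⊔ N := hLn.conj_mem a (Subgroup.mem_sup_left ha) g
      obtain ⟨b, hb, c, hc, hbc⟩ := Subgroup.mem_sup_of_normal_right.1 hL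
      obtain ⟨i, hi⟩ := P.isPGroup' ⟨a, ha⟩
      obtain ⟨j, hj⟩ := P.isPGroup' ⟨b, hb⟩
      have hi' : a ^ p ^ i = 1 := congrArg Subtype.val hi
      have hj' : b ^ p ^ j = 1 := congrArg Subtype.val hj
      have hc1 : c ^ p ^ (i + j) = 1 := by
        have h1 : (g * a * g⁻¹) ^ p ^ (i + j) = 1 := by
          rw [conj_pow, pow_add, pow_mul, hi', one_pow, mul_one, mul_inv_cancel]
        rw [← hbc, (hcomm b hb c hc).mul_pow] at h1
        rwa [pow_add p i j, mul_comm (p ^ i), pow_mul b, hj', one_pow, one_mul, mul_comm (p ^ j),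
          ← pow_add] at h1
      have hc2 : c ^ Nat.card N = 1 := by
        have := pow_card_eq_one' (x := (⟨c, hc⟩ : N))
        exact congrArg Subtype.val this
      have hc3 : c = 1 := Cfsg.Agent.CharExtend.eq_one_of_pow_coprime hc1 hc2
        (((hp.coprime_iff_not_dvd).2 hNp).pow_left _)
      rw [← hbc, hc3, mul_one]
      exact hb
    refine ⟨hPn, ⟨⟨fun a b => Subtype.ext ?_⟩⟩⟩
    have h1 := congrArg Subtype.val (hn2.is_comm.comm
      (⟨_, ⟨a, a.2, rfl⟩⟩ : (P : Subgroup G).map (QuotientGroup.mk' N)) ⟨_, ⟨b, b.2, rfl⟩⟩)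
    change ((a : G) : G ⧸ N) * ((b : G) : G ⧸ N) = ((b : G) : G ⧸ N) * ((a : G) : G ⧸ N) at h1
    rw [← QuotientGroup.mk_mul, ← QuotientGroup.mk_mul, QuotientGroup.eq] at h1
    obtain ⟨i, hi⟩ := P.isPGroup' ((a * b)⁻¹ * (b * a))
    have hc2 := pow_card_eq_one' (x := (⟨_, h1⟩ : N))
    have hone : ((a : G) * b)⁻¹ * (b * a) = 1 := Cfsg.Agent.CharExtend.eq_one_of_pow_coprime
      (by simpa using congrArg Subtype.val hi) (congrArg Subtype.val hc2)
      (((hp.coprime_iff_not_dvd).2 hNp).pow_left i)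
    exact inv_mul_eq_one.1 hone

end Cfsg.Agent.Char.Ito
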