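import Cfsg.Agent.Lib.Char.ExtensionChar
import Cfsg.Agent.Lib.Char.Complete
import Cfsg.Prelude.Def_Blocks

/-!
# Thompson's normal complement theorem from character degrees
-/

set_option linter.style.haveILetI false

namespace Cfsg.Agent.Char.TC

open Cfsg.Agent.CharExtend

universe u v

theorem modEq_sum {ι : Type*} {n : ℕ} (s : Finset ι) {f g : ι → ℕ}
    (h : ∀ i ∈ s, f i ≡ g i [MOD n]) : ∑ i ∈ s, f i ≡ ∑ i ∈ s, g i [MOD n] := by
  classical
  induction s using Finset.induction_on with
  | empty => rfl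
  | insert a s ha ih =>
    rw [Finset.sum_insert ha, Finset.sum_insert ha]
    exact (h a (Finset.mem_insert_self a s)).add (ih fun i hi => h i (Finset.mem_insert_of_mem hi))

theorem sum_modEq_fixed {Q : Type u} [Group Q] {p : ℕ} [Fact p.Prime] (hQ : IsPGroup p Q)
    {X : Type v} [Fintype X] [MulAction Q X] (w : X → ℕ) (hw : ∀ (q : Q) (x : X), w (q • x) = w x)
    [DecidablePred fun x : X => x ∈ MulAction.fixedPoints Q X] :
    ∑ x, w x ≡ ∑ x ∈ Finset.univ.filter (fun x => x ∈ MulAction.fixedPoints Q X), w x [MOD p] := by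
  classical
  rw [← Finset.sum_fiberwise_of_maps_to (t := Finset.univ.image w) (g := w)
      (fun x _ => Finset.mem_image_of_mem w (Finset.mem_univ x)) w,
    ← Finset.sum_fiberwise_of_maps_to (t := Finset.univ.image w) (g := w)
      (s := Finset.univ.filter fun x => x ∈ MulAction.fixedPoints Q X)
      (fun x _ => Finset.mem_image_of_mem w (Finset.mem_univ x)) w]
  refine modEq_sum _ fun d _ => ?_
  rw [Finset.sum_congr rfl (fun x hx => (Finset.mem_filter.mp hx).2),
    Finset.sum_congr (s₁ := (Finset.univ.filter fun x => x ∈ MulAction.fixedPoints Q X).filter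
      fun x => w x = d) rfl (fun x hx => (Finset.mem_filter.mp hx).2),
    Finset.sum_const, Finset.sum_const, smul_eq_mul, smul_eq_mul]
  refine Nat.ModEq.mul_right d ?_
  letI : MulAction Q {x : X // w x = d} :=
    { smul := fun q x => ⟨q • x.1, (hw q x.1).trans x.2⟩
      one_smul := fun x => Subtype.ext (one_smul Q x.1)
      mul_smul := fun a b x => Subtype.ext (mul_smul a b x.1) }
  have h := hQ.card_modEq_card_fixedPoints {x : X // w x = d}
  have e1 : Nat.card {x : X // w x = d} = (Finset.univ.filter fun x => w x = d).card := by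
    rw [Nat.card_eq_fintype_card, Fintype.card_subtype]
  have e2 : Nat.card (MulAction.fixedPoints Q {x : X // w x = d}) =
      ((Finset.univ.filter fun x => x ∈ MulAction.fixedPoints Q X).filter
        fun x => w x = d).card := by
    rw [Finset.filter_filter, ← Fintype.card_subtype, ← Nat.card_eq_fintype_card]
    refine Nat.card_congr
      { toFun := fun y => ⟨y.1.1, fun q => congrArg Subtype.val (y.2 q), y.1.2⟩
        invFun := fun x => ⟨⟨x.1, x.2.2⟩, fun q => Subtype.ext (x.2.1 q)⟩
        left_inv := fun y => rfl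
        right_inv := fun x => rfl }
  rwa [e1, e2] at h

variable {G : Type u} [Group G] {p : ℕ}

theorem finite_hom (K : Type u) [Group K] [Finite K] : Finite (K →* ℂˣ) :=
  Finite.of_injective (β := Cfsg.IrrCharacter K) (fun f => ⟨_, isIrrCharacter_linear f⟩)
    fun _ _ h => detHom_unique (congrArg Subtype.val h)

/-- A minimal normal subgroup of `p`-power index has no linear character of order `p`. -/
theorem exists_residual [Finite G] (hp : p.Prime) :
    ∃ K : Subgroup G, K.Normal ∧ (∃ k, K.index = p ^ k) ∧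
      ∀ c : K →* ℂˣ, c ^ p = 1 → c = 1 := by
  classical
  obtain ⟨K, hK⟩ := (Set.toFinite {N : Subgroup G | N.Normal ∧ ∃ k, N.index = p ^ k}).exists_minimal
    ⟨⊤, inferInstance, 0, by simp⟩
  obtain ⟨hKn, k, hk⟩ := hK.prop
  refine ⟨K, hKn, ⟨k, hk⟩, fun c hc => ?_⟩
  let L0 : Subgroup K :=
    { carrier := {x | ∀ d : K →* ℂˣ, d ^ p = 1 → d x = 1}
      one_mem' := fun d _ => map_one d
      mul_mem' := fun {a b} ha hb d hd => by rw [map_mul, ha d hd, hb d hd, one_mul]
      inv_mem' := fun {a} ha d hd => by rw [map_inv, ha d hd, inv_one] }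
  haveI hL0n : L0.Normal := ⟨fun a ha g d hd => by
    rw [map_mul, map_mul, ha d hd, mul_one, map_inv, mul_inv_cancel]⟩
  have hidx : ∃ j, L0.index = p ^ j := by
    haveI := Fact.mk hp
    have hpg : IsPGroup p (K ⧸ L0) := by
      intro q
      obtain ⟨x, rfl⟩ := QuotientGroup.mk_surjective q
      refine ⟨1, ?_⟩
      rw [pow_one, ← QuotientGroup.mk_pow, QuotientGroup.eq_one_iff]
      intro d hd
      rw [map_pow, ← MonoidHom.pow_apply, hd, MonoidHom.one_apply]
    obtain ⟨j, hj⟩ := hpg.exists_card_eq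
    exact ⟨j, by rw [Subgroup.index_eq_card, hj]⟩
  obtain ⟨j, hj⟩ := hidx
  set L := L0.map K.subtype with hL
  have hLn : L.Normal := ⟨by
    rintro _ ⟨a, ha, rfl⟩ g
    refine ⟨conjHom K g a, fun d hd => ?_, rfl⟩
    refine ha (d.comp (conjHom K g)) ?_
    ext x
    simpa using congrArg Units.val (DFunLike.congr_fun hd (conjHom K g x))⟩
  have hLK : L ≤ K := Subgroup.map_subtype_le L0
  have hLi : L.index = p ^ (j + k) := by
    rw [← Subgroup.relIndex_mul_index hLK, Subgroup.relIndex, Subgroup.subgroupOf, hL,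
      Subgroup.comap_map_eq_self_of_injective K.subtype_injective, hj, hk, pow_add]
  have hKL : K ≤ L := hK.le_of_le ⟨hLn, j + k, hLi⟩ hLK
  ext x
  obtain ⟨y, hy, hyx⟩ := hKL x.2
  rw [← K.subtype_injective hyx]
  exact congrArg Units.val (hy c hc)

theorem detHom_invariant [Finite G] {K : Subgroup G} [hK : K.Normal] {d : ℕ}
    (σ : Representation ℂ K (Fin d → ℂ))
    (hinv : ∀ g : G, conjChar K g σ.character = σ.character) (g : G) (n : K) :
    detHom σ (conjHom K g n) = detHom σ n := by
  have e1 := detChar_eq σ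
  let τ : Representation ℂ K (Fin d → ℂ) := σ.comp (conjHom K g)
  have e2 := detChar_eq τ
  have e3 : τ.character = σ.character := hinv g
  rw [e3, e1] at e2
  exact Units.ext (congrFun e2 n).symm

/-- Thompson's theorem: if `p` divides every non-linear degree there is a normal complement. -/
theorem exists_complement [Finite G] (hp : p.Prime)
    (hdeg : ∀ χ : G → ℂ, Cfsg.IsIrrCharacter G χ → ∀ d : ℕ, χ 1 = d → d = 1 ∨ p ∣ d) :
    ∃ N : Subgroup G, N.Normal ∧ (Nat.card N).Coprime p ∧ ∃ k : ℕ, N.index = p ^ k := by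
  classical
  haveI := Fact.mk hp
  haveI : Fintype G := Fintype.ofFinite G
  obtain ⟨K, hKn, ⟨k, hk⟩, hres⟩ := exists_residual (G := G) hp
  haveI := hKn
  refine ⟨K, hKn, ?_, k, hk⟩
  haveI : Fintype K := Fintype.ofFinite K
  by_contra hcop
  have hpK : p ∣ Nat.card K := by
    by_contra h
    exact hcop (((Nat.Prime.coprime_iff_not_dvd hp).mpr h).symm)
  obtain ⟨P⟩ : Nonempty (Sylow p G) := inferInstance
  letI : MulAction (P : Subgroup G) (Cfsg.IrrCharacter K) :=
    { smul := fun g θ => ⟨conjChar K (g : G)⁻¹ θ.1, isIrrCharacter_conjChar K θ.2 _⟩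
      one_smul := fun θ => Subtype.ext (by
        show conjChar K ((1 : G))⁻¹ θ.1 = θ.1
        rw [inv_one, conjChar_one])
      mul_smul := fun a b θ => Subtype.ext (by
        show conjChar K ((a : G) * b)⁻¹ θ.1 = conjChar K (a : G)⁻¹ (conjChar K (b : G)⁻¹ θ.1)
        rw [mul_inv_rev, conjChar_mul]) }
  have hdg : ∀ θ : Cfsg.IrrCharacter K, (θ : K → ℂ) 1 = (Cfsg.charDegree (θ : K → ℂ) : ℂ) := by
    intro θ
    obtain ⟨d, -, hd⟩ := IsIrrCharacter.exists_degree θ.2
    rw [hd, Cfsg.charDegree, hd, Complex.natCast_re, Nat.floor_natCast]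
  have hw : ∀ (g : (P : Subgroup G)) (θ : Cfsg.IrrCharacter K),
      Cfsg.charDegree ((g • θ : Cfsg.IrrCharacter K) : K → ℂ) ^ 2 =
        Cfsg.charDegree (θ : K → ℂ) ^ 2 := by
    intro g θ
    have : ((g • θ : Cfsg.IrrCharacter K) : K → ℂ) 1 = (θ : K → ℂ) 1 :=
      congrArg θ.1 (Subtype.ext (by simp))
    rw [Cfsg.charDegree, Cfsg.charDegree, this]
  have hmod := sum_modEq_fixed P.isPGroup' (fun θ : Cfsg.IrrCharacter K =>
    Cfsg.charDegree (θ : K → ℂ) ^ 2) hw
  have hsum : ∑ θ : Cfsg.IrrCharacter K, Cfsg.charDegree (θ : K → ℂ) ^ 2 = Nat.card K := by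
    have h := sum_sq_degree (G := K)
    simp only [hdg] at h
    exact_mod_cast h
  simp only [hsum] at hmod
  set F := Finset.univ.filter fun θ : Cfsg.IrrCharacter K =>
    θ ∈ MulAction.fixedPoints (P : Subgroup G) (Cfsg.IrrCharacter K) with hF
  have hinv : ∀ θ ∈ F, ∀ g : G, conjChar K g (θ : K → ℂ) = θ := by
    intro θ hθ g
    have htop : inertia K (θ : K → ℂ) = ⊤ := by
      have hKle := le_inertia K (IsCharacter.isClassFunction (IsIrrCharacter.isCharacter θ.2))
      have hPle : (P : Subgroup G) ≤ inertia K (θ : K → ℂ) := fun x hx => by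
        have := congrArg Subtype.val ((Finset.mem_filter.mp hθ).2 ⟨x⁻¹, inv_mem hx⟩)
        rw [mem_inertia]
        change conjChar K (x⁻¹)⁻¹ (θ : K → ℂ) = θ at this
        rwa [inv_inv] at this
      refine Subgroup.index_eq_one.mp (Nat.dvd_one.mp ?_)
      have h1 := Subgroup.index_dvd_of_le hKle
      have h2 := Subgroup.index_dvd_of_le hPle
      rw [hk] at h1
      have h3 : Nat.Coprime (p ^ k) (P : Subgroup G).index :=
        Nat.Coprime.pow_left _ ((Nat.Prime.coprime_iff_not_dvd hp).mpr P.not_dvd_index)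
      rw [← h3.gcd_eq_one]
      exact Nat.dvd_gcd h1 h2
    exact (mem_inertia K).mp (htop ▸ Subgroup.mem_top g)
  have hlin : ∀ θ ∈ F, ¬ p ∣ Cfsg.charDegree (θ : K → ℂ) → Cfsg.charDegree (θ : K → ℂ) = 1 := by
    intro θ hθ hnd
    obtain ⟨d, σ, hσ, hσc, hd, hσi⟩ := exists_setup θ.2 (fun g n => congrFun (hinv θ hθ g) n)
    have hdd : Cfsg.charDegree (θ : K → ℂ) = d := by exact_mod_cast (hdg θ).symm.trans hd
    have hord : Nat.Coprime K.index (orderOf (detHom σ)) := by
      rw [hk]
      refine Nat.Coprime.pow_left _ ((Nat.Prime.coprime_iff_not_dvd hp).mpr fun hdiv => ?_)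
      haveI := finite_hom K
      have := hres (detHom σ ^ (orderOf (detHom σ) / p)) (by
        exact (pow_mul (detHom σ) _ p).symm.trans
          (by rw [Nat.div_mul_cancel hdiv]; exact pow_orderOf_eq_one _))
      have h0 : 0 < orderOf (detHom σ) := orderOf_pos (detHom σ)
      exact absurd (orderOf_dvd_of_pow_eq_one this) fun h =>
        absurd (Nat.le_of_dvd (Nat.div_pos (Nat.le_of_dvd h0 hdiv) hp.pos) h)
          (not_le.mpr (Nat.div_lt_self h0 hp.one_lt))
    obtain ⟨μ, hμ, -⟩ := exists_linear_extension (N := K) (detHom σ)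
      (fun g n => detHom_invariant σ hσi g n) hord
    obtain ⟨χ, hχ, hres'⟩ := exists_extension_det (N := K) θ.2
      (fun g n => congrFun (hinv θ hθ g) n) hd
      (by rw [hk]; exact Nat.Coprime.pow_left _ ((Nat.Prime.coprime_iff_not_dvd hp).mpr
        (hdd ▸ hnd)))
      μ (fun n => by rw [hμ, ← hσc, detChar_eq])
    have hχ1 : χ 1 = (d : ℂ) := by rw [← hd, ← hres', Subgroup.coe_one]
    rcases hdeg χ hχ d hχ1 with h | h
    · rw [hdd, h]
    · exact absurd (hdd ▸ h) hnd
  have hF2 : ∑ θ ∈ F, Cfsg.charDegree (θ : K → ℂ) ^ 2 ≡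
      (F.filter fun θ : Cfsg.IrrCharacter K => Cfsg.charDegree (θ : K → ℂ) = 1).card [MOD p] := by
    rw [Finset.card_filter]
    refine modEq_sum _ fun θ hθ => ?_
    by_cases hnd : p ∣ Cfsg.charDegree (θ : K → ℂ)
    · rw [if_neg fun h : Cfsg.charDegree (θ : K → ℂ) = 1 => hp.one_lt.ne' (Nat.dvd_one.mp (h ▸ hnd))]
      exact Nat.modEq_zero_iff_dvd.mpr (dvd_pow hnd two_ne_zero)
    · rw [if_pos (hlin θ hθ hnd), hlin θ hθ hnd, one_pow]
  let T : Subgroup (K →* ℂˣ) :=
    { carrier := {f | ∀ (g : G) (n : K), f (conjHom K g n) = f n}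
      one_mem' := fun _ _ => rfl
      mul_mem' := fun {a b} ha hb g n => by simp [ha g n, hb g n]
      inv_mem' := fun {a} ha g n => by simp [ha g n] }
  haveI := finite_hom K
  have hT : ¬ p ∣ Nat.card T := by
    intro h
    obtain ⟨c, hc⟩ := exists_prime_orderOf_dvd_card' p h
    have := hres (c : K →* ℂˣ) (by rw [← hc, ← Subgroup.orderOf_coe, pow_orderOf_eq_one])
    rw [← Subgroup.orderOf_coe, this, orderOf_one] at hc
    exact hp.one_lt.ne hc
  have hcard : (F.filter fun θ : Cfsg.IrrCharacter K =>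
      Cfsg.charDegree (θ : K → ℂ) = 1).card = Nat.card T := by
    rw [← Fintype.card_coe, ← Nat.card_eq_fintype_card]
    have hmemF : ∀ f : T, (⟨_, isIrrCharacter_linear f.1⟩ : Cfsg.IrrCharacter K) ∈
        F.filter fun θ : Cfsg.IrrCharacter K => Cfsg.charDegree (θ : K → ℂ) = 1 := by
      intro f
      rw [Finset.mem_filter, hF, Finset.mem_filter]
      refine ⟨⟨Finset.mem_univ _, fun g => ?_⟩, ?_⟩
      · exact Subtype.ext (funext fun n => congrArg Units.val (f.2 (g : G)⁻¹ n))
      · simp [Cfsg.charDegree]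
    let ι : T → ↥(F.filter fun θ : Cfsg.IrrCharacter K => Cfsg.charDegree (θ : K → ℂ) = 1) :=
      fun f => ⟨_, hmemF f⟩
    refine (Nat.card_congr (Equiv.ofBijective ι ⟨fun a b h => ?_, fun θ => ?_⟩)).symm
    · exact Subtype.ext (detHom_unique (congrArg Subtype.val (congrArg Subtype.val h)))
    · obtain ⟨hθF, hθ1⟩ := Finset.mem_filter.mp θ.2
      obtain ⟨f, hf⟩ := exists_hom_of_degree_one (IsIrrCharacter.isCharacter θ.1.2)
        (by rw [hdg, hθ1, Nat.cast_one])
      refine ⟨⟨f, fun g n => Units.ext ?_⟩, Subtype.ext (Subtype.ext hf.symm)⟩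
      have := congrFun (hinv θ.1 hθF g) n
      rw [hf] at this
      exact this
  exact hT (Nat.modEq_zero_iff_dvd.mp
    ((((hmod.trans hF2).trans (by rw [hcard])).symm).trans (Nat.modEq_zero_iff_dvd.mpr hpK)))

end Cfsg.Agent.Char.TC

namespace Cfsg.Agent.Char

universe w

open scoped commutatorElement

/-- A group all of whose irreducible characters are linear is abelian. -/
theorem commute_of_all_linear {H : Type w} [Group H] [Finite H]
    (h : ∀ χ : Cfsg.IrrCharacter H, (χ : H → ℂ) 1 = 1) (a b : H) : a * b = b * a := by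
  classical
  haveI : Fintype H := Fintype.ofFinite H
  have hidx : (commutator H).index = Nat.card H := by
    rw [← card_linear, Nat.card_congr (Equiv.subtypeUnivEquiv h)]
    have h2 := sum_sq_degree (G := H)
    simp only [h, one_pow, Finset.sum_const, nsmul_eq_mul, mul_one, Finset.card_univ,
      Nat.cast_inj] at h2
    rwa [← Nat.card_eq_fintype_card] at h2
  have hbot : commutator H = ⊥ := Subgroup.eq_bot_of_card_eq _ (by
    have := (commutator H).card_mul_index
    rw [hidx] at this
    exact Nat.eq_of_mul_eq_mul_right Nat.card_pos (this.trans (one_mul _).symm))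
  have hm : ⁅a, b⁆ ∈ commutator H :=
    Subgroup.commutator_mem_commutator (Subgroup.mem_top a) (Subgroup.mem_top b)
  rw [hbot, Subgroup.mem_bot] at hm
  exact commutatorElement_eq_one_iff_mul_comm.mp hm

end Cfsg.Agent.Char
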