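import Cfsg.Agent.Lib.Char.RelGlaubermanBase
import Cfsg.Agent.Lib.Char.GlaubermanMod
import Cfsg.Agent.Lib.Char.ExtensionChar

/-!
# The relative Glauberman correspondence

A `p`-group acts on `X` fixing the normal subgroup `Q` of `p`-power order and index prime to `p`.
-/

set_option linter.unusedSectionVars false
set_option linter.style.haveILetI false

namespace Cfsg.Agent.RelGlauberman

open Cfsg Cfsg.Agent.Char Cfsg.Agent.CharX
open Cfsg.Agent.GlaubermanMod (IsInv)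
open scoped ComplexConjugate

universe u v

variable {X : Type u} [Group X] [Fintype X] {R : Type v} [Group R] (φ : R →* MulAut X)
  (Q : Subgroup X) [hQn : Q.Normal]

/-- The elements fixed modulo `Q`. -/
def relFixed (hQ : ∀ u, ∀ q ∈ Q, φ u q ∈ Q) : Subgroup X where
  carrier := {k | ∀ u, φ u k * k⁻¹ ∈ Q}
  one_mem' u := by simp [hQ u 1 Q.one_mem]
  mul_mem' {a b} ha hb u := by
    have h := Q.mul_mem (ha u) (hQn.conj_mem _ (hb u) a)
    rwa [show φ u a * a⁻¹ * (a * (φ u b * b⁻¹) * a⁻¹) = φ u (a * b) * (a * b)⁻¹ by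
      rw [map_mul]; group] at h
  inv_mem' {a} ha u := by
    have h := hQn.conj_mem _ (Q.inv_mem (ha u)) a⁻¹
    rwa [show a⁻¹ * (φ u a * a⁻¹)⁻¹ * a⁻¹⁻¹ = φ u a⁻¹ * a⁻¹⁻¹ by
      rw [map_inv]; group] at h

theorem mem_relFixed {hQ : ∀ u, ∀ q ∈ Q, φ u q ∈ Q} {k : X} :
    k ∈ relFixed φ Q hQ ↔ ∀ u, φ u k * k⁻¹ ∈ Q := Iff.rfl

variable {φ Q} (hQ : ∀ u, ∀ q ∈ Q, φ u q ∈ Q)

theorem apply_inv_apply (u : R) (x : X) : φ u (φ u⁻¹ x) = x := by
  rw [← MulAut.mul_apply, ← map_mul, mul_inv_cancel, map_one, MulAut.one_apply]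

theorem inv_apply_apply (u : R) (x : X) : φ u⁻¹ (φ u x) = x := by
  rw [← MulAut.mul_apply, ← map_mul, inv_mul_cancel, map_one, MulAut.one_apply]

include hQ in
theorem apply_mem_iff (u : R) (x : X) : φ u x ∈ Q ↔ x ∈ Q :=
  ⟨fun h => inv_apply_apply (φ := φ) u x ▸ hQ u⁻¹ _ h, hQ u x⟩

/-- A function on `Q` invariant under the action. -/
def IsInvQ (θ : Q → ℂ) : Prop := ∀ (u : R) (q : Q), θ ⟨φ u q, hQ u q q.2⟩ = θ q

theorem conjChar_apply_inv {θ θ' : Q → ℂ} (hθ : IsInvQ hQ θ) (hθ' : IsInvQ hQ θ') {x : X}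
    (h : conjChar Q x θ = θ') (u : R) : conjChar Q (φ u x) θ = θ' := by
  funext q
  have h1 := congrFun h ⟨φ u⁻¹ q, hQ u⁻¹ q q.2⟩
  rw [hθ' u⁻¹ q] at h1
  rw [← h1]
  show θ _ = θ _
  rw [← hθ u ⟨x * φ u⁻¹ q * x⁻¹, hQn.conj_mem _ (hQ u⁻¹ q q.2) x⟩]
  refine congrArg θ (Subtype.ext ?_)
  show φ u x * (q : X) * (φ u x)⁻¹ = φ u (x * φ u⁻¹ q * x⁻¹)
  rw [map_mul, map_mul, map_inv (φ u) x, apply_inv_apply (φ := φ)]

theorem apply_mem_inertia {θ : Q → ℂ} (hθ : IsInvQ hQ θ) (u : R) (x : X) :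
    φ u x ∈ inertia Q θ ↔ x ∈ inertia Q θ := by
  constructor
  · intro h
    have := conjChar_apply_inv hQ hθ hθ ((mem_inertia Q).1 h) u⁻¹
    rwa [inv_apply_apply] at this
  · exact fun h => (mem_inertia Q).2 (conjChar_apply_inv hQ hθ hθ ((mem_inertia Q).1 h) u)

variable {p : ℕ} [hp : Fact p.Prime] (hR : IsPGroup p R) (hidx : ¬ p ∣ Q.index)

include hQ hR hidx in
theorem exists_inv_constituent [Fintype Q] (χ : IrrCharacter X) (hχ : IsInv φ (χ : X → ℂ)) :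
    ∃ θ : IrrCharacter Q, IsInvQ hQ (θ : Q → ℂ) ∧
      classInner (fun q : Q => (χ : X → ℂ) q) (θ : Q → ℂ) ≠ 0 := by
  classical
  obtain ⟨θ₀, hθ₀⟩ := exists_restrict_constituent χ.2 Q
  let α : R → Q ≃* Q := fun u =>
    { toFun := fun q => ⟨φ u q, hQ u q q.2⟩
      invFun := fun q => ⟨φ u⁻¹ q, hQ u⁻¹ q q.2⟩
      left_inv := fun q => Subtype.ext (inv_apply_apply (φ := φ) u q)
      right_inv := fun q => Subtype.ext (apply_inv_apply (φ := φ) u q)
      map_mul' := fun a b => Subtype.ext (map_mul (φ u) (a : X) b) }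
  let Ω := {τ : IrrCharacter Q // classInner (fun q : Q => (χ : X → ℂ) q) (τ : Q → ℂ) ≠ 0}
  letI : MulAction R Ω :=
    { smul := fun u τ => ⟨⟨fun q => (τ.1 : Q → ℂ) (α u⁻¹ q),
          IsIrrCharacter.comp τ.1.2 (α u⁻¹).toMonoidHom (α u⁻¹).surjective⟩, by
        intro h
        refine τ.2 ((classInner_comp_surj (α u⁻¹).toMonoidHom (α u⁻¹).surjective
          (fun q : Q => (χ : X → ℂ) q) (τ.1 : Q → ℂ)).symm.trans (Eq.trans ?_ h))
        congr 1
        exact funext fun q => hχ u⁻¹ q⟩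
      one_smul := fun τ => Subtype.ext (Subtype.ext (funext fun q => by
        show (τ.1 : Q → ℂ) (α 1⁻¹ q) = (τ.1 : Q → ℂ) q
        refine congrArg (τ.1 : Q → ℂ) (Subtype.ext ?_)
        show φ 1⁻¹ (q : X) = q
        simp))
      mul_smul := fun a b τ => Subtype.ext (Subtype.ext (funext fun q => by
        show (τ.1 : Q → ℂ) (α (a * b)⁻¹ q) = (τ.1 : Q → ℂ) (α b⁻¹ (α a⁻¹ q))
        refine congrArg (τ.1 : Q → ℂ) (Subtype.ext ?_)
        show φ (a * b)⁻¹ (q : X) = φ b⁻¹ (φ a⁻¹ q)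
        rw [mul_inv_rev, map_mul, MulAut.mul_apply])) }
  have hcard : Nat.card Ω = (inertia Q (θ₀ : Q → ℂ)).index := by
    rw [← card_conjOrbit, ← Nat.card_eq_finsetCard]
    refine Nat.card_eq_of_bijective (fun τ => ⟨(τ.1 : Q → ℂ),
      restrict_constituent_conj Q χ.2 θ₀.2 τ.1.2 hθ₀ τ.2⟩) ⟨fun a b h =>
        Subtype.ext (Subtype.ext (congrArg (fun z => z.1) h)), ?_⟩
    rintro ⟨f, hf⟩
    obtain ⟨g, rfl⟩ := (mem_conjOrbit Q).1 hf
    exact ⟨⟨⟨_, isIrrCharacter_conjChar Q θ₀.2 g⟩, by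
      rw [classInner_restrict_conjChar Q (IsCharacter.isClassFunction (IsIrrCharacter.isCharacter χ.2))]
      exact hθ₀⟩, rfl⟩
  obtain ⟨τ, hτ⟩ := hR.nonempty_fixed_point_of_prime_not_dvd_card Ω (fun hd => hidx
    ((hcard ▸ hd).trans (Subgroup.index_dvd_of_le
      (le_inertia Q (IsCharacter.isClassFunction (IsIrrCharacter.isCharacter θ₀.2))))))
  refine ⟨τ.1, fun u q => ?_, τ.2⟩
  have := congrFun (congrArg (fun z : Ω => (z.1 : Q → ℂ)) (hτ u⁻¹)) q
  have h2 : (τ.1 : Q → ℂ) (α u⁻¹⁻¹ q) = (τ.1 : Q → ℂ) q := this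
  rw [← h2]
  refine congrArg (τ.1 : Q → ℂ) (Subtype.ext ?_)
  show φ u (q : X) = φ u⁻¹⁻¹ q
  rw [inv_inv]

include hR hidx in
theorem exists_fixed_conj {θ θ' : Q → ℂ} (hθ : IsInvQ hQ θ) (hθ' : IsInvQ hQ θ')
    (hcl : IsClassFunction Q θ') {g : X} (hg : conjChar Q g θ = θ') :
    ∃ c ∈ relFixed φ Q hQ, conjChar Q c θ = θ' := by
  classical
  let Y := {q : X ⧸ Q // ∃ x : X, (x : X ⧸ Q) = q ∧ conjChar Q x θ = θ'}
  have hwd : ∀ {x y : X}, (x : X ⧸ Q) = y → conjChar Q x θ = θ' → conjChar Q y θ = θ' := by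
    intro x y hxy hx
    rw [show y = x * (x⁻¹ * y) by group, conjChar_mul, hx,
      conjChar_of_mem Q hcl (QuotientGroup.eq.1 hxy)]
  let ψ : R → X ⧸ Q →* X ⧸ Q := fun u => QuotientGroup.map Q Q (φ u).toMonoidHom fun q hq => hQ u q hq
  have hψ : ∀ u (x : X), ψ u (x : X ⧸ Q) = ((φ u x : X) : X ⧸ Q) := fun u x => rfl
  letI : MulAction R Y :=
    { smul := fun u q => ⟨ψ u q.1, by
        obtain ⟨x, hx, hc⟩ := q.2
        exact ⟨φ u x, by rw [← hx, hψ], conjChar_apply_inv hQ hθ hθ' hc u⟩⟩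
      one_smul := fun q => Subtype.ext (by
        obtain ⟨x, hx⟩ := QuotientGroup.mk_surjective q.1
        show ψ 1 q.1 = q.1
        rw [← hx, hψ, map_one, MulAut.one_apply])
      mul_smul := fun a b q => Subtype.ext (by
        obtain ⟨x, hx⟩ := QuotientGroup.mk_surjective q.1
        show ψ (a * b) q.1 = ψ a (ψ b q.1)
        rw [← hx, hψ, hψ, hψ, map_mul, MulAut.mul_apply]) }
  let Tb := (inertia Q θ).map (QuotientGroup.mk' Q)
  have hcard : Nat.card Y = Nat.card Tb := by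
    refine Nat.card_congr
      { toFun := fun q => ⟨q.1 * ((g : X ⧸ Q))⁻¹, ?_⟩
        invFun := fun t => ⟨t.1 * (g : X ⧸ Q), ?_⟩
        left_inv := fun q => Subtype.ext (inv_mul_cancel_right _ _)
        right_inv := fun t => Subtype.ext (mul_inv_cancel_right _ _) }
    · obtain ⟨x, hx, hc⟩ := q.2
      refine ⟨x * g⁻¹, ?_, by rw [← hx]; rfl⟩
      show conjChar Q (x * g⁻¹) θ = θ
      rw [conjChar_mul, hc, ← hg, ← conjChar_mul, mul_inv_cancel, conjChar_one]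
    · obtain ⟨t, ht, hte⟩ := t.2
      refine ⟨t * g, by rw [← hte]; rfl, ?_⟩
      rw [conjChar_mul, (mem_inertia Q).1 ht, hg]
  obtain ⟨q, hq⟩ := hR.nonempty_fixed_point_of_prime_not_dvd_card Y (fun hd => hidx
    ((hcard ▸ hd).trans (Subgroup.card_subgroup_dvd_card Tb)))
  obtain ⟨x, hx, hc⟩ := q.2
  refine ⟨x, fun u => ?_, hc⟩
  have h : ψ u q.1 = q.1 := congrArg Subtype.val (hq u)
  rw [← hx, hψ] at h
  exact (QuotientGroup.eq_one_iff (φ u x * x⁻¹)).1 (by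
    rw [QuotientGroup.mk_mul, QuotientGroup.mk_inv, h, mul_inv_cancel])

/-- The action on the inertia group of an invariant character. -/
def actT {θ : Q → ℂ} (hθ : IsInvQ hQ θ) : R →* MulAut (inertia Q θ) where
  toFun u :=
    { toFun := fun t => ⟨φ u t, (apply_mem_inertia hQ hθ u t).2 t.2⟩
      invFun := fun t => ⟨φ u⁻¹ t, (apply_mem_inertia hQ hθ u⁻¹ t).2 t.2⟩
      left_inv := fun t => Subtype.ext (inv_apply_apply (φ := φ) u (t : X))
      right_inv := fun t => Subtype.ext (apply_inv_apply (φ := φ) u (t : X))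
      map_mul' := fun a b => Subtype.ext (map_mul (φ u) (a : X) b) }
  map_one' := MulEquiv.ext fun t => Subtype.ext (by show φ 1 (t : X) = t; simp)
  map_mul' a b := MulEquiv.ext fun t => Subtype.ext (by
    show φ (a * b) (t : X) = φ a (φ b t); simp)

theorem actT_coe {θ : Q → ℂ} (hθ : IsInvQ hQ θ) (u : R) (t : inertia Q θ) :
    ((actT hQ hθ u t : inertia Q θ) : X) = φ u t := rfl

/-- The quotient of the inertia group by `Q`. -/
abbrev TQ (θ : Q → ℂ) := inertia Q θ ⧸ Q.subgroupOf (inertia Q θ)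

/-- The action on the quotient of the inertia group. -/
def actW {θ : Q → ℂ} (hθ : IsInvQ hQ θ) : R →* MulAut (TQ θ) where
  toFun u := QuotientGroup.congr (Q.subgroupOf (inertia Q θ)) (Q.subgroupOf (inertia Q θ))
    (actT hQ hθ u) (by
      ext t
      constructor
      · rintro ⟨s, hs, rfl⟩
        exact hQ u _ hs
      · intro ht
        refine ⟨(actT hQ hθ u).symm t, hQ u⁻¹ _ ht, (actT hQ hθ u).apply_symm_apply t⟩)
  map_one' := MulEquiv.ext fun q => by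
    obtain ⟨t, rfl⟩ := QuotientGroup.mk_surjective q
    show ((actT hQ hθ 1 t : inertia Q θ) : TQ θ) = _
    rw [map_one]; rfl
  map_mul' a b := MulEquiv.ext fun q => by
    obtain ⟨t, rfl⟩ := QuotientGroup.mk_surjective q
    show ((actT hQ hθ (a * b) t : inertia Q θ) : TQ θ) = _
    rw [map_mul]; rfl

theorem actW_mk {θ : Q → ℂ} (hθ : IsInvQ hQ θ) (u : R) (t : inertia Q θ) :
    actW hQ hθ u (t : TQ θ) = ((actT hQ hθ u t : inertia Q θ) : TQ θ) := rfl

include hidx in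
theorem not_dvd_card_TQ {θ : Q → ℂ} (hcl : IsClassFunction Q θ) : ¬ p ∣ Nat.card (TQ θ) := by
  intro h
  refine hidx (h.trans ?_)
  show (Q.subgroupOf (inertia Q θ)).index ∣ Q.index
  exact ⟨(inertia Q θ).index, (Subgroup.relIndex_mul_index (le_inertia Q hcl)).symm⟩

variable (hQp : ∃ a : ℕ, Nat.card Q = p ^ a)

/-- An invariant extension of an invariant irreducible character to its inertia group. -/
theorem exists_inv_extension [Fintype Q] {θ : Q → ℂ} (hirr : IsIrrCharacter Q θ)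
    (hθ : IsInvQ hQ θ) [Fintype (inertia Q θ)] (hQp : ∃ a : ℕ, Nat.card Q = p ^ a)
    (hR : IsPGroup p R) (hidx : ¬ p ∣ Q.index) :
    ∃ S : Setup Q θ (TQ θ), S.π = QuotientGroup.mk' (Q.subgroupOf (inertia Q θ)) ∧
      ∀ u t, S.ext (actT hQ hθ u t) = S.ext t := by
  classical
  have hcl := IsCharacter.isClassFunction (IsIrrCharacter.isCharacter hirr)
  let T := inertia Q θ
  let QT := Q.subgroupOf T
  haveI := Fintype.ofFinite QT
  let e : QT ≃* Q := Subgroup.subgroupOfEquivOfLe (le_inertia Q hcl)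
  let θT : QT → ℂ := fun n => θ (e n)
  have hθT : IsIrrCharacter QT θT := IsIrrCharacter.comp hirr e.toMonoidHom e.surjective
  have hinv : ∀ (g : T) (n : QT), θT ⟨g * n * g⁻¹, (inferInstance : QT.Normal).conj_mem (n : T) n.2 g⟩ =
      θT n := fun g n => congrFun ((mem_inertia Q).1 g.2) (e n)
  obtain ⟨a, ha⟩ := hQp
  have hcardQT : Nat.card QT = p ^ a := by rw [Nat.card_congr e.toEquiv, ha]
  have hcop : Nat.Coprime QT.index p :=
    ((hp.out.coprime_iff_not_dvd).2 fun h => not_dvd_card_TQ (θ := θ) hidx hcl h).symm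
  obtain ⟨d, ρ, hρ, hρθ⟩ := hθT
  have hθT : IsIrrCharacter QT θT := ⟨d, ρ, hρ, hρθ⟩
  have hd1 : θT 1 = (charDegree θT : ℂ) := deg_spec (IsIrrCharacter.isCharacter hθT)
  have hdcop : Nat.Coprime QT.index (charDegree θT) := by
    obtain ⟨j, -, hj⟩ := (Nat.dvd_prime_pow hp.out).1 (hcardQT ▸ degree_dvd_card hθT hd1)
    exact hj ▸ hcop.pow_right j
  have hocop : Nat.Coprime QT.index (orderOf (CharExtend.detHom ρ)) := by
    have hpow : CharExtend.detHom ρ ^ p ^ a = 1 := MonoidHom.ext fun n => by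
      rw [MonoidHom.pow_apply, ← map_pow, ← hcardQT, pow_card_eq_one', map_one, MonoidHom.one_apply]
    obtain ⟨j, -, hj⟩ := (Nat.dvd_prime_pow hp.out).1 (orderOf_dvd_of_pow_eq_one (x := CharExtend.detHom ρ) (n := p ^ a) (by exact hpow))
    exact hj ▸ hcop.pow_right j
  have hfinv : ∀ (g : T) (n : QT), CharExtend.detHom ρ (conjHom QT g n) = CharExtend.detHom ρ n := by
    intro g n
    obtain ⟨E⟩ := nonempty_equiv_of_char_eq
      (ρ.comp (conjHom QT g) : Representation ℂ QT (Fin d → ℂ)) ρ (funext fun k => by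
        show ρ.character (conjHom QT g k) = ρ.character k
        rw [hρθ]; exact hinv g k)
    exact Units.ext (CharExtend.det_eq_of_equiv E n).symm
  obtain ⟨μ, hμ, -⟩ := CharExtend.exists_linear_extension (CharExtend.detHom ρ) hfinv hocop
  obtain ⟨χ0, hχ0, hχ0θ⟩ := CharExtend.exists_extension_det hθT hinv hd1 hdcop μ (fun n => by
    rw [← hρθ, CharExtend.detChar_eq, hμ])
  have hx : ∀ (f : T → ℂ), (∀ n : QT, f n = θT n) →
      ∀ (t : T) (ht : (t : X) ∈ Q), f t = θ ⟨t, ht⟩ :=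
    fun f hf t ht => hf ⟨t, Subgroup.mem_subgroupOf.2 ht⟩
  let mkS : (f : T → ℂ) → IsIrrCharacter T f → (∀ n : QT, f n = θT n) → Setup Q θ (TQ θ) :=
    fun f hf hfθ =>
      { irr := hirr
        π := QuotientGroup.mk' QT
        surj := QuotientGroup.mk'_surjective QT
        ker := fun t => (QuotientGroup.eq_one_iff t).trans Subgroup.mem_subgroupOf
        ext := f
        isChar := IsIrrCharacter.isCharacter hf
        ext_eq := hx f hfθ }
  let S0 := mkS χ0 hχ0 hχ0θ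
  obtain ⟨hg1, hg2, hg3⟩ := S0.exists_gallagher
  let E := {ψ : IrrCharacter T // ∀ n : QT, (ψ : T → ℂ) n = θT n}
  have hE : Nat.card E = (commutator (TQ θ)).index := by
    rw [← card_linear]
    refine (Nat.card_eq_of_bijective
      (fun w : {w : IrrCharacter (TQ θ) // (w : TQ θ → ℂ) 1 = 1} =>
        (⟨⟨S0.lift (w.1 : TQ θ → ℂ), hg1 w.1⟩, fun n => ?_⟩ : E))
      ⟨fun w w' h => Subtype.ext (hg2 w.1 w'.1 (congrArg (fun z : E => (z.1 : T → ℂ)) h)), ?_⟩).symm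
    · show (w.1 : TQ θ → ℂ) (QuotientGroup.mk' QT n) * χ0 n = θT n
      rw [(QuotientGroup.eq_one_iff (n : T)).2 n.2 |> fun h => (show QuotientGroup.mk' QT n = 1 from h),
        w.2, one_mul, hχ0θ]
    · rintro ⟨ψ, hψ⟩
      obtain ⟨w, hw⟩ := hg3 (ψ : T → ℂ) ψ.2 (by
        rw [show (fun n : Q => (ψ : T → ℂ) (S0.incl n)) = θ from
          funext fun n => hx _ hψ (S0.incl n) n.2, classInner_self_irr hirr]
        exact one_ne_zero)
      refine ⟨⟨w, ?_⟩, Subtype.ext (Subtype.ext hw)⟩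
      have h1 := congrFun hw 1
      simp only [Setup.lift, map_one] at h1
      rw [show S0.ext 1 = θT 1 from hχ0θ 1, show (ψ : T → ℂ) 1 = θT 1 from hψ 1] at h1
      have hne : θT 1 ≠ 0 := IsIrrCharacter.one_ne_zero hθT
      exact mul_right_cancel₀ hne (h1.trans (one_mul _).symm)
  letI : MulAction R E :=
    { smul := fun u ψ => ⟨⟨fun t => (ψ.1 : T → ℂ) (actT hQ hθ u⁻¹ t),
          IsIrrCharacter.comp ψ.1.2 (actT hQ hθ u⁻¹).toMonoidHom (actT hQ hθ u⁻¹).surjective⟩,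
        fun n => by
          show (ψ.1 : T → ℂ) (actT hQ hθ u⁻¹ n) = θT n
          rw [hx _ ψ.2 _ (hQ u⁻¹ _ n.2)]
          exact hθ u⁻¹ (e n)⟩
      one_smul := fun ψ => Subtype.ext (Subtype.ext (funext fun t => by
        show (ψ.1 : T → ℂ) (actT hQ hθ 1⁻¹ t) = _
        rw [inv_one, map_one, MulAut.one_apply]))
      mul_smul := fun a b ψ => Subtype.ext (Subtype.ext (funext fun t => by
        show (ψ.1 : T → ℂ) (actT hQ hθ (a * b)⁻¹ t) =
          (ψ.1 : T → ℂ) (actT hQ hθ b⁻¹ (actT hQ hθ a⁻¹ t))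
        rw [mul_inv_rev, map_mul, MulAut.mul_apply])) }
  obtain ⟨ψ, hψ⟩ := hR.nonempty_fixed_point_of_prime_not_dvd_card E (fun hd =>
    not_dvd_card_TQ (θ := θ) hidx hcl ((hE ▸ hd).trans (Subgroup.index_dvd_card _)))
  refine ⟨mkS ψ.1 ψ.1.2 ψ.2, rfl, fun u t => ?_⟩
  have h := congrFun (congrArg (fun z : E => (z.1 : T → ℂ)) (hψ u⁻¹)) t
  have h2 : (ψ.1 : T → ℂ) (actT hQ hθ u⁻¹⁻¹ t) = (ψ.1 : T → ℂ) t := h
  rwa [inv_inv] at h2

/-- Equivariance of the correspondence over an invariant character. -/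
theorem toIrr_apply [Fintype Q] {θ : Q → ℂ} (hθ : IsInvQ hQ θ) [Fintype (inertia Q θ)]
    [Fintype (TQ θ)] (S : Setup Q θ (TQ θ))
    (hπ : S.π = QuotientGroup.mk' (Q.subgroupOf (inertia Q θ)))
    (hext : ∀ u t, S.ext (actT hQ hθ u t) = S.ext t) (u : R) (w w' : IrrCharacter (TQ θ))
    (hw : ∀ y, (w' : TQ θ → ℂ) y = (w : TQ θ → ℂ) (actW hQ hθ u y)) (x : X) :
    (S.toIrr w' : X → ℂ) x = (S.toIrr w : X → ℂ) (φ u x) :=
  indFun_comp_equiv (φ u) _ (apply_mem_inertia hQ hθ u) _ _ (fun t => by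
    show (w' : TQ θ → ℂ) (S.π t) * S.ext t =
      (w : TQ θ → ℂ) (S.π (actT hQ hθ u t)) * S.ext (actT hQ hθ u t)
    rw [hπ, hext, hw]
    rfl) x

theorem isInv_of_toIrr [Fintype Q] {θ : Q → ℂ} (hθ : IsInvQ hQ θ) [Fintype (inertia Q θ)]
    [Fintype (TQ θ)] (S : Setup Q θ (TQ θ))
    (hπ : S.π = QuotientGroup.mk' (Q.subgroupOf (inertia Q θ)))
    (hext : ∀ u t, S.ext (actT hQ hθ u t) = S.ext t) (w : IrrCharacter (TQ θ)) :
    IsInv φ (S.toIrr w : X → ℂ) ↔ IsInv (actW hQ hθ) (w : TQ θ → ℂ) := by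
  constructor
  · intro h u y
    let w' : IrrCharacter (TQ θ) := ⟨fun y => (w : TQ θ → ℂ) (actW hQ hθ u y),
      IsIrrCharacter.comp w.2 (actW hQ hθ u).toMonoidHom (actW hQ hθ u).surjective⟩
    have : S.toIrr w' = S.toIrr w := Subtype.ext (funext fun x => by
      rw [toIrr_apply hQ hθ S hπ hext u w w' (fun _ => rfl) x, h u x])
    exact congrFun (congrArg Subtype.val (S.toIrr_inj this)) y
  · intro h u x
    exact (toIrr_apply hQ hθ S hπ hext u w w (fun y => (h u y).symm) x).symm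

end Cfsg.Agent.RelGlauberman
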