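/-
Invariant constituents under coprime action: below (Glauberman's lemma), above with solvable
quotient, above with a solvable group acting coprimely on the whole group.
-/
import Cfsg.Agent.Lib.Solvable.SchurZassenhaus
import Cfsg.Agent.Lib.Char.CoprimeCount
import Cfsg.Agent.Lib.Char.RelGlauberman
import Cfsg.Agent.Lib.Char.ChiefRestrict
import Cfsg.Agent.Lib.Char.Gallagher
import Cfsg.Agent.Lib.Char.Multiplicity
import Mathlib.GroupTheory.SemidirectProduct

set_option linter.unusedSectionVars false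
set_option linter.style.haveILetI false

namespace Cfsg.Agent.CoprimeConst

open Cfsg Cfsg.Agent.Char Cfsg.Agent.CharX
open Cfsg.Agent.GlaubermanMod (IsInv)
open Cfsg.Agent.RelGlauberman (IsInvQ)

universe u v w

/-- Glauberman's lemma for abstract coprime actions. -/
theorem exists_fixed_point {A : Type v} [Group A] [Finite A] {K : Type w} [Group K] [Finite K]
    (φ : A →* MulAut K) (hcop : (Nat.card A).Coprime (Nat.card K))
    (hsolv : Group.IsSolvable A ∨ Group.IsSolvable K) {Y : Type*} [Nonempty Y]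
    (a' : A →* Equiv.Perm Y) (k' : K →* Equiv.Perm Y)
    (hcompat : ∀ a k y, a' a (k' k y) = k' (φ a k) (a' a y))
    (htr : ∀ x y, ∃ k, k' k x = y) : ∃ y, ∀ a, a' a y = y := by
  let G := K ⋊[φ] A
  haveI : Finite G := Finite.of_equiv (K × A)
    { toFun := fun x => ⟨x.1, x.2⟩
      invFun := fun g => (g.left, g.right)
      left_inv := fun _ => rfl
      right_inv := fun _ => rfl }
  let f : G →* Equiv.Perm Y := SemidirectProduct.lift k' a' fun a => MonoidHom.ext fun k =>
    Equiv.ext fun y => by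
      show k' (φ a k) y = a' a (k' k ((a' a)⁻¹ y))
      rw [hcompat, Equiv.Perm.inv_def, Equiv.apply_symm_apply]
  letI : MulAction G Y := MulAction.compHom Y f
  let A' := (SemidirectProduct.inr : A →* G).range
  let K' := (SemidirectProduct.inl : K →* G).range
  have hcA : Nat.card A' = Nat.card A :=
    (Nat.card_congr (MonoidHom.ofInjective SemidirectProduct.inr_injective).toEquiv).symm
  have hcK : Nat.card K' = Nat.card K :=
    (Nat.card_congr (MonoidHom.ofInjective SemidirectProduct.inl_injective).toEquiv).symm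
  have hAK : A' ≤ Subgroup.normalizer (K' : Set G) := by
    have : K'.Normal := by
      show (SemidirectProduct.inl : K →* G).range.Normal
      rw [SemidirectProduct.range_inl_eq_ker_rightHom]; infer_instance
    rw [Subgroup.normalizer_eq_top K']
    exact le_top
  obtain ⟨⟨y, -, hy⟩, -⟩ := SchurZ.glauberman (G := G) (X := Y) hAK (by rwa [hcA, hcK])
    (hsolv.imp
      (fun h => by haveI := h; exact Group.isSolvable_of_surjective (MonoidHom.rangeRestrict_surjective _))
      (fun h => by haveI := h; exact Group.isSolvable_of_surjective (MonoidHom.rangeRestrict_surjective _)))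
    Set.univ Set.univ_nonempty (fun _ _ _ _ => Set.mem_univ _) (fun _ _ _ _ => Set.mem_univ _)
    (fun x _ y _ => by
      obtain ⟨k, hk⟩ := htr x y
      refine ⟨SemidirectProduct.inl k, ⟨k, rfl⟩, ?_⟩
      show f (SemidirectProduct.inl k) x = y
      rwa [SemidirectProduct.lift_inl])
  refine ⟨y, fun a => ?_⟩
  have := hy (SemidirectProduct.inr a) ⟨a, rfl⟩
  change f (SemidirectProduct.inr a) y = y at this
  rwa [SemidirectProduct.lift_inr] at this

variable {X : Type u} [Group X] [Fintype X] {R : Type v} [Group R] [Finite R]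
  (φ : R →* MulAut X) (Q : Subgroup X) [hQn : Q.Normal]

/-- The action restricted to an invariant subgroup. -/
def actSub (hQ : ∀ u, ∀ q ∈ Q, φ u q ∈ Q) : R →* MulAut Q where
  toFun u :=
    { toFun := fun q => ⟨φ u q, hQ u q q.2⟩
      invFun := fun q => ⟨φ u⁻¹ q, hQ u⁻¹ q q.2⟩
      left_inv := fun q => Subtype.ext (RelGlauberman.inv_apply_apply (φ := φ) u q)
      right_inv := fun q => Subtype.ext (RelGlauberman.apply_inv_apply (φ := φ) u q)
      map_mul' := fun a b => Subtype.ext (map_mul (φ u) (a : X) b) }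
  map_one' := MulEquiv.ext fun q => Subtype.ext (by simp)
  map_mul' a b := MulEquiv.ext fun q => Subtype.ext (by simp)

/-- The action on the quotient by an invariant normal subgroup. -/
def actQuot (hQ : ∀ u, ∀ q ∈ Q, φ u q ∈ Q) : R →* MulAut (X ⧸ Q) where
  toFun u :=
    { toFun := QuotientGroup.map Q Q (φ u).toMonoidHom fun q hq => hQ u q hq
      invFun := QuotientGroup.map Q Q (φ u⁻¹).toMonoidHom fun q hq => hQ u⁻¹ q hq
      left_inv := fun x => by
        obtain ⟨x, rfl⟩ := QuotientGroup.mk_surjective x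
        exact congrArg QuotientGroup.mk (RelGlauberman.inv_apply_apply (φ := φ) u x)
      right_inv := fun x => by
        obtain ⟨x, rfl⟩ := QuotientGroup.mk_surjective x
        exact congrArg QuotientGroup.mk (RelGlauberman.apply_inv_apply (φ := φ) u x)
      map_mul' := map_mul _ }
  map_one' := MulEquiv.ext fun x => by
    obtain ⟨x, rfl⟩ := QuotientGroup.mk_surjective x
    exact congrArg QuotientGroup.mk (by simp)
  map_mul' a b := MulEquiv.ext fun x => by
    obtain ⟨x, rfl⟩ := QuotientGroup.mk_surjective x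
    exact congrArg QuotientGroup.mk (by simp)

/-- The permutation action on characters of a group with operators. -/
noncomputable def irrPerm : R →* Equiv.Perm (IrrCharacter X) :=
  @MulAction.toPermHom R (IrrCharacter X) _ (GlaubermanMod.irrAction φ)

theorem irrPerm_apply (u : R) (χ : IrrCharacter X) (x : X) :
    (irrPerm φ u χ : X → ℂ) x = (χ : X → ℂ) (φ u⁻¹ x) := rfl

/-- Restrict a permutation representation to a stable subset. -/
def permSub {A : Type*} [Group A] {Y : Type*} (f : A →* Equiv.Perm Y) (P : Y → Prop)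
    (hP : ∀ a y, P y → P (f a y)) : A →* Equiv.Perm {y // P y} where
  toFun a :=
    { toFun := fun y => ⟨f a y, hP a y y.2⟩
      invFun := fun y => ⟨f a⁻¹ y, hP a⁻¹ y y.2⟩
      left_inv := fun y => Subtype.ext (by simp)
      right_inv := fun y => Subtype.ext (by simp) }
  map_one' := Equiv.ext fun y => Subtype.ext (by simp)
  map_mul' a b := Equiv.ext fun y => Subtype.ext (by simp)

/-- The conjugation action of the quotient on characters of a normal subgroup. -/
noncomputable def conjPerm [Finite Q] : X ⧸ Q →* Equiv.Perm (IrrCharacter Q) :=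
  QuotientGroup.lift Q
    { toFun := fun x =>
        { toFun := fun θ => ⟨_, isIrrCharacter_conjChar Q θ.2 x⁻¹⟩
          invFun := fun θ => ⟨_, isIrrCharacter_conjChar Q θ.2 x⟩
          left_inv := fun θ => Subtype.ext (by
            show conjChar Q x (conjChar Q x⁻¹ (θ : Q → ℂ)) = θ
            rw [← conjChar_mul, inv_mul_cancel, conjChar_one])
          right_inv := fun θ => Subtype.ext (by
            show conjChar Q x⁻¹ (conjChar Q x (θ : Q → ℂ)) = θ
            rw [← conjChar_mul, mul_inv_cancel, conjChar_one]) }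
      map_one' := Equiv.ext fun θ => Subtype.ext (by
        show conjChar Q (1 : X)⁻¹ (θ : Q → ℂ) = θ
        rw [inv_one, conjChar_one])
      map_mul' := fun a b => Equiv.ext fun θ => Subtype.ext (by
        show conjChar Q (a * b)⁻¹ (θ : Q → ℂ) = conjChar Q a⁻¹ (conjChar Q b⁻¹ (θ : Q → ℂ))
        rw [mul_inv_rev, conjChar_mul]) }
    fun q hq => Equiv.ext fun θ => Subtype.ext
      (conjChar_of_mem Q (IsCharacter.isClassFunction (IsIrrCharacter.isCharacter θ.2))
        (Q.inv_mem hq))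

theorem conjPerm_mk [Finite Q] (x : X) (θ : IrrCharacter Q) :
    (conjPerm Q (x : X ⧸ Q) θ : Q → ℂ) = conjChar Q x⁻¹ (θ : Q → ℂ) := rfl

variable {φ Q} (hQ : ∀ u, ∀ q ∈ Q, φ u q ∈ Q)

theorem isInvQ_of_fixed [Fintype Q] {θ : IrrCharacter Q} (h : ∀ u, irrPerm (actSub φ Q hQ) u θ = θ) :
    IsInvQ hQ (θ : Q → ℂ) := fun u q => by
  have := congrFun (congrArg Subtype.val (h u⁻¹)) q
  rw [irrPerm_apply, inv_inv] at this
  exact this

theorem classInner_comp_act [Fintype Q] (u : R) (χ : X → ℂ) (hχ : IsInv φ χ) (θ : Q → ℂ) :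
    classInner (fun q : Q => χ q) (fun q => θ (actSub φ Q hQ u q)) =
      classInner (fun q : Q => χ q) θ := by
  conv_rhs => rw [← RelGlauberman.classInner_comp_surj (actSub φ Q hQ u).toMonoidHom
    (actSub φ Q hQ u).surjective]
  congr 1
  exact funext fun q => (hχ u q).symm

include hQ in
/-- An invariant character has an invariant constituent on restriction. -/
theorem exists_inv_under [Fintype Q] (hcop : (Nat.card R).Coprime Q.index)
    (hsolv : Group.IsSolvable R ∨ Group.IsSolvable (X ⧸ Q)) (χ : IrrCharacter X)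
    (hχ : IsInv φ (χ : X → ℂ)) :
    ∃ θ : IrrCharacter Q, IsInvQ hQ (θ : Q → ℂ) ∧
      classInner (fun q : Q => (χ : X → ℂ) q) (θ : Q → ℂ) ≠ 0 := by
  classical
  have hχc := IsCharacter.isClassFunction (IsIrrCharacter.isCharacter χ.2)
  let P : IrrCharacter Q → Prop := fun θ =>
    classInner (fun q : Q => (χ : X → ℂ) q) (θ : Q → ℂ) ≠ 0
  have hP1 : ∀ u θ, P θ → P (irrPerm (actSub φ Q hQ) u θ) := fun u θ h => by
    show classInner (fun q : Q => (χ : X → ℂ) q) (fun q => (θ : Q → ℂ) (actSub φ Q hQ u⁻¹ q)) ≠ 0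
    rwa [classInner_comp_act hQ u⁻¹ _ hχ]
  have hP2 : ∀ k θ, P θ → P (conjPerm Q k θ) := fun k θ h => by
    obtain ⟨x, rfl⟩ := QuotientGroup.mk_surjective k
    show classInner (fun q : Q => (χ : X → ℂ) q) (conjPerm Q (x : X ⧸ Q) θ : Q → ℂ) ≠ 0
    rwa [conjPerm_mk, classInner_restrict_conjChar Q hχc]
  obtain ⟨θ₀, hθ₀⟩ := exists_restrict_constituent χ.2 Q
  haveI : Nonempty {θ // P θ} := ⟨⟨θ₀, hθ₀⟩⟩
  obtain ⟨θ, hθ⟩ := exists_fixed_point (actQuot φ Q hQ) hcop hsolv
    (permSub (irrPerm (actSub φ Q hQ)) P hP1) (permSub (conjPerm Q) P hP2) (fun u k θ => by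
      obtain ⟨x, rfl⟩ := QuotientGroup.mk_surjective k
      refine Subtype.ext (Subtype.ext (funext fun q => ?_))
      show conjChar Q x⁻¹ (θ.1 : Q → ℂ) (actSub φ Q hQ u⁻¹ q) =
        conjChar Q (φ u x)⁻¹ (fun q => (θ.1 : Q → ℂ) (actSub φ Q hQ u⁻¹ q)) q
      refine congrArg (θ.1 : Q → ℂ) (Subtype.ext ?_)
      show x⁻¹ * φ u⁻¹ q * x⁻¹⁻¹ = φ u⁻¹ ((φ u x)⁻¹ * q * (φ u x)⁻¹⁻¹)
      rw [map_mul, map_mul, inv_inv, inv_inv, map_inv (φ u⁻¹) (φ u x),
        RelGlauberman.inv_apply_apply])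
    (fun θ θ' => by
      obtain ⟨g, hg⟩ := (mem_conjOrbit Q).1
        (restrict_constituent_conj Q χ.2 θ.1.2 θ'.1.2 θ.2 θ'.2)
      refine ⟨((g⁻¹ : X) : X ⧸ Q), Subtype.ext (Subtype.ext ?_)⟩
      show conjChar Q g⁻¹⁻¹ (θ.1 : Q → ℂ) = (θ'.1 : Q → ℂ)
      rw [inv_inv, hg])
  exact ⟨θ.1, isInvQ_of_fixed hQ fun u => congrArg Subtype.val (hθ u), θ.2⟩

theorem sum_hom_apply {A : Type*} [CommGroup A] [Finite A] [Fintype (A →* ℂˣ)] (a : A)
    [Decidable (a = 1)] :
    ∑ f : A →* ℂˣ, (f a : ℂ) = if a = 1 then (Nat.card A : ℂ) else 0 := by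
  haveI : NeZero (Monoid.exponent A : ℂ) :=
    ⟨Nat.cast_ne_zero.mpr Monoid.exponent_ne_zero_of_finite⟩
  split_ifs with h
  · subst h
    simp only [map_one, Units.val_one, Finset.sum_const, nsmul_eq_mul, mul_one, Finset.card_univ]
    rw [← Nat.card_eq_fintype_card, CommGroup.card_monoidHom_of_hasEnoughRootsOfUnity]
  · obtain ⟨f0, hf0⟩ := CommGroup.exists_apply_ne_one_of_hasEnoughRootsOfUnity A ℂ h
    have e : ∑ f : A →* ℂˣ, (f a : ℂ) = (f0 a : ℂ) * ∑ f : A →* ℂˣ, (f a : ℂ) := by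
      rw [Finset.mul_sum]
      exact (Fintype.sum_equiv (Equiv.mulLeft f0) _ _ fun f => by simp).symm
    have : (1 - (f0 a : ℂ)) * ∑ f : A →* ℂˣ, (f a : ℂ) = 0 := by
      rw [sub_mul, one_mul, ← e, sub_self]
    refine (mul_eq_zero.1 this).resolve_left (sub_ne_zero.2 fun h1 => hf0 ?_)
    exact Units.ext h1.symm

variable (Q) in
/-- Characters over the same character of a normal subgroup with abelian quotient differ by a
linear character. -/
theorem exists_linear_mul [Fintype Q] (hab : ∀ a b : X ⧸ Q, a * b = b * a) (χ χ' : IrrCharacter X)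
    {θ : IrrCharacter Q} (h : classInner (fun q : Q => (χ : X → ℂ) q) (θ : Q → ℂ) ≠ 0)
    (h' : classInner (fun q : Q => (χ' : X → ℂ) q) (θ : Q → ℂ) ≠ 0) :
    ∃ f : X ⧸ Q →* ℂˣ, ∀ x : X, (f (x : X ⧸ Q) : ℂ) * (χ : X → ℂ) x = (χ' : X → ℂ) x := by
  classical
  letI : CommGroup (X ⧸ Q) := { (inferInstance : Group (X ⧸ Q)) with mul_comm := hab }
  haveI : Finite (X ⧸ Q →* ℂˣ) := Finite.of_injective (β := IrrCharacter (X ⧸ Q))
    (fun f => ⟨_, isIrrCharacter_linear f⟩)
    fun _ _ e => CharExtend.detHom_unique (congrArg Subtype.val e)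
  haveI : Fintype (X ⧸ Q →* ℂˣ) := Fintype.ofFinite _
  have hχc := IsCharacter.isClassFunction (IsIrrCharacter.isCharacter χ.2)
  have e : indFun Q (fun q : Q => (χ : X → ℂ) q) =
      ∑ f : X ⧸ Q →* ℂˣ, fun x : X => (f (x : X ⧸ Q) : ℂ) * (χ : X → ℂ) x := by
    funext x
    rw [Finset.sum_apply, ← Finset.sum_mul, sum_hom_apply]
    rw [indFun_apply]
    have : ∀ y : X, y⁻¹ * x * y ∈ Q ↔ (x : X ⧸ Q) = 1 := fun y => by
      rw [QuotientGroup.eq_one_iff]
      refine ⟨fun h => ?_, fun h => by simpa using hQn.conj_mem x h y⁻¹⟩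
      simpa [mul_assoc] using hQn.conj_mem _ h y
    by_cases hx : (x : X ⧸ Q) = 1
    · rw [if_pos hx, Finset.sum_congr rfl fun y _ => (extendByZero_mem Q _ ((this y).2 hx)).trans
        (show (χ : X → ℂ) (y⁻¹ * x * y) = (χ : X → ℂ) x by simpa using hχc x y⁻¹),
        Finset.sum_const, Finset.card_univ, nsmul_eq_mul, ← Nat.card_eq_fintype_card,
        ← Subgroup.card_mul_index Q, Nat.cast_mul, Subgroup.index_eq_card]
      have : (Nat.card Q : ℂ) ≠ 0 := Nat.cast_ne_zero.2 Nat.card_pos.ne'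
      field_simp
    · rw [if_neg hx, zero_mul, Finset.sum_eq_zero fun y _ =>
        extendByZero_not_mem Q _ fun hy => hx ((this y).1 hy), mul_zero]
  have hne : classInner (indFun Q (fun q : Q => (χ : X → ℂ) q)) (χ' : X → ℂ) ≠ 0 := by
    rw [classInner_indFun_left Q _ (IsCharacter.isClassFunction (IsIrrCharacter.isCharacter χ'.2))]
    exact classInner_ne_zero_of_common (IsCharacter.restrict (IsIrrCharacter.isCharacter χ.2) Q)
      (IsCharacter.restrict (IsIrrCharacter.isCharacter χ'.2) Q) θ h h'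
  rw [e, classInner_sum_left] at hne
  obtain ⟨f, -, hf⟩ := Finset.exists_ne_zero_of_sum_ne_zero hne
  refine ⟨f, fun x => congrFun (?_ : (fun x : X => (f (x : X ⧸ Q) : ℂ) * (χ : X → ℂ) x) = χ') x⟩
  by_contra hn
  exact hf ((classInner_irr (ChiefRestrict.isIrr_mul_linear χ.2
    (f.comp (QuotientGroup.mk' Q))) χ'.2).trans (if_neg hn))

variable (Q) in
theorem exists_over_irr [Fintype Q] (θ : IrrCharacter Q) :
    ∃ χ : IrrCharacter X, classInner (fun q : Q => (χ : X → ℂ) q) (θ : Q → ℂ) ≠ 0 := by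
  classical
  have hi := isCharacter_indFun Q (IsIrrCharacter.isCharacter θ.2)
  by_contra hc
  push Not at hc
  have hz : classInner (indFun Q (θ : Q → ℂ)) (indFun Q (θ : Q → ℂ)) = 0 := by
    conv_lhs => arg 2; rw [IsCharacter.eq_sum hi]
    rw [classInner_sum_right]
    refine Finset.sum_eq_zero fun χ _ => ?_
    have : classInner (indFun Q (θ : Q → ℂ)) (χ : X → ℂ) = 0 := by
      rw [classInner_indFun_left Q _ (IsCharacter.isClassFunction (IsIrrCharacter.isCharacter χ.2)),
        ← classInner_conj_symm, hc χ, map_zero]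
    rw [classInner_smul_right, this, mul_zero]
  rw [classInner_indFun_normal Q θ.2 θ.2, mul_eq_zero, inv_eq_zero, Nat.cast_eq_zero,
    Nat.cast_eq_zero] at hz
  haveI : Nonempty {g : X // conjChar Q g (θ : Q → ℂ) = θ} := ⟨⟨1, conjChar_one Q _⟩⟩
  exact hz.elim Nat.card_pos.ne' Nat.card_pos.ne'

include hQ in
/-- Abelian quotient: an invariant character has an invariant constituent above. -/
theorem exists_inv_over_abelian [Fintype Q] (hab : ∀ a b : X ⧸ Q, a * b = b * a)
    (hcop : (Nat.card R).Coprime Q.index) (θ : IrrCharacter Q) (hθ : IsInvQ hQ (θ : Q → ℂ)) :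
    ∃ χ : IrrCharacter X, IsInv φ (χ : X → ℂ) ∧
      classInner (fun q : Q => (χ : X → ℂ) q) (θ : Q → ℂ) ≠ 0 := by
  classical
  letI : CommGroup (X ⧸ Q) := { (inferInstance : Group (X ⧸ Q)) with mul_comm := hab }
  haveI : NeZero (Monoid.exponent (X ⧸ Q) : ℂ) :=
    ⟨Nat.cast_ne_zero.mpr Monoid.exponent_ne_zero_of_finite⟩
  haveI : Finite (X ⧸ Q →* ℂˣ) := Finite.of_injective (β := IrrCharacter (X ⧸ Q))
    (fun f => ⟨_, isIrrCharacter_linear f⟩)
    fun _ _ e => CharExtend.detHom_unique (congrArg Subtype.val e)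
  let α : R →* MulAut (X ⧸ Q →* ℂˣ) :=
    { toFun := fun u =>
        { toFun := fun f => f.comp (actQuot φ Q hQ u⁻¹).toMonoidHom
          invFun := fun f => f.comp (actQuot φ Q hQ u).toMonoidHom
          left_inv := fun f => MonoidHom.ext fun x => by simp
          right_inv := fun f => MonoidHom.ext fun x => by simp
          map_mul' := fun f g => rfl }
      map_one' := MulEquiv.ext fun f => MonoidHom.ext fun x => by simp
      map_mul' := fun a b => MulEquiv.ext fun f => MonoidHom.ext fun x => by simp }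
  let P : IrrCharacter X → Prop := fun χ =>
    classInner (fun q : Q => (χ : X → ℂ) q) (θ : Q → ℂ) ≠ 0
  let tw : (X ⧸ Q →* ℂˣ) →* Equiv.Perm (IrrCharacter X) :=
    { toFun := fun f =>
        { toFun := fun χ => ⟨_, ChiefRestrict.isIrr_mul_linear χ.2 (f.comp (QuotientGroup.mk' Q))⟩
          invFun := fun χ =>
            ⟨_, ChiefRestrict.isIrr_mul_linear χ.2 (f⁻¹.comp (QuotientGroup.mk' Q))⟩
          left_inv := fun χ => Subtype.ext (funext fun x => by simp)
          right_inv := fun χ => Subtype.ext (funext fun x => by simp) }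
      map_one' := Equiv.ext fun χ => Subtype.ext (funext fun x => by simp)
      map_mul' := fun f g => Equiv.ext fun χ => Subtype.ext (funext fun x => by simp [mul_assoc]) }
  have hP1 : ∀ u χ, P χ → P (irrPerm φ u χ) := fun u χ h h0 => by
    apply h
    rw [← RelGlauberman.classInner_comp_surj (actSub φ Q hQ u⁻¹).toMonoidHom
      (actSub φ Q hQ u⁻¹).surjective]
    refine Eq.trans ?_ h0
    congr 1
    exact funext fun q => hθ u⁻¹ q
  have hP2 : ∀ f χ, P χ → P (tw f χ) := fun f χ h h0 => by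
    apply h
    refine Eq.trans ?_ h0
    congr 1
    funext q
    show _ = (f ((q : X) : X ⧸ Q) : ℂ) * (χ : X → ℂ) q
    rw [(QuotientGroup.eq_one_iff (q : X)).2 q.2, map_one, Units.val_one, one_mul]
  haveI : Nonempty {χ // P χ} := let ⟨χ, hχ⟩ := exists_over_irr Q θ; ⟨⟨χ, hχ⟩⟩
  obtain ⟨χ, hχ⟩ := exists_fixed_point α (by
      rwa [CommGroup.card_monoidHom_of_hasEnoughRootsOfUnity, ← Subgroup.index_eq_card])
    (Or.inr inferInstance) (permSub (irrPerm φ) P hP1) (permSub tw P hP2)
    (fun u f χ => Subtype.ext (Subtype.ext (funext fun x => rfl)))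
    (fun χ χ' => by
      obtain ⟨f, hf⟩ := exists_linear_mul Q hab χ.1 χ'.1 χ.2 χ'.2
      exact ⟨f, Subtype.ext (Subtype.ext (funext hf))⟩)
  refine ⟨χ.1, fun u x => ?_, χ.2⟩
  have := congrFun (congrArg (fun z : {χ // P χ} => (z.1 : X → ℂ)) (hχ u⁻¹)) x
  change (χ.1 : X → ℂ) (φ u⁻¹⁻¹ x) = (χ.1 : X → ℂ) x at this
  rwa [inv_inv] at this

theorem exists_inv_over_solvable : ∀ (n : ℕ) (X : Type u) [Group X] [Fintype X]
    (φ : R →* MulAut X) (Q : Subgroup X) [Q.Normal] [Fintype Q]
    (hQ : ∀ u, ∀ q ∈ Q, φ u q ∈ Q), Q.index = n → Group.IsSolvable (X ⧸ Q) →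
    (Nat.card R).Coprime Q.index → ∀ θ : IrrCharacter Q, IsInvQ hQ (θ : Q → ℂ) →
    ∃ χ : IrrCharacter X, IsInv φ (χ : X → ℂ) ∧
      classInner (fun q : Q => (χ : X → ℂ) q) (θ : Q → ℂ) ≠ 0 := by
  intro n
  induction n using Nat.strong_induction_on with
  | _ n ih =>
  intro X _ _ φ Q _ _ hQ hn hsolv hcop θ hθ
  classical
  by_cases hab : ∀ a b : X ⧸ Q, a * b = b * a
  · exact exists_inv_over_abelian hQ hab hcop θ hθ
  set D := commutator X ⊔ Q with hD
  have hDQ : ∀ u, ∀ d ∈ D, φ u d ∈ D := by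
    intro u
    suffices D ≤ D.comap (φ u).toMonoidHom from fun d hd => this hd
    refine sup_le (fun c hc => Subgroup.mem_sup_left ?_) fun q hq => Subgroup.mem_sup_right (hQ u q hq)
    have h := (Subgroup.Characteristic.fixed (H := commutator X) inferInstance (φ u)).ge hc; exact h
  haveI : Fintype D := Fintype.ofFinite _
  let Q' := Q.subgroupOf D
  haveI : Fintype Q' := Fintype.ofFinite _
  have hDtop : D ≠ ⊤ := by
    intro h
    have h1 : commutator (X ⧸ Q) = ⊤ := by
      rw [← top_le_iff, ← Subgroup.map_top_of_surjective (QuotientGroup.mk' Q)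
        (QuotientGroup.mk'_surjective Q), ← h, hD, Subgroup.map_sup, QuotientGroup.map_mk'_self,
        sup_bot_eq, commutator_def, Subgroup.map_commutator]
      exact Subgroup.commutator_mono le_top le_top
    haveI : Nontrivial (X ⧸ Q) := by
      by_contra h0
      rw [not_nontrivial_iff_subsingleton] at h0
      exact hab fun a b => Subsingleton.elim _ _
    exact (Group.IsSolvable.commutator_lt_top_of_nontrivial (X ⧸ Q)).ne h1
  have hQD : Q ≤ D := le_sup_right
  let e : Q' ≃* Q := Subgroup.subgroupOfEquivOfLe hQD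
  have hmul : Q'.index * D.index = Q.index := Subgroup.relIndex_mul_index hQD
  have hlt : Q'.index < n := by
    rw [← hn, ← hmul]
    exact lt_mul_of_one_lt_right (Nat.pos_of_ne_zero Subgroup.index_ne_zero_of_finite)
      (Subgroup.one_lt_index_of_ne_top hDtop)
  have hsolv' : Group.IsSolvable (D ⧸ Q') := by
    haveI := hsolv
    exact Group.isSolvable_of_isSolvable_injective
      (f := QuotientGroup.map Q' Q D.subtype fun q hq => hq) fun a b hab' => by
        obtain ⟨a, rfl⟩ := QuotientGroup.mk_surjective a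
        obtain ⟨b, rfl⟩ := QuotientGroup.mk_surjective b
        exact QuotientGroup.eq.2 (Subgroup.mem_subgroupOf.2 (QuotientGroup.eq.1 hab'))
  obtain ⟨ψ, hψ, hψθ⟩ := ih _ hlt D (actSub φ D hDQ) Q' (fun u q hq => hQ u _ hq) rfl hsolv'
    (hcop.coprime_dvd_right ⟨_, hmul.symm⟩)
    ⟨_, IsIrrCharacter.comp θ.2 e.toMonoidHom e.surjective⟩ fun u q => hθ u (e q)
  obtain ⟨χ, hχ, hχψ⟩ := exists_inv_over_abelian (φ := φ) (Q := D) hDQ
    (fun a b => by
      obtain ⟨a, rfl⟩ := QuotientGroup.mk_surjective a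
      obtain ⟨b, rfl⟩ := QuotientGroup.mk_surjective b
      rw [← commutatorElement_eq_one_iff_mul_comm]
      exact (QuotientGroup.eq_one_iff _).2 (Subgroup.mem_sup_left
        (Subgroup.commutator_mem_commutator (Subgroup.mem_top a) (Subgroup.mem_top b))))
    (hcop.coprime_dvd_right ⟨_, by rw [← hmul, mul_comm]⟩) ψ hψ
  refine ⟨χ, hχ, ?_⟩
  refine RelGlauberman.mult_trans (Subgroup.inclusion hQD)
    (IsCharacter.restrict (IsIrrCharacter.isCharacter χ.2) D) ψ.2
    (IsIrrCharacter.isCharacter θ.2) hχψ fun h0 => hψθ ?_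
  rw [← h0, ← RelGlauberman.classInner_comp_surj e.toMonoidHom e.surjective]
  rfl

/-- A solvable group acting coprimely: an invariant character has an invariant constituent
above. -/
theorem exists_inv_over_coprime : ∀ (n : ℕ) (X : Type u) [Group X] [Fintype X] (R : Type v)
    [Group R] [Finite R] (φ : R →* MulAut X) (Q : Subgroup X) [Q.Normal] [Fintype Q]
    (hQ : ∀ u, ∀ q ∈ Q, φ u q ∈ Q), Nat.card R = n → Group.IsSolvable R →
    (Nat.card X).Coprime (Nat.card R) → ∀ θ : IrrCharacter Q, IsInvQ hQ (θ : Q → ℂ) →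
    ∃ χ : IrrCharacter X, IsInv φ (χ : X → ℂ) ∧
      classInner (fun q : Q => (χ : X → ℂ) q) (θ : Q → ℂ) ≠ 0 := by
  intro n
  induction n using Nat.strong_induction_on with
  | _ n ih =>
  intro X _ _ R _ _ φ Q _ _ hQ hn hsolv hcop θ hθ
  classical
  rcases subsingleton_or_nontrivial R with hR | hR
  · obtain ⟨χ, hχ⟩ := exists_over_irr Q θ
    exact ⟨χ, fun u x => by rw [Subsingleton.elim u 1, map_one]; rfl, hχ⟩
  obtain ⟨p, hp, A, hAn, hA1, hAp⟩ := CoprimeCount.exists_normal_pgroup R hsolv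
  haveI := Fact.mk hp
  haveI := hAn
  have hpX : ¬ p ∣ Nat.card X := by
    intro hd
    obtain ⟨i, hi⟩ := IsPGroup.iff_card.1 hAp
    have hi0 : i ≠ 0 := fun h => hA1 (Subgroup.eq_bot_of_card_eq _ (by rw [hi, h, pow_zero]))
    have hdR : p ∣ Nat.card R :=
      (dvd_pow_self p hi0).trans (hi ▸ Subgroup.card_subgroup_dvd_card A)
    exact Nat.not_coprime_of_dvd_of_dvd hp.one_lt hd hdR hcop
  have hpQ : ¬ p ∣ Nat.card Q := fun h => hpX (h.trans (Subgroup.card_subgroup_dvd_card Q))
  let ψ : A →* MulAut X := φ.comp A.subtype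
  let ψQ : A →* MulAut Q := (actSub φ Q hQ).comp A.subtype
  let F := GlaubermanMod.fixedSub ψ
  let FQ := GlaubermanMod.fixedSub ψQ
  haveI : Fintype F := Fintype.ofFinite _
  haveI : Fintype FQ := Fintype.ofFinite _
  let Qf := Q.subgroupOf F
  haveI : Fintype Qf := Fintype.ofFinite _
  have hstab : ∀ (u : R) (x : X), x ∈ F → φ u x ∈ F := by
    intro u x hx a
    have h1 := hx ⟨u⁻¹ * a * u, by simpa using hAn.conj_mem _ a.2 u⁻¹⟩
    simp only [ψ, MonoidHom.comp_apply, Subgroup.coe_subtype] at h1 ⊢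
    rw [map_mul, map_mul, map_inv] at h1
    have h2 : φ u ((φ u)⁻¹ (φ a (φ u x))) = φ u x := congrArg (φ u) h1
    rwa [MulAut.apply_inv_self] at h2
  let res : R →* MulAut F := actSub φ F hstab
  have hAker : A ≤ res.ker := fun a ha => MulEquiv.ext fun x => Subtype.ext (x.2 ⟨a, ha⟩)
  let χbar : R ⧸ A →* MulAut F := QuotientGroup.lift A res hAker
  have hQf : ∀ q, ∀ c ∈ Qf, χbar q c ∈ Qf := by
    intro q c hc
    obtain ⟨u, rfl⟩ := QuotientGroup.mk_surjective q
    exact hQ u _ hc
  have hlt : Nat.card (R ⧸ A) < n := by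
    rw [← hn, A.card_eq_card_quotient_mul_card_subgroup]
    exact lt_mul_of_one_lt_right Nat.card_pos (Subgroup.one_lt_card_iff_ne_bot _ |>.2 hA1)
  -- the Glauberman correspondent of `θ`
  let ι : Qf ≃* FQ :=
    { toFun := fun c => ⟨⟨((c : F) : X), c.2⟩, fun a => Subtype.ext ((c : F).2 a)⟩
      invFun := fun c => ⟨⟨((c : Q) : X), fun a => congrArg Subtype.val (c.2 a)⟩, (c : Q).2⟩
      left_inv := fun c => rfl
      right_inv := fun c => rfl
      map_mul' := fun _ _ => rfl }
  have hθA : IsInv ψQ (θ : Q → ℂ) := fun a q => hθ (a : R) q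
  obtain ⟨γ₀, hγ1, hγ2⟩ := GlaubermanMod.exists_unique_constituent ψQ hAp hpQ θ hθA
  have hγnd : ¬ p ∣ GlaubermanMod.mult ψQ θ γ₀ := fun hd => by
    rw [← ZMod.natCast_eq_zero_iff] at hd
    rcases hγ1 with e | e <;> simp [hd] at e
  let θf : IrrCharacter Qf := ⟨_, IsIrrCharacter.comp γ₀.2 ι.toMonoidHom ι.surjective⟩
  let RQ : R →* MulAut FQ :=
    { toFun := fun u =>
        { toFun := fun c => ι (⟨res u (ι.symm c : F), hQ u _ (ι.symm c).2⟩ : Qf)
          invFun := fun c => ι (⟨res u⁻¹ (ι.symm c : F), hQ u⁻¹ _ (ι.symm c).2⟩ : Qf)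
          left_inv := fun c => Subtype.ext (Subtype.ext
            (RelGlauberman.inv_apply_apply (φ := φ) u _))
          right_inv := fun c => Subtype.ext (Subtype.ext
            (RelGlauberman.apply_inv_apply (φ := φ) u _))
          map_mul' := fun a b => Subtype.ext (Subtype.ext (map_mul (φ u) _ _)) }
      map_one' := MulEquiv.ext fun c => Subtype.ext (Subtype.ext (by
        show φ 1 ((c : Q) : X) = _; rw [map_one]; rfl))
      map_mul' := fun a b => MulEquiv.ext fun c => Subtype.ext (Subtype.ext (by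
        show φ (a * b) ((c : Q) : X) = _; rw [map_mul]; rfl)) }
  have hθf : IsInvQ hQf (θf : Qf → ℂ) := by
    intro q c
    obtain ⟨u, rfl⟩ := QuotientGroup.mk_surjective q
    let γu : IrrCharacter FQ := ⟨_, IsIrrCharacter.comp γ₀.2 (RQ u).toMonoidHom (RQ u).surjective⟩
    have hm : GlaubermanMod.mult ψQ θ γu = GlaubermanMod.mult ψQ θ γ₀ := by
      apply Nat.cast_injective (R := ℂ)
      rw [← GlaubermanMod.classInner_resC, ← GlaubermanMod.classInner_resC,
        ← RelGlauberman.classInner_comp_surj (RQ u).toMonoidHom (RQ u).surjective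
          (GlaubermanMod.resC ψQ (θ : Q → ℂ)) (γ₀ : FQ → ℂ)]
      congr 1
      exact funext fun c => (hθ u (c : Q)).symm
    have hγu : γu = γ₀ := by
      by_contra hne
      exact hγnd (hm ▸ hγ2 γu hne)
    exact congrFun (congrArg Subtype.val hγu) (ι c)
  obtain ⟨γ, hγ, hγθ⟩ := ih _ hlt F (R ⧸ A) χbar Qf hQf rfl
    (by haveI := hsolv; infer_instance)
    ((hcop.coprime_dvd_left (Subgroup.card_subgroup_dvd_card F)).coprime_dvd_right
      (Subgroup.card_quotient_dvd_card A)) θf hθf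
  obtain ⟨χ, hχA, hχγ⟩ := GlaubermanMod.exists_over ψ hAp hpX γ
  -- `χ` is invariant
  have hinv : IsInv φ (χ : X → ℂ) := by
    intro u x
    let χu : IrrCharacter X := ⟨_, IsIrrCharacter.comp χ.2 (φ u : X ≃* X).toMonoidHom (φ u).surjective⟩
    have hχu : IsInv ψ (χu : X → ℂ) := by
      intro a y
      show (χ : X → ℂ) (φ u (φ a y)) = (χ : X → ℂ) (φ u y)
      have h1 := hχA ⟨u * a * u⁻¹, hAn.conj_mem _ a.2 u⟩ (φ u y)
      simp only [ψ, MonoidHom.comp_apply, Subgroup.coe_subtype, map_mul, map_inv] at h1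
      rwa [MulAut.mul_apply, MulAut.mul_apply, MulAut.inv_apply_self] at h1
    have hm : GlaubermanMod.mult ψ χu γ = GlaubermanMod.mult ψ χ γ := by
      apply Nat.cast_injective (R := ℂ)
      rw [← GlaubermanMod.classInner_resC, ← GlaubermanMod.classInner_resC,
        ← RelGlauberman.classInner_comp_surj (res u).toMonoidHom (res u).surjective
          (GlaubermanMod.resC ψ (χ : X → ℂ)) (γ : F → ℂ)]
      congr 1
      exact funext fun c => (hγ (u : R ⧸ A) c).symm
    exact congrFun (congrArg Subtype.val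
      (GlaubermanMod.eq_of_common ψ hAp hpX hχu hχA (hm.symm ▸ hχγ) hχγ)) x
  refine ⟨χ, hinv, fun hc0 => ?_⟩
  -- the two evaluations modulo `p` of the multiplicity of `θf` in `χ`
  choose c hc using fun τ : IrrCharacter Q => IsCharacter.exists_classInner_nat
    (IsCharacter.restrict (IsIrrCharacter.isCharacter χ.2) Q) (IsIrrCharacter.isCharacter τ.2)
  choose e he using fun δ : IrrCharacter F => IsCharacter.exists_classInner_nat
    (IsCharacter.restrict (IsIrrCharacter.isCharacter δ.2) Qf) (IsIrrCharacter.isCharacter θf.2)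
  have hmain : (∑ δ : IrrCharacter F, GlaubermanMod.mult ψ χ δ * e δ : ℕ) =
      ∑ τ : IrrCharacter Q, c τ * GlaubermanMod.mult ψQ τ γ₀ := by
    apply Nat.cast_injective (R := ℂ)
    push_cast
    have e1 : classInner (fun c : Qf => (χ : X → ℂ) ((c : F) : X)) (θf : Qf → ℂ) =
        ∑ δ : IrrCharacter F, (GlaubermanMod.mult ψ χ δ : ℂ) * (e δ : ℂ) := by
      rw [show (fun c : Qf => (χ : X → ℂ) ((c : F) : X)) = ∑ δ : IrrCharacter F,
        (GlaubermanMod.mult ψ χ δ : ℂ) • fun c : Qf => (δ : F → ℂ) c from funext fun c => by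
          rw [Finset.sum_apply]; exact GlaubermanMod.resC_eq_sum ψ χ c, classInner_sum_left]
      exact Finset.sum_congr rfl fun δ _ => by rw [classInner_smul_left, he]
    have e2 : classInner (fun c : Qf => (χ : X → ℂ) ((c : F) : X)) (θf : Qf → ℂ) =
        ∑ τ : IrrCharacter Q, (c τ : ℂ) * (GlaubermanMod.mult ψQ τ γ₀ : ℂ) := by
      have h0 : classInner (fun c : Qf => (χ : X → ℂ) ((c : F) : X)) (θf : Qf → ℂ) =
          classInner (fun c : FQ => (χ : X → ℂ) ((c : Q) : X)) (γ₀ : FQ → ℂ) := by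
        rw [← RelGlauberman.classInner_comp_surj ι.toMonoidHom ι.surjective
          (fun c : FQ => (χ : X → ℂ) ((c : Q) : X)) (γ₀ : FQ → ℂ)]
        rfl
      rw [h0, show (fun c : FQ => (χ : X → ℂ) ((c : Q) : X)) = ∑ τ : IrrCharacter Q,
        (c τ : ℂ) • GlaubermanMod.resC ψQ (τ : Q → ℂ) from funext fun x => by
          have h := congrFun (IsCharacter.eq_sum
            (IsCharacter.restrict (IsIrrCharacter.isCharacter χ.2) Q)) (x : Q)
          simp only [Finset.sum_apply, Pi.smul_apply, hc] at h ⊢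
          exact h, classInner_sum_left]
      exact Finset.sum_congr rfl fun τ _ => by
        rw [classInner_smul_left, GlaubermanMod.classInner_resC]
    exact e1.symm.trans e2
  have hmain' := congrArg (fun k : ℕ => (k : ZMod p)) hmain
  simp only [Nat.cast_sum, Nat.cast_mul] at hmain'
  -- left hand side
  obtain ⟨γ', hγ'1, hγ'2⟩ := GlaubermanMod.exists_unique_constituent ψ hAp hpX χ hχA
  have hγeq : γ = γ' := by_contra fun hne => hχγ (hγ'2 γ hne)
  subst hγeq
  rw [Finset.sum_eq_single γ (fun δ _ hne => by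
      rw [(ZMod.natCast_eq_zero_iff _ _).2 (hγ'2 δ hne), zero_mul])
    (fun h => absurd (Finset.mem_univ _) h)] at hmain'
  -- right hand side
  letI : MulAction A (IrrCharacter Q) := GlaubermanMod.irrAction ψQ
  rw [Blocks.sum_eq_sum_fixed (R := ZMod p) hAp
    (fun τ : IrrCharacter Q => (c τ : ZMod p) * (GlaubermanMod.mult ψQ τ γ₀ : ZMod p))
    (fun a τ => by
      congr 1
      · congr 1
        apply Nat.cast_injective (R := ℂ)
        rw [← hc, ← hc]
        exact classInner_comp_act hQ ((a : R)⁻¹) _ hinv (τ : Q → ℂ)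
      · congr 1
        apply Nat.cast_injective (R := ℂ)
        rw [← GlaubermanMod.classInner_resC, ← GlaubermanMod.classInner_resC]
        congr 1
        funext x
        show (τ : Q → ℂ) (ψQ a⁻¹ x) = (τ : Q → ℂ) x
        rw [x.2 a⁻¹]),
    Finset.sum_eq_zero fun τ hτ => ?_] at hmain'
  · have hγ0 : (e γ : ZMod p) ≠ 0 := by
      intro h0
      rw [ZMod.natCast_eq_zero_iff] at h0
      obtain ⟨r, hr, hrd⟩ := exists_ratio_dvd_index Qf γ.2 θf.2 hγθ
      have hcd := clifford_degree Qf γ.2 θf.2 hγθ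
      rw [hr, he] at hcd
      have h1 : r = e γ * (inertia Qf (θf : Qf → ℂ)).index := by
        have := mul_right_cancel₀ (IsIrrCharacter.one_ne_zero θf.2) hcd
        exact_mod_cast this
      exact hpX (((h0.trans (Dvd.intro _ h1.symm)).trans hrd).trans
        ((Subgroup.index_dvd_card Qf).trans (Subgroup.card_subgroup_dvd_card F)))
    exact (mul_ne_zero (fun h => hχγ ((ZMod.natCast_eq_zero_iff _ _).1 h)) hγ0) hmain'
  · have hτfix := (Finset.mem_filter.1 hτ).2
    have hτinv : IsInv ψQ (τ : Q → ℂ) := fun a x => by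
      have := congrFun (congrArg Subtype.val (hτfix a⁻¹)) x
      change (τ : Q → ℂ) (ψQ a⁻¹⁻¹ x) = (τ : Q → ℂ) x at this
      rwa [inv_inv] at this
    by_cases hτθ : τ = θ
    · subst hτθ
      have : c τ = 0 := Nat.cast_injective (R := ℂ) (by rw [← hc, hc0, Nat.cast_zero])
      rw [this, Nat.cast_zero, zero_mul]
    · rw [(ZMod.natCast_eq_zero_iff _ _).2 (by_contra fun h =>
        hτθ (GlaubermanMod.eq_of_common ψQ hAp hpQ hτinv hθA h hγnd)), mul_zero]

end Cfsg.Agent.CoprimeConst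

namespace Cfsg.Agent.CoprimeConst

open Cfsg Cfsg.Agent.Char
open Cfsg.Agent.GlaubermanMod (IsInv)
open Cfsg.Agent.RelGlauberman (IsInvQ)

section Inner

universe u

variable {Γ : Type u} [Group Γ]

/-- Conjugation by a subgroup on a subgroup that it normalises. -/
def actConj (G S : Subgroup Γ) (hnorm : ∀ s ∈ S, ∀ g ∈ G, s * g * s⁻¹ ∈ G) : S →* MulAut G where
  toFun s :=
    { toFun := fun g => ⟨(s : Γ) * g * (s : Γ)⁻¹, hnorm s s.2 g g.2⟩
      invFun := fun g => ⟨((s⁻¹ : S) : Γ) * g * ((s⁻¹ : S) : Γ)⁻¹, hnorm _ (s⁻¹).2 g g.2⟩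
      left_inv := fun g => Subtype.ext (by simp [mul_assoc])
      right_inv := fun g => Subtype.ext (by simp [mul_assoc])
      map_mul' := fun a b => Subtype.ext (by simp [mul_assoc]) }
  map_one' := MulEquiv.ext fun g => Subtype.ext (by simp)
  map_mul' a b := MulEquiv.ext fun g => Subtype.ext (by simp [mul_assoc])

theorem actConj_coe (G S : Subgroup Γ) (hnorm : ∀ s ∈ S, ∀ g ∈ G, s * g * s⁻¹ ∈ G) (s : S)
    (g : G) : ((actConj G S hnorm s g : G) : Γ) = (s : Γ) * g * (s : Γ)⁻¹ := rfl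

theorem isInv_conj_iff (G S : Subgroup Γ) (hnorm : ∀ s ∈ S, ∀ g ∈ G, s * g * s⁻¹ ∈ G)
    (f : G → ℂ) : IsInv (actConj G S hnorm) f ↔
      ∀ s ∈ S, ∀ g g' : G, (g' : Γ) = s * g * s⁻¹ → f g' = f g := by
  refine ⟨fun h s hs g g' he => ?_, fun h u g => h u u.2 g _ (actConj_coe G S hnorm u g)⟩
  rw [show g' = actConj G S hnorm ⟨s, hs⟩ g from Subtype.ext he]
  exact h _ _

theorem isInvQ_conj_iff (G S N : Subgroup Γ) (hnorm : ∀ s ∈ S, ∀ g ∈ G, s * g * s⁻¹ ∈ G)
    (hNG : N ≤ G) [(N.subgroupOf G).Normal]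
    (hNS : ∀ u, ∀ q ∈ N.subgroupOf G, actConj G S hnorm u q ∈ N.subgroupOf G) (f : N → ℂ) :
    IsInvQ hNS (fun q => f (Subgroup.subgroupOfEquivOfLe hNG q)) ↔
      ∀ s ∈ S, ∀ g g' : N, (g' : Γ) = s * g * s⁻¹ → f g' = f g := by
  refine ⟨fun h s hs g g' he => ?_, fun h u q =>
    h u u.2 (Subgroup.subgroupOfEquivOfLe hNG q) _ (actConj_coe G S hnorm u q)⟩
  have h1 := h ⟨s, hs⟩ ((Subgroup.subgroupOfEquivOfLe hNG).symm g)
  beta_reduce at h1
  rw [MulEquiv.apply_symm_apply] at h1
  rw [← h1]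
  exact congrArg f (Subtype.ext he)

theorem classInner_subgroupOf (G N : Subgroup Γ) (hNG : N ≤ G) [Fintype N]
    [Fintype (N.subgroupOf G)] (χ : G → ℂ) (θ : N → ℂ) :
    classInner (fun n : N => χ ⟨n, hNG n.2⟩) θ =
      classInner (fun q : N.subgroupOf G => χ q)
        (fun q => θ (Subgroup.subgroupOfEquivOfLe hNG q)) := by
  rw [← RelGlauberman.classInner_comp_surj (Subgroup.subgroupOfEquivOfLe hNG).toMonoidHom
    (Subgroup.subgroupOfEquivOfLe hNG).surjective]
  rfl

end Inner

end Cfsg.Agent.CoprimeConst
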