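/-
Small-degree characters of a group with an abelian Sylow subgroup `P` whose non-identity elements
all have the centraliser of `P`: the norm of a character on the elements `y v`, `y ∈ P#`, forces
its restriction to `P` to be very special.
-/
import Cfsg.Agent.Lib.Char.CoprimeConstituent

set_option linter.unusedSectionVars false
set_option linter.style.haveILetI false

namespace Cfsg.Agent.CCSylow

open Cfsg Cfsg.Agent.Char
open scoped ComplexConjugate

universe u

variable {G : Type u} [Group G] [Fintype G]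

/-- The configuration: `C_G(P) = P × V`, `N = N_G(P)`, `e = [N : C_G(P)]`. -/
structure Data (P V N : Subgroup G) (e : ℕ) : Prop where
  comm : ∀ a ∈ P, ∀ b ∈ P, a * b = b * a
  pv : ∀ y ∈ P, ∀ v ∈ V, y * v = v * y
  cop : (Nat.card P).Coprime (Nat.card V)
  hNP : ∀ w ∈ N, ∀ y ∈ P, w * y * w⁻¹ ∈ P
  hNV : ∀ w ∈ N, ∀ v ∈ V, w * v * w⁻¹ ∈ V
  hTI : ∀ y ∈ P, y ≠ 1 → ∀ w, w * y * w⁻¹ ∈ P → w ∈ N
  hcard : Nat.card N = e * (Nat.card P * Nat.card V)
  hsemi : ∀ w ∈ N, ∀ y ∈ P, y ≠ 1 → w * y * w⁻¹ = y → ∀ y' ∈ P, w * y' * w⁻¹ = y'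
  he : ((Subgroup.centralizer (P : Set G)).subgroupOf N).index = e

variable {P V N : Subgroup G} {e : ℕ} (D : Data P V N e)

include D

theorem e_pos : 0 < e := D.he ▸ Nat.pos_of_ne_zero Subgroup.index_ne_zero_of_finite

/-- The product map. -/
def mu : P × V →* G where
  toFun p := (p.1 : G) * (p.2 : G)
  map_one' := by simp
  map_mul' p q := by
    simp only [Prod.fst_mul, Prod.snd_mul, Subgroup.coe_mul]
    rw [mul_assoc, mul_assoc, ← mul_assoc (q.1 : G), D.pv _ q.1.2 _ p.2.2]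
    simp only [mul_assoc]

/-- The coefficient of `l ⊗ b` in a function restricted to `P × V`. -/
noncomputable def co [Fintype P] [Fintype V] (f : G → ℂ) (l : P →* ℂˣ) (b : IrrCharacter V) : ℂ :=
  classInner (fun p : P × V => f (mu D p))
    (fun p : P × V => (l p.1 : ℂ) * (b : V → ℂ) p.2)

variable [Fintype P] [Fintype V]

theorem exists_co_nat {f : G → ℂ} (hf : IsCharacter G f) (l : P →* ℂˣ) (b : IrrCharacter V) :
    ∃ n : ℕ, co D f l b = (n : ℂ) :=
  IsCharacter.exists_classInner_nat (IsCharacter.comp hf (mu D))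
    (IsCharacter.mul
      (IsCharacter.comp (IsIrrCharacter.isCharacter (isIrrCharacter_linear l)) (MonoidHom.fst P V))
      (IsCharacter.comp (IsIrrCharacter.isCharacter b.2) (MonoidHom.snd P V)))

/-- The natural number behind `co`. -/
noncomputable def nco {f : G → ℂ} (hf : IsCharacter G f) (l : P →* ℂˣ) (b : IrrCharacter V) : ℕ :=
  (exists_co_nat D hf l b).choose

theorem co_eq {f : G → ℂ} (hf : IsCharacter G f) (l : P →* ℂˣ) (b : IrrCharacter V) :
    co D f l b = (nco D hf l b : ℂ) :=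
  (exists_co_nat D hf l b).choose_spec

theorem co_eq_sum (f : G → ℂ) (l : P →* ℂˣ) (b : IrrCharacter V) :
    co D f l b = (Nat.card V : ℂ)⁻¹ * ∑ v : V, ((Nat.card P : ℂ)⁻¹ *
      ∑ y : P, f ((y : G) * v) * conj ((l y : ℂˣ) : ℂ)) * conj ((b : V → ℂ) v) := by
  unfold co classInner
  rw [Fintype.sum_prod_type, Finset.sum_comm, Nat.card_prod, Nat.cast_mul, mul_inv,
    Finset.mul_sum, Finset.mul_sum]
  refine Finset.sum_congr rfl fun v _ => ?_
  rw [Finset.mul_sum, Finset.mul_sum, Finset.sum_mul, Finset.mul_sum]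
  refine Finset.sum_congr rfl fun y _ => ?_
  show _ * (f ((y : G) * v) * conj (_ * _)) = _
  rw [map_mul]
  ring

variable [Fintype (P →* ℂˣ)]

omit D in
theorem conj_linear {Q : Type u} [Group Q] [Finite Q] (l : Q →* ℂˣ) (x : Q) :
    conj ((l x : ℂˣ) : ℂ) = (l x⁻¹ : ℂ) :=
  (IsCharacter.inv (IsIrrCharacter.isCharacter (isIrrCharacter_linear l)) x).symm

open scoped Classical in
theorem sum_linear (y : P) :
    ∑ l : P →* ℂˣ, ((l y : ℂˣ) : ℂ) = if y = 1 then (Nat.card P : ℂ) else 0 := by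
  letI : CommGroup P := { (inferInstance : Group P) with
    mul_comm := fun a b => Subtype.ext (D.comm _ a.2 _ b.2) }
  exact CoprimeConst.sum_hom_apply y

theorem card_dual : Fintype.card (P →* ℂˣ) = Nat.card P := by
  have h := sum_linear D (1 : P)
  simp only [map_one, Units.val_one, Finset.sum_const, Finset.card_univ, nsmul_eq_mul, mul_one,
    if_true] at h
  exact_mod_cast h

open scoped Classical in
theorem orth (l l' : P →* ℂˣ) : ∑ y : P, ((l y : ℂˣ) : ℂ) * conj ((l' y : ℂˣ) : ℂ) =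
    if l = l' then (Nat.card P : ℂ) else 0 := by
  have := classInner_irr (isIrrCharacter_linear l) (isIrrCharacter_linear l')
  have e : ((fun x => ((l x : ℂˣ) : ℂ)) = fun x => ((l' x : ℂˣ) : ℂ)) ↔ l = l' :=
    ⟨CharExtend.detHom_unique, fun h => by rw [h]⟩
  rw [classInner, inv_mul_eq_iff_eq_mul₀ (Nat.cast_ne_zero.2 Nat.card_pos.ne')] at this
  rw [this]
  by_cases h : l = l'
  · rw [if_pos h, if_pos (e.2 h), mul_one]
  · rw [if_neg h, if_neg (mt e.1 h), mul_zero]

theorem expansion {f : G → ℂ} (hf : IsClassFunction G f) (y : P) (v : V) :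
    f ((y : G) * v) =
      ∑ l : P →* ℂˣ, ∑ b : IrrCharacter V, co D f l b * (l y : ℂ) * (b : V → ℂ) v := by
  classical
  let ψ : (P →* ℂˣ) → V → ℂ := fun l v =>
    (Nat.card P : ℂ)⁻¹ * ∑ z : P, f ((z : G) * v) * conj ((l z : ℂˣ) : ℂ)
  have hψc : ∀ l, IsClassFunction V (ψ l) := by
    intro l a b
    show _ * _ = _ * _
    congr 1
    refine Finset.sum_congr rfl fun z _ => ?_
    congr 1
    rw [← hf ((z : G) * a) (b : G)]
    congr 1
    simp only [Subgroup.coe_mul, Subgroup.coe_inv]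
    rw [← mul_assoc (b : G), ← D.pv _ z.2 _ b.2]
    simp only [mul_assoc]
  have hψ : ∀ l, ψ l = ∑ b : IrrCharacter V, co D f l b • (b : V → ℂ) := by
    intro l
    refine eq_of_forall_classInner (hψc l) ?_ fun φ => ?_
    · intro a b
      simp only [Finset.sum_apply, Pi.smul_apply]
      exact Finset.sum_congr rfl fun β _ => by
        rw [IsCharacter.isClassFunction (IsIrrCharacter.isCharacter β.2) a b]
    · rw [classInner_combination, co_eq_sum]; rfl
  have hinv : ∑ l : P →* ℂˣ, (l y : ℂ) * ψ l v = f ((y : G) * v) := by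
    simp only [ψ, Finset.mul_sum]
    rw [Finset.sum_comm, Finset.sum_eq_single y]
    · have h1 : ∀ l : P →* ℂˣ, (l y : ℂ) * conj ((l y : ℂˣ) : ℂ) = 1 := fun l => by
        rw [conj_linear, ← Units.val_mul, ← map_mul, mul_inv_cancel, map_one, Units.val_one]
      rw [Finset.sum_congr rfl fun l _ => show _ = (Nat.card P : ℂ)⁻¹ * f ((y : G) * v) by
        rw [← mul_assoc ((l y : ℂˣ) : ℂ), mul_comm ((l y : ℂˣ) : ℂ), mul_assoc,
          mul_left_comm ((l y : ℂˣ) : ℂ), h1, mul_one],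
        Finset.sum_const, Finset.card_univ, card_dual D, nsmul_eq_mul, ← mul_assoc,
        mul_inv_cancel₀ (Nat.cast_ne_zero.2 Nat.card_pos.ne'), one_mul]
    · intro z _ hz
      have : ∑ l : P →* ℂˣ, (l y : ℂ) * conj ((l z : ℂˣ) : ℂ) = 0 := by
        rw [Finset.sum_congr rfl fun l _ => by rw [conj_linear, ← Units.val_mul, ← map_mul],
          sum_linear D, if_neg fun h => hz (mul_inv_eq_one.1 h).symm]
      calc ∑ l : P →* ℂˣ, _ = (Nat.card P : ℂ)⁻¹ * f ((z : G) * v) *
            ∑ l : P →* ℂˣ, (l y : ℂ) * conj ((l z : ℂˣ) : ℂ) := by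
            rw [Finset.mul_sum]; exact Finset.sum_congr rfl fun l _ => by ring
        _ = 0 := by rw [this, mul_zero]
    · exact fun h => absurd (Finset.mem_univ _) h
  rw [← hinv]
  refine Finset.sum_congr rfl fun l _ => ?_
  rw [hψ, Finset.sum_apply, Finset.mul_sum]
  exact Finset.sum_congr rfl fun b _ => by rw [Pi.smul_apply, smul_eq_mul]; ring

theorem expansion_one {f : G → ℂ} (hf : IsClassFunction G f) (v : V) :
    f v = ∑ b : IrrCharacter V, (∑ l : P →* ℂˣ, co D f l b) * (b : V → ℂ) v := by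
  have h := expansion D hf 1 v
  simp only [OneMemClass.coe_one, one_mul, map_one, Units.val_one, mul_one] at h
  rw [h, Finset.sum_comm]
  exact Finset.sum_congr rfl fun b _ => (Finset.sum_mul _ _ _).symm

/-- `q Σ n m - Σ_b (Σ n)(Σ m)`. -/
noncomputable def form (f g : G → ℂ) : ℂ :=
  (Nat.card P : ℂ) * (∑ l : P →* ℂˣ, ∑ b : IrrCharacter V, co D f l b * conj (co D g l b)) -
    ∑ b : IrrCharacter V, (∑ l : P →* ℂˣ, co D f l b) * conj (∑ l : P →* ℂˣ, co D g l b)

theorem sum_full (f g : G → ℂ) (hf : IsClassFunction G f) :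
    (Nat.card V : ℂ)⁻¹ * ∑ v : V, ∑ y : P, f ((y : G) * v) * conj (g ((y : G) * v)) =
      (Nat.card P : ℂ) * ∑ l : P →* ℂˣ, ∑ b : IrrCharacter V, co D f l b * conj (co D g l b) := by
  have e1 : ∀ (l : P →* ℂˣ) (b : IrrCharacter V), (Nat.card P : ℂ) * conj (co D g l b) =
      (Nat.card V : ℂ)⁻¹ *
        ∑ v : V, ∑ y : P, (l y : ℂ) * (b : V → ℂ) v * conj (g ((y : G) * v)) := by
    intro l b
    rw [co_eq_sum]
    simp only [map_mul, map_sum, map_inv₀, map_natCast, Complex.conj_conj, Finset.mul_sum,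
      Finset.sum_mul]
    refine Finset.sum_congr rfl fun v _ => Finset.sum_congr rfl fun y _ => ?_
    have : (Nat.card P : ℂ) ≠ 0 := Nat.cast_ne_zero.2 Nat.card_pos.ne'
    field_simp
  calc (Nat.card V : ℂ)⁻¹ * ∑ v : V, ∑ y : P, f ((y : G) * v) * conj (g ((y : G) * v))
      = ∑ l : P →* ℂˣ, ∑ b : IrrCharacter V, co D f l b * ((Nat.card V : ℂ)⁻¹ *
          ∑ v : V, ∑ y : P, (l y : ℂ) * (b : V → ℂ) v * conj (g ((y : G) * v))) := by
        simp only [fun y v => expansion D hf y v, Finset.sum_mul, Finset.mul_sum]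
        rw [Finset.sum_comm (s := (Finset.univ : Finset (P →* ℂˣ)))]
        rw [Finset.sum_congr rfl fun v _ => Finset.sum_comm,
          Finset.sum_comm (s := (Finset.univ : Finset V))]
        rw [Finset.sum_congr rfl fun l _ => Finset.sum_congr rfl fun v _ => Finset.sum_comm]
        rw [Finset.sum_congr rfl fun l _ => Finset.sum_comm]
        rw [Finset.sum_comm (s := (Finset.univ : Finset (IrrCharacter V)))]
        exact Finset.sum_congr rfl fun l _ => Finset.sum_congr rfl fun b _ =>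
          Finset.sum_congr rfl fun v _ => Finset.sum_congr rfl fun y _ => by ring
    _ = _ := by
        simp only [← e1, Finset.mul_sum]
        exact Finset.sum_congr rfl fun l _ => Finset.sum_congr rfl fun b _ => by ring

theorem sum_one (f g : G → ℂ) (hf : IsClassFunction G f) (hg : IsClassFunction G g) :
    (Nat.card V : ℂ)⁻¹ * ∑ v : V, f v * conj (g v) =
      ∑ b : IrrCharacter V, (∑ l : P →* ℂˣ, co D f l b) * conj (∑ l : P →* ℂˣ, co D g l b) := by
  rw [← classInner_combination₂]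
  unfold classInner
  congr 1
  refine Finset.sum_congr rfl fun v _ => ?_
  rw [expansion_one D hf v, expansion_one D hg v]
  simp only [Finset.sum_apply, Pi.smul_apply, smul_eq_mul]

theorem form_eq (f g : G → ℂ) (hf : IsClassFunction G f) (hg : IsClassFunction G g) :
    form D f g = (Nat.card V : ℂ)⁻¹ * ∑ v : V,
      ((∑ y : P, f ((y : G) * v) * conj (g ((y : G) * v))) - f v * conj (g v)) := by
  rw [Finset.sum_sub_distrib, mul_sub, sum_full D f g hf, sum_one D f g hf hg, form]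

/-- The mass identity. -/
theorem exists_rest : ∃ S : Finset G, 1 ∈ S ∧ ∀ f g : G → ℂ, IsClassFunction G f →
    IsClassFunction G g → (Nat.card G : ℂ)⁻¹ * ∑ x ∈ S, f x * conj (g x) =
      classInner f g - form D f g / ((e : ℂ) * (Nat.card P : ℂ)) := by
  classical
  let Y := {y : P // y ≠ 1}
  let Φ : G × (Y × V) → G := fun p => p.1 * ((p.2.1.1 : G) * p.2.2) * p.1⁻¹
  obtain ⟨k, hk1, hk2⟩ := Nat.chineseRemainder D.cop 1 0
  have hpw : ∀ (y : P) (v : V), ((y : G) * v) ^ k = y := by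
    intro y v
    rw [(show Commute (y : G) v from D.pv _ y.2 _ v.2).mul_pow,
      show (v : G) ^ k = 1 from orderOf_dvd_iff_pow_eq_one.1 (by
        rw [Subgroup.orderOf_coe]
        exact (orderOf_dvd_natCard v).trans (Nat.modEq_zero_iff_dvd.1 hk2)),
      mul_one]
    conv_rhs => rw [← pow_one (y : G)]
    refine pow_eq_pow_iff_modEq.2 (hk1.of_dvd ?_)
    rw [Subgroup.orderOf_coe]
    exact orderOf_dvd_natCard y
  have hfib : ∀ q : G × (Y × V),
      (Finset.univ.filter fun p => Φ p = Φ q).card = Nat.card N := by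
    intro q
    rw [← Nat.card_eq_finsetCard]
    let g0 := q.1
    let y0 : P := q.2.1.1
    let v0 : V := q.2.2
    have key : ∀ p, Φ p = Φ q → (g0⁻¹ * p.1) * (p.2.1.1 : G) * (g0⁻¹ * p.1)⁻¹ = y0 ∧
        g0⁻¹ * p.1 ∈ N ∧ (g0⁻¹ * p.1) * (p.2.2 : G) * (g0⁻¹ * p.1)⁻¹ = v0 := by
      intro p h
      set w := g0⁻¹ * p.1 with hw
      have e1 : w * ((p.2.1.1 : G) * p.2.2) * w⁻¹ = (y0 : G) * v0 := by
        have h' : p.1 * ((p.2.1.1 : G) * p.2.2) * p.1⁻¹ = g0 * ((y0 : G) * v0) * g0⁻¹ := h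
        calc w * ((p.2.1.1 : G) * p.2.2) * w⁻¹
            = g0⁻¹ * (p.1 * ((p.2.1.1 : G) * p.2.2) * p.1⁻¹) * g0 := by rw [hw]; group
          _ = _ := by rw [h']; group
      have e2 : w * (p.2.1.1 : G) * w⁻¹ = y0 := by
        have := congrArg (· ^ k) e1
        simp only [conj_pow, hpw] at this
        exact this
      refine ⟨e2, D.hTI _ p.2.1.1.2 (fun h1 => p.2.1.2 (Subtype.ext h1)) w (by rw [e2]; exact y0.2),
        ?_⟩
      have e3 : w * ((p.2.1.1 : G) * p.2.2) * w⁻¹ =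
          w * (p.2.1.1 : G) * w⁻¹ * (w * (p.2.2 : G) * w⁻¹) := by group
      rw [e3, e2] at e1
      exact mul_left_cancel e1
    have hmk : ∀ w : N, (w : G)⁻¹ * (y0 : G) * w ∈ P ∧ (w : G)⁻¹ * (v0 : G) * w ∈ V := by
      intro w
      have h1 := D.hNP _ (inv_mem w.2) _ y0.2
      have h2 := D.hNV _ (inv_mem w.2) _ v0.2
      rw [inv_inv] at h1 h2
      exact ⟨h1, h2⟩
    refine Nat.card_congr
      { toFun := fun p => ⟨g0⁻¹ * p.1.1, (key p.1 (Finset.mem_filter.1 p.2).2).2.1⟩
        invFun := fun w => ⟨(g0 * w, (⟨⟨_, (hmk w).1⟩, fun h => q.2.1.2 ?_⟩, ⟨_, (hmk w).2⟩)),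
          Finset.mem_filter.2 ⟨Finset.mem_univ _, ?_⟩⟩
        left_inv := ?_
        right_inv := fun w => Subtype.ext (inv_mul_cancel_left g0 (w : G)) }
    · have h' : (w : G)⁻¹ * (y0 : G) * w = 1 := congrArg Subtype.val h
      refine Subtype.ext ?_
      show (y0 : G) = 1
      calc (y0 : G) = (w : G) * ((w : G)⁻¹ * (y0 : G) * w) * (w : G)⁻¹ := by group
        _ = 1 := by rw [h']; group
    · show g0 * w * ((w : G)⁻¹ * (y0 : G) * w * ((w : G)⁻¹ * (v0 : G) * w)) * (g0 * w)⁻¹ =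
        g0 * ((y0 : G) * v0) * g0⁻¹
      group
    · rintro ⟨⟨g, y, v⟩, hp⟩
      obtain ⟨h1, -, h3⟩ := key _ (Finset.mem_filter.1 hp).2
      dsimp only at h1 h3
      refine Subtype.ext (Prod.ext (mul_inv_cancel_left _ _) (Prod.ext ?_ ?_))
      · refine Subtype.ext (Subtype.ext ?_)
        show (g0⁻¹ * g)⁻¹ * (y0 : G) * (g0⁻¹ * g) = y.1
        rw [← h1]; group
      · refine Subtype.ext ?_
        show (g0⁻¹ * g)⁻¹ * (v0 : G) * (g0⁻¹ * g) = v
        rw [← h3]; group
  let I : Finset G := Finset.univ.image Φ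
  refine ⟨Finset.univ \ I, Finset.mem_sdiff.2 ⟨Finset.mem_univ _, fun h => ?_⟩, fun f g hf hg => ?_⟩
  · obtain ⟨p, -, hp⟩ := Finset.mem_image.1 h
    refine p.2.1.2 (Subtype.ext ?_)
    have h' : p.1 * ((p.2.1.1 : G) * p.2.2) * p.1⁻¹ = 1 := hp
    rw [mul_inv_eq_one] at h'
    have h1 : (p.2.1.1 : G) * p.2.2 = 1 :=
      mul_left_cancel (h'.trans (mul_one p.1).symm)
    show (p.2.1.1 : G) = 1
    rw [← hpw p.2.1.1 p.2.2, h1, one_pow]
  let F : G → ℂ := fun x => f x * conj (g x)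
  have hF : ∀ p, F (Φ p) = F ((p.2.1.1 : G) * p.2.2) := fun p => by
    show f _ * conj (g _) = _
    rw [hf _ _, hg _ _]
  have hI : (Nat.card N : ℂ) * ∑ x ∈ I, F x =
      (Nat.card G : ℂ) * ∑ v : V, ((∑ y : P, F ((y : G) * v)) - F v) := by
    calc (Nat.card N : ℂ) * ∑ x ∈ I, F x
        = ∑ x ∈ I, ∑ p ∈ Finset.univ.filter (fun p => Φ p = x), F (Φ p) := by
          rw [Finset.mul_sum]
          refine Finset.sum_congr rfl fun x hx => ?_
          obtain ⟨q, -, rfl⟩ := Finset.mem_image.1 hx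
          rw [Finset.sum_congr rfl (fun p hp => by rw [(Finset.mem_filter.1 hp).2]),
            Finset.sum_const, hfib q, nsmul_eq_mul]
      _ = ∑ p : G × (Y × V), F (Φ p) :=
          Finset.sum_fiberwise_of_maps_to (fun p _ => Finset.mem_image_of_mem Φ (Finset.mem_univ p)) _
      _ = _ := by
          simp only [hF]
          rw [Fintype.sum_prod_type]
          dsimp only
          rw [Finset.sum_const, Finset.card_univ, ← Nat.card_eq_fintype_card,
            nsmul_eq_mul, Fintype.sum_prod_type, Finset.sum_comm]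
          congr 1
          refine Finset.sum_congr rfl fun v _ => ?_
          rw [← Finset.add_sum_erase _ _ (Finset.mem_univ (1 : P)), OneMemClass.coe_one, one_mul,
            add_sub_cancel_left]
          exact (Finset.sum_subtype (Finset.univ.erase (1 : P))
            (p := fun y : P => y ≠ 1) (fun y => by simp) (fun y : P => F ((y : G) * v))).symm
  rw [Finset.sum_sdiff_eq_sub (Finset.subset_univ I), form_eq D f g hf hg, mul_sub, classInner]
  congr 1
  have hN0 : (Nat.card N : ℂ) ≠ 0 := Nat.cast_ne_zero.2 Nat.card_pos.ne'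
  have hG0 : (Nat.card G : ℂ) ≠ 0 := Nat.cast_ne_zero.2 Nat.card_pos.ne'
  have hV0 : (Nat.card V : ℂ) ≠ 0 := Nat.cast_ne_zero.2 Nat.card_pos.ne'
  have hP0 : (Nat.card P : ℂ) ≠ 0 := Nat.cast_ne_zero.2 Nat.card_pos.ne'
  have he0 : (e : ℂ) ≠ 0 := Nat.cast_ne_zero.2 (e_pos D).ne'
  have hNc : (Nat.card N : ℂ) = (e : ℂ) * ((Nat.card P : ℂ) * (Nat.card V : ℂ)) := by
    rw [D.hcard]; push_cast; ring
  rw [hNc] at hI
  field_simp
  linear_combination hI

end Cfsg.Agent.CCSylow
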