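/-
A non-principal irreducible character of degree `x` with `x ^ 2 + 1 < |P|`, where `P` is an abelian
Sylow subgroup all whose non-identity elements have the same centraliser, forces a normal
subgroup containing `P`.
-/
import Cfsg.Agent.Lib.Char.CCSylowNorm
import Cfsg.Agent.Lib.Char.Degree

set_option linter.unusedSectionVars false
set_option linter.style.haveILetI false

namespace Cfsg.Agent.CCSylow

open Cfsg Cfsg.Agent.Char
open scoped ComplexConjugate

universe u

variable {G : Type u} [Group G] [Fintype G] {P V N : Subgroup G} {e : ℕ} (D : Data P V N e)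

include D

/-- The action on linear characters of `P`. -/
def lT (w : N) (l : P →* ℂˣ) : P →* ℂˣ :=
  l.comp (CoprimeConst.actConj P N D.hNP w).toMonoidHom

theorem lT_apply (w : N) (l : P →* ℂˣ) (y : P) :
    lT D w l y = l ⟨(w : G) * y * (w : G)⁻¹, D.hNP w w.2 y y.2⟩ := rfl

theorem lT_mul (a b : N) (l : P →* ℂˣ) : lT D (a * b) l = lT D b (lT D a l) := by
  ext y
  rw [lT_apply, lT_apply, lT_apply]
  congr 2
  exact Subtype.ext (by simp [mul_assoc])

theorem lT_one (l : P →* ℂˣ) : lT D 1 l = l := by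
  ext y
  rw [lT_apply]
  congr 2
  exact Subtype.ext (by simp)

theorem lT_triv (w : N) : lT D w 1 = 1 := rfl

theorem lT_eq_one_iff (w : N) (l : P →* ℂˣ) : lT D w l = 1 ↔ l = 1 := by
  refine ⟨fun h => ?_, fun h => by rw [h, lT_triv]⟩
  rw [← lT_one D l, ← mul_inv_cancel w, lT_mul, h, lT_triv]

theorem lT_fix (w : N) {l : P →* ℂˣ} (hl : l ≠ 1) (h : lT D w l = l) :
    (w : G) ∈ Subgroup.centralizer (P : Set G) := by
  by_contra hw
  let κ : P → P := fun y => ⟨(w : G) * y * (w : G)⁻¹ * (y : G)⁻¹,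
    P.mul_mem (D.hNP w w.2 y y.2) (P.inv_mem y.2)⟩
  have hinj : Function.Injective κ := by
    intro y z hyz
    by_contra hne
    have hd : (y : G) * (z : G)⁻¹ ≠ 1 := fun h1 => hne (Subtype.ext (mul_inv_eq_one.1 h1))
    have e : (w : G) * ((y : G) * (z : G)⁻¹) * (w : G)⁻¹ = (y : G) * (z : G)⁻¹ := by
      have h1 : (w : G) * y * (w : G)⁻¹ * (y : G)⁻¹ = (w : G) * z * (w : G)⁻¹ * (z : G)⁻¹ :=
        congrArg Subtype.val hyz
      have h2 : (w : G) * y * (w : G)⁻¹ = (w : G) * z * (w : G)⁻¹ * (z : G)⁻¹ * (y : G) := by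
        rw [← h1, inv_mul_cancel_right]
      calc (w : G) * ((y : G) * (z : G)⁻¹) * (w : G)⁻¹
          = (w : G) * y * (w : G)⁻¹ * ((w : G) * z * (w : G)⁻¹)⁻¹ := by group
        _ = (w : G) * z * (w : G)⁻¹ * ((z : G)⁻¹ * y) * ((w : G) * z * (w : G)⁻¹)⁻¹ := by
            rw [h2]; group
        _ = (y : G) * (z : G)⁻¹ := by
            rw [D.comm _ (D.hNP w w.2 z z.2) _ (P.mul_mem (P.inv_mem z.2) y.2),
              mul_inv_cancel_right, D.comm _ (P.inv_mem z.2) _ y.2]
    refine hw (Subgroup.mem_centralizer_iff.2 fun t ht => ?_)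
    exact (mul_inv_eq_iff_eq_mul.1 (D.hsemi w w.2 _ (P.mul_mem y.2 (P.inv_mem z.2)) hd e t ht)).symm
  refine hl (MonoidHom.ext fun t => ?_)
  obtain ⟨y, rfl⟩ := (Finite.injective_iff_surjective.1 hinj) t
  have h1 : lT D w l y = l y := by rw [h]
  rw [lT_apply] at h1
  show l (⟨(w : G) * y * (w : G)⁻¹, D.hNP w w.2 y y.2⟩ * y⁻¹) = 1
  rw [map_mul, map_inv, h1, mul_inv_cancel]

variable [Fintype P] [Fintype V] [Fintype N] [Fintype (P →* ℂˣ)]

open scoped Classical in
/-- The orbit of a linear character. -/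
noncomputable def orb (l : P →* ℂˣ) : Finset (P →* ℂˣ) :=
  Finset.univ.image fun w : N => lT D w⁻¹ l

theorem mem_orb {l m : P →* ℂˣ} : m ∈ orb D l ↔ ∃ w : N, lT D w l = m := by
  classical
  simp only [orb, Finset.mem_image, Finset.mem_univ, true_and]
  exact ⟨fun ⟨w, h⟩ => ⟨w⁻¹, h⟩, fun ⟨w, h⟩ => ⟨w⁻¹, by rwa [inv_inv]⟩⟩

theorem card_orb {l : P →* ℂˣ} (hl : l ≠ 1) : (orb D l).card = e := by
  classical
  let C' := (Subgroup.centralizer (P : Set G)).subgroupOf N
  refine Eq.trans ?_ D.he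
  rw [Subgroup.index_eq_card, ← Nat.card_eq_finsetCard]
  have hwd : ∀ a b : N, a⁻¹ * b ∈ C' → lT D a⁻¹ l = lT D b⁻¹ l := by
    intro a b hab
    rw [show a⁻¹ = (a⁻¹ * b) * b⁻¹ by group, lT_mul]
    congr 1
    ext y
    rw [lT_apply]
    congr 2
    refine Subtype.ext ?_
    show ((a⁻¹ * b : N) : G) * y * ((a⁻¹ * b : N) : G)⁻¹ = y
    have h : (y : G) * ((a⁻¹ * b : N) : G) = ((a⁻¹ * b : N) : G) * y :=
      Subgroup.mem_centralizer_iff.1 hab y y.2
    rw [← h, mul_inv_cancel_right]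
  symm
  refine Nat.card_eq_of_bijective
    (Quotient.lift (fun a : N => (⟨lT D a⁻¹ l, (mem_orb D).2 ⟨a⁻¹, rfl⟩⟩ : orb D l))
      fun a b hab => Subtype.ext (hwd a b (QuotientGroup.leftRel_apply.1 hab))) ⟨?_, ?_⟩
  · intro x y hxy
    induction x using Quotient.inductionOn with | h a =>
    induction y using Quotient.inductionOn with | h b =>
    refine Quotient.sound (QuotientGroup.leftRel_apply.2 ?_)
    have h : lT D a⁻¹ l = lT D b⁻¹ l := congrArg Subtype.val hxy
    refine Subgroup.mem_subgroupOf.2 (lT_fix D _ hl ?_)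
    rw [lT_mul, h, ← lT_mul, inv_mul_cancel, lT_one]
  · rintro ⟨m, hm⟩
    obtain ⟨w, hw⟩ := (mem_orb D).1 hm
    exact ⟨Quotient.mk _ w⁻¹, Subtype.ext (by show lT D w⁻¹⁻¹ l = m; rw [inv_inv, hw])⟩

theorem self_mem_orb (l : P →* ℂˣ) : l ∈ orb D l := (mem_orb D).2 ⟨1, lT_one D l⟩

theorem one_not_mem_orb {l : P →* ℂˣ} (hl : l ≠ 1) : (1 : P →* ℂˣ) ∉ orb D l := fun h => by
  obtain ⟨w, hw⟩ := (mem_orb D).1 h
  exact hl ((lT_eq_one_iff D w l).1 hw)

/-- A set of non-trivial characters stable under the action has order divisible by `e`. -/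
theorem dvd_card_of_stable : ∀ S : Finset (P →* ℂˣ), (1 : P →* ℂˣ) ∉ S →
    (∀ l ∈ S, ∀ w : N, lT D w l ∈ S) → e ∣ S.card := by
  classical
  intro S
  induction S using Finset.strongInduction with
  | _ S ih =>
  intro h1 hst
  rcases S.eq_empty_or_nonempty with rfl | ⟨l, hl⟩
  · simp
  have hsub : orb D l ⊆ S := fun m hm => by
    obtain ⟨w, rfl⟩ := (mem_orb D).1 hm
    exact hst l hl w
  rw [← Finset.card_sdiff_add_card_eq_card hsub, card_orb D fun h : l = 1 => h1 (h ▸ hl)]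
  refine Nat.dvd_add (ih _ ?_ (fun h => h1 (Finset.mem_sdiff.1 h).1) fun m hm w => ?_) dvd_rfl
  · exact Finset.sdiff_ssubset hsub ⟨l, self_mem_orb D l⟩
  · rw [Finset.mem_sdiff] at hm ⊢
    refine ⟨hst m hm.1 w, fun h => hm.2 ?_⟩
    obtain ⟨v, hv⟩ := (mem_orb D).1 h
    exact (mem_orb D).2 ⟨v * w⁻¹, by rw [lT_mul, hv, ← lT_mul, mul_inv_cancel, lT_one]⟩

theorem dvd_card_sub_one : e ∣ Nat.card P - 1 := by
  classical
  have h := dvd_card_of_stable D (Finset.univ.erase 1) (Finset.notMem_erase _ _) fun l hl w =>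
    Finset.mem_erase.2 ⟨fun h => (Finset.mem_erase.1 hl).1 ((lT_eq_one_iff D w l).1 h),
      Finset.mem_univ _⟩
  rwa [Finset.card_erase_of_mem (Finset.mem_univ _), Finset.card_univ, card_dual D] at h

/-- The action on characters of `V`. -/
noncomputable def bT (w : N) : IrrCharacter V ≃ IrrCharacter V where
  toFun b := ⟨_, IsIrrCharacter.comp b.2 (CoprimeConst.actConj V N D.hNV w).toMonoidHom
    (CoprimeConst.actConj V N D.hNV w).surjective⟩
  invFun b := ⟨_, IsIrrCharacter.comp b.2 (CoprimeConst.actConj V N D.hNV w).symm.toMonoidHom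
    (CoprimeConst.actConj V N D.hNV w).symm.surjective⟩
  left_inv b := Subtype.ext (funext fun v =>
    congrArg (b : V → ℂ) (MulEquiv.apply_symm_apply _ v))
  right_inv b := Subtype.ext (funext fun v =>
    congrArg (b : V → ℂ) (MulEquiv.symm_apply_apply _ v))

theorem co_inv {f : G → ℂ} (hf : IsClassFunction G f) (w : N) (l : P →* ℂˣ) (b : IrrCharacter V) :
    co D f (lT D w l) (bT D w b) = co D f l b := by
  let E := (CoprimeConst.actConj P N D.hNP w).prodCongr (CoprimeConst.actConj V N D.hNV w)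
  unfold co
  conv_rhs => rw [← RelGlauberman.classInner_comp_surj E.toMonoidHom E.surjective]
  congr 1
  funext p
  show f ((p.1 : G) * p.2) =
    f (((w : G) * p.1 * (w : G)⁻¹) * ((w : G) * p.2 * (w : G)⁻¹))
  rw [← hf ((p.1 : G) * p.2) (w : G)]
  congr 1
  group

theorem nco_inv {f : G → ℂ} (hf : IsCharacter G f) (w : N) (l : P →* ℂˣ) (b : IrrCharacter V) :
    nco D hf (lT D w l) (bT D w b) = nco D hf l b := by
  apply Nat.cast_injective (R := ℂ)
  rw [← co_eq, ← co_eq, co_inv D (IsCharacter.isClassFunction hf)]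

/-- The square norm attached to one linear character. -/
noncomputable def wt {f : G → ℂ} (hf : IsCharacter G f) (l : P →* ℂˣ) : ℤ :=
  ∑ b : IrrCharacter V, (nco D hf l b : ℤ) ^ 2

theorem wt_nonneg {f : G → ℂ} (hf : IsCharacter G f) (l : P →* ℂˣ) : 0 ≤ wt D hf l :=
  Finset.sum_nonneg fun _ _ => sq_nonneg _

theorem wt_eq_zero {f : G → ℂ} (hf : IsCharacter G f) (l : P →* ℂˣ) :
    wt D hf l = 0 ↔ ∀ b, nco D hf l b = 0 := by
  unfold wt
  rw [Finset.sum_eq_zero_iff_of_nonneg fun _ _ => sq_nonneg _]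
  exact ⟨fun h b => by simpa using h b (Finset.mem_univ _), fun h b _ => by simp [h b]⟩

theorem wt_inv {f : G → ℂ} (hf : IsCharacter G f) (w : N) (l : P →* ℂˣ) :
    wt D hf (lT D w l) = wt D hf l :=
  (Fintype.sum_equiv (bT D w) _ _ fun b => by rw [nco_inv]).symm

theorem wt_orb {f : G → ℂ} (hf : IsCharacter G f) {l m : P →* ℂˣ} (h : m ∈ orb D l) :
    wt D hf m = wt D hf l := by
  obtain ⟨w, rfl⟩ := (mem_orb D).1 h
  exact wt_inv D hf w l

/-- The column sums. -/
noncomputable def col {f : G → ℂ} (hf : IsCharacter G f) (b : IrrCharacter V) : ℤ :=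
  ∑ l : P →* ℂˣ, (nco D hf l b : ℤ)

theorem form_self {f : G → ℂ} (hf : IsCharacter G f) :
    form D f f = (((Nat.card P : ℤ) * ∑ l, wt D hf l - ∑ b, col D hf b ^ 2 : ℤ) : ℂ) := by
  simp only [form, co_eq D hf, map_sum, map_natCast, wt, col, sq]
  push_cast
  ring

theorem form_lt (η : IrrCharacter G) :
    (Nat.card P : ℤ) * ∑ l, wt D (IsIrrCharacter.isCharacter η.2) l -
      ∑ b, col D (IsIrrCharacter.isCharacter η.2) b ^ 2 < (e : ℤ) * Nat.card P := by
  set hη := IsIrrCharacter.isCharacter η.2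
  obtain ⟨S, h1, hS⟩ := exists_rest D
  have hc := IsCharacter.isClassFunction hη
  have h := hS _ _ hc hc
  rw [classInner_self_irr η.2, form_self D hη] at h
  set Q : ℤ := (Nat.card P : ℤ) * ∑ l, wt D hη l - ∑ b, col D hη b ^ 2
  simp only [Complex.mul_conj'] at h
  have h' : ((Nat.card G : ℝ)⁻¹ * ∑ x ∈ S, ‖(η : G → ℂ) x‖ ^ 2) =
      1 - (Q : ℝ) / ((e : ℝ) * (Nat.card P : ℝ)) := Complex.ofReal_injective (by push_cast; exact h)
  have hpos : (0 : ℝ) < (Nat.card G : ℝ)⁻¹ * ∑ x ∈ S, ‖(η : G → ℂ) x‖ ^ 2 := by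
    refine mul_pos (inv_pos.2 (Nat.cast_pos.2 Nat.card_pos)) (Finset.sum_pos' (fun x _ => sq_nonneg _)
      ⟨1, h1, pow_pos (norm_pos_iff.2 (IsIrrCharacter.one_ne_zero η.2)) 2⟩)
  have hd : (0 : ℝ) < (e : ℝ) * (Nat.card P : ℝ) :=
    mul_pos (Nat.cast_pos.2 (e_pos D)) (Nat.cast_pos.2 Nat.card_pos)
  rw [h', sub_pos, div_lt_one hd] at hpos
  exact_mod_cast hpos

theorem deg_eq {f : G → ℂ} (hf : IsCharacter G f) {x : ℕ} (hx : f 1 = x) :
    ∑ b : IrrCharacter V, col D hf b * (charDegree (b : V → ℂ) : ℤ) = x := by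
  have h := expansion_one D (IsCharacter.isClassFunction hf) 1
  rw [OneMemClass.coe_one, hx] at h
  simp only [co_eq D hf, CharX.irr_deg] at h
  unfold col
  exact_mod_cast h.symm

theorem sum_col_le {f : G → ℂ} (hf : IsCharacter G f) {x : ℕ} (hx : f 1 = x) :
    ∑ b : IrrCharacter V, col D hf b ≤ x := by
  rw [← deg_eq D hf hx]
  refine Finset.sum_le_sum fun b _ => le_mul_of_one_le_right
    (Finset.sum_nonneg fun _ _ => Int.natCast_nonneg _) ?_
  exact_mod_cast CharX.irr_deg_pos b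

theorem kernel_of_trivial {f : G → ℂ} (hf : IsCharacter G f)
    (h : ∀ l : P →* ℂˣ, l ≠ 1 → ∀ b, nco D hf l b = 0) (y : P) : f y = f 1 := by
  have hc := IsCharacter.isClassFunction hf
  have e0 : ∀ z : P, f ((z : G) * ((1 : V) : G)) =
      ∑ b : IrrCharacter V, (nco D hf 1 b : ℂ) * (b : V → ℂ) 1 := by
    intro z
    rw [expansion D hc, Finset.sum_eq_single (1 : P →* ℂˣ)]
    · simp [co_eq D hf]
    · intro l _ hl
      simp [co_eq D hf, h l hl]
    · exact fun h => absurd (Finset.mem_univ _) h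
  have h1 := (e0 y).trans (e0 1).symm
  simpa using h1

theorem normal_of_trivial (η : IrrCharacter G) (hne : (η : G → ℂ) ≠ fun _ => 1)
    (h : ∀ l : P →* ℂˣ, l ≠ 1 → ∀ b, nco D (IsIrrCharacter.isCharacter η.2) l b = 0) :
    ∃ K : Subgroup G, K.Normal ∧ K ≠ ⊤ ∧ P ≤ K := by
  obtain ⟨K, hK, hKm, -⟩ := IsCharacter.exists_kernel (IsIrrCharacter.isCharacter η.2)
  refine ⟨K, hK, fun htop => hne ?_, fun y hy =>
    (hKm _).2 (kernel_of_trivial D (IsIrrCharacter.isCharacter η.2) h ⟨y, hy⟩)⟩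
  have hconst : (η : G → ℂ) = (η : G → ℂ) 1 • fun _ => (1 : ℂ) := funext fun g => by
    rw [Pi.smul_apply, smul_eq_mul, mul_one]; exact (hKm g).1 (htop ▸ Subgroup.mem_top g)
  by_contra hn
  have := classInner_self_irr η.2
  conv_lhs at this => arg 1; rw [hconst]
  rw [classInner_smul_left, classInner_irr_of_ne isIrrCharacter_one η.2 (Ne.symm hn),
    mul_zero] at this
  exact zero_ne_one this

omit D in
theorem pair_identity {α : Type*} (s : Finset α) (a : α → ℤ) :
    2 * ((s.card : ℤ) * ∑ i ∈ s, a i ^ 2 - (∑ i ∈ s, a i) ^ 2) =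
      ∑ i ∈ s, ∑ j ∈ s, (a i - a j) ^ 2 := by
  simp only [sub_sq, Finset.sum_add_distrib, Finset.sum_sub_distrib, Finset.sum_const, nsmul_eq_mul,
    ← Finset.mul_sum, ← Finset.sum_mul]
  ring

theorem co_one_fun (l : P →* ℂˣ) (b : IrrCharacter V) [Decidable (l = 1)]
    [Decidable ((b : V → ℂ) = fun _ => 1)] :
    co D (fun _ : G => (1 : ℂ)) l b =
      if l = 1 ∧ (b : V → ℂ) = (fun _ => 1) then 1 else 0 := by
  classical
  rw [co_eq_sum]
  simp only [one_mul]
  have h1 : ∑ y : P, conj ((l y : ℂˣ) : ℂ) = if l = 1 then (Nat.card P : ℂ) else 0 := by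
    have h := orth D 1 l
    simp only [MonoidHom.one_apply, Units.val_one, one_mul] at h
    rw [h]
    exact if_congr eq_comm rfl rfl
  rw [h1]
  by_cases hl : l = 1
  · rw [if_pos hl, inv_mul_cancel₀ (Nat.cast_ne_zero.2 Nat.card_pos.ne')]
    have h2 := classInner_irr (isIrrCharacter_one (G := V)) b.2
    rw [classInner] at h2
    rw [h2]
    by_cases hb : (b : V → ℂ) = fun _ => 1
    · rw [if_pos hb.symm, if_pos ⟨hl, hb⟩]
    · rw [if_neg (fun e => hb e.symm), if_neg fun e => hb e.2]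
  · rw [if_neg hl, if_neg fun e => hl e.1]
    simp

set_option maxHeartbeats 2000000 in
theorem main_aux {x : ℕ} (χ : IrrCharacter G) (hx : (χ : G → ℂ) 1 = x)
    (hne : (χ : G → ℂ) ≠ fun _ => 1) (hq : x ^ 2 + 1 < Nat.card P) :
    (∃ K : Subgroup G, K.Normal ∧ K ≠ ⊤ ∧ P ≤ K) ∨ e = 1 := by
  classical
  set hχ := IsIrrCharacter.isCharacter χ.2 with hhχ
  by_cases htriv : ∀ l : P →* ℂˣ, l ≠ 1 → ∀ b, nco D hχ l b = 0
  · exact Or.inl (normal_of_trivial D χ hne htriv)
  push Not at htriv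
  obtain ⟨l₀, hl₀, b₀, hb₀⟩ := htriv
  by_contra hcon
  push Not at hcon
  obtain ⟨hnoK, he1⟩ := hcon
  have he0 := e_pos D
  set q : ℤ := (Nat.card P : ℤ) with hqdef
  set O := orb D l₀ with hO
  have hOc : O.card = e := card_orb D hl₀
  have hwt0 : 1 ≤ wt D hχ l₀ := by
    refine Int.add_one_le_iff.2 (lt_of_le_of_ne (wt_nonneg D hχ l₀) fun h => hb₀ ?_)
    exact (wt_eq_zero D hχ l₀).1 h.symm b₀
  -- the shape of `χ`
  have hcol : ∑ b, col D hχ b ^ 2 ≤ (x : ℤ) ^ 2 :=
    (Finset.sum_sq_le_sq_sum_of_nonneg fun b _ =>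
      Finset.sum_nonneg fun _ _ => Int.natCast_nonneg _).trans
      (pow_le_pow_left₀ (Finset.sum_nonneg fun b _ =>
        Finset.sum_nonneg fun _ _ => Int.natCast_nonneg _) (sum_col_le D hχ hx) 2)
  have hxq : (x : ℤ) ^ 2 + 1 < q := by rw [hqdef]; exact_mod_cast hq
  have hNe : ∑ l, wt D hχ l ≤ e := by
    have h := form_lt D χ
    rw [← hqdef] at h
    by_contra hgt
    push Not at hgt
    nlinarith
  have hOsum : (e : ℤ) ≤ ∑ l ∈ O, wt D hχ l := by
    rw [Finset.sum_congr rfl fun l hl => wt_orb D hχ hl, Finset.sum_const, hOc, nsmul_eq_mul]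
    exact le_mul_of_one_le_right (Int.natCast_nonneg _) hwt0
  have hsplit := Finset.sum_sdiff (f := wt D hχ) (Finset.subset_univ O)
  have hoff0 : ∑ l ∈ Finset.univ \ O, wt D hχ l = 0 :=
    le_antisymm (by linarith) (Finset.sum_nonneg fun l _ => wt_nonneg D hχ l)
  have hN : ∑ l, wt D hχ l = e := by linarith
  have hoff : ∀ l, l ∉ O → ∀ b, nco D hχ l b = 0 := fun l hl => (wt_eq_zero D hχ l).1
    ((Finset.sum_eq_zero_iff_of_nonneg fun l _ => wt_nonneg D hχ l).1 hoff0 l
      (Finset.mem_sdiff.2 ⟨Finset.mem_univ _, hl⟩))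
  have hex : (e : ℤ) ≤ x := by
    refine le_trans ?_ (sum_col_le D hχ hx)
    unfold col
    rw [Finset.sum_comm]
    calc (e : ℤ) = ∑ _l ∈ O, (1 : ℤ) := by simp [hOc]
      _ ≤ ∑ l ∈ O, ∑ b, (nco D hχ l b : ℤ) := by
          refine Finset.sum_le_sum fun l hl => ?_
          by_contra h0
          push Not at h0
          have h1 : ∀ b, nco D hχ l b = 0 := fun b => by
            have := (Finset.single_le_sum (fun b _ => Int.natCast_nonneg (nco D hχ l b))
              (Finset.mem_univ b)).trans_lt h0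
            omega
          rw [(wt_eq_zero D hχ l).2 h1 |> fun h => (wt_orb D hχ hl).symm.trans h] at hwt0
          omega
      _ ≤ _ := Finset.sum_le_sum_of_subset_of_nonneg (Finset.subset_univ _)
          fun l _ _ => Finset.sum_nonneg fun b _ => Int.natCast_nonneg _
  obtain ⟨t, ht⟩ := dvd_card_sub_one D
  have hte : q = (t : ℤ) * e + 1 := by
    have : Nat.card P = t * e + 1 := by
      rw [Nat.mul_comm, ← ht, Nat.sub_add_cancel Nat.card_pos]
    rw [hqdef]; exact_mod_cast this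
  have hte1 : (e : ℤ) + 1 ≤ t := by
    by_contra h
    push Not at h
    nlinarith
  -- `|χ|²`
  let one : IrrCharacter G := ⟨fun _ => 1, isIrrCharacter_one⟩
  let oneV : IrrCharacter V := ⟨fun _ => 1, isIrrCharacter_one⟩
  let F : G → ℂ := fun g => (χ : G → ℂ) g * conj ((χ : G → ℂ) g)
  have hF : IsCharacter G F :=
    IsCharacter.mul hχ (IsIrrCharacter.isCharacter (IsIrrCharacter.conj χ.2))
  let Dif : Finset (P →* ℂˣ) := insert 1 (O.offDiag.image fun p => p.1 * (p.2)⁻¹)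
  have hDif : Dif.card ≤ e * e - e + 1 := by
    refine (Finset.card_insert_le _ _).trans (Nat.add_le_add_right ?_ 1)
    refine Finset.card_image_le.trans ?_
    rw [Finset.offDiag_card, hOc]
  have hcoF : ∀ (l : P →* ℂˣ) (b : IrrCharacter V), l ∉ Dif → co D F l b = 0 := by
    intro l b hl
    rw [co_eq_sum]
    refine mul_eq_zero_of_right _ (Finset.sum_eq_zero fun v _ => ?_)
    refine mul_eq_zero_of_left (mul_eq_zero_of_right _ ?_) _
    simp only [F, expansion D (IsCharacter.isClassFunction hχ), co_eq D hχ, map_sum,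
      Finset.sum_mul, Finset.mul_sum, map_mul, map_natCast]
    rw [Finset.sum_comm]
    refine Finset.sum_eq_zero fun a _ => ?_
    rw [Finset.sum_comm]
    refine Finset.sum_eq_zero fun b₁ _ => ?_
    rw [Finset.sum_comm]
    refine Finset.sum_eq_zero fun a' _ => ?_
    rw [Finset.sum_comm]
    refine Finset.sum_eq_zero fun b₂ _ => ?_
    by_cases ha : a ∈ O ∧ a' ∈ O
    · have hne' : a' ≠ a * l := by
        intro h
        have hp : ∀ y, a' y = a y * l y := fun y => by rw [h, MonoidHom.mul_apply]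
        refine hl (Finset.mem_insert.2 ?_)
        by_cases haa : a = a'
        · left
          refine MonoidHom.ext fun y => ?_
          have h1 := hp y
          rw [← haa] at h1
          exact mul_eq_left.1 h1.symm
        · refine Or.inr (Finset.mem_image.2
            ⟨(a', a), Finset.mem_offDiag.2 ⟨ha.2, ha.1, Ne.symm haa⟩, ?_⟩)
          refine MonoidHom.ext fun y => ?_
          rw [MonoidHom.mul_apply, MonoidHom.inv_apply, hp, mul_inv_eq_iff_eq_mul, mul_comm]
      calc _ = ((nco D hχ a b₁ : ℂ) * (nco D hχ a' b₂ : ℂ) * (b₂ : V → ℂ) v *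
            conj ((b₁ : V → ℂ) v)) *
              ∑ y : P, ((a' y : ℂˣ) : ℂ) * conj (((a * l) y : ℂˣ) : ℂ) := by
            rw [Finset.mul_sum]
            refine Finset.sum_congr rfl fun y _ => ?_
            rw [MonoidHom.mul_apply, Units.val_mul, map_mul]
            ring
        _ = 0 := by rw [orth D, if_neg hne', mul_zero]
    · refine Finset.sum_eq_zero fun y _ => ?_
      rcases not_and_or.1 ha with h | h
      · simp [hoff a h]
      · simp [hoff a' h]
  have hcoF1 : co D F 1 oneV = (e : ℂ) := by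
    rw [co_eq_sum]
    simp only [oneV, MonoidHom.one_apply, Units.val_one, map_one, mul_one]
    rw [← Finset.mul_sum, mul_left_comm, sum_full D _ _ (IsCharacter.isClassFunction hχ),
      ← mul_assoc, inv_mul_cancel₀ (Nat.cast_ne_zero.2 Nat.card_pos.ne'), one_mul]
    simp only [co_eq D hχ, map_natCast]
    have : ((∑ l, wt D hχ l : ℤ) : ℂ) = (e : ℂ) := by rw [hN]; norm_cast
    rw [← this]
    simp only [wt, sq]
    push_cast
    rfl
  choose c hc using fun η : IrrCharacter G =>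
    IsCharacter.exists_classInner_nat hF (IsIrrCharacter.isCharacter η.2)
  have hlin : ∀ (l : P →* ℂˣ) (b : IrrCharacter V), co D F l b =
      ((∑ η : IrrCharacter G, c η * nco D (IsIrrCharacter.isCharacter η.2) l b : ℕ) : ℂ) := by
    intro l b
    push_cast
    have e1 : (fun p : P × V => F (mu D p)) =
        ∑ η : IrrCharacter G, (c η : ℂ) • fun p : P × V => (η : G → ℂ) (mu D p) := funext fun p => by
      have h := congrFun (IsCharacter.eq_sum hF) (mu D p)
      simp only [Finset.sum_apply, Pi.smul_apply, hc] at h ⊢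
      exact h
    show classInner (fun p : P × V => F (mu D p)) _ = _
    rw [e1, classInner_sum_left]
    refine Finset.sum_congr rfl fun η _ => ?_
    rw [classInner_smul_left]
    congr 1
    exact co_eq D (IsIrrCharacter.isCharacter η.2) l b
  have hc1 : c one = 1 := by
    apply Nat.cast_injective (R := ℂ)
    rw [← hc, Nat.cast_one, ← classInner_self_irr χ.2]
    simp [classInner, one, F]
  have hn1 : nco D (IsIrrCharacter.isCharacter one.2) 1 oneV = 1 := by
    apply Nat.cast_injective (R := ℂ)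
    rw [← co_eq, co_one_fun, if_pos ⟨rfl, rfl⟩, Nat.cast_one]
  obtain ⟨η, hη0, hcη, hnη⟩ : ∃ η : IrrCharacter G, η ≠ one ∧ c η ≠ 0 ∧
      nco D (IsIrrCharacter.isCharacter η.2) 1 oneV ≠ 0 := by
    by_contra hall
    push Not at hall
    have h := (hlin 1 oneV).symm.trans hcoF1
    rw [Nat.cast_inj, Finset.sum_eq_single one (fun η _ hne' => ?_)
      (fun h => absurd (Finset.mem_univ _) h), hc1, hn1] at h
    · exact he1 h.symm
    · rcases Nat.eq_zero_or_pos (c η) with h0 | h0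
      · rw [h0, zero_mul]
      · rw [hall η hne' h0.ne', mul_zero]
  set hη := IsIrrCharacter.isCharacter η.2
  -- the shape of `η`
  let T : Finset (P →* ℂˣ) := Finset.univ.filter fun l => wt D hη l ≠ 0
  have hT : ∀ l, l ∉ T → ∀ b, nco D hη l b = 0 := fun l hl => (wt_eq_zero D hη l).1
    (by simpa [T] using hl)
  have hTD : T ⊆ Dif := by
    intro l hl
    by_contra hnot
    refine (Finset.mem_filter.1 hl).2 ((wt_eq_zero D hη l).2 fun b => ?_)
    have h := (hlin l b).symm.trans (hcoF l b hnot)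
    rw [Nat.cast_eq_zero] at h
    exact ((mul_eq_zero.1 (Finset.sum_eq_zero_iff.1 h η (Finset.mem_univ _)))).resolve_left hcη
  have h1T : (1 : P →* ℂˣ) ∈ T :=
    Finset.mem_filter.2 ⟨Finset.mem_univ _, fun h => hnη ((wt_eq_zero D hη 1).1 h oneV)⟩
  obtain ⟨m, hm⟩ : e ∣ (T.erase 1).card :=
    dvd_card_of_stable D _ (Finset.notMem_erase _ _) fun l hl w => by
      obtain ⟨h1, h2⟩ := Finset.mem_erase.1 hl
      refine Finset.mem_erase.2 ⟨fun h => h1 ((lT_eq_one_iff D w l).1 h),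
        Finset.mem_filter.2 ⟨Finset.mem_univ _, ?_⟩⟩
      rw [wt_inv D hη]
      exact (Finset.mem_filter.1 h2).2
  obtain ⟨l₁, hl₁⟩ : (T.erase 1).Nonempty := by
    by_contra h
    rw [Finset.not_nonempty_iff_eq_empty] at h
    obtain ⟨K, hK⟩ := normal_of_trivial D η (fun h' => hη0 (Subtype.ext h')) fun l hl =>
      hT l fun hlT => by simpa [h] using Finset.mem_erase.2 ⟨hl, hlT⟩
    exact hnoK K hK.1 hK.2.1 hK.2.2
  obtain ⟨hl₁1, hl₁T⟩ := Finset.mem_erase.1 hl₁
  have hk : T.card = 1 + e * m := by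
    rw [← Finset.card_erase_add_one h1T, hm, Nat.add_comm]
  have hkD := (Finset.card_le_card hTD).trans hDif
  have hm1 : 1 ≤ m := by
    by_contra h
    have : m = 0 := by omega
    rw [this, mul_zero] at hm
    exact (Finset.card_pos.2 ⟨l₁, hl₁⟩).ne' hm
  -- the form
  set k : ℤ := (T.card : ℤ) with hkdef
  have hwsum : ∑ l, wt D hη l = ∑ l ∈ T, wt D hη l :=
    (Finset.sum_subset (Finset.subset_univ _) fun l _ hl => (wt_eq_zero D hη l).2 (hT l hl)).symm
  have hcolT : ∀ b, col D hη b = ∑ l ∈ T, (nco D hη l b : ℤ) := fun b =>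
    (Finset.sum_subset (Finset.subset_univ _) fun l _ hl => by rw [hT l hl b]; rfl).symm
  let dd : (P →* ℂˣ) → (P →* ℂˣ) → ℤ := fun i j =>
    ∑ b : IrrCharacter V, ((nco D hη i b : ℤ) - (nco D hη j b : ℤ)) ^ 2
  have hdd : ∀ i j, 0 ≤ dd i j := fun i j => Finset.sum_nonneg fun _ _ => sq_nonneg _
  have hpair : 2 * (k * ∑ l ∈ T, wt D hη l - ∑ b, col D hη b ^ 2) =
      ∑ i ∈ T, ∑ j ∈ T, dd i j := by
    simp only [wt, dd, hcolT, hkdef]
    rw [Finset.sum_comm (s := T), Finset.mul_sum, ← Finset.sum_sub_distrib, Finset.mul_sum,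
      Finset.sum_congr rfl fun b _ => pair_identity T (fun l => (nco D hη l b : ℤ)),
      Finset.sum_comm]
    exact Finset.sum_congr rfl fun i _ => Finset.sum_comm
  have hpair0 : 0 ≤ ∑ i ∈ T, ∑ j ∈ T, dd i j :=
    Finset.sum_nonneg fun i _ => Finset.sum_nonneg fun j _ => hdd i j
  have hlt := form_lt D η
  rw [← hqdef, hwsum] at hlt
  have hWk : k ≤ ∑ l ∈ T, wt D hη l := by
    rw [hkdef, ← mul_one (T.card : ℤ), ← nsmul_eq_mul, ← Finset.sum_const]
    exact Finset.sum_le_sum fun l hl => Int.add_one_le_iff.2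
      (lt_of_le_of_ne (wt_nonneg D hη l) (Ne.symm (Finset.mem_filter.1 hl).2))
  have hkD' : k ≤ (e : ℤ) * e - e + 1 := by
    have hee : e ≤ e * e := Nat.le_mul_self e
    rw [hkdef]
    have : (T.card : ℤ) ≤ ((e * e - e + 1 : ℕ) : ℤ) := by exact_mod_cast hkD
    push_cast [hee] at this
    linarith
  have hkval : k = 1 + (e : ℤ) * m := by rw [hkdef]; exact_mod_cast hk
  have hq1 : (e : ℤ) ^ 2 + e + 1 ≤ q := by nlinarith
  have hqk : 0 ≤ q - k := by nlinarith
  have hlow : (q - k) * k ≤ (q - k) * ∑ l ∈ T, wt D hη l := mul_le_mul_of_nonneg_left hWk hqk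
  have hm2 : m = 1 := by
    by_contra hne'
    have hm' : (2 : ℤ) ≤ m := by omega
    have hem : (m : ℤ) ≤ (e : ℤ) - 1 := by
      refine le_of_mul_le_mul_left ?_ (show (0 : ℤ) < e by exact_mod_cast he0)
      rw [mul_sub, mul_one]
      linarith
    have he2 : (3 : ℤ) ≤ e := by linarith
    have hlo : (2 : ℤ) * e + 1 ≤ k := by
      rw [hkval]
      have := mul_le_mul_of_nonneg_left hm' (Int.natCast_nonneg e)
      linarith
    have hid : ((e : ℤ) ^ 2 + e + 1) * (k - e) - k * k =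
        (k - (2 * e + 1)) * ((e : ℤ) * e - e + 1 - k) +
          (((e : ℤ) * e - e + 1 - k) + (e : ℤ) * (((e : ℤ) - 3) * e + 1)) := by ring
    have h1 : 0 ≤ (k - (2 * e + 1)) * ((e : ℤ) * e - e + 1 - k) :=
      mul_nonneg (by linarith) (by linarith)
    have h2 : (0 : ℤ) ≤ (e : ℤ) * (((e : ℤ) - 3) * e + 1) :=
      mul_nonneg (Int.natCast_nonneg _)
        (add_nonneg (mul_nonneg (by linarith) (Int.natCast_nonneg _)) zero_le_one)
    have h3 : 0 ≤ (q - ((e : ℤ) ^ 2 + e + 1)) * (k - e) :=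
      mul_nonneg (by linarith) (by linarith)
    linarith
  subst hm2
  rw [Nat.mul_one] at hm
  have hk1 : k = 1 + (e : ℤ) := by rw [hkval]; push_cast; ring
  have hOT : T.erase 1 = orb D l₁ := by
    refine (Finset.eq_of_subset_of_card_le (fun l hl => ?_) (by rw [hm, card_orb D hl₁1])).symm
    obtain ⟨w, rfl⟩ := (mem_orb D).1 hl
    refine Finset.mem_erase.2 ⟨fun h => hl₁1 ((lT_eq_one_iff D w l₁).1 h),
      Finset.mem_filter.2 ⟨Finset.mem_univ _, ?_⟩⟩
    rw [wt_inv D hη]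
    exact (Finset.mem_filter.1 hl₁T).2
  have hd0 : ∀ l ∈ orb D l₁, dd 1 l = dd 1 l₁ := by
    intro l hl
    obtain ⟨w, rfl⟩ := (mem_orb D).1 hl
    refine (Fintype.sum_equiv (bT D w) _ _ fun b => ?_).symm
    rw [nco_inv]
    conv_rhs => rw [← lT_triv D w, nco_inv]
  have hsame : dd 1 l₁ = 0 := by
    by_contra hne'
    have hge : 1 ≤ dd 1 l₁ := Int.add_one_le_iff.2 (lt_of_le_of_ne (hdd _ _) (Ne.symm hne'))
    have h1 : (e : ℤ) * 1 ≤ ∑ j ∈ orb D l₁, dd 1 j := by
      rw [Finset.sum_congr rfl hd0, Finset.sum_const, card_orb D hl₁1, nsmul_eq_mul]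
      exact mul_le_mul_of_nonneg_left hge (Int.natCast_nonneg _)
    have hsymm : ∀ i j, dd i j = dd j i := fun i j =>
      Finset.sum_congr rfl fun b _ => by ring
    have h2 : 2 * ∑ j ∈ orb D l₁, dd 1 j ≤ ∑ i ∈ T, ∑ j ∈ T, dd i j := by
      rw [← Finset.add_sum_erase _ _ h1T, two_mul, ← hOT]
      refine add_le_add (Finset.sum_le_sum_of_subset_of_nonneg (Finset.erase_subset _ _)
        fun j _ _ => hdd _ _) (Finset.sum_le_sum fun i hi => ?_)
      rw [hsymm 1 i]
      exact Finset.single_le_sum (fun j _ => hdd i j) h1T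
    nlinarith
  have heq : ∀ l ∈ T, ∀ b, nco D hη l b = nco D hη 1 b := by
    intro l hl b
    rcases eq_or_ne l 1 with rfl | hne'
    · rfl
    have hl' : l ∈ orb D l₁ := hOT ▸ Finset.mem_erase.2 ⟨hne', hl⟩
    have := (Finset.sum_eq_zero_iff_of_nonneg fun b _ => sq_nonneg _).1 ((hd0 l hl').trans hsame)
      b (Finset.mem_univ _)
    rw [sq_eq_zero_iff, sub_eq_zero] at this
    exact_mod_cast this.symm
  have hW : ∑ l ∈ T, wt D hη l = k * wt D hη 1 := by
    rw [hkdef, ← nsmul_eq_mul, ← Finset.sum_const]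
    exact Finset.sum_congr rfl fun l hl => Finset.sum_congr rfl fun b _ => by rw [heq l hl b]
  have hw1 : wt D hη 1 = 1 := by
    have h1 : 1 ≤ wt D hη 1 := Int.add_one_le_iff.2
      (lt_of_le_of_ne (wt_nonneg D hη 1) (Ne.symm (Finset.mem_filter.1 h1T).2))
    by_contra hne'
    have h2 : 2 ≤ wt D hη 1 := by omega
    have h3 : (q - k) * (k * 2) ≤ (q - k) * ∑ l ∈ T, wt D hη l := by
      rw [hW]; exact mul_le_mul_of_nonneg_left (mul_le_mul_of_nonneg_left h2 (by linarith)) hqk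
    nlinarith
  have hb1 : ∀ b, nco D hη 1 b = if b = oneV then 1 else 0 := by
    have hpos : 1 ≤ (nco D hη 1 oneV : ℤ) ^ 2 := one_le_pow₀ (by omega)
    have hsum := hw1
    unfold wt at hsum
    rw [← Finset.add_sum_erase _ _ (Finset.mem_univ oneV)] at hsum
    have hnn : 0 ≤ ∑ b ∈ Finset.univ.erase oneV, (nco D hη 1 b : ℤ) ^ 2 :=
      Finset.sum_nonneg fun b _ => sq_nonneg _
    intro b
    split_ifs with hb
    · subst hb
      have h2 : (nco D hη 1 oneV : ℤ) ^ 2 = 1 := by linarith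
      rcases sq_eq_one_iff.1 h2 with h | h <;> omega
    · have hz : ∑ b ∈ Finset.univ.erase oneV, (nco D hη 1 b : ℤ) ^ 2 = 0 :=
        le_antisymm (by linarith) hnn
      have := (Finset.sum_eq_zero_iff_of_nonneg fun b _ => sq_nonneg _).1 hz b
        (Finset.mem_erase.2 ⟨hb, Finset.mem_univ _⟩)
      simpa using this
  have hcolv : ∀ b, col D hη b = if b = oneV then k else 0 := by
    intro b
    rw [hcolT, Finset.sum_congr rfl fun l hl => by rw [heq l hl b, hb1]]
    split_ifs <;> simp [hkdef]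
  have hcolsq : ∑ b, col D hη b ^ 2 = k ^ 2 := by
    simp [hcolv, ite_pow]
  rw [hcolsq, hW, hw1] at hlt
  have hqv : q = (e : ℤ) ^ 2 + e + 1 := by
    have hlt' : q < (1 + (e : ℤ)) ^ 2 := by
      rw [hk1] at hlt
      linarith
    have : (t : ℤ) * e < ((e : ℤ) + 2) * e := by rw [hte] at hlt'; linarith
    have : (t : ℤ) ≤ e + 1 := Int.lt_add_one_iff.1 (by
      have := lt_of_mul_lt_mul_right this (Int.natCast_nonneg _)
      linarith)
    have : (t : ℤ) = e + 1 := le_antisymm this hte1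
    rw [hte, this]; ring
  -- `e η + 1` vanishes outside the exceptional classes
  obtain ⟨S, h1S, hS⟩ := exists_rest D
  have hf11 : form D (fun _ => (1 : ℂ)) (fun _ => 1) = ((q - 1 : ℤ) : ℂ) := by
    have h0 : ∀ b : IrrCharacter V, ((b : V → ℂ) = fun _ => 1) ↔ b = oneV :=
      fun b => ⟨fun h => Subtype.ext h, fun h => h ▸ rfl⟩
    simp only [form, co_one_fun, apply_ite (starRingEnd ℂ), map_one, map_zero, h0]
    simp [ite_and, hqdef]
  have hcoη : ∀ l b, co D (η : G → ℂ) l b = if l ∈ T ∧ b = oneV then 1 else 0 := by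
    intro l b
    rw [co_eq D hη]
    by_cases hl : l ∈ T
    · rw [heq l hl b, hb1]
      by_cases hb : b = oneV <;> simp [hl, hb]
    · rw [hT l hl b, Nat.cast_zero, if_neg fun h => hl h.1]
  have hfη1 : form D (η : G → ℂ) (fun _ => 1) = ((q - k : ℤ) : ℂ) ∧
      form D (fun _ => (1 : ℂ)) (η : G → ℂ) = ((q - k : ℤ) : ℂ) := by
    have h0 : ∀ b : IrrCharacter V, ((b : V → ℂ) = fun _ => 1) ↔ b = oneV :=
      fun b => ⟨fun h => Subtype.ext h, fun h => h ▸ rfl⟩
    constructor <;>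
      simp only [form, co_one_fun, hcoη, apply_ite (starRingEnd ℂ), map_one, map_zero, h0] <;>
      simp [ite_and, hqdef, hkdef, h1T]
  have hfηη : form D (η : G → ℂ) (η : G → ℂ) = ((q * k - k ^ 2 : ℤ) : ℂ) := by
    rw [form_self D hη, hwsum, hcolsq, hW, hw1, mul_one]
  have hηc := IsCharacter.isClassFunction hη
  have h1c : IsClassFunction G fun _ : G => (1 : ℂ) := fun _ _ => rfl
  have hηone : classInner (η : G → ℂ) (fun _ => 1) = 0 :=
    classInner_irr_of_ne η.2 isIrrCharacter_one fun h => hη0 (Subtype.ext h)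
  have honeη : classInner (fun _ => (1 : ℂ)) (η : G → ℂ) = 0 :=
    classInner_irr_of_ne isIrrCharacter_one η.2 fun h => hη0 (Subtype.ext h.symm)
  let h : G → ℂ := fun g => (e : ℂ) * (η : G → ℂ) g + 1
  have hzero : (Nat.card G : ℂ)⁻¹ * ∑ g ∈ S, h g * conj (h g) = 0 := by
    have e1 := hS _ _ hηc hηc
    have e2 := hS _ _ hηc h1c
    have e3 := hS _ _ h1c hηc
    have e4 := hS _ _ h1c h1c
    rw [classInner_self_irr η.2, hfηη] at e1
    rw [hηone, hfη1.1] at e2
    rw [honeη, hfη1.2] at e3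
    rw [classInner_self_irr isIrrCharacter_one, hf11] at e4
    have hsum : ∑ g ∈ S, h g * conj (h g) =
        (e : ℂ) ^ 2 * ∑ g ∈ S, (η : G → ℂ) g * conj ((η : G → ℂ) g) +
        (e : ℂ) * ∑ g ∈ S, (η : G → ℂ) g * conj (1 : ℂ) +
        (e : ℂ) * ∑ g ∈ S, (1 : ℂ) * conj ((η : G → ℂ) g) +
        ∑ g ∈ S, (1 : ℂ) * conj (1 : ℂ) := by
      simp only [Finset.mul_sum, ← Finset.sum_add_distrib]
      refine Finset.sum_congr rfl fun g _ => ?_
      simp only [h, map_add, map_mul, map_natCast, map_one]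
      ring
    rw [hsum]
    simp only [mul_add, ← mul_assoc]
    rw [mul_comm _ ((e : ℂ) ^ 2), mul_comm _ (e : ℂ), mul_assoc ((e : ℂ) ^ 2), mul_assoc (e : ℂ),
      mul_assoc (e : ℂ), e1, e2, e3, e4]
    have hPc : (Nat.card P : ℂ) = (e : ℂ) ^ 2 + (e : ℂ) + 1 := by
      have hz : ((Nat.card P : ℤ) : ℂ) = (((e : ℤ) ^ 2 + e + 1 : ℤ) : ℂ) := by
        rw [← hqdef, hqv]
      push_cast at hz
      exact hz
    have hq0 : (e : ℂ) ^ 2 + (e : ℂ) + 1 ≠ 0 := by
      rw [← hPc]; exact Nat.cast_ne_zero.2 Nat.card_pos.ne'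
    have he0' : (e : ℂ) ≠ 0 := Nat.cast_ne_zero.2 he0.ne'
    have hq0' : (1 : ℂ) + (e : ℂ) + (e : ℂ) ^ 2 ≠ 0 := by
      intro h0; exact hq0 (by linear_combination h0)
    rw [hk1, hqv, hPc]
    push_cast
    field_simp
    ring_nf
    field_simp
    ring
  have hall : ∀ g ∈ S, h g = 0 := by
    rw [mul_eq_zero, inv_eq_zero, Nat.cast_eq_zero] at hzero
    have h0 := hzero.resolve_left Nat.card_pos.ne'
    simp only [Complex.mul_conj'] at h0
    have h0' : ∑ g ∈ S, ‖h g‖ ^ 2 = 0 := Complex.ofReal_injective (by push_cast; exact h0)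
    intro g hg
    exact norm_eq_zero.1 (sq_eq_zero_iff.1
      ((Finset.sum_eq_zero_iff_of_nonneg fun g _ => sq_nonneg _).1 h0' g hg))
  have hlast := hall 1 h1S
  simp only [h, CharX.irr_deg η] at hlast
  norm_cast at hlast

theorem dichotomy {x : ℕ} (χ : IrrCharacter G) (hx : (χ : G → ℂ) 1 = x)
    (hne : (χ : G → ℂ) ≠ fun _ => 1) (hq : x ^ 2 + 1 < Nat.card P) :
    (∃ K : Subgroup G, K.Normal ∧ K ≠ ⊤ ∧ P ≤ K) ∨ (e = 1 ∧ x = 1) := by
  classical
  by_cases hK : ∃ K : Subgroup G, K.Normal ∧ K ≠ ⊤ ∧ P ≤ K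
  · exact Or.inl hK
  have he : e = 1 := (main_aux D χ hx hne hq).resolve_left hK
  refine Or.inr ⟨he, ?_⟩
  set hχ := IsIrrCharacter.isCharacter χ.2
  by_cases htriv : ∀ l : P →* ℂˣ, l ≠ 1 → ∀ b, nco D hχ l b = 0
  · exact absurd (normal_of_trivial D χ hne htriv) hK
  -- with `e = 1` the character is scalar on `P`, so `|χ|²` has `P` in its kernel
  push Not at htriv
  obtain ⟨l₀, hl₀, b₀, hb₀⟩ := htriv
  have hxq : (x : ℤ) ^ 2 + 1 < (Nat.card P : ℤ) := by exact_mod_cast hq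
  have hlt := form_lt D χ
  have hcol : ∑ b, col D hχ b ^ 2 ≤ (x : ℤ) ^ 2 :=
    (Finset.sum_sq_le_sq_sum_of_nonneg fun b _ =>
      Finset.sum_nonneg fun _ _ => Int.natCast_nonneg _).trans
      (pow_le_pow_left₀ (Finset.sum_nonneg fun b _ =>
        Finset.sum_nonneg fun _ _ => Int.natCast_nonneg _) (sum_col_le D hχ hx) 2)
  have hwt0 : 1 ≤ wt D hχ l₀ := by
    refine Int.add_one_le_iff.2 (lt_of_le_of_ne (wt_nonneg D hχ l₀) fun h => hb₀ ?_)
    exact (wt_eq_zero D hχ l₀).1 h.symm b₀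
  have he' : (e : ℤ) = 1 := by exact_mod_cast he
  rw [he', one_mul] at hlt
  have hN : ∑ l, wt D hχ l ≤ 1 := by
    by_contra hgt
    push Not at hgt
    nlinarith
  have hoff : ∀ l, l ≠ l₀ → ∀ b, nco D hχ l b = 0 := by
    intro l hl
    refine (wt_eq_zero D hχ l).1 ?_
    rw [← Finset.add_sum_erase _ _ (Finset.mem_univ l₀)] at hN
    exact (Finset.sum_eq_zero_iff_of_nonneg fun l _ => wt_nonneg D hχ l).1
      (le_antisymm (by linarith) (Finset.sum_nonneg fun l _ => wt_nonneg D hχ l)) l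
      (Finset.mem_erase.2 ⟨hl, Finset.mem_univ _⟩)
  have hval : ∀ y : P, (χ : G → ℂ) y = (l₀ y : ℂ) * (x : ℂ) := by
    have e0 : ∀ z : P, (χ : G → ℂ) ((z : G) * ((1 : V) : G)) = (l₀ z : ℂ) *
        ∑ b : IrrCharacter V, (nco D hχ l₀ b : ℂ) * (b : V → ℂ) 1 := by
      intro z
      rw [expansion D (IsCharacter.isClassFunction hχ), Finset.sum_eq_single l₀]
      · rw [Finset.mul_sum]
        exact Finset.sum_congr rfl fun b _ => by rw [co_eq D hχ]; ring
      · intro l _ hl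
        simp [co_eq D hχ, hoff l hl]
      · exact fun h => absurd (Finset.mem_univ _) h
    intro y
    have h1 := e0 1
    simp only [OneMemClass.coe_one, mul_one, map_one, Units.val_one, one_mul, hx] at h1
    have h2 := e0 y
    rw [OneMemClass.coe_one, mul_one, ← h1] at h2
    exact h2
  let F : G → ℂ := fun g => (χ : G → ℂ) g * conj ((χ : G → ℂ) g)
  have hF : IsCharacter G F :=
    IsCharacter.mul hχ (IsIrrCharacter.isCharacter (IsIrrCharacter.conj χ.2))
  have hFP : ∀ y : P, F y = F 1 := fun y => by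
    show (χ : G → ℂ) y * conj ((χ : G → ℂ) y) = (χ : G → ℂ) 1 * conj ((χ : G → ℂ) 1)
    rw [hval, hx, map_mul, mul_mul_mul_comm, conj_linear, ← Units.val_mul, ← map_mul,
      mul_inv_cancel, map_one, Units.val_one, one_mul]
  obtain ⟨K, hKn, hKm, -⟩ := IsCharacter.exists_kernel hF
  have htop : K = ⊤ := by_contra fun h => hK ⟨K, hKn, h, fun y hy => (hKm y).2 (hFP ⟨y, hy⟩)⟩
  have hall : ∀ g, F g = F 1 := fun g => (hKm g).1 (htop ▸ Subgroup.mem_top g)
  have h := classInner_self_irr χ.2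
  rw [classInner, Finset.sum_congr rfl fun g _ => hall g, Finset.sum_const, Finset.card_univ,
    nsmul_eq_mul, ← Nat.card_eq_fintype_card, ← mul_assoc,
    inv_mul_cancel₀ (Nat.cast_ne_zero.2 Nat.card_pos.ne'), one_mul] at h
  change (χ : G → ℂ) 1 * conj ((χ : G → ℂ) 1) = 1 at h
  rw [hx, map_natCast] at h
  have h1 : x * x = 1 := by exact_mod_cast h
  exact Nat.eq_one_of_mul_eq_one_right h1

end Cfsg.Agent.CCSylow
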