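import Cfsg.Agent.Lib.Char.Multiplicity
import Cfsg.Agent.Lib.Char.Induction
import Cfsg.Agent.Lib.Solvable.Basic
import Mathlib.Algebra.Order.BigOperators.Ring.Finset
import Mathlib.GroupTheory.Nilpotent

/-!
# An induced character that extends from a normal subgroup is not homogeneous everywhere
-/

set_option linter.style.haveILetI false
set_option linter.unusedSectionVars false
set_option maxHeartbeats 800000

namespace Cfsg.Agent.Char.SolvPrimitive

open scoped ComplexConjugate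
open Cfsg.Agent.Char

universe u v

variable {G : Type u} [Group G] [Fintype G]

theorem constituent_comp {B : Type v} [Group B] [Fintype B] (j : B →* G) {α : G → ℂ}
    (hα : Cfsg.IsCharacter G α) {τ : G → ℂ} (hτ : Cfsg.IsIrrCharacter G τ)
    (hcon : Cfsg.classInner α τ ≠ 0) {w : B → ℂ} (hw : Cfsg.IsCharacter B w)
    (h : Cfsg.classInner (fun b => τ (j b)) w ≠ 0) : Cfsg.classInner (fun b => α (j b)) w ≠ 0 := by
  classical
  obtain ⟨m, rfl⟩ := IsCharacter.exists_decomp hα
  choose c hc using fun σ : Cfsg.IrrCharacter G => IsCharacter.exists_classInner_nat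
    (IsCharacter.comp (IsIrrCharacter.isCharacter σ.2) j) hw
  have hm : m ⟨τ, hτ⟩ ≠ 0 := by
    rw [show τ = ((⟨τ, hτ⟩ : Cfsg.IrrCharacter G) : G → ℂ) from rfl, classInner_combination,
      Nat.cast_ne_zero] at hcon
    exact hcon
  have hcτ : c ⟨τ, hτ⟩ ≠ 0 := fun h0 => h (by rw [hc ⟨τ, hτ⟩, h0, Nat.cast_zero])
  rw [show (fun b => (∑ σ : Cfsg.IrrCharacter G, (m σ : ℂ) • (σ : G → ℂ)) (j b)) =
    ∑ σ : Cfsg.IrrCharacter G, (m σ : ℂ) • fun b => (σ : G → ℂ) (j b) by
      funext b; simp only [Finset.sum_apply, Pi.smul_apply],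
    classInner_sum_left, Finset.sum_congr rfl fun σ _ => by
      rw [classInner_smul_left, hc, ← Nat.cast_mul], ← Nat.cast_sum, Nat.cast_ne_zero]
  intro h0
  exact mul_ne_zero hm hcτ (Finset.sum_eq_zero_iff.mp h0 ⟨τ, hτ⟩ (Finset.mem_univ _))

/-- A character with irreducible pullback is irreducible. -/
theorem isIrr_of_comp {B : Type v} [Group B] [Finite B] (j : B →* G) {α : G → ℂ}
    (hα : Cfsg.IsCharacter G α) (h : Cfsg.IsIrrCharacter B (fun b => α (j b))) :
    Cfsg.IsIrrCharacter G α := by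
  classical
  haveI : Fintype B := Fintype.ofFinite B
  obtain ⟨τ, hτ⟩ := IsCharacter.exists_constituent hα fun h0 =>
    IsIrrCharacter.one_ne_zero h (by simp [h0])
  have hτj := IsCharacter.comp (IsIrrCharacter.isCharacter τ.2) j
  obtain ⟨w, hw⟩ := IsCharacter.exists_constituent hτj fun h0 =>
    IsIrrCharacter.one_ne_zero τ.2 (by simpa using congrFun h0 1)
  have h1 := constituent_comp j hα τ.2 hτ (IsIrrCharacter.isCharacter w.2) hw
  have hwα : (fun b => α (j b)) = (w : B → ℂ) := by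
    by_contra hne
    exact h1 (classInner_irr_of_ne h w.2 hne)
  obtain ⟨a, ha⟩ := IsCharacter.exists_degree hα
  obtain ⟨t, ht⟩ := IsCharacter.exists_degree (IsIrrCharacter.isCharacter τ.2)
  have hle1 : t ≤ a := degree_le_of_constituent hα τ.2 hτ ha ht
  have hle2 : a ≤ t := degree_le_of_constituent hτj w.2 hw (by rw [map_one, ht])
    (by rw [← congrFun hwα 1, map_one, ha])
  rw [eq_of_constituent_degree hα τ.2 hτ (by rw [ha, ht, le_antisymm hle2 hle1])]
  exact τ.2

/-- Restricting an induced character to a subgroup `A` with `A H = G`. -/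
theorem indFun_restrict (A H : Subgroup G) [A.Normal] [Fintype A] [Fintype H] (htop : A ⊔ H = ⊤)
    {θ : H → ℂ} (hθ : Cfsg.IsClassFunction H θ) (a : A) :
    Cfsg.indFun H θ a = Cfsg.indFun (H.subgroupOf A) (fun q => θ ⟨(q : A), q.2⟩) a := by
  classical
  haveI : Fintype (H.subgroupOf A) := Fintype.ofFinite _
  set F : G → ℂ := fun x => Cfsg.extendByZero H θ (x⁻¹ * (a : G) * x) with hF
  have hFh : ∀ (x : G) (h : H), F (x * h) = F x := by
    intro x h
    simp only [hF]
    rw [show (x * (h : G))⁻¹ * (a : G) * (x * h) = (h : G)⁻¹ * (x⁻¹ * (a : G) * x) * h by group]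
    by_cases hy : x⁻¹ * (a : G) * x ∈ H
    · rw [extendByZero_mem H θ hy,
        extendByZero_mem H θ (H.mul_mem (H.mul_mem (H.inv_mem h.2) hy) h.2)]
      have := hθ ⟨_, hy⟩ h⁻¹
      simp only [inv_inv] at this
      exact this
    · rw [extendByZero_not_mem H θ hy, extendByZero_not_mem H θ _]
      intro h'
      refine hy ?_
      have := H.mul_mem (H.mul_mem h.2 h') (H.inv_mem h.2)
      simpa [mul_assoc] using this
  have hfib : ∀ x : G, (Finset.univ.filter fun z : A × H => (z.1 : G) * z.2 = x).card =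
      Nat.card (H.subgroupOf A) := by
    intro x
    obtain ⟨b, hb, h, hh, rfl⟩ :=
      Subgroup.mem_sup_of_normal_left.mp (htop ▸ Subgroup.mem_top x : x ∈ A ⊔ H)
    rw [← Fintype.card_subtype, ← Nat.card_eq_fintype_card]
    refine Nat.card_congr
      { toFun := fun z => ⟨⟨b, hb⟩⁻¹ * z.1.1, Subgroup.mem_subgroupOf.mpr ?_⟩
        invFun := fun q => ⟨(⟨b, hb⟩ * (q : A), ⟨((q : A) : G)⁻¹ * h,
          H.mul_mem (H.inv_mem (Subgroup.mem_subgroupOf.mp q.2)) hh⟩), by simp [mul_assoc]⟩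
        left_inv := fun z => ?_
        right_inv := fun q => Subtype.ext (by simp) }
    · have e : b⁻¹ * (z.1.1 : G) = h * (z.1.2 : G)⁻¹ := by
        rw [inv_mul_eq_iff_eq_mul, ← mul_assoc]
        exact eq_mul_inv_of_mul_eq z.2
      simpa [e] using H.mul_mem hh (H.inv_mem z.1.2.2)
    · refine Subtype.ext (Prod.ext (by simp) (Subtype.ext ?_))
      show (b⁻¹ * (z.1.1 : G))⁻¹ * h = z.1.2
      rw [mul_inv_rev, inv_inv, mul_assoc]
      exact inv_mul_eq_iff_eq_mul.mpr z.2.symm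
  have key : (Nat.card (H.subgroupOf A) : ℂ) * ∑ x : G, F x =
      (Nat.card H : ℂ) * ∑ b : A, F b := by
    have h1 : ∑ z : A × H, F ((z.1 : G) * z.2) = (Nat.card H : ℂ) * ∑ b : A, F b := by
      rw [Fintype.sum_prod_type, Finset.mul_sum]
      refine Finset.sum_congr rfl fun b _ => ?_
      rw [Finset.sum_congr rfl fun h _ => hFh (b : G) h, Finset.sum_const, Finset.card_univ,
        nsmul_eq_mul, Nat.card_eq_fintype_card]
    rw [← h1, ← Finset.sum_fiberwise Finset.univ (fun z : A × H => (z.1 : G) * z.2),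
      Finset.mul_sum]
    refine Finset.sum_congr rfl fun x _ => ?_
    rw [Finset.sum_congr rfl fun z hz => congrArg F (Finset.mem_filter.mp hz).2, Finset.sum_const,
      hfib, nsmul_eq_mul]
  rw [indFun_apply, indFun_apply]
  have hinner : ∀ b : A, Cfsg.extendByZero (H.subgroupOf A)
      (fun q => θ ⟨(q : A), q.2⟩) (b⁻¹ * a * b) = F b := by
    intro b
    simp only [hF]
    by_cases hy : ((b : G))⁻¹ * (a : G) * b ∈ H
    · rw [extendByZero_mem H θ hy, extendByZero_mem _ _ (Subgroup.mem_subgroupOf.mpr (by simpa using hy))]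
      rfl
    · rw [extendByZero_not_mem H θ hy, extendByZero_not_mem _ _ fun h' => hy
        (by simpa using Subgroup.mem_subgroupOf.mp h')]
  rw [Finset.sum_congr rfl fun b _ => hinner b]
  have hH0 : (Nat.card H : ℂ) ≠ 0 := Nat.cast_ne_zero.mpr Nat.card_pos.ne'
  have hQ0 : (Nat.card (H.subgroupOf A) : ℂ) ≠ 0 := Nat.cast_ne_zero.mpr Nat.card_pos.ne'
  field_simp
  linear_combination key

/-- The data of a homogeneous restriction of an induced character. -/
theorem homogeneous_data (A H : Subgroup G) [A.Normal] [Fintype A] [Fintype H]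
    [Fintype (H.subgroupOf A)] (htop : A ⊔ H = ⊤) {θ : H → ℂ} (hθ : Cfsg.IsCharacter H θ)
    {η : A → ℂ} {e : ℕ} (hη : Cfsg.IsIrrCharacter A η)
    (hχ : (fun x : A => Cfsg.indFun H θ x) = (e : ℂ) • η) :
    Cfsg.classInner (fun q : H.subgroupOf A => η q)
        (fun q : H.subgroupOf A => θ ⟨(q : A), q.2⟩) = (e : ℂ) ∧
      (e : ℂ) * η 1 = (H.index : ℂ) * θ 1 ∧
      (θ 1 ≠ 0 → (H.subgroupOf A).index = H.index) := by
  classical
  let j : H.subgroupOf A →* H :=
    (A.subtype.comp (H.subgroupOf A).subtype).codRestrict H fun q => Subgroup.mem_subgroupOf.mp q.2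
  have hQ : Cfsg.IsCharacter (H.subgroupOf A) (fun q => θ ⟨(q : A), q.2⟩) := IsCharacter.comp hθ j
  have hres : (fun x : A => Cfsg.indFun H θ x) =
      Cfsg.indFun (H.subgroupOf A) (fun q => θ ⟨(q : A), q.2⟩) :=
    funext fun a => indFun_restrict A H htop (IsCharacter.isClassFunction hθ) a
  have hηc := IsIrrCharacter.isCharacter hη
  refine ⟨?_, ?_, fun hθ1 => ?_⟩
  · rw [classInner_comm_of_isCharacter (IsCharacter.restrict hηc _) hQ,
      ← classInner_indFun_left (H.subgroupOf A) _ (IsCharacter.isClassFunction hηc), ← hres, hχ,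
      classInner_smul_left, classInner_self_irr hη, mul_one]
  · have h := congrFun hχ 1
    simp only [OneMemClass.coe_one, indFun_one_apply, Pi.smul_apply, smul_eq_mul] at h
    exact h.symm
  · have h := congrFun hres 1
    simp only [OneMemClass.coe_one, indFun_one_apply] at h
    have h' : (H.index : ℂ) * θ 1 = ((H.subgroupOf A).index : ℂ) * θ 1 := h
    exact_mod_cast (mul_right_cancel₀ hθ1 h').symm

/-- Cauchy–Schwarz. -/
theorem cauchy {ι : Type*} (s : Finset ι) (a b : ι → ℂ) :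
    ‖∑ i ∈ s, a i * b i‖ ^ 2 ≤ (∑ i ∈ s, ‖a i‖ ^ 2) * ∑ i ∈ s, ‖b i‖ ^ 2 :=
  le_trans (pow_le_pow_left₀ (norm_nonneg _)
    ((norm_sum_le _ _).trans (le_of_eq (Finset.sum_congr rfl fun i _ => norm_mul _ _))) 2)
    (Finset.sum_mul_sq_le_sq_mul_sq s _ _)

theorem sum_norm_sq {G : Type u} [Group G] [Fintype G] {χ : G → ℂ}
    (hχ : Cfsg.IsIrrCharacter G χ) : ∑ g : G, ‖χ g‖ ^ 2 = (Nat.card G : ℝ) := by
  have h := classInner_self_irr hχ
  unfold Cfsg.classInner at h
  rw [inv_mul_eq_iff_eq_mul₀ (Nat.cast_ne_zero.mpr Nat.card_pos.ne'), mul_one] at h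
  have h' : ((∑ g : G, ‖χ g‖ ^ 2 : ℝ) : ℂ) = ((Nat.card G : ℝ) : ℂ) := by
    push_cast
    rw [← h]
    exact Finset.sum_congr rfl fun g _ => (Complex.mul_conj' _).symm
  exact_mod_cast h'

/-- An induced character of full multiplicity forces the intersection to be normal. -/
theorem normal_of_full_multiplicity {A : Type u} [Group A] [Fintype A] (Q : Subgroup A)
    [Fintype Q] {η : A → ℂ} (hη : Cfsg.IsIrrCharacter A η) {θ : Q → ℂ}
    (hθ : Cfsg.IsIrrCharacter Q θ) {e : ℕ}
    (he : Cfsg.classInner (fun q : Q => η q) θ = (e : ℂ)) (hidx : e ^ 2 = Q.index)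
    (C : Subgroup A) [C.Normal] (hC : C ≤ Q)
    (hθC : Cfsg.IsIrrCharacter C (fun c : C => θ ⟨(c : A), hC c.2⟩)) : Q.Normal := by
  classical
  set D := Q.normalCore with hD
  haveI : Fintype D := Fintype.ofFinite D
  have hDQ : D ≤ Q := Q.normalCore_le
  have hθD : Cfsg.IsIrrCharacter D (fun d : D => θ (Subgroup.inclusion hDQ d)) :=
    isIrr_of_comp (Subgroup.inclusion (Subgroup.normal_le_normalCore.mpr hC))
      (IsCharacter.comp (IsIrrCharacter.isCharacter hθ) (Subgroup.inclusion hDQ)) hθC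
  have hQ0 : (0 : ℝ) < Nat.card Q := Nat.cast_pos.mpr Nat.card_pos
  have hA : (Nat.card A : ℝ) = (Nat.card Q : ℝ) * (e : ℝ) ^ 2 := by
    rw [← Subgroup.card_mul_index Q, ← hidx]; push_cast; ring
  have hinner : ∑ q : Q, η q * conj (θ q) = ((Nat.card Q * e : ℕ) : ℂ) := by
    unfold Cfsg.classInner at he
    rw [inv_mul_eq_iff_eq_mul₀ (Nat.cast_ne_zero.mpr Nat.card_pos.ne')] at he
    rw [Nat.cast_mul]; exact he
  have hlow : (Nat.card A : ℝ) ≤ ∑ q : Q, ‖η q‖ ^ 2 := by
    have h := cauchy Finset.univ (fun q : Q => η q) (fun q => conj (θ q))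
    simp only [Complex.norm_conj] at h
    rw [hinner, Complex.norm_natCast, sum_norm_sq hθ, Nat.cast_mul] at h
    rw [hA]
    refine le_of_mul_le_mul_right ?_ hQ0
    linarith
  have hoff : ∀ x : A, x ∉ Q → η x = 0 := by
    intro x hx
    have hsplit := Finset.sum_filter_add_sum_filter_not (Finset.univ : Finset A) (fun y => y ∈ Q)
      (fun y => ‖η y‖ ^ 2)
    rw [sum_norm_sq hη, Finset.sum_subtype (p := fun y => y ∈ Q) _ (by simp)] at hsplit
    have h0 : ∑ y ∈ Finset.univ.filter (fun y => ¬ y ∈ Q), ‖η y‖ ^ 2 = 0 :=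
      le_antisymm (by linarith) (Finset.sum_nonneg fun _ _ => sq_nonneg _)
    have := (Finset.sum_eq_zero_iff_of_nonneg (fun _ _ => sq_nonneg _)).mp h0 x (by simp [hx])
    simpa using this
  have hoffD : ∀ x : A, x ∉ D → η x = 0 := by
    intro x hx
    obtain ⟨b, hb⟩ : ∃ b : A, b * x * b⁻¹ ∉ Q := by
      by_contra h
      push Not at h
      exact hx h
    rw [← IsCharacter.isClassFunction (IsIrrCharacter.isCharacter hη) x b]
    exact hoff _ hb
  have hD' : (Nat.card Q : ℝ) ≤ Nat.card D := by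
    have hsum : ∑ q : Q, η q * conj (θ q) =
        ∑ d : D, η d * conj (θ (Subgroup.inclusion hDQ d)) := by
      refine (Finset.sum_of_injOn (Subgroup.inclusion hDQ)
        (Subgroup.inclusion_injective hDQ).injOn (fun _ _ => Finset.mem_univ _) (fun q _ hq => ?_)
        (fun d _ => rfl)).symm
      rw [hoffD q fun hqD => hq ⟨⟨q, hqD⟩, Finset.mem_coe.mpr (Finset.mem_univ _), rfl⟩, zero_mul]
    have hηD : ∑ d : D, ‖η d‖ ^ 2 = (Nat.card A : ℝ) := by
      rw [← sum_norm_sq hη, ← Finset.sum_subset (Finset.subset_univ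
        (Finset.univ.filter fun y : A => y ∈ D)) (fun y _ hy => by
          rw [hoffD y (fun h => hy (Finset.mem_filter.mpr ⟨Finset.mem_univ _, h⟩))]; simp),
        Finset.sum_subtype (p := fun y => y ∈ D) _ (by simp)]
    have h := cauchy Finset.univ (fun d : D => η d)
      (fun d => conj (θ (Subgroup.inclusion hDQ d)))
    simp only [Complex.norm_conj] at h
    rw [← hsum, hinner, Complex.norm_natCast, sum_norm_sq hθD, hηD, hA, Nat.cast_mul] at h
    have he0 : (0 : ℝ) < (e : ℝ) ^ 2 := by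
      have : Q.index ≠ 0 := Subgroup.index_ne_zero_of_finite
      rw [← hidx] at this
      exact_mod_cast Nat.pos_of_ne_zero this
    refine le_of_mul_le_mul_left ?_ (mul_pos hQ0 he0)
    linarith
  have : D = Q := Subgroup.eq_of_le_of_card_ge hDQ (by exact_mod_cast hD')
  rw [← this]
  infer_instance

/-- The main statement. -/
theorem not_homogeneous (L H : Subgroup G) [L.Normal] (hLH : L ≤ H) (hmax : IsCoatom H)
    (hsolv : Group.IsSolvable (G ⧸ L)) {θ : H → ℂ} (hθ : Cfsg.IsIrrCharacter H θ)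
    (hθL : Cfsg.IsIrrCharacter L (fun x : L => θ ⟨(x : G), hLH x.2⟩)) :
    ∃ M : Subgroup G, M.Normal ∧ L ≤ M ∧ ¬ ∃ (φ : M → ℂ) (e : ℕ), Cfsg.IsIrrCharacter M φ ∧
      (fun m : M => Cfsg.indFun H θ m) = (e : ℂ) • φ := by
  classical
  by_contra hall
  push Not at hall
  haveI : Fintype H := Fintype.ofFinite H
  have hθc := IsIrrCharacter.isCharacter hθ
  have hθ1 : θ 1 ≠ 0 := IsIrrCharacter.one_ne_zero hθ
  set C := H.normalCore with hCdef
  haveI : Fintype C := Fintype.ofFinite C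
  have hLC : L ≤ C := Subgroup.normal_le_normalCore.mpr hLH
  have hCH : C ≤ H := H.normalCore_le
  have hθC : Cfsg.IsIrrCharacter C (fun c : C => θ ⟨(c : G), hCH c.2⟩) :=
    isIrr_of_comp (Subgroup.inclusion hLC) (IsCharacter.comp hθc (Subgroup.inclusion hCH)) hθL
  haveI : Group.IsSolvable (G ⧸ C) := by
    haveI := hsolv
    exact Group.isSolvable_of_surjective
      (f := QuotientGroup.map L C (MonoidHom.id G) hLC) fun y => by
        obtain ⟨x, rfl⟩ := QuotientGroup.mk_surjective y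
        exact ⟨x, rfl⟩
  have hCtop : C ≠ ⊤ := fun h => hmax.1 (top_le_iff.mp (h ▸ hCH))
  have htopC : (⊤ : Subgroup (G ⧸ C)) ≠ ⊥ := fun h => hCtop (top_le_iff.mp fun x _ =>
    (QuotientGroup.eq_one_iff x).mp ((Subgroup.mem_bot).mp
      (h ▸ Subgroup.mem_top (QuotientGroup.mk' C x))))
  obtain ⟨Kb, p, hp, hKbn, hKb1, -, hKbc, -, hKbp, hKbmin⟩ :=
    Cfsg.Agent.SolvBasic.exists_minimal_normal_abelian
      (inferInstance : (⊤ : Subgroup (G ⧸ C)).Normal) htopC
  haveI := hKbn
  set K := Kb.comap (QuotientGroup.mk' C) with hKdef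
  haveI : Fintype K := Fintype.ofFinite K
  have hCK : C ≤ K := fun x hx => by
    rw [hKdef, Subgroup.mem_comap, QuotientGroup.mk'_apply, (QuotientGroup.eq_one_iff x).mpr hx]
    exact Kb.one_mem
  have hKmap : K.map (QuotientGroup.mk' C) = Kb :=
    Subgroup.map_comap_eq_self_of_surjective (QuotientGroup.mk'_surjective C) Kb
  have hKH : ¬ K ≤ H := fun h => hKb1 (by
    rw [← hKmap, Subgroup.map_eq_bot_iff, QuotientGroup.ker_mk']
    exact Subgroup.normal_le_normalCore.mpr h)
  have hKtop : K ⊔ H = ⊤ :=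
    hmax.2 _ (lt_of_le_of_ne le_sup_right fun h => hKH (h ▸ le_sup_left))
  have hmod : ∀ (N : Subgroup G), C ≤ N → (∀ g ∈ N, g ∈ H) → (∀ g : G, g ∈ K ∨ g ∈ H →
      ∀ x ∈ N, g * x * g⁻¹ ∈ N) → ∀ x ∈ N, x ∈ C := by
    intro N _ hNH hN x hx
    have hnorm : N.Normal := ⟨fun y hy g => by
      obtain ⟨k, hk, h, hh, rfl⟩ :=
        Subgroup.mem_sup_of_normal_left.mp (hKtop ▸ Subgroup.mem_top g : g ∈ K ⊔ H)
      have := hN k (Or.inl hk) _ (hN h (Or.inr hh) y hy)
      simpa [mul_assoc] using this⟩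
    exact Subgroup.normal_le_normalCore.mpr hNH hx
  have hKinf : ∀ x ∈ K, x ∈ H → x ∈ C := fun x hxK hxH =>
    hmod (K ⊓ H) (le_inf hCK hCH) (fun g hg => hg.2) (fun g hg y hy => by
      refine ⟨Subgroup.Normal.conj_mem inferInstance y hy.1 g, ?_⟩
      rcases hg with hg | hg
      · have h1 : (QuotientGroup.mk' C) (g * y * g⁻¹ * y⁻¹) = 1 := by
          have := setLike_mul_comm (s := Kb) (Subgroup.mem_comap.mp hg) (Subgroup.mem_comap.mp hy.1)
          simp only [map_mul, map_inv, this, mul_inv_cancel_right, mul_inv_cancel]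
        have h2 := H.mul_mem (hCH ((QuotientGroup.eq_one_iff _).mp h1)) hy.2
        simpa using h2
      · exact H.mul_mem (H.mul_mem hg hy.2) (H.inv_mem hg)) x ⟨hxK, hxH⟩
  haveI : Fintype (H.subgroupOf K) := Fintype.ofFinite _
  obtain ⟨ψ, f, hψ, hχK⟩ := hall K inferInstance (hLC.trans hCK)
  obtain ⟨hfQ, hf1, hfidx⟩ := homogeneous_data K H hKtop hθc hψ hχK
  have hn0 : (H.index : ℂ) ≠ 0 := Nat.cast_ne_zero.mpr Subgroup.index_ne_zero_of_finite
  have hf0 : (f : ℂ) ≠ 0 := fun h => mul_ne_zero hn0 hθ1 (by rw [← hf1, h, zero_mul])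
  obtain ⟨φ, c, hφ, hχC⟩ := hall C inferInstance hLC
  let jC : H.subgroupOf K →* C :=
    (K.subtype.comp (H.subgroupOf K).subtype).codRestrict C fun q =>
      hKinf _ (q : K).2 (Subgroup.mem_subgroupOf.mp q.2)
  have hjC : Function.Surjective jC := fun x =>
    ⟨⟨⟨(x : G), hCK x.2⟩, Subgroup.mem_subgroupOf.mpr (hCH x.2)⟩, rfl⟩
  have hθQ : Cfsg.IsIrrCharacter (H.subgroupOf K) (fun q => θ ⟨(q : K), q.2⟩) :=
    IsIrrCharacter.comp hθC jC hjC
  have hφQ : Cfsg.IsIrrCharacter (H.subgroupOf K) (fun q => φ (jC q)) := IsIrrCharacter.comp hφ jC hjC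
  have hψQ : (fun q : H.subgroupOf K => ψ q) = ((c : ℂ) / f) • fun q => φ (jC q) := by
    funext q
    have e1 := congrFun hχK (q : K)
    have e2 := congrFun hχC (jC q)
    simp only [Pi.smul_apply, smul_eq_mul] at e1 e2 ⊢
    change Cfsg.indFun H θ ((q : K) : G) = _ at e2
    field_simp
    linear_combination e2 - e1
  have hcf : (c : ℂ) / f = f ∧ (fun q => φ (jC q)) = fun q : H.subgroupOf K => θ ⟨(q : K), q.2⟩ := by
    rw [hψQ, classInner_smul_left, classInner_irr hφQ hθQ] at hfQ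
    split_ifs at hfQ with h
    · exact ⟨by simpa using hfQ, h⟩
    · rw [mul_zero] at hfQ; exact absurd hfQ.symm hf0
  have hψ1 : ψ 1 = (f : ℂ) * θ 1 := by
    have e := congrFun hψQ 1
    simp only [Pi.smul_apply, smul_eq_mul, OneMemClass.coe_one, hcf.1] at e
    rw [e, congrFun hcf.2 1]
    rfl
  have hnf : H.index = f * f := by
    have h : ((f * f : ℕ) : ℂ) * θ 1 = (H.index : ℂ) * θ 1 := by
      rw [← hf1, hψ1, Nat.cast_mul, mul_assoc]
    exact_mod_cast (mul_right_cancel₀ hθ1 h).symm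
  haveI := Fact.mk hp
  obtain ⟨a, ha⟩ := IsPGroup.iff_card.mp hKbp
  have hrelC : ∀ X : Subgroup G, C.relIndex X = Nat.card (X.map (QuotientGroup.mk' C)) := fun X => by
    conv_lhs => rw [← QuotientGroup.ker_mk' C]
    rw [Subgroup.relIndex_ker]
  have hna : H.index = p ^ a := by
    rw [← hfidx hθ1, ← ha, ← hKmap, ← hrelC]
    show H.relIndex K = C.relIndex K
    unfold Subgroup.relIndex
    congr 1
    ext x
    exact ⟨fun h => hKinf _ x.2 h, fun h => hCH h⟩
  have hKne : K ≠ ⊤ := by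
    intro hK
    have hKb : Kb = ⊤ := by
      rw [← hKmap, hK, Subgroup.map_top_of_surjective _ (QuotientGroup.mk'_surjective C)]
    haveI : Nontrivial Kb := (Kb.nontrivial_iff_ne_bot).mpr hKb1
    obtain ⟨y, hy⟩ := exists_prime_orderOf_dvd_card' (G := Kb) p
      (hKbp.card_modEq_card_fixedPoints (α := Kb) |> fun _ => by
        rw [ha]
        refine dvd_pow_self p fun h0 => ?_
        rw [h0, pow_zero] at ha
        exact hKb1 (Subgroup.card_eq_one.mp ha))
    have hZn : (Subgroup.zpowers (y : G ⧸ C)).Normal := ⟨fun z hz g => by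
      have hzK : z ∈ Kb := hKb ▸ Subgroup.mem_top z
      have := setLike_mul_comm (s := Kb) (hKb ▸ Subgroup.mem_top g : g ∈ Kb) hzK
      rwa [this, mul_inv_cancel_right]⟩
    rcases hKbmin _ hZn (Subgroup.zpowers_le.mpr y.2) with h | h
    · rw [Subgroup.zpowers_eq_bot, OneMemClass.coe_eq_one] at h
      rw [h, orderOf_one] at hy
      exact hp.ne_one hy.symm
    · have hpp : H.index = p := by
        rw [hna, ← ha, ← h, Nat.card_zpowers, Subgroup.orderOf_coe, hy]
      rw [hnf] at hpp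
      exact Irreducible.not_isSquare hp ⟨f, hpp.symm⟩
  haveI : Group.IsSolvable (G ⧸ K) :=
    Group.isSolvable_of_surjective (f := QuotientGroup.map C K (MonoidHom.id G) hCK) fun y => by
      obtain ⟨x, rfl⟩ := QuotientGroup.mk_surjective y
      exact ⟨x, rfl⟩
  have htopK : (⊤ : Subgroup (G ⧸ K)) ≠ ⊥ := fun h => hKne (top_le_iff.mp fun x _ =>
    (QuotientGroup.eq_one_iff x).mp ((Subgroup.mem_bot).mp
      (h ▸ Subgroup.mem_top (QuotientGroup.mk' K x))))
  obtain ⟨Ab, q, hq, hAbn, hAb1, -, -, -, hAbp, -⟩ :=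
    Cfsg.Agent.SolvBasic.exists_minimal_normal_abelian
      (inferInstance : (⊤ : Subgroup (G ⧸ K)).Normal) htopK
  haveI := hAbn
  haveI := Fact.mk hq
  obtain ⟨j, hj⟩ := IsPGroup.iff_card.mp hAbp
  set A := Ab.comap (QuotientGroup.mk' K) with hAdef
  haveI : Fintype A := Fintype.ofFinite A
  have hKA : K ≤ A := fun x hx => by
    rw [hAdef, Subgroup.mem_comap, QuotientGroup.mk'_apply, (QuotientGroup.eq_one_iff x).mpr hx]
    exact Ab.one_mem
  have hAmap : A.map (QuotientGroup.mk' K) = Ab :=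
    Subgroup.map_comap_eq_self_of_surjective (QuotientGroup.mk'_surjective K) Ab
  have hAK : ¬ A ≤ K := fun h => hAb1 (by
    rw [← hAmap, Subgroup.map_eq_bot_iff, QuotientGroup.ker_mk']
    exact h)
  have hrelK : K.relIndex A = q ^ j := by
    conv_lhs => rw [← QuotientGroup.ker_mk' K]
    rw [Subgroup.relIndex_ker, ← hj, ← hAmap]
  have hCA : C ≤ A := hCK.trans hKA
  have hcontra : (∀ g : G, g ∈ A → ∀ x ∈ A ⊓ H, g * x * g⁻¹ ∈ A ⊓ H) → False := by
    intro hAn
    refine hAK fun x hx => ?_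
    obtain ⟨k, hk, h, hh, rfl⟩ :=
      Subgroup.mem_sup_of_normal_left.mp (hKtop ▸ Subgroup.mem_top x : x ∈ K ⊔ H)
    refine K.mul_mem hk (hCK (hmod (A ⊓ H) (le_inf hCA hCH) (fun g hg => hg.2) (fun g hg y hy => ?_) h
      ⟨by simpa using A.mul_mem (A.inv_mem (hKA hk)) hx, hh⟩))
    rcases hg with hg | hg
    · exact hAn g (hKA hg) y hy
    · exact ⟨Subgroup.Normal.conj_mem inferInstance y hy.1 g,
        H.mul_mem (H.mul_mem hg hy.2) (H.inv_mem hg)⟩
  by_cases hqp : q = p
  · subst hqp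
    set Aq := A.map (QuotientGroup.mk' C) with hAq
    set Qq := ((A ⊓ H).map (QuotientGroup.mk' C)).subgroupOf Aq with hQq
    have hpg : IsPGroup q Aq := IsPGroup.of_card (n := a + j) (by
      rw [← hrelC, ← Subgroup.relIndex_mul_relIndex C K A hCK hKA, hrelC K, hKmap, ha, hrelK, pow_add])
    haveI := hpg.isNilpotent
    have hback : ∀ x : G, (QuotientGroup.mk' C x) ∈ (A ⊓ H).map (QuotientGroup.mk' C) →
        x ∈ A ⊓ H := fun x hx => by
      have hx' : x ∈ ((A ⊓ H).map (QuotientGroup.mk' C)).comap (QuotientGroup.mk' C) := hx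
      rwa [Subgroup.comap_map_eq, QuotientGroup.ker_mk', sup_eq_left.mpr (le_inf hCA hCH)] at hx'
    have hne : Qq < ⊤ := lt_top_iff_ne_top.mpr fun h => hKH fun x hx => by
      have : (⟨QuotientGroup.mk' C x, Subgroup.mem_map_of_mem _ (hKA hx)⟩ : Aq) ∈ Qq :=
        h ▸ Subgroup.mem_top _
      exact (hback x this).2
    obtain ⟨⟨z, hz⟩, hzn, hzQ⟩ :=
      SetLike.exists_of_lt (Group.normalizerCondition_of_isNilpotent Qq hne)
    obtain ⟨b, hb, rfl⟩ := hz
    have hbH : b ∉ H := fun h => hzQ (Subgroup.mem_map_of_mem _ ⟨hb, h⟩)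
    have hbn : b ∈ Subgroup.normalizer ((A ⊓ H : Subgroup G) : Set G) := by
      have hfor : ∀ y ∈ A ⊓ H, b * y * b⁻¹ ∈ A ⊓ H := fun y hy => hback _ (by
        have h := (Subgroup.mem_normalizer_iff.mp hzn
          ⟨QuotientGroup.mk' C y, Subgroup.mem_map_of_mem _ hy.1⟩).mp
          (Subgroup.mem_map_of_mem _ hy)
        simpa [Subgroup.mem_subgroupOf, hQq] using h)
      have hmap : (A ⊓ H).map (MulAut.conj b).toMonoidHom = A ⊓ H :=
        Subgroup.eq_of_le_of_card_ge (by rintro _ ⟨y, hy, rfl⟩; exact hfor y hy)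
          (Subgroup.card_map_of_injective (MulAut.conj b).injective).ge
      rw [Subgroup.mem_normalizer_iff]
      refine fun y => ⟨hfor y, fun hy => ?_⟩
      obtain ⟨y', hy', e⟩ : b * y * b⁻¹ ∈ (A ⊓ H).map (MulAut.conj b).toMonoidHom := by rw [hmap]; exact hy
      exact (MulAut.conj b).injective e ▸ hy'
    have hHn : H ≤ Subgroup.normalizer ((A ⊓ H : Subgroup G) : Set G) := fun g hg => by
      rw [Subgroup.mem_normalizer_iff]
      refine fun y => ⟨fun hy => ⟨Subgroup.Normal.conj_mem inferInstance y hy.1 g,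
        H.mul_mem (H.mul_mem hg hy.2) (H.inv_mem hg)⟩, fun hy => ?_⟩
      have h1 := Subgroup.Normal.conj_mem (inferInstance : A.Normal) _ hy.1 g⁻¹
      have h2 := H.mul_mem (H.mul_mem (H.inv_mem hg) hy.2) hg
      exact ⟨by simpa [mul_assoc] using h1, by simpa [mul_assoc] using h2⟩
    have htop := hmax.2 _ (lt_of_le_of_ne hHn fun h => hbH (h ▸ hbn))
    exact hcontra fun g _ x hx => (Subgroup.mem_normalizer_iff.mp (htop ▸ Subgroup.mem_top g) x).mp hx
  · haveI : Fintype (H.subgroupOf A) := Fintype.ofFinite _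
    have hAtop : A ⊔ H = ⊤ := top_le_iff.mp (hKtop ▸ sup_le_sup_right hKA H)
    obtain ⟨η, e, hη, hχA⟩ := hall A inferInstance (hLC.trans hCA)
    obtain ⟨heQ, he1, heidx⟩ := homogeneous_data A H hAtop hθc hη hχA
    have he0 : (e : ℂ) ≠ 0 := fun h => mul_ne_zero hn0 hθ1 (by rw [← he1, h, zero_mul])
    let eK := Subgroup.subgroupOfEquivOfLe hKA
    haveI : Fintype (K.subgroupOf A) := Fintype.ofFinite _
    have hψ' : Cfsg.IsIrrCharacter (K.subgroupOf A) (fun k => ψ (eK k)) :=
      IsIrrCharacter.comp hψ eK.toMonoidHom eK.surjective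
    have hηK : (fun k : K.subgroupOf A => η k) = ((f : ℂ) / e) • fun k => ψ (eK k) := by
      funext k
      have e1 := congrFun hχA (k : A)
      have e2 := congrFun hχK (eK k)
      simp only [Pi.smul_apply, smul_eq_mul] at e1 e2 ⊢
      change Cfsg.indFun H θ ((k : A) : G) = _ at e2
      field_simp
      linear_combination e2 - e1
    obtain ⟨m, hm, hmdvd⟩ := exists_ratio_dvd_index (K.subgroupOf A) hη hψ' (by
      rw [hηK, classInner_smul_left, classInner_self_irr hψ', mul_one]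
      exact div_ne_zero hf0 he0)
    have hem : e * m = f := by
      have h1 := congrFun hηK 1
      simp only [Pi.smul_apply, smul_eq_mul, OneMemClass.coe_one] at h1
      rw [h1] at hm
      have h2 := mul_right_cancel₀ (IsIrrCharacter.one_ne_zero hψ') hm
      have h3 : ((e * m : ℕ) : ℂ) = f := by
        rw [Nat.cast_mul, ← h2, mul_div_cancel₀ _ he0]
      exact_mod_cast h3
    have hm1 : m = 1 := Nat.eq_one_of_dvd_coprimes
      (Nat.Coprime.pow j a ((Nat.coprime_primes hq hp).mpr hqp))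
      (by rw [← hrelK]; exact hmdvd)
      (by rw [← hna, hnf, ← hem, Nat.mul_assoc, Nat.mul_left_comm]; exact Dvd.intro _ rfl)
    have hef : e = f := by rw [← hem, hm1, mul_one]
    haveI : Fintype (C.subgroupOf A) := Fintype.ofFinite _
    let eC := Subgroup.subgroupOfEquivOfLe hCA
    have hCQ : C.subgroupOf A ≤ H.subgroupOf A := fun x hx => hCH hx
    have hθCA : Cfsg.IsIrrCharacter (C.subgroupOf A)
        (fun x => θ ⟨((x : A) : G), hCH (Subgroup.mem_subgroupOf.mp x.2)⟩) :=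
      IsIrrCharacter.comp hθC eC.toMonoidHom eC.surjective
    let jA : H.subgroupOf A →* H :=
      (A.subtype.comp (H.subgroupOf A).subtype).codRestrict H fun q => Subgroup.mem_subgroupOf.mp q.2
    have hθA : Cfsg.IsIrrCharacter (H.subgroupOf A) (fun q => θ ⟨(q : A), q.2⟩) :=
      isIrr_of_comp (Subgroup.inclusion hCQ) (IsCharacter.comp hθc jA) hθCA
    have hQn := normal_of_full_multiplicity (H.subgroupOf A) hη hθA heQ
      (by rw [heidx hθ1, hnf, hef, sq]) (C.subgroupOf A) hCQ hθCA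
    refine hcontra fun g hg x hx => ⟨Subgroup.Normal.conj_mem inferInstance x hx.1 g, ?_⟩
    exact Subgroup.mem_subgroupOf.mp (hQn.conj_mem ⟨x, hx.1⟩ hx.2 ⟨g, hg⟩)

end Cfsg.Agent.Char.SolvPrimitive
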