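import Cfsg.Agent.Lib.Char.BrauerInduction
import Mathlib.GroupTheory.Nilpotent

/-!
# Nilpotent groups are M-groups; the monomial form of Brauer induction
-/

set_option linter.style.haveILetI false
set_option linter.unusedSectionVars false
set_option maxHeartbeats 800000

namespace Cfsg.Agent.Char

open scoped ComplexConjugate

universe u v

variable {G : Type u} [Group G] [Fintype G]

/-- Induction commutes with inflation. -/
theorem indFun_comap {Q : Type v} [Group Q] [Fintype Q] (f : G →* Q) (hf : Function.Surjective f)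
    (H : Subgroup Q) (θ : H → ℂ) (θ' : H.comap f → ℂ)
    (hc : ∀ x : H.comap f, θ' x = θ ⟨f x, x.2⟩) (g : G) :
    Cfsg.indFun H θ (f g) = Cfsg.indFun (H.comap f) θ' g := by
  classical
  have hext : ∀ y : G, Cfsg.extendByZero (H.comap f) θ' y = Cfsg.extendByZero H θ (f y) := by
    intro y
    by_cases hy : y ∈ H.comap f
    · rw [extendByZero_mem _ _ hy, extendByZero_mem _ _ (Subgroup.mem_comap.mp hy), hc]
    · rw [extendByZero_not_mem _ _ hy,
        extendByZero_not_mem _ _ (fun h => hy (Subgroup.mem_comap.mpr h))]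
  rw [indFun_apply, indFun_apply]
  simp only [hext, map_mul, map_inv]
  conv_rhs => rw [← Finset.sum_fiberwise Finset.univ f
    (fun y => Cfsg.extendByZero H θ ((f y)⁻¹ * f g * f y))]
  rw [Finset.sum_congr rfl fun r _ => show ∑ y ∈ Finset.univ.filter (fun y => f y = r),
      Cfsg.extendByZero H θ ((f y)⁻¹ * f g * f y) =
      (Nat.card f.ker : ℂ) * Cfsg.extendByZero H θ (r⁻¹ * f g * r) by
    rw [Finset.sum_congr rfl fun y hy => by rw [(Finset.mem_filter.mp hy).2],
      Finset.sum_const, nsmul_eq_mul, ← Fintype.card_subtype, ← Nat.card_eq_fintype_card]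
    congr 2
    obtain ⟨z, rfl⟩ := hf r
    refine Nat.card_congr ((Equiv.mulLeft z⁻¹).subtypeEquiv fun y => ?_)
    rw [Equiv.coe_mulLeft, MonoidHom.mem_ker, map_mul, map_inv, inv_mul_eq_one]
    exact eq_comm]
  rw [← Finset.mul_sum, ← mul_assoc]
  congr 1
  have hcard : Nat.card (H.comap f) = Nat.card H * Nat.card f.ker := by
    have h1 := Subgroup.card_mul_index (H.comap f)
    rw [Subgroup.index_comap_of_surjective H hf] at h1
    have h2 := Subgroup.card_mul_index f.ker
    rw [Subgroup.index_ker, MonoidHom.range_eq_top.mpr hf, Subgroup.card_top,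
      ← Subgroup.card_mul_index H] at h2
    refine mul_right_cancel₀ (Subgroup.index_ne_zero_of_finite (H := H)) ?_
    rw [h1, ← h2]; ring
  have h0 : (Nat.card f.ker : ℂ) ≠ 0 := Nat.cast_ne_zero.mpr Nat.card_pos.ne'
  rw [hcard, Nat.cast_mul, mul_inv, mul_assoc, inv_mul_cancel₀ h0, mul_one]

/-- A finite nilpotent group is an M-group. -/
theorem exists_monomial_of_nilpotent :
    ∀ (n : ℕ) (G : Type u) [Group G] [Fintype G] [Group.IsNilpotent G], Nat.card G = n →
      ∀ χ : G → ℂ, Cfsg.IsIrrCharacter G χ →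
        ∃ (H : Subgroup G) (lam : H →* ℂˣ), χ = Cfsg.indFun H (fun h => (lam h : ℂ)) := by
  classical
  intro n
  induction n using Nat.strong_induction_on with
  | _ n ih =>
  intro G _ _ _ hn χ hχ
  obtain ⟨K, hK, hmem, htr⟩ := IsCharacter.exists_kernel (IsIrrCharacter.isCharacter hχ)
  haveI := hK
  by_cases hK1 : K = ⊥
  · by_cases hcomm : ∀ a b : G, a * b = b * a
    · obtain ⟨f, rfl⟩ := exists_hom_of_degree_one (IsIrrCharacter.isCharacter hχ)
        (degree_one_of_comm hcomm hχ)
      refine ⟨⊤, f.comp (⊤ : Subgroup G).subtype, funext fun g => ?_⟩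
      have hc : ∀ x : G, Cfsg.extendByZero (⊤ : Subgroup G)
          (fun h => ((f.comp (⊤ : Subgroup G).subtype) h : ℂ)) (x⁻¹ * g * x) = (f g : ℂ) := fun x => by
        rw [extendByZero_mem _ _ (Subgroup.mem_top _)]
        show ((f (x⁻¹ * g * x) : ℂˣ) : ℂ) = _
        rw [map_mul, map_mul, map_inv, mul_comm ((f x)⁻¹), mul_assoc, inv_mul_cancel, mul_one]
      rw [indFun_apply, Finset.sum_congr rfl fun x _ => hc x, Finset.sum_const, Finset.card_univ,
        nsmul_eq_mul, Subgroup.card_top, ← Nat.card_eq_fintype_card, ← mul_assoc,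
        inv_mul_cancel₀ (Nat.cast_ne_zero.mpr Nat.card_pos.ne'), one_mul]
    · -- an abelian normal subgroup which is not central
      have hZ : Subgroup.center G ≠ ⊤ := fun h => hcomm fun a b => by
        have : b ∈ Subgroup.center G := by rw [h]; trivial
        exact Subgroup.mem_center_iff.mp this a
      haveI : Nontrivial (G ⧸ Subgroup.center G) := by
        refine Finite.one_lt_card_iff_nontrivial.mp ?_
        rw [← Subgroup.index]
        exact Subgroup.one_lt_index_of_ne_top hZ
      obtain ⟨q, hq, hq1⟩ := (Subgroup.bot_or_exists_ne_one (Subgroup.center (G ⧸ Subgroup.center G))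
        ).resolve_left (Group.IsNilpotent.center_ne_bot _)
      obtain ⟨a, rfl⟩ := QuotientGroup.mk_surjective q
      set A := (Subgroup.zpowers (a : G ⧸ Subgroup.center G)).comap
        (QuotientGroup.mk' (Subgroup.center G)) with hA
      have haA : a ∈ A := Subgroup.mem_comap.mpr (Subgroup.mem_zpowers _)
      haveI : A.Normal := by
        haveI : (Subgroup.zpowers (a : G ⧸ Subgroup.center G)).Normal := ⟨fun y hy g => by
          obtain ⟨j, rfl⟩ := Subgroup.mem_zpowers_iff.mp hy
          rw [Subgroup.mem_center_iff.mp (zpow_mem hq j) g, mul_inv_cancel_right]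
          exact zpow_mem (Subgroup.mem_zpowers _) j⟩
        exact Subgroup.Normal.comap inferInstance _
      have hAcomm : ∀ x y : A, x * y = y * x := by
        intro x y
        have key : ∀ x : A, ∃ (j : ℤ), ∃ z ∈ Subgroup.center G, (x : G) = a ^ j * z := by
          intro x
          obtain ⟨j, hj⟩ := Subgroup.mem_zpowers_iff.mp (Subgroup.mem_comap.mp x.2)
          refine ⟨j, (a ^ j)⁻¹ * x, ?_, by group⟩
          rw [← QuotientGroup.eq, QuotientGroup.mk_zpow]
          exact hj
        obtain ⟨i, z, hz, hx⟩ := key x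
        obtain ⟨j, w, hw, hy⟩ := key y
        apply Subtype.ext
        rw [Subgroup.coe_mul, Subgroup.coe_mul, hx, hy]
        calc a ^ i * z * (a ^ j * w) = a ^ i * (z * a ^ j) * w := by group
          _ = a ^ i * a ^ j * (z * w) := by rw [← Subgroup.mem_center_iff.mp hz (a ^ j)]; group
          _ = a ^ j * a ^ i * (w * z) := by
            rw [← zpow_add, ← zpow_add, add_comm i j, Subgroup.mem_center_iff.mp hw z]
          _ = a ^ j * (a ^ i * w) * z := by group
          _ = a ^ j * w * (a ^ i * z) := by rw [Subgroup.mem_center_iff.mp hw (a ^ i)]; group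
      haveI : Fintype A := Fintype.ofFinite A
      obtain ⟨θ, hθ⟩ := exists_restrict_constituent hχ A
      have hθc := IsIrrCharacter.isCharacter θ.2
      have hθ1 : (θ : A → ℂ) 1 = 1 := degree_one_of_comm hAcomm θ.2
      obtain ⟨f, hf⟩ := exists_hom_of_degree_one hθc hθ1
      set T := inertia A (θ : A → ℂ) with hTdef
      haveI : Fintype T := Fintype.ofFinite T
      have hTne : T ≠ ⊤ := by
        intro htop
        have horb : conjOrbit A (θ : A → ℂ) = {(θ : A → ℂ)} := by
          ext φ
          rw [mem_conjOrbit, Finset.mem_singleton]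
          have hall : ∀ g : G, conjChar A g (θ : A → ℂ) = θ := fun g =>
            (mem_inertia A).mp (show g ∈ T by rw [htop]; trivial)
          exact ⟨fun ⟨g, hg⟩ => hg.trans (hall g), fun h => ⟨1, h.trans (hall 1).symm⟩⟩
        have hres := clifford A hχ θ.2 hθ
        rw [horb, Finset.sum_singleton] at hres
        have ea : χ a = Cfsg.classInner (fun h : A => χ h) θ * (θ : A → ℂ) ⟨a, haA⟩ :=
          congrFun hres ⟨a, haA⟩
        have e1 : χ 1 = Cfsg.classInner (fun h : A => χ h) θ * (θ : A → ℂ) 1 := congrFun hres 1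
        rw [hθ1, mul_one] at e1
        obtain ⟨d, ρ, hρ, rfl⟩ := hχ
        rw [← e1, hf, Representation.char_one] at ea
        obtain ⟨ω, hω⟩ := (norm_char_eq_iff ρ a).mp (by
          rw [ea, norm_mul, Complex.norm_natCast,
            norm_eq_one_of_pow (orderOf_pos (⟨a, haA⟩ : A)).ne' (by
              rw [← Units.val_pow_eq_pow_val, ← map_pow, pow_orderOf_eq_one, map_one, Units.val_one]),
            mul_one])
        apply hq1
        rw [QuotientGroup.eq_one_iff, Subgroup.mem_center_iff]
        intro g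
        have hin : g * a * (a * g)⁻¹ ∈ K := by
          rw [hmem]
          refine congrArg (fun F : (Fin d → ℂ) →ₗ[ℂ] (Fin d → ℂ) => LinearMap.trace ℂ _ F) ?_
          have e : ρ (g * a) = ρ (a * g) := by
            rw [map_mul, map_mul, hω, smul_mul_assoc, mul_smul_comm]
            rfl
          rw [map_mul, e, ← map_mul, mul_inv_cancel, map_one]
        rw [hK1, Subgroup.mem_bot, mul_inv_eq_one] at hin
        exact hin
      have hAT : A ≤ T := le_inertia A (IsCharacter.isClassFunction hθc)
      obtain ⟨ψ, hψ, hind, -⟩ := clifford_correspondence_surjective A θ.2 hTdef hAT hχ hθ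
      have hlt : Nat.card T < n := by
        rw [← hn]
        exact lt_of_le_of_ne (Nat.le_of_dvd Nat.card_pos (Subgroup.card_subgroup_dvd_card T))
          fun e => hTne (Subgroup.eq_top_of_card_eq _ e)
      obtain ⟨H, lam, hlam⟩ := ih _ hlt T rfl ψ hψ
      let e := H.equivMapOfInjective T.subtype T.subtype_injective
      refine ⟨H.map T.subtype, lam.comp e.symm.toMonoidHom, ?_⟩
      rw [← hind, hlam]
      exact indFun_map T H _ _ fun u => congrArg (fun y => (lam y : ℂ)) (e.symm_apply_apply u)
  · haveI : Fintype (G ⧸ K) := Fintype.ofFinite _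
    obtain ⟨χ', -, hval, hirr⟩ :=
      IsCharacter.deflate (IsIrrCharacter.isCharacter hχ) K fun x hx => (hmem x).mp hx
    have hlt : Nat.card (G ⧸ K) < n := by
      rw [← hn, ← Subgroup.card_mul_index K, ← Subgroup.index]
      exact lt_mul_of_one_lt_left (Nat.pos_of_ne_zero Subgroup.index_ne_zero_of_finite)
        ((Subgroup.one_lt_card_iff_ne_bot K).mpr hK1)
    obtain ⟨H, lam, hlam⟩ := ih _ hlt (G ⧸ K) rfl χ' (hirr hχ)
    refine ⟨H.comap (QuotientGroup.mk' K), lam.comp ((QuotientGroup.mk' K).subgroupComap H),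
      funext fun g => ?_⟩
    rw [← hval g, hlam]
    exact indFun_comap (QuotientGroup.mk' K) (QuotientGroup.mk'_surjective K) H _ _ (fun x => rfl) g

theorem isNilpotent_of_elementary {p : ℕ} (hp : p.Prime) {E : Type u} [Group E] [Finite E]
    (h : Cfsg.IsElementary p E) : Group.IsNilpotent E := by
  haveI := Fact.mk hp
  obtain ⟨x, hx, -, k, hk⟩ := h
  apply Group.of_quotient_center_nilpotent
  have hdvd : (Subgroup.center E).index ∣ p ^ k :=
    hk ▸ Subgroup.index_dvd_of_le (Subgroup.zpowers_le.mpr hx)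
  obtain ⟨j, -, hj⟩ := (Nat.dvd_prime_pow hp).mp hdvd
  exact (IsPGroup.of_card (p := p) (n := j) hj).isNilpotent

theorem isElementary_of_injective {p : ℕ} (hp : p.Prime) {A : Type u} {B : Type v} [Group A]
    [Group B] [Finite B] (f : A →* B) (hf : Function.Injective f) (h : ∃ x : B,
      x ∈ Subgroup.center B ∧ Nat.Coprime (orderOf x) p ∧
      ∃ k : ℕ, (Subgroup.zpowers x).index = p ^ k) : Cfsg.IsElementary p A := by
  obtain ⟨x, hx, hc, k, hk⟩ := h
  haveI : (Subgroup.zpowers x).Normal := ⟨fun y hy g => by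
    obtain ⟨j, rfl⟩ := Subgroup.mem_zpowers_iff.mp hy
    rw [Subgroup.mem_center_iff.mp (zpow_mem hx j) g, mul_inv_cancel_right]
    exact zpow_mem (Subgroup.mem_zpowers _) j⟩
  set C := (Subgroup.zpowers x).comap f
  let ι : C →* Subgroup.zpowers x := (f.comp C.subtype).codRestrict _ fun y => y.2
  have hι : Function.Injective ι := fun a b e => Subtype.ext (hf (congrArg Subtype.val e))
  haveI : IsCyclic C := isCyclic_of_injective ι hι
  obtain ⟨y, hy⟩ := IsCyclic.exists_generator (α := C)
  have hyC : Subgroup.zpowers (y : A) = C :=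
    le_antisymm (Subgroup.zpowers_le.mpr y.2) fun z hz => by
      obtain ⟨j, hj⟩ := Subgroup.mem_zpowers_iff.mp (hy ⟨z, hz⟩)
      exact Subgroup.mem_zpowers_iff.mpr ⟨j, congrArg Subtype.val hj⟩
  refine ⟨y, Subgroup.mem_center_iff.mpr fun z => ?_, ?_, ?_⟩
  · apply hf
    rw [map_mul, map_mul]
    obtain ⟨j, hj⟩ := Subgroup.mem_zpowers_iff.mp (Subgroup.mem_comap.mp y.2)
    rw [← hj]
    exact Subgroup.mem_center_iff.mp (zpow_mem hx j) _
  · rw [← orderOf_injective f hf]
    exact hc.coprime_dvd_left (orderOf_dvd_of_mem_zpowers (Subgroup.mem_comap.mp y.2))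
  · have hdvd : (Subgroup.zpowers (y : A)).index ∣ p ^ k := by
      rw [hyC, Subgroup.index_comap, ← hk]
      exact Subgroup.relIndex_dvd_index_of_normal _ _
    obtain ⟨j, -, hj⟩ := (Nat.dvd_prime_pow hp).mp hdvd
    exact ⟨j, hj⟩

/-- The functions induced from linear characters of elementary subgroups span all characters. -/
theorem character_mem_linearSpan {χ : G → ℂ} (hχ : Cfsg.IsCharacter G χ) :
    χ ∈ AddSubgroup.closure {f : G → ℂ | ∃ (p : ℕ) (E : Subgroup G) (lam : E →* ℂˣ),
      p.Prime ∧ Cfsg.IsElementary p E ∧ f = Cfsg.indFun E (fun e => (lam e : ℂ))} := by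
  classical
  set S := AddSubgroup.closure {f : G → ℂ | ∃ (p : ℕ) (E : Subgroup G) (lam : E →* ℂˣ),
      p.Prime ∧ Cfsg.IsElementary p E ∧ f = Cfsg.indFun E (fun e => (lam e : ℂ))}
  have hgen : ∀ (p : ℕ) (E : Subgroup G) (φ : E → ℂ), p.Prime → Cfsg.IsElementary p E →
      Cfsg.IsCharacter E φ → Cfsg.indFun E φ ∈ S := by
    intro p E φ hp hE hφ
    haveI : Fintype E := Fintype.ofFinite E
    haveI := isNilpotent_of_elementary hp hE
    obtain ⟨m, rfl⟩ := IsCharacter.exists_decomp hφ
    rw [indFun_sum]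
    refine S.sum_mem fun ψ _ => ?_
    rw [Nat.cast_smul_eq_nsmul, ← Nat.cast_smul_eq_nsmul ℂ, indFun_smul, Nat.cast_smul_eq_nsmul]
    refine S.nsmul_mem ?_ _
    obtain ⟨H, lam, hlam⟩ := exists_monomial_of_nilpotent _ E rfl _ ψ.2
    let e := H.equivMapOfInjective E.subtype E.subtype_injective
    refine AddSubgroup.subset_closure ⟨p, H.map E.subtype, lam.comp e.symm.toMonoidHom, hp,
      isElementary_of_injective hp (Subgroup.inclusion (Subgroup.map_subtype_le H))
        (Subgroup.inclusion_injective _) hE, ?_⟩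
    rw [hlam]
    exact indFun_map E H _ _ fun u => congrArg (fun y => (lam y : ℂ)) (e.symm_apply_apply u)
  have key : ∀ f ∈ brauerSpan G, χ * f ∈ S := fun f hf => by
    refine brauerSpan_induction (P := fun f => χ * f ∈ S)
      (fun p E φ hp hE hφ => ?_) ?_ (fun f g hf hg => ?_) (fun f hf => ?_) hf
    · rw [mul_indFun E (IsCharacter.isClassFunction hχ) φ]
      exact hgen p E _ hp hE (IsCharacter.mul (IsCharacter.restrict hχ E) hφ)
    · rw [mul_zero]; exact S.zero_mem
    · rw [mul_add]; exact S.add_mem hf hg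
    · rw [mul_neg]; exact S.neg_mem hf
  have := key _ one_mem_brauerSpan
  rwa [show χ * (fun _ : G => (1 : ℂ)) = χ from funext fun x => mul_one _] at this

/-- From the closure to a list of terms. -/
theorem exists_list_of_mem_closure {ι : Type v} (F : ι → G → ℂ) (P : ι → Prop) {f : G → ℂ}
    (hf : f ∈ AddSubgroup.closure {f | ∃ i, P i ∧ f = F i}) :
    ∃ l : List (ι × ℤ), (∀ t ∈ l, P t.1) ∧ f = (l.map fun t => (t.2 : ℂ) • F t.1).sum := by
  induction hf using AddSubgroup.closure_induction with
  | mem y hy =>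
    obtain ⟨i, hi, rfl⟩ := hy
    exact ⟨[(i, 1)], by simpa using hi, by simp⟩
  | zero => exact ⟨[], by simp, by simp⟩
  | add y z _ _ hy hz =>
    obtain ⟨l, hl, rfl⟩ := hy
    obtain ⟨l', hl', rfl⟩ := hz
    exact ⟨l ++ l', fun t ht => (List.mem_append.mp ht).elim (hl t) (hl' t), by simp⟩
  | neg y _ hy =>
    obtain ⟨l, hl, rfl⟩ := hy
    refine ⟨l.map fun t => (t.1, -t.2), fun t ht => ?_, ?_⟩
    · obtain ⟨s, hs, rfl⟩ := List.mem_map.mp ht
      exact hl s hs
    · rw [List.map_map, List.sum_neg, List.map_map]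
      congr 1
      refine List.map_congr_left fun t _ => ?_
      simp

end Cfsg.Agent.Char
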