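/-
Finite groups with at most two irreducible character degrees.
-/
import Cfsg.Agent.Lib.Char.Clifford
import Cfsg.Agent.Lib.Char.Complete
import Cfsg.Agent.Lib.Char.Degree
import Cfsg.Agent.Lib.Char.Monomial
import Cfsg.Agent.Lib.Char.ThompsonComplement
import Cfsg.Agent.Lib.Char.ChiefRestrict
import Cfsg.Agent.Lib.Char.ItoPSolvable
import Cfsg.Agent.Lib.Char.DegreeCenter
import Cfsg.Agent.Lib.Blocks.Center
import Cfsg.Agent.Lib.Blocks.Degree
import Cfsg.Agent.Lib.Blocks.Covering

set_option linter.unusedSectionVars false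
set_option linter.style.haveILetI false

namespace Cfsg.Agent.TwoDegrees

open Cfsg Cfsg.Agent.Char Cfsg.Agent.Blocks

open scoped ComplexConjugate commutatorElement Pointwise

universe u v

variable {G : Type u} [Group G] [Fintype G]

/-- Every irreducible degree is one or `m`. -/
def CD (G : Type u) [Group G] (m : ℕ) : Prop :=
  ∀ χ : IrrCharacter G, charDegree (χ : G → ℂ) = 1 ∨ charDegree (χ : G → ℂ) = m

theorem deg_eq {χ : IrrCharacter G} {d : ℕ} (h : (χ : G → ℂ) 1 = d) :
    charDegree (χ : G → ℂ) = d := by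
  rw [irr_one_eq_charDegree] at h
  exact_mod_cast h

/-- A linear character is trivial on commutators. -/
theorem linear_eq_one_of_mem {χ : IrrCharacter G} (h : charDegree (χ : G → ℂ) = 1) {c : G}
    (hc : c ∈ commutator G) : (χ : G → ℂ) c = 1 := by
  obtain ⟨f, hf⟩ := exists_hom_of_degree_one (irr_isCharacter χ)
    (by rw [irr_one_eq_charDegree, h, Nat.cast_one])
  rw [hf]
  show ((f c : ℂˣ) : ℂ) = 1
  rw [MonoidHom.mem_ker.1 (Abelianization.commutator_subset_ker f hc), Units.val_one]

/-- An element in the kernel of every irreducible character is trivial. -/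
theorem eq_one_of_forall {c : G} (h : ∀ χ : IrrCharacter G, (χ : G → ℂ) c = (χ : G → ℂ) 1) :
    c = 1 := by
  by_contra hne
  have h0 : ∑ χ : IrrCharacter G, (χ : G → ℂ) c * conj ((χ : G → ℂ) 1) = 0 :=
    column_orth_of_not_isConj (fun h => hne (isConj_one_left.mp h))
  simp only [h, irr_one_eq_charDegree, map_natCast, ← Nat.cast_mul, ← Nat.cast_sum,
    Nat.cast_eq_zero, Finset.sum_eq_zero_iff, Finset.mem_univ, true_implies, mul_self_eq_zero]
    at h0
  exact (charDegree_pos (principal G)).ne' (h0 _)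

/-- A subgroup whose index is the non-linear degree contains the derived subgroup. -/
theorem comm_le_of_index {m : ℕ} (hcd : CD G m) (hm : m ≠ 1) (A : Subgroup G)
    (hA : A.index = m) : commutator G ≤ A := by
  classical
  intro c hc
  haveI : Fintype A := Fintype.ofFinite _
  have hi : IsCharacter G (indFun A (fun _ : A => (1 : ℂ))) :=
    isCharacter_indFun A isCharacter_one
  have h1 : indFun A (fun _ : A => (1 : ℂ)) 1 = (m : ℂ) := by
    rw [indFun_one_apply, hA, mul_one]
  have hlin : ∀ χ : IrrCharacter G,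
      classInner (indFun A (fun _ : A => (1 : ℂ))) (χ : G → ℂ) ≠ 0 →
      charDegree (χ : G → ℂ) = 1 := by
    intro χ hne
    refine (hcd χ).resolve_right fun hd => ?_
    have heq := eq_of_constituent_degree hi χ.2 hne (by rw [h1, irr_one_eq_charDegree, hd])
    have h2 : classInner (indFun A (fun _ : A => (1 : ℂ))) (principal G : G → ℂ) = 1 := by
      rw [classInner_indFun_left A _
        (IsCharacter.isClassFunction (irr_isCharacter (principal G)))]
      exact classInner_self_irr (isIrrCharacter_one (G := A))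
    rw [heq, classInner_irr χ.2 (principal G).2] at h2
    split_ifs at h2 with e
    · refine hm ?_
      rw [← hd, e]
      exact deg_eq (by simp [principal])
    · exact zero_ne_one h2
  have hval : indFun A (fun _ : A => (1 : ℂ)) c = indFun A (fun _ : A => (1 : ℂ)) 1 := by
    have e := IsCharacter.eq_sum hi
    rw [congrFun e c, congrFun e 1, Finset.sum_apply, Finset.sum_apply]
    refine Finset.sum_congr rfl fun χ _ => ?_
    simp only [Pi.smul_apply, smul_eq_mul]
    by_cases h : classInner (indFun A (fun _ : A => (1 : ℂ))) (χ : G → ℂ) = 0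
    · rw [h, zero_mul, zero_mul]
    · rw [linear_eq_one_of_mem (hlin χ h) hc, irr_one_eq_charDegree, hlin χ h, Nat.cast_one]
  by_contra hcA
  rw [indFun_one_apply, indFun, mul_one, inv_mul_eq_iff_eq_mul₀
    (Nat.cast_ne_zero.2 Nat.card_pos.ne'), ← Nat.cast_mul, A.card_mul_index] at hval
  have hterm : ∀ x : G, extendByZero A (fun _ : A => (1 : ℂ)) (x⁻¹ * c * x) =
      if x⁻¹ * c * x ∈ A then 1 else 0 := fun x => by
    split_ifs with h
    · exact extendByZero_mem A _ h
    · exact extendByZero_not_mem A _ h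
  rw [Finset.sum_congr rfl fun x _ => hterm x, Finset.sum_boole, Nat.cast_inj] at hval
  have := Finset.filter_card_eq (s := (Finset.univ : Finset G))
    (p := fun x => x⁻¹ * c * x ∈ A)
    (by rw [hval, Finset.card_univ, Nat.card_eq_fintype_card]) 1 (Finset.mem_univ _)
  simp only [inv_one, one_mul, mul_one] at this
  exact hcA this

theorem normal_of_commutator_le {T : Subgroup G} (h : commutator G ≤ T) : T.Normal :=
  ⟨fun t ht g => by
    have h1 : ⁅g, t⁆ ∈ T :=
      h (Subgroup.commutator_mem_commutator (Subgroup.mem_top g) (Subgroup.mem_top t))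
    have h2 := mul_mem h1 ht
    rwa [commutatorElement_def, inv_mul_cancel_right] at h2⟩

/-- Taketa's argument for two degrees. -/
theorem commute_commutator [Group.IsNilpotent G] {m : ℕ} (hcd : CD G m) (hm : m ≠ 1) :
    ∀ a ∈ commutator G, ∀ b ∈ commutator G, a * b = b * a := by
  classical
  intro a ha b hb
  refine commutatorElement_eq_one_iff_mul_comm.1 (eq_one_of_forall fun χ => ?_)
  have hcomm : ⁅a, b⁆ ∈ commutator G :=
    Subgroup.commutator_mem_commutator (Subgroup.mem_top a) (Subgroup.mem_top b)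
  rcases hcd χ with hd | hd
  · rw [linear_eq_one_of_mem hd hcomm, irr_one_eq_charDegree, hd, Nat.cast_one]
  obtain ⟨K, lam, hχ⟩ := exists_monomial_of_nilpotent (Nat.card G) G rfl (χ : G → ℂ) χ.2
  have hidx : K.index = m := by
    have h1 := congrFun hχ 1
    rw [indFun_one_apply, irr_one_eq_charDegree, hd, map_one, Units.val_one, mul_one] at h1
    exact_mod_cast h1.symm
  have hle := comm_le_of_index hcd hm K hidx
  have hN : (commutator G).Normal := inferInstance
  have hterm : ∀ x : G, extendByZero K (fun h => (lam h : ℂ)) (x⁻¹ * ⁅a, b⁆ * x) = 1 := by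
    intro x
    have ha' : x⁻¹ * a * x ∈ K := hle (by simpa using hN.conj_mem a ha x⁻¹)
    have hb' : x⁻¹ * b * x ∈ K := hle (by simpa using hN.conj_mem b hb x⁻¹)
    have e : x⁻¹ * ⁅a, b⁆ * x = ((⁅(⟨_, ha'⟩ : K), ⟨_, hb'⟩⁆ : K) : G) := by
      simp only [commutatorElement_def, Subgroup.coe_mul, Subgroup.coe_inv]
      group
    rw [e, extendByZero_mem K _ (SetLike.coe_mem _)]
    show ((lam ⟨((⁅(⟨_, ha'⟩ : K), ⟨_, hb'⟩⁆ : K) : G), _⟩ : ℂˣ) : ℂ) = 1
    rw [show (⟨((⁅(⟨_, ha'⟩ : K), ⟨_, hb'⟩⁆ : K) : G), SetLike.coe_mem _⟩ : K) =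
      ⁅(⟨_, ha'⟩ : K), ⟨_, hb'⟩⁆ from Subtype.coe_eta _ _, map_commutatorElement,
      commutatorElement_eq_one_iff_mul_comm.2 (mul_comm _ _), Units.val_one]
  rw [hχ, indFun_one_apply, indFun, Finset.sum_congr rfl fun x _ => hterm x, Finset.sum_const,
    Finset.card_univ, nsmul_eq_mul, map_one, Units.val_one, mul_one, mul_one,
    ← Nat.card_eq_fintype_card, ← K.card_mul_index, Nat.cast_mul,
    inv_mul_cancel_left₀ (Nat.cast_ne_zero.2 Nat.card_pos.ne')]

/-- Degrees of a homomorphic image. -/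
theorem CD.comp {H : Type v} [Group H] [Fintype H] {m : ℕ} (hcd : CD G m) (r : G →* H)
    (hr : Function.Surjective r) : CD H m := by
  intro χ
  have h := hcd ⟨_, IsIrrCharacter.comp χ.2 r hr⟩
  simpa [charDegree] using h

theorem CD.quot {m : ℕ} (hcd : CD G m) (N : Subgroup G) [N.Normal] [Fintype (G ⧸ N)] :
    CD (G ⧸ N) m :=
  hcd.comp (QuotientGroup.mk' N) (QuotientGroup.mk'_surjective N)

/-- In a non-abelian group with degrees in `{1, m}` the degree `m` occurs. -/
theorem exists_degree {m : ℕ} (hcd : CD G m) (hna : ∃ a b : G, a * b ≠ b * a) :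
    ∃ χ : IrrCharacter G, charDegree (χ : G → ℂ) = m := by
  obtain ⟨a, b, hab⟩ := hna
  by_contra hcon
  push Not at hcon
  refine hab (commute_of_all_linear (fun χ => ?_) a b)
  rw [irr_one_eq_charDegree, (hcd χ).resolve_right (hcon χ), Nat.cast_one]

/-! ## A normal abelian Hall subgroup with a complement -/

/-- Thompson's complements, combined. -/
theorem exists_hall {m : ℕ} (hcd : CD G m) (hm : 1 < m) :
    ∃ N : Subgroup G, N.Normal ∧ (∀ a ∈ N, ∀ b ∈ N, a * b = b * a) ∧
      (Nat.card N).Coprime N.index ∧ (∀ s : ℕ, s.Prime → s ∣ N.index → s ∣ m) ∧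
      ((∀ p : ℕ, p.Prime → ∀ k, m ≠ p ^ k) → commutator G ≤ N) := by
  classical
  have hK : ∀ p : {p // p ∈ m.primeFactors}, ∃ K : Subgroup G, K.Normal ∧
      (Nat.card K).Coprime p ∧ ∃ k : ℕ, K.index = (p : ℕ) ^ k := fun p => by
    obtain ⟨hp, hpm, -⟩ := Nat.mem_primeFactors.1 p.2
    refine Cfsg.Agent.Char.TC.exists_complement hp fun χ hχ d hd => ?_
    have hdd : charDegree ((⟨χ, hχ⟩ : IrrCharacter G) : G → ℂ) = d := deg_eq hd
    rcases hcd ⟨χ, hχ⟩ with h | h <;> rw [hdd] at h
    · exact Or.inl h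
    · exact Or.inr (h ▸ hpm)
  choose K hKn hKc hKi using hK
  set N : Subgroup G := ⨅ p, K p with hN
  have hNn : N.Normal := Subgroup.normal_iInf_normal hKn
  haveI := hNn
  have hcop : (Nat.card N).Coprime m := by
    refine Nat.coprime_of_dvd fun s hs h1 h2 => ?_
    have hsm : s ∈ m.primeFactors := Nat.mem_primeFactors.2 ⟨hs, h2, by omega⟩
    have hle : N ≤ K ⟨s, hsm⟩ := iInf_le K _
    exact hs.ne_one (Nat.eq_one_of_dvd_coprimes (hKc ⟨s, hsm⟩)
      (h1.trans (Subgroup.card_dvd_of_le hle)) dvd_rfl)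
  have hidx : ∀ s : ℕ, s.Prime → s ∣ N.index → s ∣ m := by
    intro s hs hsd
    by_contra hsm
    haveI := Fact.mk hs
    obtain ⟨S⟩ : Nonempty (Sylow s G) := inferInstance
    refine S.not_dvd_index (hsd.trans (Subgroup.index_dvd_of_le ?_))
    intro x hx
    rw [hN, Subgroup.mem_iInf]
    intro p
    haveI := hKn p
    obtain ⟨k, hk⟩ := hKi p
    obtain ⟨hp, hpm, -⟩ := Nat.mem_primeFactors.1 p.2
    obtain ⟨i, hi⟩ := (IsPGroup.iff_orderOf).1 S.2 ⟨x, hx⟩
    rw [Subgroup.orderOf_mk] at hi
    have h1 : orderOf (x : G ⧸ K p) ∣ s ^ i := hi ▸ orderOf_map_dvd (QuotientGroup.mk' (K p)) x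
    have h2 : orderOf (x : G ⧸ K p) ∣ (p : ℕ) ^ k := hk ▸ (K p).index_eq_card ▸ orderOf_dvd_natCard _
    have h3 : Nat.Coprime (s ^ i) ((p : ℕ) ^ k) :=
      (((Nat.coprime_primes hs hp).2 fun e => hsm (e ▸ hpm)).pow i k)
    exact (QuotientGroup.eq_one_iff x).1
      (orderOf_eq_one_iff.1 (Nat.eq_one_of_dvd_coprimes h3 h1 h2))
  refine ⟨N, hNn, ?_, ?_, hidx, ?_⟩
  · intro a ha b hb
    haveI : Fintype N := Fintype.ofFinite _
    have := commute_of_all_linear (H := N) (fun θ => ?_) ⟨a, ha⟩ ⟨b, hb⟩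
    · exact congrArg Subtype.val this
    have hθN := charDegree_dvd_card θ
    obtain ⟨χ, hχ⟩ : ∃ χ : IrrCharacter G,
        classInner (fun n : N => (χ : G → ℂ) n) (θ : N → ℂ) ≠ 0 := exists_over N θ
    have hd := clifford_degree N χ.2 θ.2 hχ
    obtain ⟨e, he⟩ := IsCharacter.exists_classInner_nat
      (IsCharacter.restrict (irr_isCharacter χ) N) (irr_isCharacter θ)
    rw [he, irr_one_eq_charDegree, irr_one_eq_charDegree, ← Nat.cast_mul, ← Nat.cast_mul,
      Nat.cast_inj] at hd
    have hdvd : charDegree (θ : N → ℂ) ∣ m := by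
      rcases hcd χ with h | h
      · exact (h ▸ hd ▸ dvd_mul_left _ _ : charDegree (θ : N → ℂ) ∣ 1).trans (one_dvd m)
      · exact h ▸ hd ▸ dvd_mul_left _ _
    rw [irr_one_eq_charDegree, Nat.eq_one_of_dvd_coprimes hcop hθN hdvd, Nat.cast_one]
  · refine Nat.coprime_of_dvd fun s hs h1 h2 => ?_
    exact hs.ne_one (Nat.eq_one_of_dvd_coprimes hcop h1 (hidx s hs h2))
  · intro hnpp c hc
    rw [hN, Subgroup.mem_iInf]
    intro p
    haveI := hKn p
    haveI : Fintype (G ⧸ K p) := Fintype.ofFinite _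
    obtain ⟨k, hk⟩ := hKi p
    obtain ⟨hp, hpm, -⟩ := Nat.mem_primeFactors.1 p.2
    have hab : ∀ a b : G ⧸ K p, a * b = b * a := commute_of_all_linear fun χ => by
      rw [irr_one_eq_charDegree]
      rcases hcd.quot (K p) χ with h | h
      · rw [h, Nat.cast_one]
      · have := charDegree_dvd_card χ
        rw [h, ← Subgroup.index_eq_card, hk] at this
        obtain ⟨j, -, hj⟩ := (Nat.dvd_prime_pow hp).1 this
        exact absurd hj (hnpp _ hp j)
    letI : CommGroup (G ⧸ K p) := { (inferInstance : Group (G ⧸ K p)) with mul_comm := hab }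
    have h1 := Abelianization.commutator_subset_ker (QuotientGroup.mk' (K p)) hc
    rwa [QuotientGroup.ker_mk'] at h1

/-! ## The action on the linear characters -/

section Act

variable (N : Subgroup G) [N.Normal]

/-- The action on linear characters of a normal subgroup. -/
def act (l : N →* ℂˣ) (g : G) : N →* ℂˣ := l.comp (conjHom N g)

theorem act_apply (l : N →* ℂˣ) (g : G) (n : N) : act N l g n = l (conjHom N g n) := rfl

theorem act_mul (l : N →* ℂˣ) (g k : G) : act N (act N l g) k = act N l (g * k) :=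
  MonoidHom.ext fun n => (congrArg l (conjHom_mul N g k n)).symm

theorem act_one (l : N →* ℂˣ) : act N l 1 = l :=
  MonoidHom.ext fun n => congrArg l (conjHom_one N n)

theorem act_hom_mul (l l' : N →* ℂˣ) (g : G) : act N (l * l') g = act N l g * act N l' g := rfl

theorem act_hom_inv (l : N →* ℂˣ) (g : G) : act N l⁻¹ g = (act N l g)⁻¹ := rfl

theorem act_hom_pow (l : N →* ℂˣ) (k : ℕ) (g : G) : act N (l ^ k) g = act N l g ^ k :=
  MonoidHom.ext fun n => by rw [act_apply, MonoidHom.pow_apply, MonoidHom.pow_apply, act_apply]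

/-- The stabilizer of a linear character. -/
def stab (l : N →* ℂˣ) : Subgroup G := inertia N (fun n => ((l n : ℂˣ) : ℂ))

theorem mem_stab {l : N →* ℂˣ} {g : G} : g ∈ stab N l ↔ act N l g = l := by
  rw [stab, mem_inertia_iff]
  exact ⟨fun h => MonoidHom.ext fun n => Units.ext (h n),
    fun h n => congrArg Units.val (DFunLike.congr_fun h n)⟩

theorem le_stab (l : N →* ℂˣ) : N ≤ stab N l :=
  le_inertia N (IsCharacter.isClassFunction (IsIrrCharacter.isCharacter (isIrrCharacter_linear l)))

/-- A linear character lies below some irreducible character, whose degree it then divides. -/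
theorem stab_index_dvd (l : N →* ℂˣ) :
    ∃ χ : IrrCharacter G, (stab N l).index ∣ charDegree (χ : G → ℂ) := by
  classical
  haveI : Fintype N := Fintype.ofFinite _
  obtain ⟨χ, hχ⟩ := exists_over N (⟨_, isIrrCharacter_linear l⟩ : IrrCharacter N)
  have hd := clifford_degree N χ.2 (isIrrCharacter_linear l) hχ
  obtain ⟨e, he⟩ := IsCharacter.exists_classInner_nat (IsCharacter.restrict (irr_isCharacter χ) N)
    (IsIrrCharacter.isCharacter (isIrrCharacter_linear l))
  simp only [he, map_one, Units.val_one, mul_one, irr_one_eq_charDegree] at hd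
  exact ⟨χ, ⟨e, by rw [mul_comm]; exact_mod_cast hd⟩⟩

theorem stab_index {m : ℕ} (hcd : CD G m) (hmp : m.Prime) {l : N →* ℂˣ} (h : stab N l ≠ ⊤) :
    (stab N l).index = m := by
  obtain ⟨χ, hχ⟩ := stab_index_dvd N l
  rcases hcd χ with e | e <;> rw [e] at hχ
  · exact absurd (Subgroup.index_eq_one.1 (Nat.dvd_one.1 hχ)) h
  · exact (hmp.eq_one_or_self_of_dvd _ hχ).resolve_left fun e' => h (Subgroup.index_eq_one.1 e')

/-- The linear characters separate the elements of an abelian subgroup. -/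
theorem separate (hab : ∀ a ∈ N, ∀ b ∈ N, a * b = b * a) {x y : N}
    (h : ∀ l : N →* ℂˣ, l x = l y) : x = y := by
  letI : CommGroup N := { (inferInstance : Group N) with
    mul_comm := fun a b => Subtype.ext (hab _ a.2 _ b.2) }
  by_contra hne
  haveI : NeZero (Monoid.exponent N : ℂ) :=
    ⟨Nat.cast_ne_zero.mpr Monoid.exponent_ne_zero_of_finite⟩
  obtain ⟨φ, hφ⟩ := CommGroup.exists_apply_ne_one_of_hasEnoughRootsOfUnity N ℂ
    (a := x * y⁻¹) (fun e => hne (mul_inv_eq_one.1 e))
  exact hφ (by rw [map_mul, map_inv, h φ, mul_inv_cancel])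

theorem commute_of_fix (hab : ∀ a ∈ N, ∀ b ∈ N, a * b = b * a) {g : G}
    (h : ∀ l : N →* ℂˣ, act N l g = l) {n : G} (hn : n ∈ N) : g * n = n * g := by
  have := congrArg Subtype.val (separate N hab (x := conjHom N g ⟨n, hn⟩) (y := ⟨n, hn⟩)
    fun l => DFunLike.congr_fun (h l) ⟨n, hn⟩)
  simp only [conjHom_coe] at this
  rwa [mul_inv_eq_iff_eq_mul] at this

theorem act_mem (hab : ∀ a ∈ N, ∀ b ∈ N, a * b = b * a) (l : N →* ℂˣ) {n : G} (hn : n ∈ N) :
    act N l n = l :=
  MonoidHom.ext fun k => congrArg l (Subtype.ext (by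
    rw [conjHom_coe, hab n hn k k.2, mul_inv_cancel_right]))

end Act

/-! ## The projection onto a complement -/

section Complement

variable {N H : Subgroup G} [N.Normal] (hc : H.IsComplement' N)
include hc

/-- The projection onto the complement. -/
noncomputable def proj : G →* H :=
  hc.QuotientMulEquiv.toMonoidHom.comp (QuotientGroup.mk' N)

theorem proj_coe (x : H) : proj hc (x : G) = x := hc.QuotientMulEquiv.apply_symm_apply x

theorem proj_surjective : Function.Surjective (proj hc) := fun x => ⟨x, proj_coe hc x⟩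

theorem mem_of_proj_one {g : G} (h : proj hc g = 1) : g ∈ N := by
  rw [← QuotientGroup.eq_one_iff g]
  apply hc.QuotientMulEquiv.injective
  rw [map_one]
  exact h

theorem proj_eq_one {g : G} (h : g ∈ N) : proj hc g = 1 := by
  show hc.QuotientMulEquiv (QuotientGroup.mk' N g) = 1
  rw [show QuotientGroup.mk' N g = 1 from (QuotientGroup.eq_one_iff _).2 h, map_one]

theorem decomp (g : G) : g * ((proj hc g : H) : G)⁻¹ ∈ N :=
  mem_of_proj_one hc (by rw [map_mul, map_inv, proj_coe, mul_inv_cancel])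

theorem proj_mem {T : Subgroup G} (hNT : N ≤ T) {t : G} (ht : t ∈ T) :
    ((proj hc t : H) : G) ∈ T := by
  have := mul_mem (inv_mem (hNT (decomp hc t))) ht
  simpa using this

/-- A linear character extends to its stabilizer. -/
noncomputable def extend (l : N →* ℂˣ) : stab N l →* ℂˣ where
  toFun t := l ⟨(t : G) * ((proj hc t : H) : G)⁻¹, decomp hc t⟩
  map_one' := by
    rw [show (⟨((1 : stab N l) : G) * ((proj hc ((1 : stab N l) : G) : H) : G)⁻¹,
      decomp hc _⟩ : N) = 1 from Subtype.ext (by simp), map_one]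
  map_mul' t s := by
    have hfix : act N l ((proj hc (t : G) : H) : G) = l :=
      (mem_stab N).1 (proj_mem hc (le_stab N l) t.2)
    rw [show (⟨((t * s : stab N l) : G) * ((proj hc ((t * s : stab N l) : G) : H) : G)⁻¹,
      decomp hc _⟩ : N) = ⟨(t : G) * ((proj hc t : H) : G)⁻¹, decomp hc t⟩ *
        conjHom N ((proj hc (t : G) : H) : G) ⟨(s : G) * ((proj hc s : H) : G)⁻¹, decomp hc s⟩
      from Subtype.ext (by simp [mul_assoc]), map_mul]
    congr 1
    exact DFunLike.congr_fun hfix _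

theorem extend_apply_mem (l : N →* ℂˣ) (n : N) :
    extend hc l ⟨n, le_stab N l n.2⟩ = l n := by
  refine congrArg l (Subtype.ext ?_)
  show (n : G) * ((proj hc (n : G) : H) : G)⁻¹ = n
  rw [proj_eq_one hc n.2, OneMemClass.coe_one, inv_one, mul_one]

/-- A moved linear character has stabilizer of index `m` with abelian complement part. -/
theorem orbit_data {m : ℕ} (hcd : CD G m) {l : N →* ℂˣ} (hl : stab N l ≠ ⊤) :
    (stab N l).index = m ∧ ∀ a ∈ stab N l ⊓ H, ∀ b ∈ stab N l ⊓ H, a * b = b * a := by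
  classical
  haveI : Fintype N := Fintype.ofFinite _
  haveI : Fintype (stab N l) := Fintype.ofFinite _
  haveI : Fintype (stab N l ⊓ H : Subgroup G) := Fintype.ofFinite _
  set S := stab N l ⊓ H with hS
  let rT : stab N l →* S :=
    { toFun := fun t => ⟨(proj hc (t : G) : H),
        Subgroup.mem_inf.2 ⟨proj_mem hc (le_stab N l) t.2, SetLike.coe_mem _⟩⟩
      map_one' := Subtype.ext (by simp)
      map_mul' := fun t s => Subtype.ext (by simp) }
  have hrT : Function.Surjective rT := fun x => by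
    refine ⟨⟨(x : G), (Subgroup.mem_inf.1 x.2).1⟩, Subtype.ext ?_⟩
    show ((proj hc ((⟨(x : G), (Subgroup.mem_inf.1 x.2).2⟩ : H) : G) : H) : G) = x
    rw [proj_coe]
  have key : ∀ ψ : IrrCharacter S,
      (stab N l).index * charDegree (ψ : S → ℂ) = 1 ∨
      (stab N l).index * charDegree (ψ : S → ℂ) = m := by
    intro ψ
    have hir := ChiefRestrict.isIrr_mul_linear (IsIrrCharacter.comp ψ.2 rT hrT) (extend hc l)
    have hres : ∀ n : N, ((extend hc l ⟨n, le_stab N l n.2⟩ : ℂˣ) : ℂ) *
        (ψ : S → ℂ) (rT ⟨n, le_stab N l n.2⟩) = (charDegree (ψ : S → ℂ) : ℂ) * (l n : ℂ) := by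
      intro n
      rw [extend_apply_mem, show rT ⟨n, le_stab N l n.2⟩ = 1 from Subtype.ext (by
        show ((proj hc (n : G) : H) : G) = 1
        rw [proj_eq_one hc n.2, OneMemClass.coe_one]), irr_one_eq_charDegree]
      ring
    obtain ⟨h1, -⟩ := clifford_correspondence N (T := stab N l)
      (θ := fun n : N => ((l n : ℂˣ) : ℂ)) (isIrrCharacter_linear l) rfl (le_stab N l) hir (by
        rw [show (fun n : N => (fun t : stab N l => ((extend hc l t : ℂˣ) : ℂ) * (ψ : S → ℂ) (rT t))
          ⟨n, le_stab N l n.2⟩) = (charDegree (ψ : S → ℂ) : ℂ) • fun n : N => ((l n : ℂˣ) : ℂ)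
          from funext hres, classInner_smul_left, classInner_self_irr (isIrrCharacter_linear l),
          mul_one]
        exact Nat.cast_ne_zero.2 (charDegree_pos ψ).ne')
    have hval : indFun (stab N l) (fun t : stab N l => ((extend hc l t : ℂˣ) : ℂ) *
        (ψ : S → ℂ) (rT t)) 1 = (((stab N l).index * charDegree (ψ : S → ℂ) : ℕ) : ℂ) := by
      rw [indFun_one_apply, map_one, map_one, Units.val_one, one_mul, irr_one_eq_charDegree,
        Nat.cast_mul]
    have hd := deg_eq (χ := ⟨_, h1⟩) hval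
    exact (hcd ⟨_, h1⟩).imp (fun e => hd.symm.trans e) (fun e => hd.symm.trans e)
  have hi1 : (stab N l).index ≠ 1 := fun e => hl (Subgroup.index_eq_one.1 e)
  have hidx : (stab N l).index = m := by
    have h := key (principal S)
    rw [show charDegree (principal S : S → ℂ) = 1 from deg_eq (by simp [principal]), mul_one] at h
    exact h.resolve_left hi1
  refine ⟨hidx, fun a ha b hb => ?_⟩
  have := commute_of_all_linear (H := S) (fun ψ => ?_) ⟨a, ha⟩ ⟨b, hb⟩
  · exact congrArg Subtype.val this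
  rcases key ψ with h | h
  · rw [irr_one_eq_charDegree, Nat.eq_one_of_mul_eq_one_left h, Nat.cast_one]
  · have hm0 : 0 < m := hidx ▸ Nat.pos_of_ne_zero Subgroup.index_ne_zero_of_finite
    rw [hidx] at h
    rw [irr_one_eq_charDegree, (Nat.mul_eq_left hm0.ne').1 h, Nat.cast_one]

/-- Either the abelian subgroup is central or there is an abelian subgroup of index `m`. -/
theorem central_or_abelian {m : ℕ} (hcd : CD G m) (hm : m ≠ 1)
    (hab : ∀ a ∈ N, ∀ b ∈ N, a * b = b * a) (hcop : (Nat.card N).Coprime N.index) :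
    (∀ g : G, ∀ n ∈ N, g * n = n * g) ∨
      ∃ A : Subgroup G, A.Normal ∧ (∀ a ∈ A, ∀ b ∈ A, a * b = b * a) ∧ A.index = m := by
  classical
  by_cases hall : ∀ l : N →* ℂˣ, stab N l = ⊤
  · exact Or.inl fun g n hn => commute_of_fix N hab
      (fun l => (mem_stab N).1 (hall l ▸ Subgroup.mem_top g)) hn
  push Not at hall
  obtain ⟨l, hl⟩ := hall
  obtain ⟨hidx, hSab⟩ := orbit_data hc hcd hl
  have hTG : commutator G ≤ stab N l := comm_le_of_index hcd hm _ hidx
  have hTn := normal_of_commutator_le hTG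
  set S := stab N l ⊓ H with hS
  haveI : Fintype S := Fintype.ofFinite _
  -- the norm over the complement part
  let nm : (N →* ℂˣ) → (N →* ℂˣ) := fun μ => ∏ s : S, act N μ (s : G)
  have hnm_mul : ∀ μ ν, nm (μ * ν) = nm μ * nm ν := fun μ ν => by
    simp only [nm, act_hom_mul, Finset.prod_mul_distrib]
  have hnm_one : nm 1 = 1 := Finset.prod_eq_one fun s _ => rfl
  have hnm_pow : ∀ μ (k : ℕ), nm (μ ^ k) = nm μ ^ k := fun μ k => by
    simp only [nm, act_hom_pow, Finset.prod_pow]
  have hprod : ∀ (f : S → (N →* ℂˣ)) (g : G),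
      act N (∏ s, f s) g = ∏ s, act N (f s) g := fun f g => MonoidHom.ext fun n => by
    simp [act_apply]
  have hproj : ∀ (μ : N →* ℂˣ) (x : G), act N μ x = act N μ ((proj hc x : H) : G) := by
    intro μ x
    conv_lhs => rw [← inv_mul_cancel_right x ((proj hc x : H) : G)]
    rw [← act_mul, act_mem N hab μ (decomp hc x)]
  -- conjugation permutes the complement part
  have hperm : ∀ (μ : N →* ℂˣ) (g : G), nm (act N μ g) = act N (nm μ) g := by
    intro μ g
    let σ : S → S := fun s => ⟨(proj hc (g * (s : G) * g⁻¹) : H), Subgroup.mem_inf.2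
      ⟨proj_mem hc (le_stab N l) (hTn.conj_mem _ (Subgroup.mem_inf.1 s.2).1 g),
        SetLike.coe_mem _⟩⟩
    have hσ : Function.Injective σ := by
      intro s s' hss
      have h1 : proj hc (g * (s : G) * g⁻¹) = proj hc (g * (s' : G) * g⁻¹) :=
        Subtype.ext (congrArg (fun z : S => (z : G)) hss)
      simp only [map_mul, map_inv, mul_left_inj, mul_right_inj] at h1
      have h2 : proj hc ((⟨(s : G), (Subgroup.mem_inf.1 s.2).2⟩ : H) : G) =
          proj hc ((⟨(s' : G), (Subgroup.mem_inf.1 s'.2).2⟩ : H) : G) := h1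
      rw [proj_coe, proj_coe] at h2
      exact Subtype.ext (congrArg (fun z : H => (z : G)) h2)
    show (∏ s : S, act N (act N μ g) (s : G)) = act N (∏ s : S, act N μ (s : G)) g
    rw [hprod]
    refine Fintype.prod_equiv (Equiv.ofBijective σ (Finite.injective_iff_bijective.1 hσ)) _ _
      fun s => ?_
    show act N (act N μ g) (s : G) = act N (act N μ ((proj hc (g * (s : G) * g⁻¹) : H) : G)) g
    rw [← hproj, act_mul, act_mul]
    congr 1
    group
  have hfix : ∀ (μ : N →* ℂˣ), ∀ t ∈ stab N l, act N (nm μ) t = nm μ := by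
    intro μ t ht
    have ht' : ((proj hc t : H) : G) ∈ S :=
      Subgroup.mem_inf.2 ⟨proj_mem hc (le_stab N l) ht, SetLike.coe_mem _⟩
    rw [hproj (nm μ) t]
    show act N (∏ s : S, act N μ (s : G)) _ = ∏ s : S, act N μ (s : G)
    rw [hprod]
    exact Fintype.prod_equiv (Equiv.mulRight (⟨_, ht'⟩ : S)) _ _ fun s => act_mul N μ _ _
  have hnm_fixed : ∀ μ, (∀ t ∈ stab N l, act N μ t = μ) → nm μ = μ ^ Nat.card S := by
    intro μ h
    show (∏ s : S, act N μ (s : G)) = _
    rw [Finset.prod_congr rfl fun s _ => h _ (Subgroup.mem_inf.1 s.2).1, Finset.prod_const,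
      Finset.card_univ, Nat.card_eq_fintype_card]
  have hk : (Nat.card N).Coprime (Nat.card S) := by
    refine hcop.coprime_dvd_right ?_
    rw [hc.index_eq_card]
    exact Subgroup.card_dvd_of_le inf_le_right
  have hroot : ∀ μ ν : N →* ℂˣ, μ ^ Nat.card S = ν ^ Nat.card S → μ = ν := by
    intro μ ν h
    refine MonoidHom.ext fun n => ?_
    obtain ⟨x, rfl⟩ := (powCoprime hk).surjective n
    rw [powCoprime_apply, map_pow, map_pow, ← MonoidHom.pow_apply, ← MonoidHom.pow_apply, h]
  -- elements of norm one are fixed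
  have hone : ∀ μ, nm μ = 1 → ∀ t ∈ stab N l, act N μ t = μ := by
    intro μ hμ t ht
    have hle : stab N (l * μ) ≤ stab N l := by
      intro g hg
      rw [mem_stab] at hg ⊢
      have h := congrArg nm hg
      rw [act_hom_mul, hnm_mul, hnm_mul, hperm μ g, hμ,
        hperm l g, hnm_fixed l fun t ht => (mem_stab N).1 ht, act_hom_pow] at h
      rw [show act N (1 : N →* ℂˣ) g = 1 from rfl] at h
      refine hroot _ _ (MonoidHom.ext fun n => ?_)
      have h' := DFunLike.congr_fun h n
      simpa using h'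
    have hne : stab N (l * μ) ≠ ⊤ := fun e => hl (top_le_iff.1 (e ▸ hle))
    have hidx' := (orbit_data hc hcd hne).1
    have heq : stab N (l * μ) = stab N l := by
      refine Subgroup.eq_of_le_of_card_ge hle (le_of_eq ?_)
      have h1 := (stab N l).card_mul_index
      rw [hidx, ← (stab N (l * μ)).card_mul_index, hidx'] at h1
      exact Nat.eq_of_mul_eq_mul_right
        (hidx ▸ Nat.pos_of_ne_zero Subgroup.index_ne_zero_of_finite) h1
    have h3 := (mem_stab N).1 (heq.symm ▸ ht : t ∈ stab N (l * μ))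
    rw [act_hom_mul, (mem_stab N).1 ht] at h3
    exact mul_left_cancel h3
  have hall' : ∀ μ, ∀ t ∈ stab N l, act N μ t = μ := by
    intro μ t ht
    have h1 : nm (μ ^ Nat.card S * (nm μ)⁻¹) = 1 := by
      have hinv : nm (nm μ)⁻¹ * nm (nm μ) = 1 := by
        rw [← hnm_mul]
        exact (congrArg nm (inv_mul_cancel (nm μ))).trans hnm_one
      rw [hnm_mul, hnm_pow, ← hnm_fixed _ (hfix μ)]
      refine MonoidHom.ext fun n => ?_
      have h := DFunLike.congr_fun hinv n
      rw [MonoidHom.mul_apply] at h ⊢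
      rw [mul_comm]
      exact h
    have h2 := hone _ h1 t ht
    rw [act_hom_mul, act_hom_inv, hfix μ t ht, act_hom_pow] at h2
    exact hroot _ _ (mul_right_cancel h2)
  refine Or.inr ⟨stab N l, hTn, ?_, hidx⟩
  intro a ha b hb
  have hcomm : ∀ t ∈ stab N l, ∀ n ∈ N, Commute t n := fun t ht n hn =>
    commute_of_fix N hab (fun μ => hall' μ t ht) hn
  have hda := decomp hc a
  have hdb := decomp hc b
  have hSa : ((proj hc a : H) : G) ∈ S :=
    Subgroup.mem_inf.2 ⟨proj_mem hc (le_stab N l) ha, SetLike.coe_mem _⟩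
  have hSb : ((proj hc b : H) : G) ∈ S :=
    Subgroup.mem_inf.2 ⟨proj_mem hc (le_stab N l) hb, SetLike.coe_mem _⟩
  have h1 : Commute a ((proj hc b : H) : G) := by
    have h3 : Commute (a * ((proj hc a : H) : G)⁻¹) ((proj hc b : H) : G) :=
      (hcomm _ (Subgroup.mem_inf.1 hSb).1 _ hda).symm
    have h4 := h3.mul_left (hSab _ hSa _ hSb : Commute _ _)
    rwa [inv_mul_cancel_right] at h4
  have h2 := (hcomm a ha _ hdb).mul_right h1
  rwa [inv_mul_cancel_right] at h2

end Complement

/-- Groups with two degrees. -/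
theorem structure_two {m : ℕ} (hcd : CD G m) (hm : 1 < m) (hna : ∃ a b : G, a * b ≠ b * a) :
    (∃ A : Subgroup G, A.Normal ∧ (∀ a ∈ A, ∀ b ∈ A, a * b = b * a) ∧ A.index = m) ∨
      ∃ p e : ℕ, p.Prime ∧ m = p ^ e ∧ ∃ P A : Subgroup G, P.Normal ∧ A.Normal ∧
        IsPGroup p P ∧ (∀ a ∈ A, ∀ b ∈ A, a * b = b * a) ∧ P ⊓ A = ⊥ ∧ P ⊔ A = ⊤ ∧
        (∀ g : G, ∀ n ∈ A, g * n = n * g) := by
  classical
  obtain ⟨N, hNn, hab, hcop, hidx, hcomm⟩ := exists_hall hcd hm
  haveI := hNn
  obtain ⟨H, hc⟩ := Subgroup.exists_left_complement'_of_coprime hcop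
  rcases central_or_abelian hc hcd (by omega) hab hcop with hcen | hA
  swap
  · exact Or.inl hA
  right
  have hdis : H ⊓ N = ⊥ := disjoint_iff.1 hc.disjoint
  have hsup : H ⊔ N = ⊤ := hc.sup_eq_top
  have hHab : ¬ ∀ a ∈ H, ∀ b ∈ H, a * b = b * a := by
    intro h
    obtain ⟨a, b, hne⟩ := hna
    apply hne
    have hcm : ∀ x ∈ H ⊔ N, ∀ y ∈ H ⊔ N, x * y = y * x := by
      intro x hx y hy
      rw [← Subgroup.closure_eq H, ← Subgroup.closure_eq N, ← Subgroup.closure_union] at hx hy
      refine Subgroup.closure_induction₂ (p := fun x y _ _ => Commute x y) ?_ ?_ ?_ ?_ ?_ ?_ ?_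
        hx hy
      · rintro x y (hx | hx) (hy | hy)
        · exact h x hx y hy
        · exact hcen x y hy
        · exact (hcen y x hx).symm
        · exact hab x hx y hy
      · exact fun x _ => Commute.one_left x
      · exact fun x _ => Commute.one_right x
      · exact fun _ _ _ _ _ _ h1 h2 => h1.mul_left h2
      · exact fun _ _ _ _ _ _ h1 h2 => h1.mul_right h2
      · exact fun _ _ _ _ h1 => h1.inv_left
      · exact fun _ _ _ _ h1 => h1.inv_right
    exact hcm a (hsup ▸ Subgroup.mem_top a) b (hsup ▸ Subgroup.mem_top b)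
  have hpp : ∃ p e : ℕ, p.Prime ∧ m = p ^ e := by
    by_contra hcon
    push Not at hcon
    refine hHab fun a ha b hb => commutatorElement_eq_one_iff_mul_comm.1 ?_
    rw [← Subgroup.mem_bot, ← hdis]
    refine Subgroup.mem_inf.2 ⟨?_, hcomm (fun p hp k => hcon p k hp)
      (Subgroup.commutator_mem_commutator (Subgroup.mem_top a) (Subgroup.mem_top b))⟩
    rw [commutatorElement_def]
    exact mul_mem (mul_mem (mul_mem ha hb) (inv_mem ha)) (inv_mem hb)
  obtain ⟨p, e, hp, hme⟩ := hpp
  haveI := Fact.mk hp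
  refine ⟨p, e, hp, hme, H, N, ?_, hNn, ?_, hab, hdis, hsup, hcen⟩
  · refine ⟨fun x hx g => ?_⟩
    obtain ⟨h, hh, n, hn, rfl⟩ := Set.mem_mul.1 (show g ∈ (H : Set G) * (N : Set G) by
      rw [← Subgroup.mul_normal, hsup]; exact Subgroup.mem_top g)
    rw [show h * n * x * (h * n)⁻¹ = h * (n * x * n⁻¹) * h⁻¹ by group,
      show n * x * n⁻¹ = x by rw [← hcen x n hn, mul_inv_cancel_right]]
    exact mul_mem (mul_mem hh hx) (inv_mem hh)
  · intro x
    have h : ∃ k, Nat.card H = p ^ k := by
      refine ⟨_, Nat.eq_prime_pow_of_unique_prime_dvd Nat.card_pos.ne' fun {d} hd hdvd => ?_⟩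
      have := hidx d hd (hc.index_eq_card ▸ hdvd)
      rw [hme] at this
      exact (Nat.prime_dvd_prime_iff_eq hd hp).1 (hd.dvd_of_dvd_pow this)
    obtain ⟨k, hk⟩ := h
    exact (IsPGroup.of_card hk) x

/-- In the second case the derived subgroup is abelian too. -/
theorem commutator_abelian {m : ℕ} (hcd : CD G m) (hm : 1 < m) :
    ∀ a ∈ commutator G, ∀ b ∈ commutator G, a * b = b * a := by
  classical
  by_cases hna : ∃ a b : G, a * b ≠ b * a
  swap
  · push Not at hna
    exact fun a _ b _ => hna a b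
  rcases structure_two hcd hm hna with ⟨A, -, hAab, hA⟩ |
    ⟨p, e, hp, -, P, A, hPn, hAn, hP, -, hdis, hsup, hcen⟩
  · have hle := comm_le_of_index hcd (by omega) A hA
    exact fun a ha b hb => hAab a (hle ha) b (hle hb)
  haveI := Fact.mk hp
  haveI := hPn
  haveI := hAn
  haveI : Group.IsNilpotent P := hP.isNilpotent
  have hc : P.IsComplement' A := Subgroup.isComplement'_of_disjoint_and_mul_eq_univ
    (disjoint_iff.2 hdis) (by rw [← Subgroup.mul_normal, hsup]; rfl)
  haveI : Group.IsNilpotent G := Subgroup.isNilpotent_of_ker_le_center (proj hc)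
    (fun n hn => Subgroup.mem_center_iff.2 fun g =>
      hcen g n (mem_of_proj_one hc (MonoidHom.mem_ker.1 hn)))
  exact commute_commutator hcd (by omega)

end Cfsg.Agent.TwoDegrees
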