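/-
The Glauberman correspondence for a cyclic group acting coprimely.
-/
import Cfsg.Agent.Lib.Char.CoprimeDegree
import Cfsg.Agent.Lib.Char.CoprimeConstituent
import Cfsg.Agent.Lib.Char.GaloisRat

set_option linter.unusedSectionVars false
set_option linter.style.haveILetI false

namespace Cfsg.Agent.GlaubCyc

open Cfsg Cfsg.Agent.Char
open Cfsg.Agent.GlaubermanMod (IsInv)
open scoped ComplexConjugate Pointwise

universe u

variable {Γ : Type u} [Group Γ] [Fintype Γ] (G S : Subgroup Γ) [hG : G.Normal]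

/-- An irreducible character of `Γ` with determinantal order prime to `|S|`. -/
def IsCanon (χh : Γ → ℂ) : Prop :=
  IsIrrCharacter Γ χh ∧ (detOrder χh).Coprime (Nat.card S)

theorem index_eq (htop : G ⊔ S = ⊤) (hcop : (Nat.card G).Coprime (Nat.card S)) :
    G.index = Nat.card S :=
  (CoprimeDegree.isComplement' G S htop hcop).index_eq_card

theorem det_twist {d : ℕ} (σ : ℂ ≃+* ℂ) (ρ : Representation ℂ Γ (Fin d → ℂ)) (g : Γ) :
    LinearMap.det (CharGalois.twistRep σ ρ g) = σ (LinearMap.det (ρ g)) := by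
  rw [← LinearMap.det_toMatrix (Pi.basisFun ℂ (Fin d)), ← LinearMap.det_toMatrix
    (Pi.basisFun ℂ (Fin d)), RingEquiv.map_det]
  refine congrArg Matrix.det (Matrix.ext fun i j => ?_)
  simp only [RingEquiv.mapMatrix_apply, Matrix.map_apply, LinearMap.toMatrix_apply,
    Pi.basisFun_repr, Pi.basisFun_apply, CharGalois.twistRep_apply]
  refine congrArg σ (congrFun (congrArg (ρ g) (funext fun k => ?_)) i)
  simp [Pi.single_apply, apply_ite σ.symm]

theorem detOrder_twist {χ : Γ → ℂ} (h : IsCharacter Γ χ) (σ : ℂ ≃+* ℂ) :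
    detOrder (fun g => σ (χ g)) = detOrder χ := by
  obtain ⟨d, ρ, rfl⟩ := h
  rw [show (fun g => σ (ρ.character g)) = (CharGalois.twistRep σ ρ).character from
    funext fun g => (CharGalois.character_twistRep σ ρ g).symm, CharExtend.detOrder_eq,
    CharExtend.detOrder_eq]
  refine orderOf_eq_orderOf_iff.2 fun n => ?_
  simp only [MonoidHom.ext_iff, MonoidHom.pow_apply, MonoidHom.one_apply, Units.ext_iff,
    Units.val_pow_eq_pow_val, Units.val_one, CharExtend.detHom_apply, det_twist, ← map_pow,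
    map_eq_one_iff σ σ.injective]

theorem restrict_irr {χh : Γ → ℂ} {χ : G → ℂ} (hχ : IsIrrCharacter G χ)
    (he : ∀ g : G, χh g = χ g) : IsIrrCharacter G (fun g : G => χh g) := by
  rw [show (fun g : G => χh g) = χ from funext he]; exact hχ

/-- A representation multiplied by a linear character. -/
noncomputable def twistLin {d : ℕ} (ρ : Representation ℂ Γ (Fin d → ℂ)) (c : Γ →* ℂˣ) :
    Representation ℂ Γ (Fin d → ℂ) where
  toFun g := (c g : ℂ) • ρ g
  map_one' := by simp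
  map_mul' a b := by rw [map_mul, map_mul, Units.val_mul, smul_mul_smul_comm]

theorem character_twistLin {d : ℕ} (ρ : Representation ℂ Γ (Fin d → ℂ)) (c : Γ →* ℂˣ) (g : Γ) :
    (twistLin ρ c).character g = (c g : ℂ) * ρ.character g := by
  show LinearMap.trace ℂ _ ((c g : ℂ) • ρ g) = _
  rw [map_smul, smul_eq_mul]; rfl

theorem canon_unique (htop : G ⊔ S = ⊤) (hcop : (Nat.card G).Coprime (Nat.card S))
    {χ : G → ℂ} (hχ : IsIrrCharacter G χ) {χh χh' : Γ → ℂ} (h : IsCanon S χh)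
    (h' : IsCanon S χh') (he : ∀ g : G, χh g = χ g) (he' : ∀ g : G, χh' g = χ g) :
    χh = χh' := by
  classical
  haveI : Fintype G := Fintype.ofFinite _
  obtain ⟨β, hβG, hβ⟩ := (gallagher_one G (IsIrrCharacter.isCharacter h.1) (restrict_irr G hχ he)).2.2
    χh' h'.1 (by
      rw [show (fun g : G => χh' g) = χ from funext he',
        show (fun g : G => χh g) = χ from funext he, classInner_self_irr hχ]
      exact one_ne_zero)
  have h1 := congrFun hβ 1
  have e1 : χh 1 = χ 1 := by rw [← OneMemClass.coe_one G]; exact he 1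
  have e1' : χh' 1 = χ 1 := by rw [← OneMemClass.coe_one G]; exact he' 1
  rw [Pi.mul_apply, e1, e1'] at h1
  have hβ1 : (β : Γ → ℂ) 1 = 1 :=
    mul_right_cancel₀ (IsIrrCharacter.one_ne_zero hχ) (h1.trans (one_mul _).symm)
  obtain ⟨c, hc⟩ := exists_hom_of_degree_one (IsIrrCharacter.isCharacter β.2) hβ1
  have hcG : ∀ n : G, c n = 1 := fun n =>
    Units.ext (((congrFun hc n).symm.trans (hβG n)).trans hβ1)
  obtain ⟨d, ρ, -, hρ⟩ := h.1
  have hη : (twistLin ρ c).character = χh' := by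
    funext g
    rw [character_twistLin, hρ, ← hβ, Pi.mul_apply, hc]
  have hd : χ 1 = (d : ℂ) := by
    rw [← e1, ← hρ, Representation.char_one, Module.finrank_fin_fun]
  have hdn : d ∣ Nat.card G := degree_dvd_card hχ hd
  have hdet : CharExtend.detHom (twistLin ρ c) = c ^ d * CharExtend.detHom ρ := by
    rw [CharExtend.det_smul_rep ρ (twistLin ρ c) c (fun g => rfl), Module.finrank_fin_fun]
  set a := orderOf (CharExtend.detHom ρ)
  set b := orderOf (CharExtend.detHom (twistLin ρ c))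
  have ha : a.Coprime (Nat.card S) := by
    have := h.2; rwa [← hρ, CharExtend.detOrder_eq] at this
  have hb : b.Coprime (Nat.card S) := by
    have := h'.2; rwa [← hη, CharExtend.detOrder_eq] at this
  have hd' : ∀ g, c g ^ (d * (a * b)) = 1 := fun g => by
    have ea : CharExtend.detHom ρ g ^ a = 1 := by
      have := DFunLike.congr_fun (pow_orderOf_eq_one (CharExtend.detHom ρ)) g
      rwa [MonoidHom.pow_apply, MonoidHom.one_apply] at this
    have eb : (c g ^ d * CharExtend.detHom ρ g) ^ b = 1 := by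
      have := DFunLike.congr_fun (pow_orderOf_eq_one (CharExtend.detHom (twistLin ρ c))) g
      have h2 := DFunLike.congr_fun hdet g
      simp only [MonoidHom.pow_apply, MonoidHom.mul_apply, MonoidHom.one_apply] at this h2
      rwa [← h2]
    have e : (c g ^ d * CharExtend.detHom ρ g) ^ (a * b) = 1 := by
      rw [mul_comm a, pow_mul, eb, one_pow]
    rwa [mul_pow, ← pow_mul, pow_mul (CharExtend.detHom ρ g), ea, one_pow, mul_one] at e
  have hc1 : ∀ g, c g = 1 := CharExtend.linear_eq_one (N := G) c hcG hd'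
    (by rw [index_eq G S htop hcop]
        exact Nat.Coprime.mul_left (hcop.coprime_dvd_left hdn) (Nat.Coprime.mul_left ha hb))
  rw [← hη, ← hρ]
  funext g
  rw [character_twistLin, hc1, Units.val_one, one_mul]

theorem canon_fixed (htop : G ⊔ S = ⊤) (hcop : (Nat.card G).Coprime (Nat.card S))
    {χ : G → ℂ} (hχ : IsIrrCharacter G χ) {χh : Γ → ℂ} (h : IsCanon S χh)
    (he : ∀ g : G, χh g = χ g) {k : ℕ} (hk : k ≡ 1 [MOD Nat.card G])
    (hkc : k.Coprime (Nat.card Γ)) : ∀ g : Γ, χh (g ^ k) = χh g := by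
  classical
  have hc := IsIrrCharacter.isCharacter h.1
  obtain ⟨σ, hσ⟩ := CharGalois.exists_galoisAut (Nat.card_pos (α := Γ)).ne' hkc
  have hmap : ∀ g, σ (χh g) = χh (g ^ k) := fun g => CharGalois.map_char hc σ.toRingHom hσ g
  have hcan : IsCanon S (fun g => σ (χh g)) :=
    ⟨CharGalois.IsIrrCharacter.twist h.1 σ, by rw [detOrder_twist hc]; exact h.2⟩
  have he' : ∀ g : G, σ (χh g) = χ g := fun g => by
    rw [hmap, ← he]
    congr 1
    rw [← SubgroupClass.coe_pow]
    congr 1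
    rw [← pow_one g, ← pow_mul, one_mul]
    exact pow_eq_pow_iff_modEq.2 (hk.of_dvd (orderOf_dvd_natCard g))
  intro g
  exact (hmap g).symm.trans (congrFun (canon_unique G S htop hcop hχ hcan h he' he) g)

theorem exists_canon (htop : G ⊔ S = ⊤) (hcop : (Nat.card G).Coprime (Nat.card S))
    {χ : G → ℂ} (hχ : IsIrrCharacter G χ) (hinv : ∀ x : Γ, conjChar G x χ = χ) :
    ∃ χh : Γ → ℂ, IsCanon S χh ∧ ∀ g : G, χh g = χ g := by
  classical
  haveI : Fintype G := Fintype.ofFinite _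
  have hidx := index_eq G S htop hcop
  obtain ⟨χ0, hχ0, he0⟩ := CoprimeDegree.exists_extension_coprime G (hidx ▸ hcop) hχ hinv
  obtain ⟨d, ρ, hρi, hρ⟩ := hχ0
  have hd : χ 1 = (d : ℂ) := by
    rw [← he0 1, OneMemClass.coe_one, ← hρ, Representation.char_one, Module.finrank_fin_fun]
  have hdn : d ∣ Nat.card G := degree_dvd_card hχ hd
  set n := Nat.card G with hn
  set m := Nat.card S with hm
  let δ := CharExtend.detHom ρ
  let ε : Γ →* ℂˣ := (powMonoidHom n).comp δ
  have hδn : ∀ g : G, ε g = 1 := fun g => by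
    show δ g ^ n = 1
    rw [← map_pow, ← SubgroupClass.coe_pow, hn, pow_card_eq_one',
      OneMemClass.coe_one, map_one]
  have hδm : ∀ g, ε g ^ m = 1 := fun g => by
    rw [← hidx, ← map_pow]
    exact hδn ⟨_, G.pow_index_mem g⟩
  have hnd : (n * d).Coprime m :=
    Nat.Coprime.mul_left hcop (hcop.coprime_dvd_left hdn)
  obtain ⟨a, ha⟩ : ∃ a : ℕ, n * d * a + 1 ≡ 0 [MOD m] := by
    rcases Nat.lt_or_ge 1 m with h | h
    · obtain ⟨a, -, ha⟩ := Nat.exists_mul_mod_eq_one_of_coprime hnd h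
      refine ⟨a * (m - 1), ?_⟩
      have h1 : n * d * a ≡ 1 [MOD m] := by rw [Nat.ModEq, ha, Nat.mod_eq_of_lt h]
      have h2 := (h1.mul_right (m - 1)).add_right 1
      rw [mul_assoc (n * d) a, one_mul, Nat.sub_add_cancel h.le] at h2
      exact h2.trans (Nat.modEq_zero_iff_dvd.2 dvd_rfl)
    · have : m = 1 := le_antisymm h Nat.card_pos
      exact ⟨0, by rw [this]; exact Nat.modEq_one⟩
  let c : Γ →* ℂˣ := (powMonoidHom a).comp ε
  have hcG : ∀ g : G, c g = 1 := fun g => by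
    show ε g ^ a = 1
    rw [hδn, one_pow]
  refine ⟨(twistLin ρ c).character, ⟨?_, ?_⟩, fun g => ?_⟩
  · rw [show (twistLin ρ c).character = fun g => (c g : ℂ) * ρ.character g from
      funext (character_twistLin ρ c)]
    exact ChiefRestrict.isIrr_mul_linear ⟨d, ρ, hρi, rfl⟩ c
  · rw [CharExtend.detOrder_eq, CharExtend.det_smul_rep ρ (twistLin ρ c) c (fun g => rfl),
      Module.finrank_fin_fun]
    refine hcop.coprime_dvd_left (orderOf_dvd_of_pow_eq_one (n := n) ?_)
    refine MonoidHom.ext fun g => ?_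
    simp only [MonoidHom.pow_apply, MonoidHom.mul_apply, MonoidHom.one_apply]
    show (((δ g ^ n) ^ a) ^ d * δ g) ^ n = 1
    obtain ⟨q, hq⟩ := Nat.modEq_zero_iff_dvd.1 ha
    have hm' : (δ g ^ n) ^ m = 1 := hδm g
    calc _ = (δ g ^ n) ^ (n * d * a + 1) := by
          rw [mul_pow, pow_add, pow_one, ← pow_mul (δ g), ← pow_mul (δ g), ← pow_mul (δ g), ← pow_mul (δ g)]; congr 2; ring
      _ = 1 := by rw [hq, pow_mul, hm', one_pow]
  · rw [character_twistLin, hcG, Units.val_one, one_mul, hρ, he0]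

section Fixed

variable (C : Subgroup Γ)

/-- The hypotheses. -/
structure Data : Prop where
  htop : G ⊔ S = ⊤
  hcop : (Nat.card G).Coprime (Nat.card S)
  hcyc : IsCyclic S
  hC : C = G ⊓ Subgroup.centralizer (S : Set Γ)

variable {G S C} (D : Data G S C)

include D

theorem mem_C {c : Γ} : c ∈ C ↔ c ∈ G ∧ ∀ s ∈ S, s * c = c * s := by
  rw [D.hC, Subgroup.mem_inf, Subgroup.mem_centralizer_iff]; rfl

theorem card_Gamma : Nat.card Γ = Nat.card G * Nat.card S := by
  rw [← G.card_mul_index, index_eq G S D.htop D.hcop]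

theorem exists_crt (a : ℕ) (ha : a.Coprime (Nat.card S)) :
    ∃ k : ℕ, k ≡ 1 [MOD Nat.card G] ∧ k ≡ a [MOD Nat.card S] ∧ k.Coprime (Nat.card Γ) := by
  obtain ⟨k, hk1, hk2⟩ := Nat.chineseRemainder D.hcop 1 a
  refine ⟨k, hk1, hk2, ?_⟩
  rw [card_Gamma D]
  refine Nat.Coprime.mul_right ?_ ?_
  · rw [Nat.Coprime, hk1.gcd_eq, Nat.gcd_one_left]
  · rw [Nat.Coprime, hk2.gcd_eq]; exact ha

/-- The product map `C × S → Γ`. -/
def prodHom : C × S →* Γ where
  toFun p := (p.1 : Γ) * (p.2 : Γ)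
  map_one' := by simp
  map_mul' p q := by
    have h := ((mem_C D).1 q.1.2).2 p.2 p.2.2
    simp only [Prod.fst_mul, Prod.snd_mul, Subgroup.coe_mul]
    rw [mul_assoc, mul_assoc, ← mul_assoc (q.1 : Γ), ← h]
    simp only [mul_assoc]

/-- The class function `c ↦ χh (c x)` on `C`. -/
def slice (χh : Γ → ℂ) (x : Γ) : C → ℂ := fun c => χh ((c : Γ) * x)

theorem isClassFunction_slice {χh : Γ → ℂ} (h : IsClassFunction Γ χh) {x : Γ} (hx : x ∈ S) :
    IsClassFunction C (slice (C := C) χh x) := fun a b => by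
  show χh ((b * a * b⁻¹ : C) * x) = χh ((a : Γ) * x)
  have hb := ((mem_C D).1 (C.inv_mem b.2)).2 x hx
  rw [← h ((a : Γ) * x) (b : Γ)]
  congr 1
  simp only [Subgroup.coe_mul, Subgroup.coe_inv]
  rw [← mul_assoc (b : Γ), mul_assoc ((b : Γ) * a), ← hb, ← mul_assoc]

theorem exists_slice_mult [Fintype C] {χh : Γ → ℂ} (hχ : IsCharacter Γ χh) (β : IrrCharacter C)
    [Fintype (S →* ℂˣ)] :
    ∃ a : (S →* ℂˣ) → ℕ, ∀ x : S, classInner (slice (C := C) χh x) (β : C → ℂ) =
      ∑ l : S →* ℂˣ, (a l : ℂ) * (l x : ℂ) := by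
  classical
  haveI := D.hcyc
  letI : CommGroup S := IsCyclic.commGroup
  haveI : Fintype S := Fintype.ofFinite _
  choose a ha using fun l : S →* ℂˣ => IsCharacter.exists_classInner_nat
    (IsCharacter.comp hχ (prodHom D))
    (IsCharacter.mul
      (IsCharacter.comp (IsIrrCharacter.isCharacter β.2) (MonoidHom.fst C S))
      (IsCharacter.comp (IsIrrCharacter.isCharacter (isIrrCharacter_linear l)) (MonoidHom.snd C S)))
  refine ⟨a, fun x => ?_⟩
  rw [Finset.sum_congr rfl fun l _ => by rw [← ha l]]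
  simp only [classInner, Pi.mul_apply, MonoidHom.coe_fst, MonoidHom.coe_snd, Fintype.sum_prod_type,
    Finset.sum_mul, Finset.mul_sum, map_mul, Nat.card_prod, Nat.cast_mul, mul_inv]
  rw [Finset.sum_comm]
  refine Finset.sum_congr rfl fun c _ => ?_
  rw [Finset.sum_comm, Finset.sum_eq_single x]
  · have hl : ∀ l : S →* ℂˣ, conj ((l x : ℂˣ) : ℂ) * (l x : ℂ) = 1 := fun l => by
      rw [← IsCharacter.inv (IsIrrCharacter.isCharacter (isIrrCharacter_linear l)) x, ← Units.val_mul,
        ← map_mul, inv_mul_cancel, map_one, Units.val_one]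
    have hS : (Nat.card (S →* ℂˣ) : ℂ) = Nat.card S := by
      haveI : NeZero (Monoid.exponent S : ℂ) :=
        ⟨Nat.cast_ne_zero.mpr Monoid.exponent_ne_zero_of_finite⟩
      rw [CommGroup.card_monoidHom_of_hasEnoughRootsOfUnity]
    rw [Finset.sum_congr rfl fun l _ => show _ = (Nat.card C : ℂ)⁻¹ * ((Nat.card S : ℂ)⁻¹ *
      (slice (C := C) χh x c * conj ((β : C → ℂ) c))) by
        rw [mul_assoc, mul_assoc, mul_assoc, mul_assoc]
        congr 2
        rw [hl, mul_one]
        rfl,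
      Finset.sum_const, Finset.card_univ, ← Nat.card_eq_fintype_card, nsmul_eq_mul, hS,
      mul_left_comm (Nat.card S : ℂ), ← mul_assoc (Nat.card S : ℂ),
      mul_inv_cancel₀ (Nat.cast_ne_zero.2 Nat.card_pos.ne'), one_mul]
  · intro y _ hy
    have : ∑ l : S →* ℂˣ, conj ((l y : ℂˣ) : ℂ) * (l x : ℂ) = 0 := by
      rw [Finset.sum_congr rfl fun l _ => by
        rw [← IsCharacter.inv (IsIrrCharacter.isCharacter (isIrrCharacter_linear l)) y,
          ← Units.val_mul, ← map_mul], CoprimeConst.sum_hom_apply, if_neg]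
      exact fun h => hy (inv_mul_eq_one.1 h)
    calc ∑ l : S →* ℂˣ, _ = ((Nat.card C : ℂ)⁻¹ * (Nat.card S : ℂ)⁻¹ *
          (χh (prodHom D (c, y)) * conj ((β : C → ℂ) c))) *
            ∑ l : S →* ℂˣ, conj ((l y : ℂˣ) : ℂ) * (l x : ℂ) := by
            rw [Finset.mul_sum]; exact Finset.sum_congr rfl fun l _ => by ring
      _ = 0 := by rw [this, mul_zero]
  · exact fun h => absurd (Finset.mem_univ _) h

/-- The coset sum over `G s` reduces to `C`. -/
theorem sum_coset [Fintype C] [Fintype G] {F : Γ → ℂ} (hF : IsClassFunction Γ F) {s : Γ}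
    (hsS : s ∈ S) (hfix : ∀ w ∈ G, w * s * w⁻¹ = s → w ∈ C) :
    (Nat.card C : ℂ) * ∑ g : G, F ((g : Γ) * s) =
      (Nat.card G : ℂ) * ∑ c : C, F ((c : Γ) * s) := by
  classical
  have hCG : C ≤ G := fun c hc => ((mem_C D).1 hc).1
  have hΦ : ∀ p : C × G, (p.2 : Γ) * ((p.1 : Γ) * s) * (p.2 : Γ)⁻¹ * s⁻¹ ∈ G := fun p => by
    rw [show (p.2 : Γ) * ((p.1 : Γ) * s) * (p.2 : Γ)⁻¹ * s⁻¹ =
      (p.2 : Γ) * (p.1 : Γ) * (s * (p.2 : Γ)⁻¹ * s⁻¹) by group]
    exact G.mul_mem (G.mul_mem p.2.2 (hCG p.1.2)) (hG.conj_mem _ (G.inv_mem p.2.2) s)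
  let Φ : C × G → G := fun p => ⟨_, hΦ p⟩
  have hΦv : ∀ p, ((Φ p : G) : Γ) * s = (p.2 : Γ) * ((p.1 : Γ) * s) * (p.2 : Γ)⁻¹ := fun p =>
    inv_mul_cancel_right _ s
  obtain ⟨k, hk1, hk2⟩ := Nat.chineseRemainder D.hcop 0 1
  have hpw : ∀ c : C, ((c : Γ) * s) ^ k = s := fun c => by
    have hcomm : Commute (c : Γ) s := (((mem_C D).1 c.2).2 s hsS).symm
    rw [hcomm.mul_pow]
    have h1 : (c : Γ) ^ k = 1 := by
      rw [← orderOf_dvd_iff_pow_eq_one]
      exact (Nat.card_zpowers (c : Γ) ▸ Subgroup.card_dvd_of_le (Subgroup.zpowers_le.2 (hCG c.2))).trans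
        (Nat.modEq_zero_iff_dvd.1 hk1)
    have h2 : s ^ k = s ^ 1 := pow_eq_pow_iff_modEq.2
      (hk2.of_dvd (Nat.card_zpowers s ▸ Subgroup.card_dvd_of_le (Subgroup.zpowers_le.2 hsS)))
    rw [h1, h2, one_mul, pow_one]
  have hinj : ∀ p q, Φ p = Φ q → (q.2 : Γ)⁻¹ * p.2 ∈ C ∧
      (q.1 : Γ) = ((q.2 : Γ)⁻¹ * p.2) * p.1 * ((q.2 : Γ)⁻¹ * p.2)⁻¹ := by
    intro p q h
    set w := (q.2 : Γ)⁻¹ * p.2 with hw
    have e0 : (p.2 : Γ) * ((p.1 : Γ) * s) * (p.2 : Γ)⁻¹ =
        (q.2 : Γ) * ((q.1 : Γ) * s) * (q.2 : Γ)⁻¹ := by rw [← hΦv, ← hΦv, h]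
    have e1 : w * ((p.1 : Γ) * s) * w⁻¹ = (q.1 : Γ) * s := by
      calc w * ((p.1 : Γ) * s) * w⁻¹
          = (q.2 : Γ)⁻¹ * ((p.2 : Γ) * ((p.1 : Γ) * s) * (p.2 : Γ)⁻¹) * q.2 := by rw [hw]; group
        _ = (q.1 : Γ) * s := by rw [e0]; group
    have e2 : w * s * w⁻¹ = s := by
      have := congrArg (· ^ k) e1
      simp only [conj_pow, hpw] at this
      exact this
    have hwC : w ∈ C := hfix w (G.mul_mem (G.inv_mem q.2.2) p.2.2) e2
    refine ⟨hwC, ?_⟩
    have e3 : w * ((p.1 : Γ) * s) * w⁻¹ = w * p.1 * w⁻¹ * (w * s * w⁻¹) := by group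
    rw [e3, e2] at e1
    exact (mul_right_cancel e1).symm
  have hle : ∀ y : G, (Finset.univ.filter fun p => Φ p = y).card ≤ Nat.card C := by
    intro y
    rcases (Finset.univ.filter fun p => Φ p = y).eq_empty_or_nonempty with h | ⟨q, hq⟩
    · rw [h]; exact Nat.zero_le _
    rw [← Nat.card_eq_finsetCard]
    have hpq : ∀ p : {p // p ∈ Finset.univ.filter fun p => Φ p = y}, Φ p.1 = Φ q := fun p =>
      (Finset.mem_filter.1 p.2).2.trans (Finset.mem_filter.1 hq).2.symm
    refine Nat.card_le_card_of_injective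
      (fun p => (⟨(q.2 : Γ)⁻¹ * p.1.2, (hinj _ _ (hpq p)).1⟩ : C)) fun p p' h => ?_
    have h2 : p.1.2 = p'.1.2 := Subtype.ext (mul_left_cancel (congrArg Subtype.val h))
    have h1 := (hinj _ _ (hpq p)).2
    have h1' := (hinj _ _ (hpq p')).2
    rw [h1', h2] at h1
    exact Subtype.ext (Prod.ext
      (Subtype.ext (mul_left_cancel (mul_right_cancel h1)).symm) h2)
  have hsum : ∑ y : G, (Finset.univ.filter fun p => Φ p = y).card = ∑ _y : G, Nat.card C := by
    rw [← Finset.card_eq_sum_card_fiberwise fun p _ => Finset.mem_univ _, Finset.sum_const,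
      Finset.card_univ, Finset.card_univ, Fintype.card_prod, ← Nat.card_eq_fintype_card,
      smul_eq_mul, mul_comm]
  have heq := (Finset.sum_eq_sum_iff_of_le fun y _ => hle y).1 hsum
  calc (Nat.card C : ℂ) * ∑ g : G, F ((g : Γ) * s)
      = ∑ g : G, ∑ p ∈ Finset.univ.filter (fun p => Φ p = g), F ((Φ p : Γ) * s) := by
        rw [Finset.mul_sum]
        refine Finset.sum_congr rfl fun g _ => ?_
        rw [Finset.sum_congr rfl (fun p hp => by rw [(Finset.mem_filter.1 hp).2]),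
          Finset.sum_const, heq g (Finset.mem_univ _), nsmul_eq_mul]
    _ = ∑ p : C × G, F ((Φ p : Γ) * s) :=
        Finset.sum_fiberwise_of_maps_to (fun p _ => Finset.mem_univ _) _
    _ = _ := by
        rw [Fintype.sum_prod_type, Finset.mul_sum]
        refine Finset.sum_congr rfl fun c _ => ?_
        rw [Finset.sum_congr rfl fun g _ => show F ((Φ (c, g) : Γ) * s) = F ((c : Γ) * s) by
          rw [hΦv]; exact hF _ _, Finset.sum_const, Finset.card_univ, ← Nat.card_eq_fintype_card,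
          nsmul_eq_mul]

theorem slice_orth [Fintype C] [Fintype G] {χ χ' : IrrCharacter G} {χh χh' : Γ → ℂ}
    (h : IsIrrCharacter Γ χh) (h' : IsIrrCharacter Γ χh') (he : ∀ g : G, χh g = (χ : G → ℂ) g)
    (he' : ∀ g : G, χh' g = (χ' : G → ℂ) g) {s : Γ} (hsS : s ∈ S)
    (hfix : ∀ w ∈ G, w * s * w⁻¹ = s → w ∈ C) :
    (χ ≠ χ' → classInner (slice (C := C) χh s) (slice χh' s) = 0) ∧
    (χh = χh' → classInner (slice (C := C) χh s) (slice χh' s) = 1) := by
  classical
  haveI := D.hcyc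
  letI : CommGroup S := IsCyclic.commGroup
  haveI : NeZero (Monoid.exponent S : ℂ) :=
    ⟨Nat.cast_ne_zero.mpr Monoid.exponent_ne_zero_of_finite⟩
  haveI : Fintype S := Fintype.ofFinite _
  haveI : Finite (S →* ℂˣ) := Finite.of_injective (β := IrrCharacter S)
    (fun f => ⟨_, isIrrCharacter_linear f⟩)
    fun _ _ e => CharExtend.detHom_unique (congrArg Subtype.val e)
  haveI : Fintype (S →* ℂˣ) := Fintype.ofFinite _
  have hc := CoprimeDegree.isComplement' G S D.htop D.hcop
  let r : Γ →* S := hc.QuotientMulEquiv.toMonoidHom.comp (QuotientGroup.mk' G)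
  have hrS : ∀ x : S, r (x : Γ) = x := fun x => hc.QuotientMulEquiv.apply_symm_apply x
  have hrG : ∀ g : G, r (g : Γ) = 1 := fun g => by
    show hc.QuotientMulEquiv (QuotientGroup.mk' G (g : Γ)) = 1
    rw [show QuotientGroup.mk' G (g : Γ) = 1 from (QuotientGroup.eq_one_iff _).2 g.2, map_one]
  let F : Γ → ℂ := fun γ => χh γ * conj (χh' γ)
  have hF : IsClassFunction Γ F := fun a b => by
    show χh _ * conj (χh' _) = _
    rw [IsCharacter.isClassFunction (IsIrrCharacter.isCharacter h) a b,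
      IsCharacter.isClassFunction (IsIrrCharacter.isCharacter h') a b]
  -- twisted inner products
  have hsel : ∑ l : S →* ℂˣ, conj ((l ⟨s, hsS⟩ : ℂˣ) : ℂ) *
      classInner (fun γ => (l (r γ) : ℂ) * χh γ) χh' =
      (Nat.card G : ℂ)⁻¹ * ∑ g : G, F ((g : Γ) * s) := by
    simp only [classInner, Finset.mul_sum]
    rw [Finset.sum_comm]
    have e : ∀ γ : Γ, ∑ l : S →* ℂˣ, conj ((l ⟨s, hsS⟩ : ℂˣ) : ℂ) *
        ((Nat.card Γ : ℂ)⁻¹ * ((l (r γ) : ℂ) * χh γ * conj (χh' γ))) =
        if r γ = ⟨s, hsS⟩ then (Nat.card G : ℂ)⁻¹ * F γ else 0 := by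
      intro γ
      have e1 : ∑ l : S →* ℂˣ, conj ((l ⟨s, hsS⟩ : ℂˣ) : ℂ) * (l (r γ) : ℂ) =
          if r γ = ⟨s, hsS⟩ then (Nat.card S : ℂ) else 0 := by
        rw [Finset.sum_congr rfl fun l _ => by
          rw [← IsCharacter.inv (IsIrrCharacter.isCharacter (isIrrCharacter_linear l)) _,
            ← Units.val_mul, ← map_mul], CoprimeConst.sum_hom_apply]
        exact if_congr (inv_mul_eq_one.trans eq_comm) rfl rfl
      calc _ = (∑ l : S →* ℂˣ, conj ((l ⟨s, hsS⟩ : ℂˣ) : ℂ) * (l (r γ) : ℂ)) *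
            ((Nat.card Γ : ℂ)⁻¹ * F γ) := by
              rw [Finset.sum_mul]; exact Finset.sum_congr rfl fun l _ => by
                show _ = _ * (_ * (χh γ * conj (χh' γ))); ring
        _ = _ := by
              rw [e1]
              split_ifs
              · have : (Nat.card S : ℂ) ≠ 0 := Nat.cast_ne_zero.2 Nat.card_pos.ne'
                rw [card_Gamma D, Nat.cast_mul, mul_inv]
                field_simp
              · rw [zero_mul]
    rw [Finset.sum_congr rfl fun γ _ => e γ, ← Finset.sum_filter]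
    refine (Finset.sum_bij (fun (g : G) _ => (g : Γ) * s) (fun g _ => Finset.mem_filter.2
      ⟨Finset.mem_univ _, ?_⟩) (fun g _ g' _ hg => Subtype.ext (mul_right_cancel hg))
      (fun γ hγ => ⟨⟨γ * s⁻¹, ?_⟩, Finset.mem_univ _, inv_mul_cancel_right γ s⟩)
      (fun g _ => rfl)).symm
    · rw [map_mul, hrG, one_mul]; exact hrS ⟨s, hsS⟩
    · have h1 : r (γ * s⁻¹) = 1 := by
        rw [map_mul, map_inv, (Finset.mem_filter.1 hγ).2, show r s = ⟨s, hsS⟩ from hrS ⟨s, hsS⟩,
          mul_inv_cancel]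
      exact (QuotientGroup.eq_one_iff _).1
        (hc.QuotientMulEquiv.injective (h1.trans (map_one _).symm))
  have hred : (Nat.card G : ℂ)⁻¹ * ∑ g : G, F ((g : Γ) * s) =
      classInner (slice (C := C) χh s) (slice χh' s) := by
    show _ = (Nat.card C : ℂ)⁻¹ * ∑ c : C, F ((c : Γ) * s)
    have e := sum_coset D hF hsS hfix
    have hG0 : (Nat.card G : ℂ) ≠ 0 := Nat.cast_ne_zero.2 Nat.card_pos.ne'
    have hC0 : (Nat.card C : ℂ) ≠ 0 := Nat.cast_ne_zero.2 Nat.card_pos.ne'
    field_simp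
    linear_combination e
  have hlirr : ∀ l : S →* ℂˣ, IsIrrCharacter Γ (fun γ => (l (r γ) : ℂ) * χh γ) := fun l =>
    ChiefRestrict.isIrr_mul_linear h (l.comp r)
  have hres : ∀ l : S →* ℂˣ, (fun γ => (l (r γ) : ℂ) * χh γ) = χh' → χ = χ' := fun l e => by
    refine Subtype.ext (funext fun g => ?_)
    rw [← he, ← he', ← e]
    simp only [hrG, map_one, Units.val_one, one_mul]
  refine ⟨fun hne => ?_, fun heq => ?_⟩
  · rw [← hred, ← hsel]
    refine Finset.sum_eq_zero fun l _ => ?_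
    rw [classInner_irr_of_ne (hlirr l) h' fun e => hne (hres l e), mul_zero]
  · rw [← hred, ← hsel, Finset.sum_eq_single 1]
    · subst heq
      simp only [MonoidHom.one_apply, Units.val_one, map_one, one_mul]
      exact classInner_self_irr h
    · intro l _ hl
      rw [classInner_irr_of_ne (hlirr l) h' fun e => hl ?_, mul_zero]
      subst heq
      have hinj := (gallagher_one G (IsIrrCharacter.isCharacter h) (restrict_irr G χ.2 he)).2.1
        ⟨_, isIrrCharacter_linear (l.comp r)⟩ ⟨_, isIrrCharacter_linear (1 : Γ →* ℂˣ)⟩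
        (fun g => by simp only [MonoidHom.comp_apply, hrG, map_one])
        (fun g => by simp only [MonoidHom.one_apply])
        (funext fun γ => (congrFun e γ).trans (one_mul _).symm)
      refine MonoidHom.ext fun x => Units.ext ?_
      have := congrFun (congrArg Subtype.val hinj) (x : Γ)
      simpa [hrS] using this
    · exact fun h0 => absurd (Finset.mem_univ _) h0

theorem exists_generator : ∃ s : Γ, Subgroup.zpowers s = S := by
  obtain ⟨x, hx⟩ := D.hcyc.exists_zpow_surjective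
  refine ⟨x, le_antisymm (Subgroup.zpowers_le.2 x.2) fun t ht => ?_⟩
  obtain ⟨i, hi⟩ := hx ⟨t, ht⟩
  exact ⟨i, congrArg Subtype.val hi⟩

/-- The value at one element of `S` with centraliser `C` in `G`. -/
theorem exists_correspondent_at [Fintype C] [Fintype G] (χ : IrrCharacter G) {χh : Γ → ℂ}
    (h : IsCanon S χh) (he : ∀ g : G, χh g = (χ : G → ℂ) g) {s : Γ} (hsS : s ∈ S)
    (hfix : ∀ w ∈ G, w * s * w⁻¹ = s → w ∈ C) :
    ∃ (β : IrrCharacter C) (ε : ℤ), (ε = 1 ∨ ε = -1) ∧
      (∀ c : C, χh ((c : Γ) * s) = (ε : ℂ) * (β : C → ℂ) c) := by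
  classical
  have hχc := IsIrrCharacter.isCharacter h.1
  have hCG : C ≤ G := fun c hc => ((mem_C D).1 hc).1
  haveI := D.hcyc
  letI : CommGroup S := IsCyclic.commGroup
  haveI : Fintype S := Fintype.ofFinite _
  haveI : Finite (S →* ℂˣ) := Finite.of_injective (β := IrrCharacter S)
    (fun f => ⟨_, isIrrCharacter_linear f⟩)
    fun _ _ e => CharExtend.detHom_unique (congrArg Subtype.val e)
  haveI : Fintype (S →* ℂˣ) := Fintype.ofFinite _
  have hcord : ∀ c : C, orderOf (c : Γ) ∣ Nat.card G := fun c =>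
    Nat.card_zpowers (c : Γ) ▸ Subgroup.card_dvd_of_le (Subgroup.zpowers_le.2 (hCG c.2))
  -- the coefficients are integers
  have hint : ∀ β : IrrCharacter C, ∃ z : ℤ,
      classInner (slice (C := C) χh s) (β : C → ℂ) = (z : ℂ) := by
    intro β
    obtain ⟨a, ha⟩ := exists_slice_mult D hχc β
    have hroot : ∀ l : S →* ℂˣ, ((l ⟨s, hsS⟩ : ℂˣ) : ℂ) ^ Nat.card S = 1 := fun l => by
      rw [← Units.val_pow_eq_pow_val, ← map_pow, pow_card_eq_one', map_one, Units.val_one]
    have hi : IsIntegral ℤ (classInner (slice (C := C) χh s) (β : C → ℂ)) := by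
      rw [ha ⟨s, hsS⟩]
      refine IsIntegral.sum _ fun l _ => IsIntegral.mul ?_
        (isIntegral_of_pow_eq_one Nat.card_pos (hroot l))
      exact_mod_cast isIntegral_algebraMap (R := ℤ) (x := (a l : ℤ))
    obtain ⟨q, hq⟩ := CharGalois.eq_rat_of_fixed hi fun σ => by
      obtain ⟨k, hkc, hk⟩ := CharGalois.exists_exponent σ.toRingHom (Nat.card_pos (α := Γ)).ne'
      have hkS : k.Coprime (Nat.card S) :=
        hkc.coprime_dvd_right (Subgroup.card_subgroup_dvd_card S)
      obtain ⟨k1, hk1, hk2, hk1c⟩ := exists_crt D k hkS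
      obtain ⟨τ, hτ⟩ := CharGalois.exists_galoisAut (Nat.card_pos (α := Γ)).ne' hk1c
      have hst : σ (classInner (slice (C := C) χh s) (β : C → ℂ)) =
          τ (classInner (slice (C := C) χh s) (β : C → ℂ)) := by
        rw [ha ⟨s, hsS⟩, map_sum, map_sum]
        refine Finset.sum_congr rfl fun l _ => ?_
        rw [map_mul, map_mul, map_natCast, map_natCast]
        congr 1
        have hroot' : ((l ⟨s, hsS⟩ : ℂˣ) : ℂ) ^ Nat.card Γ = 1 := by
          obtain ⟨q, hq⟩ := Subgroup.card_subgroup_dvd_card S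
          rw [hq, pow_mul, hroot, one_pow]
        refine (hk _ hroot').trans ((?_ : _ = _).trans (hτ _ hroot').symm)
        rw [pow_eq_pow_mod k (hroot l), pow_eq_pow_mod k1 (hroot l), hk2]
      rw [hst]
      simp only [classInner, map_mul, map_sum, map_inv₀, map_natCast]
      congr 1
      refine Finset.sum_congr rfl fun c _ => ?_
      rw [← IsCharacter.inv (IsIrrCharacter.isCharacter β.2)]
      congr 1
      · show τ (χh ((c : Γ) * s)) = χh ((c : Γ) * s)
        exact (CharGalois.map_char hχc τ.toRingHom hτ _).trans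
          (canon_fixed G S D.htop D.hcop χ.2 h he hk1 hk1c _)
      · refine (CharGalois.map_char (IsIrrCharacter.isCharacter β.2) τ.toRingHom (k := k1)
          (fun z hz => hτ z ?_) _).trans (congrArg (β : C → ℂ) ?_)
        · obtain ⟨q, hq⟩ := Subgroup.card_subgroup_dvd_card C
          rw [hq, pow_mul, hz, one_pow]
        · conv_rhs => rw [← pow_one (c⁻¹)]
          exact pow_eq_pow_iff_modEq.2 (hk1.of_dvd (by
            rw [orderOf_inv, ← Subgroup.orderOf_coe]; exact hcord c))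
    rw [hq] at hi
    obtain ⟨z, rfl⟩ := exists_int_of_isIntegral hi
    exact ⟨z, by rw [hq]; push_cast; ring⟩
  choose z hz using hint
  have hexp : slice (C := C) χh s = ∑ β : IrrCharacter C, (z β : ℂ) • (β : C → ℂ) := by
    refine eq_of_forall_classInner
      (isClassFunction_slice D (IsCharacter.isClassFunction hχc) hsS) ?_ fun ψ => ?_
    · intro a b
      simp only [Finset.sum_apply, Pi.smul_apply]
      exact Finset.sum_congr rfl fun β _ => by
        rw [IsCharacter.isClassFunction (IsIrrCharacter.isCharacter β.2) a b]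
    · rw [classInner_combination, hz]
  have h1 := (slice_orth D h.1 h.1 he he hsS hfix).2 rfl
  rw [hexp, classInner_combination₂] at h1
  have h1' : ∑ β, z β * z β = 1 := by
    simp only [map_intCast] at h1
    exact_mod_cast h1
  obtain ⟨β, hβ⟩ : ∃ β, z β ≠ 0 := by
    by_contra hc
    push Not at hc
    simp [hc] at h1'
  rw [← Finset.add_sum_erase _ _ (Finset.mem_univ β)] at h1'
  have hnn : 0 ≤ ∑ γ ∈ Finset.univ.erase β, z γ * z γ :=
    Finset.sum_nonneg fun γ _ => mul_self_nonneg _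
  have hpos : 0 < z β * z β := mul_self_pos.2 hβ
  have hrest : ∑ γ ∈ Finset.univ.erase β, z γ * z γ = 0 := by omega
  have hz1 : z β * z β = 1 := by omega
  refine ⟨β, z β, mul_self_eq_one_iff.1 hz1, fun c => ?_⟩
  show slice χh s c = _
  rw [hexp, Finset.sum_eq_single β]
  · rfl
  · intro γ _ hγ
    have := (Finset.sum_eq_zero_iff_of_nonneg fun γ _ => mul_self_nonneg (z γ)).1 hrest γ
      (Finset.mem_erase.2 ⟨hγ, Finset.mem_univ _⟩)
    rw [mul_self_eq_zero.1 this, Int.cast_zero, zero_smul]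
  · exact fun h => absurd (Finset.mem_univ _) h

theorem fix_generator {s : Γ} (hs : Subgroup.zpowers s = S) :
    ∀ w ∈ G, w * s * w⁻¹ = s → w ∈ C := by
  intro w hw e2
  refine (mem_C D).2 ⟨hw, fun t ht => ?_⟩
  rw [← hs] at ht
  obtain ⟨i, rfl⟩ := Subgroup.mem_zpowers_iff.1 ht
  exact (Commute.zpow_right (mul_inv_eq_iff_eq_mul.1 e2) i).symm.eq

/-- The main statement: the correspondent of a character. -/
theorem exists_correspondent [Fintype C] [Fintype G] (χ : IrrCharacter G) {χh : Γ → ℂ}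
    (h : IsCanon S χh) (he : ∀ g : G, χh g = (χ : G → ℂ) g) :
    ∃ (β : IrrCharacter C) (ε : ℤ), (ε = 1 ∨ ε = -1) ∧
      (∀ c : C, ∀ s : Γ, Subgroup.zpowers s = S → χh ((c : Γ) * s) = (ε : ℂ) * (β : C → ℂ) c) := by
  classical
  have hχc := IsIrrCharacter.isCharacter h.1
  have hCG : C ≤ G := fun c hc => ((mem_C D).1 hc).1
  obtain ⟨s, hs⟩ := exists_generator D
  have hsS : s ∈ S := hs ▸ Subgroup.mem_zpowers s
  have hso : orderOf s = Nat.card S := by rw [← Nat.card_zpowers, hs]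
  have hcord : ∀ c : C, orderOf (c : Γ) ∣ Nat.card G := fun c =>
    Nat.card_zpowers (c : Γ) ▸ Subgroup.card_dvd_of_le (Subgroup.zpowers_le.2 (hCG c.2))
  have hpow : ∀ {k : ℕ}, k ≡ 1 [MOD Nat.card G] → ∀ c : C, ((c : Γ) * s) ^ k = (c : Γ) * s ^ k := by
    intro k hk c
    have hcomm : Commute (c : Γ) s := (((mem_C D).1 c.2).2 s hsS).symm
    rw [hcomm.mul_pow, show (c : Γ) ^ k = (c : Γ) ^ 1 from
      pow_eq_pow_iff_modEq.2 (hk.of_dvd (hcord c)), pow_one]
  have hgen : ∀ t : Γ, Subgroup.zpowers t = S → ∀ c : C, χh ((c : Γ) * t) = χh ((c : Γ) * s) := by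
    intro t ht c
    have hmem : t ∈ Subgroup.zpowers s := by rw [hs, ← ht]; exact Subgroup.mem_zpowers t
    obtain ⟨j, rfl⟩ := mem_powers_iff_mem_zpowers.2 hmem
    have hj : j.Coprime (Nat.card S) := by
      have e : orderOf (s ^ j) = orderOf s := by rw [← Nat.card_zpowers, ht, hso]
      have hdiv : orderOf (s ^ j) = orderOf s / (orderOf s).gcd j := orderOf_pow s
      rw [e, hso] at hdiv
      have hgd : (Nat.card S).gcd j ∣ Nat.card S := Nat.gcd_dvd_left _ _
      have := Nat.div_mul_cancel hgd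
      rw [← hdiv] at this
      exact (Nat.coprime_comm).1 (Nat.eq_of_mul_eq_mul_left Nat.card_pos (this.trans (mul_one _).symm))
    obtain ⟨k, hk1, hk2, hkc⟩ := exists_crt D j hj
    rw [← canon_fixed G S D.htop D.hcop χ.2 h he hk1 hkc ((c : Γ) * s), hpow hk1]
    congr 2
    exact pow_eq_pow_iff_modEq.2 (hso ▸ hk2.symm)
  obtain ⟨β, ε, hε, hβ⟩ := exists_correspondent_at D χ h he hsS (fix_generator D hs)
  exact ⟨β, ε, hε, fun c t ht => (hgen t ht c).trans (hβ c)⟩

/-- A correspondent is a constituent. -/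
theorem classInner_ne_zero [Fintype C] [Fintype G] {χh : Γ → ℂ} (h : IsCharacter Γ χh)
    {β : IrrCharacter C} {ε : ℤ} (hε : ε = 1 ∨ ε = -1) {s : Γ} (hs : s ∈ S)
    (hβ : ∀ c : C, χh ((c : Γ) * s) = (ε : ℂ) * (β : C → ℂ) c) :
    classInner (fun c : C => χh c) (β : C → ℂ) ≠ 0 := by
  classical
  haveI := D.hcyc
  letI : CommGroup S := IsCyclic.commGroup
  haveI : Finite (S →* ℂˣ) := Finite.of_injective (β := IrrCharacter S)
    (fun f => ⟨_, isIrrCharacter_linear f⟩)
    fun _ _ e => CharExtend.detHom_unique (congrArg Subtype.val e)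
  haveI : Fintype (S →* ℂˣ) := Fintype.ofFinite _
  obtain ⟨a, ha⟩ := exists_slice_mult D h β
  intro h0
  have h1 := ha 1
  rw [show slice (C := C) χh ((1 : S) : Γ) = fun c : C => χh c from funext fun c => by
    show χh ((c : Γ) * ((1 : S) : Γ)) = _
    rw [OneMemClass.coe_one, mul_one], h0] at h1
  simp only [map_one, Units.val_one, mul_one] at h1
  have hz : ∀ l, a l = 0 := fun l => by
    have : ∑ l, a l = 0 := by exact_mod_cast h1.symm
    exact Finset.sum_eq_zero_iff.1 this l (Finset.mem_univ _)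
  have h2 := ha ⟨s, hs⟩
  rw [show slice (C := C) χh s = (ε : ℂ) • (β : C → ℂ) from funext hβ, classInner_smul_left,
    classInner_self_irr β.2, mul_one] at h2
  simp only [hz, Nat.cast_zero, zero_mul, Finset.sum_const_zero, Int.cast_eq_zero] at h2
  omega

/-- Correspondents of different characters differ. -/
theorem eq_of_common [Fintype C] [Fintype G] {χ χ' : IrrCharacter G} {χh χh' : Γ → ℂ}
    (h : IsIrrCharacter Γ χh) (h' : IsIrrCharacter Γ χh') (he : ∀ g : G, χh g = (χ : G → ℂ) g)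
    (he' : ∀ g : G, χh' g = (χ' : G → ℂ) g) {β : IrrCharacter C} {ε ε' : ℤ} (hε : ε ≠ 0)
    (hε' : ε' ≠ 0) {s : Γ} (hs : Subgroup.zpowers s = S)
    (hβ : ∀ c : C, χh ((c : Γ) * s) = (ε : ℂ) * (β : C → ℂ) c)
    (hβ' : ∀ c : C, χh' ((c : Γ) * s) = (ε' : ℂ) * (β : C → ℂ) c) : χ = χ' := by
  by_contra hne
  have h0 := (slice_orth D h h' he he' (hs ▸ Subgroup.mem_zpowers s) (fix_generator D hs)).1 hne
  rw [show slice (C := C) χh s = (ε : ℂ) • (β : C → ℂ) from funext hβ,
    show slice (C := C) χh' s = (ε' : ℂ) • (β : C → ℂ) from funext hβ', classInner_smul_left,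
    classInner_smul_right, classInner_self_irr β.2, map_intCast, mul_one, mul_eq_zero,
    Int.cast_eq_zero, Int.cast_eq_zero] at h0
  exact h0.elim hε hε'

/-- Every irreducible character of `C` occurs. -/
theorem exists_of_correspondent [Fintype C] [Fintype G] (β : IrrCharacter C) :
    ∃ (χ : IrrCharacter G) (χh : Γ → ℂ) (ε : ℤ), (∀ x : Γ, conjChar G x (χ : G → ℂ) = χ) ∧
      IsCanon S χh ∧ (∀ g : G, χh g = (χ : G → ℂ) g) ∧ (ε = 1 ∨ ε = -1) ∧
      ∀ c : C, ∀ s : Γ, Subgroup.zpowers s = S → χh ((c : Γ) * s) = (ε : ℂ) * (β : C → ℂ) c := by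
  classical
  have hCG : C ≤ G := fun c hc => ((mem_C D).1 hc).1
  obtain ⟨s, hs⟩ := exists_generator D
  let φ := CoprimeDegree.actOn G S
  let P := {χ : IrrCharacter G // IsInv φ (χ : G → ℂ)}
  have hP : ∀ χ : P, ∀ x : Γ, conjChar G x (χ.1 : G → ℂ) = χ.1 := fun χ =>
    (CoprimeDegree.isInv_iff G S D.htop χ.1.2).1 χ.2
  choose χh hcan he using fun χ : P => exists_canon G S D.htop D.hcop χ.1.2 (hP χ)
  choose f ε hε hf using fun χ : P => exists_correspondent D χ.1 (hcan χ) (he χ)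
  have hne : ∀ χ, ε χ ≠ 0 := fun χ => by rcases hε χ with e | e <;> rw [e] <;> decide
  have hinj : Function.Injective f := fun a b hab => Subtype.ext
    (eq_of_common D (hcan a).1 (hcan b).1 (he a) (he b) (hne a) (hne b) hs
      (fun c => hf a c s hs) (fun c => by rw [hab]; exact hf b c s hs))
  have hsolv : Group.IsSolvable S := by
    haveI := D.hcyc
    letI : CommGroup S := IsCyclic.commGroup
    exact inferInstance
  have hcard : Nat.card P = Nat.card (IrrCharacter C) := by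
    rw [CoprimeCount.card_inv_irr_fixed G S φ hsolv D.hcop, CoprimeDegree.card_classes_fixed,
      card_irrCharacter]
    exact CoprimeCount.card_classes_congr (MulEquiv.subgroupCongr D.hC).symm
  have hbij := (Nat.bijective_iff_injective_and_card f).2 ⟨hinj, hcard⟩
  obtain ⟨χ, rfl⟩ := hbij.2 β
  exact ⟨χ.1, χh χ, ε χ, hP χ, hcan χ, he χ, hε χ, hf χ⟩

end Fixed

end Cfsg.Agent.GlaubCyc
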