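import Cfsg.Agent.Lib.Char.Basic
import Mathlib.RepresentationTheory.Invariants

/-!
# Average of a representation and fixed vectors
-/

set_option linter.style.haveILetI false
set_option linter.unusedSectionVars false

namespace Cfsg.Agent.Char

open scoped ComplexConjugate
open Module

universe u v

variable {G : Type u} [Group G] [Fintype G]
variable {V : Type v} [AddCommGroup V] [Module ℂ V] [FiniteDimensional ℂ V]

/-- The averaging projection. -/
noncomputable def avgMap (ρ : Representation ℂ G V) : V →ₗ[ℂ] V :=
  (Nat.card G : ℂ)⁻¹ • ∑ g : G, ρ g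

theorem avgMap_apply (ρ : Representation ℂ G V) (x : V) :
    avgMap ρ x = (Nat.card G : ℂ)⁻¹ • ∑ g : G, ρ g x := by
  simp [avgMap, LinearMap.sum_apply]

theorem isProj_avgMap (ρ : Representation ℂ G V) : LinearMap.IsProj ρ.invariants (avgMap ρ) := by
  refine ⟨fun x => ?_, fun x hx => ?_⟩
  · rw [Representation.mem_invariants]
    intro h
    rw [avgMap_apply, map_smul, map_sum]
    congr 1
    refine Fintype.sum_equiv (Equiv.mulLeft h) _ _ fun g => ?_
    simp
  · rw [avgMap_apply, Finset.sum_congr rfl fun g _ => (Representation.mem_invariants ρ x).mp hx g,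
      Finset.sum_const, Finset.card_univ, ← Nat.card_eq_fintype_card, ← Nat.cast_smul_eq_nsmul ℂ,
      smul_smul, inv_mul_cancel₀ (Nat.cast_ne_zero.mpr Nat.card_pos.ne'), one_smul]

theorem sum_char_eq_finrank_invariants (ρ : Representation ℂ G V) :
    (Nat.card G : ℂ)⁻¹ * ∑ g : G, ρ.character g = (finrank ℂ ρ.invariants : ℂ) := by
  rw [← (isProj_avgMap ρ).trace, avgMap, map_smul, map_sum, smul_eq_mul]
  rfl

theorem classInner_one_eq_finrank_invariants (ρ : Representation ℂ G V) :
    Cfsg.classInner ρ.character (fun _ => 1) = (finrank ℂ ρ.invariants : ℂ) := by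
  rw [← sum_char_eq_finrank_invariants]
  simp [Cfsg.classInner]

/-- The only irreducible representation with a fixed vector is the trivial one. -/
theorem invariants_eq_bot (ρ : Representation ℂ G V) [ρ.IsIrreducible]
    (h : ρ.character ≠ fun _ => 1) : ρ.invariants = ⊥ := by
  have hd := classInner_one_eq_finrank_invariants ρ
  rw [classInner_irr_of_ne (isIrrCharacter_of_rep ρ) isIrrCharacter_one h] at hd
  exact Submodule.finrank_eq_zero.mp (by exact_mod_cast hd.symm)

end Cfsg.Agent.Char
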