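/-
Averages of a representation over a subgroup, and determinants of involutions.
-/
import Cfsg.Agent.Lib.Char.Invariants
import Cfsg.Agent.Lib.Char.ExtensionChar
import Cfsg.Agent.Lib.Char.Integral
import Mathlib.LinearAlgebra.Determinant

set_option linter.unusedSectionVars false
set_option linter.style.haveILetI false

namespace Cfsg.Agent.Char

open Cfsg Module

universe u

variable {G : Type u} [Group G] [Finite G]

/-- A character that is orthogonal to the trivial character on a subgroup sums to zero on every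
translate of it. -/
theorem sum_translate_eq_zero {χ : G → ℂ} (hχ : IsCharacter G χ) (P : Subgroup G) [Fintype P]
    (h : ∑ y : P, χ y = 0) (g : G) : ∑ y : P, χ ((y : G) * g) = 0 := by
  obtain ⟨n, ρ, rfl⟩ := hχ
  let τ : Representation ℂ P (Fin n → ℂ) := ρ.comp P.subtype
  have h1 : (finrank ℂ τ.invariants : ℂ) = 0 := by
    rw [← sum_char_eq_finrank_invariants τ,
      show ∑ y : P, τ.character y = ∑ y : P, ρ.character y from rfl, h, mul_zero]
  have h2 : τ.invariants = ⊥ := Submodule.finrank_eq_zero.1 (Nat.cast_eq_zero.1 h1)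
  have h3 : avgMap τ = 0 := LinearMap.ext fun x => by
    have := (isProj_avgMap τ).map_mem x
    rw [h2, Submodule.mem_bot] at this
    exact this
  have h4 : ∑ y : P, τ y = 0 := by
    rw [avgMap, smul_eq_zero] at h3
    exact h3.resolve_left (inv_ne_zero (Nat.cast_ne_zero.2 Nat.card_pos.ne'))
  calc ∑ y : P, ρ.character ((y : G) * g)
      = LinearMap.trace ℂ (Fin n → ℂ) ((∑ y : P, τ y) * ρ g) := by
        rw [Finset.sum_mul, map_sum]
        refine Finset.sum_congr rfl fun y _ => ?_
        show LinearMap.trace ℂ (Fin n → ℂ) (ρ ((y : G) * g)) = _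
        rw [map_mul]
        rfl
    _ = 0 := by rw [h4, zero_mul, map_zero]

/-- The determinant of an involution of trace zero. -/
theorem det_eq_neg_one_pow {V : Type*} [AddCommGroup V] [Module ℂ V] [FiniteDimensional ℂ V]
    (f : V →ₗ[ℂ] V) (hf : f * f = 1) (htr : LinearMap.trace ℂ V f = 0) {m : ℕ}
    (hm : finrank ℂ V = 2 * m) : LinearMap.det f = (-1) ^ m := by
  set F : V →ₗ[ℂ] V := (2 : ℂ)⁻¹ • (1 + f) with hF
  have hidem : F * F = F := by
    rw [hF, smul_mul_smul_comm, add_mul, mul_add, mul_add, one_mul, one_mul, mul_one, hf]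
    rw [show (1 : V →ₗ[ℂ] V) + f + (f + 1) = (2 : ℂ) • (1 + f) by rw [two_smul]; abel,
      smul_smul, mul_assoc, inv_mul_cancel₀ two_ne_zero, mul_one]
  have hproj : LinearMap.IsProj (LinearMap.range F) F :=
    ⟨fun x => LinearMap.mem_range_self F x, fun x hx => by
      obtain ⟨z, rfl⟩ := hx
      exact LinearMap.congr_fun hidem z⟩
  have h1 : (finrank ℂ (LinearMap.range F) : ℂ) = (m : ℂ) := by
    rw [← hproj.trace, hF, map_smul, map_add, htr, Module.End.one_eq_id, LinearMap.trace_id, hm]
    simp
  have h1' : finrank ℂ (LinearMap.range F) = m := Nat.cast_injective h1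
  have h2 : finrank ℂ (LinearMap.ker F) = m := by
    have := LinearMap.finrank_range_add_finrank_ker F
    omega
  set e := (LinearMap.range F).prodEquivOfIsCompl (LinearMap.ker F) hproj.isCompl with he
  have h3 : f = e.conj (LinearMap.prodMap LinearMap.id ((-1 : ℂ) • LinearMap.id)) := by
    have h4 : f = (2 : ℂ) • F - LinearMap.id := by
      rw [hF, smul_smul, mul_inv_cancel₀ (two_ne_zero), one_smul, Module.End.one_eq_id]
      abel
    have h6 : LinearMap.prodMap (LinearMap.id : LinearMap.range F →ₗ[ℂ] LinearMap.range F)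
        ((-1 : ℂ) • (LinearMap.id : LinearMap.ker F →ₗ[ℂ] LinearMap.ker F)) =
        (2 : ℂ) • LinearMap.prodMap LinearMap.id 0 - LinearMap.id := by
      refine LinearMap.ext fun x => Prod.ext ?_ ?_
      · simp [two_smul]
      · simp
    rw [h6, map_sub, map_smul, LinearEquiv.conj_id, ← hproj.eq_conj_prodMap]
    exact h4
  rw [h3, LinearEquiv.conj_apply, LinearMap.comp_assoc, LinearMap.det_conj, LinearMap.det_prodMap,
    LinearMap.det_id, LinearMap.det_smul, LinearMap.det_id, h2, one_mul, mul_one]

/-- In a group without nontrivial linear characters no involution has trace zero in a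
representation of twice odd degree. -/
theorem false_of_involution_zero (hperf : ∀ f : G →* ℂˣ, f = 1) {χ : G → ℂ}
    (hχ : IsCharacter G χ) {m : ℕ} (hm : Odd m) (h1 : χ 1 = ((2 * m : ℕ) : ℂ)) {t : G}
    (ht : t * t = 1) (h0 : χ t = 0) : False := by
  obtain ⟨n, ρ, rfl⟩ := hχ
  have hd : LinearMap.det (ρ t) = 1 := by
    have h2 := DFunLike.congr_fun (hperf (Cfsg.Agent.CharExtend.detHom ρ)) t
    rw [← Cfsg.Agent.CharExtend.detHom_apply, h2, MonoidHom.one_apply, Units.val_one]
  have hn : Module.finrank ℂ (Fin n → ℂ) = 2 * m := by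
    rw [Representation.char_one] at h1
    exact Nat.cast_injective h1
  rw [det_eq_neg_one_pow (ρ t) (by rw [← map_mul, ht, map_one]) h0 hn, hm.neg_one_pow] at hd
  norm_num at hd

end Cfsg.Agent.Char
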