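import Mathlib.Algebra.Group.Subgroup.Basic
import Mathlib.Analysis.SpecialFunctions.Pow.Real
import Mathlib.GroupTheory.Commutator.Basic
import Mathlib.GroupTheory.Abelianization.Defs
import Mathlib.GroupTheory.SpecificGroups.Alternating
import Mathlib.LinearAlgebra.Matrix.NonsingularInverse
import Mathlib.GroupTheory.OrderOfElement
import Mathlib.GroupTheory.QuotientGroup.Finite

/-!
# A double cover of the alternating group from signed monomial matrices
-/

set_option linter.style.haveILetI false
set_option linter.unusedSectionVars false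
set_option maxHeartbeats 1000000

namespace Cfsg.Agent.AltCover

open Matrix Equiv
open scoped symmDiff

variable {n : ℕ}

/-- The matrices indexed by sets of letters. -/
abbrev Mat (n : ℕ) := Matrix (Finset (Fin n)) (Finset (Fin n)) ℝ

def sgnL (i : Fin n) (S : Finset (Fin n)) : ℝ := (-1) ^ (S.filter fun j => j < i).card
def sgnR (i : Fin n) (S : Finset (Fin n)) : ℝ := (-1) ^ (S.filter fun j => i < j).card
def par (S : Finset (Fin n)) : ℝ := (-1) ^ S.card

/-- The left multiplications. -/
def gam (i : Fin n) : Mat n := Matrix.of fun S T => if T = S ∆ {i} then sgnL i S else 0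
/-- The right multiplications. -/
def rho (i : Fin n) : Mat n := Matrix.of fun S T => if T = S ∆ {i} then sgnR i S else 0

theorem flip_flip (S : Finset (Fin n)) (i : Fin n) : (S ∆ {i}) ∆ {i} = S :=
  symmDiff_symmDiff_cancel_right _ _

theorem flip_comm (S : Finset (Fin n)) (i j : Fin n) : (S ∆ {i}) ∆ {j} = (S ∆ {j}) ∆ {i} := by
  rw [symmDiff_assoc, symmDiff_assoc, symmDiff_comm ({i} : Finset (Fin n))]

theorem neg_one_pow_card_flip (p : Fin n → Prop) [DecidablePred p] (S : Finset (Fin n)) (j : Fin n) :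
    ((-1 : ℝ)) ^ ((S ∆ {j}).filter p).card =
      if p j then -((-1 : ℝ) ^ (S.filter p).card) else (-1 : ℝ) ^ (S.filter p).card := by
  by_cases hj : j ∈ S
  · rw [show S ∆ {j} = S.erase j by ext x; simp [Finset.mem_symmDiff]; grind]
    split_ifs with hp
    · rw [Finset.filter_erase]
      have h : j ∈ S.filter p := Finset.mem_filter.mpr ⟨hj, hp⟩
      rw [← Finset.card_erase_add_one h, pow_succ]
      ring
    · rw [Finset.filter_erase, Finset.erase_eq_of_notMem (by simp [hp])]
  · rw [show S ∆ {j} = insert j S by ext x; simp [Finset.mem_symmDiff]; grind, Finset.filter_insert]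
    split_ifs with hp
    · rw [Finset.card_insert_of_notMem (by simp [hj]), pow_succ]
      ring
    · rfl

theorem sgnL_flip (i j : Fin n) (S : Finset (Fin n)) :
    sgnL i (S ∆ {j}) = if j < i then -sgnL i S else sgnL i S :=
  neg_one_pow_card_flip (fun k => k < i) S j

theorem sgnR_flip (i j : Fin n) (S : Finset (Fin n)) :
    sgnR i (S ∆ {j}) = if i < j then -sgnR i S else sgnR i S :=
  neg_one_pow_card_flip (fun k => i < k) S j

theorem par_flip (j : Fin n) (S : Finset (Fin n)) : par (S ∆ {j}) = -par S := by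
  simpa [par] using neg_one_pow_card_flip (fun _ => True) S j

theorem sgnL_mul_self (i : Fin n) (S : Finset (Fin n)) : sgnL i S * sgnL i S = 1 := by
  rw [sgnL, ← mul_pow]; norm_num

theorem par_ne_zero (S : Finset (Fin n)) : par S ≠ 0 := pow_ne_zero _ (by norm_num)

theorem sgnL_mul_sgnR (i : Fin n) (S : Finset (Fin n)) :
    sgnL i S * sgnR i S = if i ∈ S then -par S else par S := by
  have h : (S.filter fun j => j < i).card + (S.filter fun j => i < j).card +
      (S.filter fun j => j = i).card = S.card := by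
    rw [← Finset.card_union_of_disjoint, ← Finset.card_union_of_disjoint]
    · congr 1
      ext x
      simp
      grind
    · simp [Finset.disjoint_left]; grind
    · simp [Finset.disjoint_left]; grind
  rw [sgnL, sgnR, ← pow_add, par, ← h, Finset.filter_eq']
  split_ifs with hi
  · rw [Finset.card_singleton, pow_succ]; ring
  · simp

theorem gam_mul (i : Fin n) (X : Mat n) (S T : Finset (Fin n)) :
    (gam i * X) S T = sgnL i S * X (S ∆ {i}) T := by
  simp [gam, Matrix.mul_apply]

theorem rho_mul (i : Fin n) (X : Mat n) (S T : Finset (Fin n)) :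
    (rho i * X) S T = sgnR i S * X (S ∆ {i}) T := by
  simp [rho, Matrix.mul_apply]

theorem transpose_gam (i : Fin n) : (gam i)ᵀ = gam i := by
  ext S T
  simp only [Matrix.transpose_apply, gam, Matrix.of_apply]
  by_cases h : T = S ∆ {i}
  · subst h
    rw [flip_flip, if_pos rfl, if_pos rfl, sgnL_flip, if_neg (lt_irrefl i)]
  · rw [if_neg h, if_neg]
    rintro rfl
    exact h (flip_flip _ _).symm

theorem gam_sq (i : Fin n) : gam i * gam i = 1 := by
  ext S T
  rw [gam_mul, gam, Matrix.of_apply, flip_flip, sgnL_flip, if_neg (lt_irrefl i), Matrix.one_apply]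
  split_ifs <;> simp_all [sgnL_mul_self]

theorem gam_anti {i j : Fin n} (h : i ≠ j) : gam j * gam i = -(gam i * gam j) := by
  ext S T
  rw [Matrix.neg_apply, gam_mul, gam_mul, gam, gam, Matrix.of_apply, Matrix.of_apply,
    flip_comm S j i, sgnL_flip, sgnL_flip]
  rcases lt_or_gt_of_ne h with hl | hl <;> simp only [hl, hl.not_gt, if_true, if_false] <;>
    split_ifs <;> ring

theorem gam_rho (i j : Fin n) : gam i * rho j = rho j * gam i := by
  ext S T
  rw [gam_mul, rho_mul, gam, rho, Matrix.of_apply, Matrix.of_apply, flip_comm S j i, sgnL_flip,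
    sgnR_flip]
  rcases lt_trichotomy i j with hl | rfl | hl <;>
    split_ifs <;> ring

theorem gam_par (i : Fin n) : gam i * Matrix.diagonal par = -(Matrix.diagonal par * gam i) := by
  ext S T
  rw [Matrix.neg_apply, gam_mul, Matrix.diagonal_mul, Matrix.diagonal_apply, gam, Matrix.of_apply]
  by_cases h : T = S ∆ {i}
  · subst h
    rw [if_pos rfl, if_pos rfl, par_flip]; ring
  · rw [if_neg h, if_neg (fun e => h e.symm)]; ring

theorem gam_injective : Function.Injective (gam : Fin n → Mat n) := by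
  intro i j h
  have := congrFun (congrFun h ∅) {i}
  have hb : (∅ : Finset (Fin n)) = ⊥ := rfl
  simp only [gam, Matrix.of_apply, hb, bot_symmDiff, if_true] at this
  by_contra hne
  rw [if_neg (by simpa using hne)] at this
  simp [sgnL] at this

/-- A matrix commuting with both families and the parity is scalar. -/
theorem eq_scalar (X : Mat n) (hL : ∀ i, X * gam i = gam i * X) (hR : ∀ i, X * rho i = rho i * X)
    (hP : X * Matrix.diagonal par = Matrix.diagonal par * X) : ∃ c : ℝ, X = c • 1 := by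
  have hd : ∀ i : Fin n, gam i * rho i = Matrix.diagonal fun S => sgnL i S * sgnR i S := by
    intro i
    ext S T
    rw [gam_mul, rho, Matrix.of_apply, flip_flip, sgnR_flip, if_neg (lt_irrefl i),
      Matrix.diagonal_apply]
    split_ifs <;> simp_all
  have hoff : ∀ S T, S ≠ T → X S T = 0 := by
    intro S T hne
    by_contra hX
    have hp : par S = par T := by
      have := congrFun (congrFun hP S) T
      rw [Matrix.mul_diagonal, Matrix.diagonal_mul, mul_comm (par S)] at this
      exact (mul_left_cancel₀ hX this).symm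
    refine hne (Finset.ext fun i => ?_)
    have hc : X * (gam i * rho i) = (gam i * rho i) * X := by
      rw [← mul_assoc, hL, mul_assoc, hR, ← mul_assoc]
    have := congrFun (congrFun hc S) T
    rw [hd, Matrix.mul_diagonal, Matrix.diagonal_mul, mul_comm (sgnL i S * sgnR i S)] at this
    have h := mul_left_cancel₀ hX this
    rw [sgnL_mul_sgnR, sgnL_mul_sgnR, hp] at h
    have := par_ne_zero T
    by_cases hiS : i ∈ S <;> by_cases hiT : i ∈ T <;> simp [hiS, hiT] at h ⊢ <;> grind
  have hflip : ∀ S i, X (S ∆ {i}) (S ∆ {i}) = X S S := by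
    intro S i
    have := congrFun (congrFun (hL i) S) (S ∆ {i})
    rw [gam_mul, Matrix.mul_apply, Finset.sum_eq_single S (fun T _ hT => by
      rw [hoff S T (Ne.symm hT), zero_mul]) (by simp), gam, Matrix.of_apply, if_pos rfl,
      mul_comm] at this
    exact (mul_left_cancel₀ (pow_ne_zero _ (by norm_num)) this).symm
  have hconst : ∀ S, X S S = X ∅ ∅ := by
    intro S
    induction S using Finset.induction with
    | empty => rfl
    | insert a S ha ih =>
      rw [show insert a S = S ∆ {a} by ext x; simp [Finset.mem_symmDiff]; grind, hflip, ih]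
  refine ⟨X ∅ ∅, ?_⟩
  ext S T
  rw [Matrix.smul_apply, Matrix.one_apply, smul_eq_mul]
  split_ifs with h
  · subst h; rw [hconst, mul_one]
  · rw [hoff S T h, mul_zero]

/-- The difference of two generators. -/
def refl (a b : Fin n) : Mat n := gam a - gam b

theorem refl_sq {a b : Fin n} (h : a ≠ b) : refl a b * refl a b = 2 := by
  simp only [refl, sub_mul, mul_sub, gam_sq, gam_anti h]
  rw [← one_add_one_eq_two]
  abel

theorem refl_conj {a b : Fin n} (h : a ≠ b) (k : Fin n) :
    refl a b * gam k = -(gam (swap a b k) * refl a b) := by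
  by_cases ha : k = a
  · subst ha
    simp only [refl, swap_apply_left, sub_mul, mul_sub, gam_sq]
    abel
  by_cases hb : k = b
  · subst hb
    simp only [refl, swap_apply_right, sub_mul, mul_sub, gam_sq]
    abel
  rw [swap_apply_of_ne_of_ne ha hb]
  simp only [refl, sub_mul, mul_sub, gam_anti ha, gam_anti hb]
  abel

theorem refl_rho (a b i : Fin n) : refl a b * rho i = rho i * refl a b := by
  simp only [refl, sub_mul, mul_sub, gam_rho]

theorem refl_par (a b : Fin n) :
    refl a b * Matrix.diagonal par = -(Matrix.diagonal par * refl a b) := by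
  simp only [refl, sub_mul, mul_sub, gam_par]
  abel

theorem transpose_refl (a b : Fin n) : (refl a b)ᵀ = refl a b := by
  simp [refl, transpose_gam]

/-- The key anticommutation. -/
theorem quad_anti {R : Type*} [Ring R] (a b c d : R) (haa : a * a = 1) (hbb : b * b = 1)
    (hcc : c * c = 1) (hdd : d * d = 1) (hba : b * a = -(a * b)) (hca : c * a = -(a * c))
    (hda : d * a = -(a * d)) (hcb : c * b = -(b * c)) (hdb : d * b = -(b * d))
    (hdc : d * c = -(c * d)) :
    (a - b) * (c - d) * ((a - c) * (b - d)) = -((a - c) * (b - d) * ((a - b) * (c - d))) := by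
  have r1 : ∀ x, a * (a * x) = x := fun x => by rw [← mul_assoc, haa, one_mul]
  have r2 : ∀ x, b * (b * x) = x := fun x => by rw [← mul_assoc, hbb, one_mul]
  have r3 : ∀ x, c * (c * x) = x := fun x => by rw [← mul_assoc, hcc, one_mul]
  have r4 : ∀ x, d * (d * x) = x := fun x => by rw [← mul_assoc, hdd, one_mul]
  have s1 : ∀ x, b * (a * x) = -(a * (b * x)) := fun x => by rw [← mul_assoc, hba, neg_mul, mul_assoc]
  have s2 : ∀ x, c * (a * x) = -(a * (c * x)) := fun x => by rw [← mul_assoc, hca, neg_mul, mul_assoc]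
  have s3 : ∀ x, d * (a * x) = -(a * (d * x)) := fun x => by rw [← mul_assoc, hda, neg_mul, mul_assoc]
  have s4 : ∀ x, c * (b * x) = -(b * (c * x)) := fun x => by rw [← mul_assoc, hcb, neg_mul, mul_assoc]
  have s5 : ∀ x, d * (b * x) = -(b * (d * x)) := fun x => by rw [← mul_assoc, hdb, neg_mul, mul_assoc]
  have s6 : ∀ x, d * (c * x) = -(c * (d * x)) := fun x => by rw [← mul_assoc, hdc, neg_mul, mul_assoc]
  simp only [sub_mul, mul_sub, mul_assoc, haa, hbb, hcc, hdd, hba, hca, hda, hcb, hdb, hdc,
    r1, r2, r3, r4, s1, s2, s3, s4, s5, s6, mul_neg, neg_mul, neg_neg, mul_one, one_mul]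
  abel

/-- The cover. -/
def cover (n : ℕ) : Subgroup ((Mat n)ˣ × alternatingGroup (Fin n)) where
  carrier := {p | (∀ k : Fin n, (p.1 : Mat n) * gam k = gam ((p.2 : Perm (Fin n)) k) * p.1) ∧
    (∀ i : Fin n, (p.1 : Mat n) * rho i = rho i * p.1) ∧
    (p.1 : Mat n) * Matrix.diagonal (par (n := n)) = Matrix.diagonal (par (n := n)) * p.1 ∧
    (p.1 : Mat n)ᵀ * p.1 = 1}
  one_mem' := by simp
  mul_mem' := by
    rintro p q ⟨a1, a2, a3, a4⟩ ⟨b1, b2, b3, b4⟩
    refine ⟨fun k => ?_, fun i => ?_, ?_, ?_⟩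
    · simp only [Prod.fst_mul, Prod.snd_mul, Units.val_mul, Subgroup.coe_mul, Perm.mul_apply]
      rw [mul_assoc, b1, ← mul_assoc, a1, mul_assoc]
    · simp only [Prod.fst_mul, Units.val_mul]
      rw [mul_assoc, b2, ← mul_assoc, a2, mul_assoc]
    · simp only [Prod.fst_mul, Units.val_mul]
      rw [mul_assoc, b3, ← mul_assoc, a3, mul_assoc]
    · simp only [Prod.fst_mul, Units.val_mul, Matrix.transpose_mul]
      rw [mul_assoc, ← mul_assoc (p.1 : Mat n)ᵀ, a4, one_mul, b4]
  inv_mem' := by
    rintro p ⟨a1, a2, a3, a4⟩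
    refine ⟨fun k => ?_, fun i => ?_, ?_, ?_⟩
    · simp only [Prod.fst_inv, Prod.snd_inv, Subgroup.coe_inv]
      rw [Units.inv_mul_eq_iff_eq_mul, ← mul_assoc, a1, mul_assoc, Units.mul_inv, mul_one]
      simp
    · simp only [Prod.fst_inv]
      rw [Units.inv_mul_eq_iff_eq_mul, ← mul_assoc, a2, mul_assoc, Units.mul_inv, mul_one]
    · simp only [Prod.fst_inv]
      rw [Units.inv_mul_eq_iff_eq_mul, ← mul_assoc, a3, mul_assoc, Units.mul_inv, mul_one]
    · simp only [Prod.fst_inv]
      rw [Units.inv_eq_of_mul_eq_one_left a4, Matrix.transpose_transpose]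
      exact mul_eq_one_comm.mp a4

theorem exists_lift {a b c d : Fin n} (hab : a ≠ b) (hcd : c ≠ d) :
    ∃ p : cover n, ((p : (Mat n)ˣ × alternatingGroup (Fin n)).2 : Perm (Fin n)) =
      swap a b * swap c d ∧
      ((p : (Mat n)ˣ × alternatingGroup (Fin n)).1 : Mat n) = (2 : ℝ)⁻¹ • (refl a b * refl c d) := by
  have hW : ((2 : ℝ)⁻¹ • (refl a b * refl c d))ᵀ * ((2 : ℝ)⁻¹ • (refl a b * refl c d)) = 1 := by
    rw [Matrix.transpose_smul, Matrix.transpose_mul, transpose_refl, transpose_refl, smul_mul_smul_comm,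
      mul_assoc, ← mul_assoc (refl a b), refl_sq hab, two_mul, mul_add, refl_sq hcd,
      show (2 : Mat n) + 2 = (4 : ℝ) • 1 by
        rw [show (4 : ℝ) = 1 + 1 + 1 + 1 by norm_num, add_smul, add_smul, add_smul, one_smul,
          ← one_add_one_eq_two]; abel,
      smul_smul]
    norm_num
  let U : (Mat n)ˣ := ⟨(2 : ℝ)⁻¹ • (refl a b * refl c d), ((2 : ℝ)⁻¹ • (refl a b * refl c d))ᵀ,
    mul_eq_one_comm.mp hW, hW⟩
  refine ⟨⟨(U, ⟨swap a b * swap c d, ?_⟩), fun k => ?_, fun i => ?_, ?_, hW⟩, rfl, rfl⟩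
  · simp [Perm.mem_alternatingGroup, Perm.sign_swap hab, Perm.sign_swap hcd]
  · show ((2 : ℝ)⁻¹ • (refl a b * refl c d)) * gam k =
      gam (swap a b (swap c d k)) * ((2 : ℝ)⁻¹ • (refl a b * refl c d))
    rw [smul_mul_assoc, mul_smul_comm, mul_assoc, refl_conj hcd, mul_neg, ← mul_assoc,
      refl_conj hab, neg_mul, neg_neg, mul_assoc]
  · show ((2 : ℝ)⁻¹ • (refl a b * refl c d)) * rho i =
      rho i * ((2 : ℝ)⁻¹ • (refl a b * refl c d))
    rw [smul_mul_assoc, mul_smul_comm, mul_assoc, refl_rho, ← mul_assoc, refl_rho, mul_assoc]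
  · show ((2 : ℝ)⁻¹ • (refl a b * refl c d)) * Matrix.diagonal par =
      Matrix.diagonal par * ((2 : ℝ)⁻¹ • (refl a b * refl c d))
    rw [smul_mul_assoc, mul_smul_comm, mul_assoc, refl_par, mul_neg, ← mul_assoc, refl_par,
      neg_mul, neg_neg, mul_assoc]

theorem exists_double_cover (n : ℕ) (hn : 4 ≤ n) :
    ∃ (Γ : Type) (_ : Group Γ) (_ : Finite Γ) (z : Γ) (_ : z ∈ Subgroup.center Γ), orderOf z = 2 ∧
      z ∈ commutator Γ ∧ ∃ _ : (Subgroup.zpowers z).Normal,
        Nonempty (Γ ⧸ Subgroup.zpowers z ≃* alternatingGroup (Fin n)) := by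
  classical
  let f : cover n →* alternatingGroup (Fin n) := (MonoidHom.snd _ _).comp (cover n).subtype
  let z : cover n := ⟨(-1, 1), by
    refine ⟨fun k => ?_, fun i => ?_, ?_, ?_⟩ <;> simp⟩
  have hzc : z ∈ Subgroup.center (cover n) := Subgroup.mem_center_iff.mpr fun g =>
    Subtype.ext (Prod.ext (Units.ext (by simp [z])) (by simp [z]))
  have hone : (1 : Mat n) ≠ -1 := fun h => by
    have := congrFun (congrFun h ∅) ∅
    norm_num [Matrix.one_apply] at this
  have hz2 : orderOf z = 2 := orderOf_eq_prime (Subtype.ext (Prod.ext (by simp [z]) (by simp [z])))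
    fun h => hone (by simpa [z] using (congrArg (fun p : cover n => (p.1.1 : Mat n)) h).symm)
  have hker : f.ker = Subgroup.zpowers z := by
    refine le_antisymm (fun p hp => ?_) (Subgroup.zpowers_le.mpr rfl)
    have hp2 : p.1.2 = 1 := hp
    obtain ⟨c, hc⟩ := eq_scalar (p.1.1 : Mat n)
      (fun i => by simpa [hp2] using p.2.1 i) p.2.2.1 p.2.2.2.1
    have h := p.2.2.2.2
    rw [hc, Matrix.transpose_smul, Matrix.transpose_one, smul_mul_smul_comm, one_mul] at h
    have h' : c * c = 1 := by simpa [Matrix.one_apply] using congrFun (congrFun h ∅) ∅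
    rcases mul_self_eq_one_iff.mp h' with rfl | rfl
    · have : p = 1 := Subtype.ext (Prod.ext (Units.ext (by simpa using hc)) hp2)
      rw [this]
      exact one_mem _
    · have : p = z := Subtype.ext (Prod.ext (Units.ext (by simpa [z] using hc)) hp2)
      rw [this]
      exact Subgroup.mem_zpowers z
  have hsurj : Function.Surjective f := by
    have h : alternatingGroup (Fin n) ≤ f.range.map (alternatingGroup (Fin n)).subtype := by
      refine le_trans (le_of_eq Perm.closure_three_cycles_eq_alternating.symm) ?_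
      rw [Subgroup.closure_le]
      intro g hg
      obtain ⟨a, ha⟩ := hg.isCycle.nonempty_support
      have hne : a ≠ g a := Ne.symm (Perm.mem_support.mp ha)
      obtain ⟨p, hp, -⟩ := exists_lift hne (c := g a) (d := g (g a))
        (Ne.symm (Perm.mem_support.mp (Perm.apply_mem_support.mpr ha)))
      exact ⟨f p, ⟨p, rfl⟩, hp.trans (hg.eq_swap_mul_swap_iff_mem_support.mpr ha).symm⟩
    intro g
    obtain ⟨g', ⟨p, hp⟩, e⟩ := h g.2
    exact ⟨p, hp.trans (Subtype.ext e)⟩
  haveI hfin : Finite (cover n) := by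
    haveI : Finite (cover n ⧸ f.ker) :=
      Finite.of_equiv _ (QuotientGroup.quotientKerEquivOfSurjective f hsurj).symm.toEquiv
    haveI : Finite f.ker := by
      rw [hker]
      exact Nat.finite_of_card_ne_zero (by rw [Nat.card_zpowers, hz2]; norm_num)
    exact Finite.of_equiv _ (Subgroup.groupEquivQuotientProdSubgroup (s := f.ker)).symm
  haveI hn' : (Subgroup.zpowers z).Normal := hker ▸ MonoidHom.normal_ker f
  refine ⟨cover n, inferInstance, hfin, z, hzc, hz2, ?_, hn',
    ⟨(QuotientGroup.quotientMulEquivOfEq hker.symm).trans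
      (QuotientGroup.quotientKerEquivOfSurjective f hsurj)⟩⟩
  set i0 : Fin n := ⟨0, by omega⟩
  set i1 : Fin n := ⟨1, by omega⟩
  set i2 : Fin n := ⟨2, by omega⟩
  set i3 : Fin n := ⟨3, by omega⟩
  have h01 : i0 ≠ i1 := by simp [i0, i1]
  have h02 : i0 ≠ i2 := by simp [i0, i2]
  have h03 : i0 ≠ i3 := by simp [i0, i3]
  have h12 : i1 ≠ i2 := by simp [i1, i2]
  have h13 : i1 ≠ i3 := by simp [i1, i3]
  have h23 : i2 ≠ i3 := by simp [i2, i3]
  obtain ⟨A, hA2, hA⟩ := exists_lift h01 h23
  obtain ⟨B, hB2, hB⟩ := exists_lift h02 h13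
  have hanti : (A.1.1 : Mat n) * B.1.1 = -((B.1.1 : Mat n) * A.1.1) := by
    rw [hA, hB, smul_mul_smul_comm, smul_mul_smul_comm, ← smul_neg]
    congr 1
    exact quad_anti _ _ _ _ (gam_sq _) (gam_sq _) (gam_sq _) (gam_sq _) (gam_anti h01)
      (gam_anti h02) (gam_anti h03) (gam_anti h12) (gam_anti h13) (gam_anti h23)
  have hfst : ((A * B * A⁻¹ * B⁻¹).1.1 : Mat n) = -1 := by
    show ((A.1.1 * B.1.1 * (A.1.1)⁻¹ * (B.1.1)⁻¹ : (Mat n)ˣ) : Mat n) = -1
    rw [Units.val_mul, Units.val_mul, Units.val_mul, hanti, neg_mul, neg_mul,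
      mul_assoc (B.1.1 : Mat n), Units.mul_inv, mul_one, Units.mul_inv]
  have hAB : (A * B * A⁻¹ * B⁻¹) = z := by
    refine Subtype.ext (Prod.ext (Units.ext (by simpa [z] using hfst)) (Subtype.ext (Equiv.ext fun k => ?_)))
    have h := (A * B * A⁻¹ * B⁻¹).2.1 k
    rw [hfst] at h
    exact gam_injective (by simpa [z] using h.symm)
  exact hAB ▸ Subgroup.commutator_mem_commutator (Subgroup.mem_top A) (Subgroup.mem_top B)

end Cfsg.Agent.AltCover
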