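import Mathlib

/-!
# Banaschewski's lemma
-/

namespace Cfsg.Agent.Char

variable {S : Type*}

private theorem one_sub_prod_mem (R : AddSubgroup (S → ℤ))
    (hmul : ∀ f ∈ R, ∀ g ∈ R, f * g ∈ R) {ι : Type*} (s : Finset ι) (g : ι → S → ℤ)
    (hg : ∀ i ∈ s, 1 - g i ∈ R) : 1 - ∏ i ∈ s, g i ∈ R := by
  classical
  induction s using Finset.induction with
  | empty => simpa using R.zero_mem
  | insert a t ha ih =>
    have h1 := hg a (Finset.mem_insert_self a t)
    have h2 := ih fun i hi => hg i (Finset.mem_insert_of_mem hi)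
    rw [Finset.prod_insert ha, show 1 - g a * ∏ i ∈ t, g i =
      (1 - g a) + (1 - ∏ i ∈ t, g i) - (1 - g a) * (1 - ∏ i ∈ t, g i) by ring]
    exact R.sub_mem (R.add_mem h1 h2) (hmul _ h1 _ h2)

/-- A subring without identity of integer functions which is, at each point, nonzero modulo `p`
contains a constant prime to `p`. -/
theorem exists_const_not_dvd [Finite S] (R : AddSubgroup (S → ℤ))
    (hmul : ∀ f ∈ R, ∀ g ∈ R, f * g ∈ R) {p : ℕ} (hp : p.Prime)
    (h : ∀ x : S, ∃ f ∈ R, ¬ (p : ℤ) ∣ f x) :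
    ∃ m : ℤ, ¬ (p : ℤ) ∣ m ∧ (fun _ => m) ∈ R := by
  classical
  haveI := Fintype.ofFinite S
  haveI := Fact.mk hp
  choose f hfR hfx using h
  have hpow : ∀ g ∈ R, ∀ k : ℕ, g ^ (k + 1) ∈ R := fun g hg k => by
    induction k with
    | zero => simpa using hg
    | succ k ih => rw [pow_succ]; exact hmul _ ih _ hg
  set k := p - 2 with hk
  have hk' : k + 1 = p - 1 := by have := hp.two_le; omega
  set u := 1 - ∏ x : S, (1 - f x ^ (k + 1)) with hu
  have huR : u ∈ R := one_sub_prod_mem R hmul _ _ fun x _ => by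
    rw [sub_sub_cancel]
    exact hpow _ (hfR x) k
  have hu1 : ∀ y : S, ((u y : ℤ) : ZMod p) = 1 := fun y => by
    simp only [hu, Pi.sub_apply, Finset.prod_apply, Pi.pow_apply, Pi.one_apply, Int.cast_sub,
      Int.cast_prod, Int.cast_pow, Int.cast_one]
    rw [Finset.prod_eq_zero (Finset.mem_univ y), sub_zero]
    rw [hk', ZMod.pow_card_sub_one_eq_one
      (fun e => hfx y ((ZMod.intCast_zmod_eq_zero_iff_dvd _ p).mp e)), sub_self]
  have key : ∀ s : Finset ℤ, (fun _ : S => ∏ a ∈ s, a) - (fun y => ∏ a ∈ s, (a - u y)) ∈ R := by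
    intro s
    induction s using Finset.induction with
    | empty =>
      have e : (fun _ : S => ∏ a ∈ (∅ : Finset ℤ), a) - (fun y => ∏ a ∈ (∅ : Finset ℤ), (a - u y))
          = 0 := funext fun y => by simp
      rw [e]; exact R.zero_mem
    | insert a t ha ih =>
      set V := (fun _ : S => ∏ a ∈ t, a) - (fun y => ∏ a ∈ t, (a - u y)) with hV
      have e : (fun _ : S => ∏ b ∈ insert a t, b) - (fun y => ∏ b ∈ insert a t, (b - u y)) =
          (∏ b ∈ t, b) • u + a • V - u * V := funext fun y => by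
        simp only [hV, Pi.sub_apply, Pi.add_apply, Pi.smul_apply, Pi.mul_apply, smul_eq_mul,
          Finset.prod_insert ha]
        ring
      rw [e]
      exact R.sub_mem (R.add_mem (R.zsmul_mem huR _) (R.zsmul_mem ih _)) (hmul _ huR _ ih)
  refine ⟨∏ a ∈ Finset.univ.image u, a, fun hdvd => ?_, ?_⟩
  · have := (ZMod.intCast_zmod_eq_zero_iff_dvd _ p).mpr hdvd
    rw [Int.cast_prod, Finset.prod_eq_one fun a ha => by
      obtain ⟨y, -, rfl⟩ := Finset.mem_image.mp ha
      exact hu1 y] at this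
    exact one_ne_zero this
  · have := key (Finset.univ.image u)
    rwa [show (fun y => ∏ a ∈ Finset.univ.image u, (a - u y)) = (0 : S → ℤ) from funext fun y =>
      Finset.prod_eq_zero (Finset.mem_image_of_mem u (Finset.mem_univ y)) (sub_self _), sub_zero] at this

/-- Banaschewski's lemma. -/
theorem banaschewski [Finite S] (R : AddSubgroup (S → ℤ)) (hmul : ∀ f ∈ R, ∀ g ∈ R, f * g ∈ R)
    (h : ∀ (x : S) (p : ℕ), p.Prime → ∃ f ∈ R, ¬ (p : ℤ) ∣ f x) : (1 : S → ℤ) ∈ R := by
  let A : AddSubgroup ℤ := R.comap (Pi.constAddMonoidHom S ℤ)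
  obtain ⟨a, ha⟩ := Int.subgroup_cyclic A
  rw [← AddSubgroup.zmultiples_eq_closure] at ha
  have hA : (1 : ℤ) ∈ A := by
    by_contra h1
    rw [ha, Int.mem_zmultiples_iff] at h1
    obtain ⟨p, hp, hpa⟩ := Nat.exists_prime_and_dvd
      (fun e => h1 (Int.natAbs_dvd_natAbs.mp (by simp [e])) : a.natAbs ≠ 1)
    obtain ⟨m, hm, hmR⟩ := exists_const_not_dvd R hmul hp fun x => h x p hp
    have : m ∈ A := hmR
    rw [ha, Int.mem_zmultiples_iff] at this
    exact hm ((Int.natCast_dvd.mpr hpa).trans this)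
  exact hA

end Cfsg.Agent.Char
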