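import Cfsg.Agent.Lib.Char.FTBound
import Cfsg.Agent.Lib.Char.Clifford
import Cfsg.Agent.Lib.Char.Integral
import Cfsg.Agent.Lib.Char.Degree
import Cfsg.Agent.Lib.Solvable.Coprime
import Mathlib.GroupTheory.Perm.Cycle.Type
import Mathlib.GroupTheory.QuotientGroup.Basic
import Mathlib.Data.Nat.Prime.Factorial

/-!
# Linear groups with a large prime: representation theoretic lemmas
-/

set_option autoImplicit false
set_option linter.unusedSectionVars false
set_option linter.style.haveILetI false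

namespace Cfsg.Agent.Char.Blich

open Cfsg Cfsg.Agent Cfsg.Agent.Char
open scoped commutatorElement Classical
open Module

universe u

variable {G : Type u} [Group G] [Finite G] {n : ℕ}

/-- An element on which a character takes its degree lies in the kernel of every constituent. -/
theorem constituent_eq_degree (χ : G → ℂ) (m : IrrCharacter G → ℕ)
    (hm : χ = ∑ ψ, (m ψ : ℂ) • (ψ : G → ℂ)) {g : G} (hg : χ g = χ 1) {ψ : IrrCharacter G}
    (hψ : m ψ ≠ 0) : (ψ : G → ℂ) g = (ψ : G → ℂ) 1 := by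
  choose d hd using fun φ : IrrCharacter G => IsIrrCharacter.exists_degree φ.2
  have hnorm : ∀ φ : IrrCharacter G, ‖(φ : G → ℂ) g‖ ≤ (d φ : ℝ) := by
    intro φ
    obtain ⟨k, σ, -, hσ⟩ := id φ.2
    have h := norm_char_le σ g
    rw [show ((φ : G → ℂ)) = σ.character from hσ.symm]
    have h1 : (d φ : ℂ) = finrank ℂ (Fin k → ℂ) := by
      rw [← Representation.char_one σ, hσ, (hd φ).2]
    rw [show (d φ : ℝ) = (finrank ℂ (Fin k → ℂ) : ℝ) by exact_mod_cast h1]
    exact h
  have hre : ∀ φ : IrrCharacter G, ((φ : G → ℂ) g).re ≤ (d φ : ℝ) := fun φ =>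
    le_trans (Complex.re_le_norm _) (hnorm φ)
  have hsum : ∑ φ, (m φ : ℝ) * ((d φ : ℝ) - ((φ : G → ℂ) g).re) = 0 := by
    have h := congrArg Complex.re hg
    simp only [hm, Finset.sum_apply, Pi.smul_apply, smul_eq_mul, Complex.re_sum,
      (hd _).2, Complex.mul_re, Complex.natCast_re, Complex.natCast_im, zero_mul, mul_zero,
      sub_zero] at h
    simp only [mul_sub, Finset.sum_sub_distrib]
    linarith
  have h0 := (Finset.sum_eq_zero_iff_of_nonneg fun φ _ =>
    mul_nonneg (Nat.cast_nonneg _) (sub_nonneg.mpr (hre φ))).mp hsum ψ (Finset.mem_univ _)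
  have h1 : ((ψ : G → ℂ) g).re = (d ψ : ℝ) := by
    rcases mul_eq_zero.mp h0 with h | h
    · exact absurd (Nat.cast_eq_zero.mp h) hψ
    · linarith
  have h2 : ((ψ : G → ℂ) g).im = 0 := by
    have h := Complex.sq_norm ((ψ : G → ℂ) g)
    rw [Complex.normSq_apply, h1] at h
    have h' := pow_le_pow_left₀ (norm_nonneg _) (hnorm ψ) 2
    nlinarith [mul_self_nonneg ((ψ : G → ℂ) g).im]
  rw [(hd ψ).2]
  exact Complex.ext (by simpa using h1) (by simpa using h2)

/-- If all constituents are linear, the image is commutative. -/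
theorem comm_of_linear (ρ : Representation ℂ G (Fin n → ℂ)) (m : IrrCharacter G → ℕ)
    (hm : ρ.character = ∑ ψ, (m ψ : ℂ) • (ψ : G → ℂ))
    (hlin : ∀ ψ : IrrCharacter G, m ψ ≠ 0 → (ψ : G → ℂ) 1 = 1) (a b : G) :
    ρ (a * b) = ρ (b * a) := by
  have hc : ρ ⁅a, b⁆ = LinearMap.id := by
    rw [← char_eq_degree_iff, ← Representation.char_one ρ]
    simp only [hm, Finset.sum_apply, Pi.smul_apply]
    refine Finset.sum_congr rfl fun ψ _ => ?_
    by_cases hψ : m ψ = 0
    · simp [hψ]
    obtain ⟨f, hf⟩ := exists_hom_of_degree_one (IsIrrCharacter.isCharacter ψ.2) (hlin ψ hψ)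
    rw [hf]
    have h : f ⁅a, b⁆ = 1 := by
      rw [map_commutatorElement, commutatorElement_eq_one_iff_mul_comm, mul_comm]
    simp [h]
  have h : a * b = ⁅a, b⁆ * (b * a) := by
    rw [commutatorElement_def]
    group
  rw [h, map_mul, hc, Module.End.mul_eq_comp, LinearMap.id_comp]

/-- A `p`-subgroup of a linear group of degree less than `p` is commutative. -/
theorem comm_of_small {p : ℕ} [Fact p.Prime] (ρ : Representation ℂ G (Fin n → ℂ))
    (hρ : Function.Injective ρ) (hn : n < p) (P : Subgroup G) (hP : IsPGroup p P) :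
    ∀ a ∈ P, ∀ b ∈ P, a * b = b * a := by
  intro a ha b hb
  let σ : Representation ℂ P (Fin n → ℂ) := MonoidHom.comp ρ P.subtype
  obtain ⟨m, hm⟩ := IsCharacter.exists_decomp (χ := σ.character) ⟨n, σ, rfl⟩
  have h := comm_of_linear σ m hm ?_ ⟨a, ha⟩ ⟨b, hb⟩
  · exact hρ h
  intro ψ hψ
  haveI : Fintype P := Fintype.ofFinite P
  obtain ⟨d, hdpos, hd⟩ := IsIrrCharacter.exists_degree ψ.2
  have h1 : d ≤ n := by
    refine degree_le_of_constituent (α := σ.character) ⟨n, σ, rfl⟩ ψ.2 ?_ ?_ hd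
    · rw [hm, classInner_combination]
      exact Nat.cast_ne_zero.mpr hψ
    · rw [Representation.char_one, Module.finrank_fin_fun]
  have h2 : d ∣ Nat.card P := degree_dvd_card ψ.2 hd
  obtain ⟨k, hk⟩ := hP.exists_card_eq
  obtain ⟨i, -, rfl⟩ := (Nat.dvd_prime_pow Fact.out).mp (hk ▸ h2)
  rcases Nat.eq_zero_or_pos i with rfl | hi
  · rw [hd, pow_zero, Nat.cast_one]
  · exact absurd (le_self_pow (Fact.out : p.Prime).one_lt.le hi.ne') (by omega)

/-- A faithful representation with a normal subgroup nontrivial in it has an irreducible constituent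
nontrivial on that subgroup, of no larger degree. -/
theorem exists_constituent_nontrivial (ρ : Representation ℂ G (Fin n → ℂ))
    (hρ : Function.Injective ρ) {g : G} (hg : g ≠ 1) :
    ∃ k : ℕ, ∃ ρ₀ : Representation ℂ G (Fin k → ℂ), ρ₀.IsIrreducible ∧ k ≤ n ∧
      ρ₀ g ≠ LinearMap.id := by
  obtain ⟨m, hm⟩ := IsCharacter.exists_decomp (χ := ρ.character) ⟨n, ρ, rfl⟩
  obtain ⟨ψ, hψ, hne⟩ : ∃ ψ : IrrCharacter G, m ψ ≠ 0 ∧ (ψ : G → ℂ) g ≠ (ψ : G → ℂ) 1 := by
    by_contra h
    push Not at h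
    refine hg (hρ ?_)
    rw [map_one, Module.End.one_eq_id, ← char_eq_degree_iff, ← Representation.char_one ρ]
    simp only [hm, Finset.sum_apply, Pi.smul_apply]
    refine Finset.sum_congr rfl fun ψ _ => ?_
    by_cases hψ : m ψ = 0
    · simp [hψ]
    · rw [h ψ hψ]
  haveI : Fintype G := Fintype.ofFinite G
  obtain ⟨k, ρ₀, hirr, hχ⟩ := id ψ.2
  refine ⟨k, ρ₀, hirr, ?_, fun h => hne ?_⟩
  · have h1 : (ψ : G → ℂ) 1 = (k : ℂ) := by
      rw [← hχ, Representation.char_one, Module.finrank_fin_fun]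
    refine degree_le_of_constituent (α := ρ.character) ⟨n, ρ, rfl⟩ ψ.2 ?_ ?_ h1
    · rw [hm, classInner_combination]
      exact Nat.cast_ne_zero.mpr hψ
    · rw [Representation.char_one, Module.finrank_fin_fun]
  · rw [← hχ, (char_eq_degree_iff ρ₀ g).mpr h, Representation.char_one]

/-- An element acting with order `p` on a normal subgroup with commutative image centralises the
image when the degree is less than `p`. -/
theorem fixed_of_abelian {p : ℕ} [Fact p.Prime] {k : ℕ} (ρ₀ : Representation ℂ G (Fin k → ℂ))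
    (hk : k < p) (M : Subgroup G) [hMn : M.Normal]
    (hab : ∀ a ∈ M, ∀ b ∈ M, ρ₀ (a * b) = ρ₀ (b * a)) (y : G)
    (hy : ∀ m ∈ M, y ^ p * m = m * y ^ p) :
    ∀ m ∈ M, ρ₀ (y * m * y⁻¹ * m⁻¹) = LinearMap.id := by
  intro a ha
  let σ : Representation ℂ M (Fin k → ℂ) := MonoidHom.comp ρ₀ M.subtype
  have hσc : IsCharacter M σ.character := ⟨k, σ, rfl⟩
  obtain ⟨m, hm⟩ := IsCharacter.exists_decomp hσc
  haveI : Fintype M := Fintype.ofFinite M
  -- the constituents are linear
  have hlin : ∀ ψ : IrrCharacter M, m ψ ≠ 0 → (ψ : M → ℂ) 1 = 1 := by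
    intro ψ hψ
    obtain ⟨d, τ, hτ, hχ⟩ := id ψ.2
    haveI := hτ
    have hcomm : ∀ a b : M, τ a * τ b = τ b * τ a := by
      intro a b
      have h1 : σ.character ⁅a, b⁆ = σ.character 1 := by
        rw [Representation.char_one, char_eq_degree_iff]
        have h := hab (a : G) a.2 (b : G) b.2
        change ρ₀ ((a : G) * (b : G) * (a : G)⁻¹ * (b : G)⁻¹) = _
        rw [map_mul, map_mul, h, ← map_mul, ← map_mul,
          show (b : G) * a * (a : G)⁻¹ * (b : G)⁻¹ = 1 by group, map_one, Module.End.one_eq_id]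
      have h2 := constituent_eq_degree σ.character m hm h1 hψ
      rw [← hχ, Representation.char_one, char_eq_degree_iff] at h2
      have h : a * b = ⁅a, b⁆ * (b * a) := by
        rw [commutatorElement_def]
        group
      rw [← map_mul, h, map_mul, h2, Module.End.mul_eq_comp, LinearMap.id_comp, map_mul]
    have hscal : ∀ g : M, ‖(ψ : M → ℂ) g‖ = (d : ℝ) := by
      intro g
      obtain ⟨c, hc⟩ := schur_scalar τ (τ g) fun h x => by
        rw [← Module.End.mul_apply, ← Module.End.mul_apply, hcomm]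
      have := (norm_char_eq_iff τ g).mpr ⟨c, hc⟩
      rw [← hχ, this, Module.finrank_fin_fun]
    have hnorm : ∑ g : M, (ψ : M → ℂ) g * (starRingEnd ℂ) ((ψ : M → ℂ) g) =
        (Nat.card M : ℂ) * ((d : ℂ) * (d : ℂ)) := by
      have : ∀ g : M, (ψ : M → ℂ) g * (starRingEnd ℂ) ((ψ : M → ℂ) g) = (d : ℂ) * (d : ℂ) := by
        intro g
        rw [Complex.mul_conj, Complex.normSq_eq_norm_sq, hscal g]
        push_cast
        ring
      simp [this, Nat.card_eq_fintype_card]
    have h := classInner_self_irr ψ.2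
    simp only [Cfsg.classInner, hnorm] at h
    rw [← mul_assoc, inv_mul_cancel₀ (Nat.cast_ne_zero.mpr Nat.card_pos.ne'), one_mul] at h
    have hd : d = 1 := by
      have : d * d = 1 := by exact_mod_cast h
      exact Nat.eq_one_of_mul_eq_one_left this
    rw [← hχ, Representation.char_one, Module.finrank_fin_fun, hd, Nat.cast_one]
  -- the action on the constituents
  let e : MulAut M := MulAut.conjNormal y
  have hinv : ∀ x : M, σ.character (e x) = σ.character x := by
    intro x
    change ρ₀.character ((e x : M) : G) = ρ₀.character (x : G)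
    rw [MulAut.conjNormal_apply, Representation.char_conj]
  have hmult : ∀ ψ : IrrCharacter M,
      m ⟨fun x => (ψ : M → ℂ) (e x), IsIrrCharacter.comp ψ.2 e.toMonoidHom e.surjective⟩ = m ψ := by
    intro ψ
    set ψ' : IrrCharacter M :=
      ⟨fun x => (ψ : M → ℂ) (e x), IsIrrCharacter.comp ψ.2 e.toMonoidHom e.surjective⟩ with hψ'
    have h1 := classInner_combination (fun φ => (m φ : ℂ)) ψ'
    have h2 := classInner_combination (fun φ => (m φ : ℂ)) ψ
    rw [← hm] at h1 h2
    have h3 : Cfsg.classInner σ.character (ψ' : M → ℂ) = Cfsg.classInner σ.character (ψ : M → ℂ) := by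
      simp only [Cfsg.classInner]
      refine congrArg _ (Fintype.sum_equiv e.toEquiv _ _ fun x => ?_)
      change σ.character x * (starRingEnd ℂ) ((ψ : M → ℂ) (e x)) =
        σ.character (e x) * (starRingEnd ℂ) ((ψ : M → ℂ) (e x))
      rw [hinv]
    rw [h1, h2] at h3
    exact_mod_cast h3
  let f : {ψ : IrrCharacter M // m ψ ≠ 0} → {ψ : IrrCharacter M // m ψ ≠ 0} := fun ψ =>
    ⟨⟨fun x => (ψ.1 : M → ℂ) (e x), IsIrrCharacter.comp ψ.1.2 e.toMonoidHom e.surjective⟩,
      by rw [hmult]; exact ψ.2⟩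
  have hf : Function.Injective f := by
    intro a b h
    refine Subtype.ext (Subtype.ext (funext fun x => ?_))
    have h' := congrFun (congrArg (fun t : {ψ : IrrCharacter M // m ψ ≠ 0} => (t.1 : M → ℂ)) h)
      (e.symm x)
    simpa [f] using h'
  let π : Equiv.Perm {ψ : IrrCharacter M // m ψ ≠ 0} :=
    Equiv.ofBijective f (Finite.injective_iff_bijective.mp hf)
  have hπ : ∀ (i : ℕ) (ψ : {ψ : IrrCharacter M // m ψ ≠ 0}) (x : M),
      (((π ^ i) ψ).1 : M → ℂ) x = (ψ.1 : M → ℂ) ((e ^ i) x) := by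
    intro i
    induction i with
    | zero => intro ψ x; simp
    | succ i ih =>
      intro ψ x
      rw [pow_succ, Equiv.Perm.mul_apply, ih]
      change (ψ.1 : M → ℂ) (e ((e ^ i) x)) = _
      rw [pow_succ', MulAut.mul_apply]
  have hπp : π ^ p = 1 := by
    refine Equiv.ext fun ψ => Subtype.ext (Subtype.ext (funext fun x => ?_))
    rw [hπ, Equiv.Perm.one_apply]
    refine congrArg _ (Subtype.ext ?_)
    rw [show e ^ p = MulAut.conjNormal (y ^ p) by rw [map_pow], MulAut.conjNormal_apply,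
      hy (x : G) x.2, mul_inv_cancel_right]
  have hπ1 : π = 1 := by
    by_contra hne
    have ho : orderOf π = p := orderOf_eq_prime hπp hne
    have hdvd : p ∣ Nat.card (Equiv.Perm {ψ : IrrCharacter M // m ψ ≠ 0}) := by
      rw [← ho]
      exact orderOf_dvd_natCard π
    rw [Nat.card_eq_fintype_card, Fintype.card_perm, Nat.Prime.dvd_factorial Fact.out] at hdvd
    choose d hd using fun φ : IrrCharacter M => IsIrrCharacter.exists_degree φ.2
    have hle := sum_constituents_le hσc (Finset.univ.filter fun φ => m φ ≠ 0) m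
      (fun φ _ => by rw [hm, classInner_combination]) d (fun φ => (hd φ).2) k
      (by rw [Representation.char_one, Module.finrank_fin_fun])
    have hge : (Finset.univ.filter fun φ : IrrCharacter M => m φ ≠ 0).card ≤
        ∑ φ ∈ Finset.univ.filter (fun φ : IrrCharacter M => m φ ≠ 0), m φ * d φ := by
      rw [Finset.card_eq_sum_ones]
      refine Finset.sum_le_sum fun φ hφ => ?_
      exact Nat.one_le_iff_ne_zero.mpr
        (mul_ne_zero (Finset.mem_filter.mp hφ).2 (hd φ).1.ne')
    rw [Fintype.card_subtype] at hdvd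
    omega
  -- conclusion
  have key : σ.character (e ⟨a, ha⟩ * ⟨a, ha⟩⁻¹) = σ.character 1 := by
    simp only [hm, Finset.sum_apply, Pi.smul_apply]
    refine Finset.sum_congr rfl fun ψ _ => ?_
    by_cases hψ : m ψ = 0
    · simp [hψ]
    obtain ⟨g, hg⟩ := exists_hom_of_degree_one (IsIrrCharacter.isCharacter ψ.2) (hlin ψ hψ)
    have h := hπ 1 ⟨ψ, hψ⟩ ⟨a, ha⟩
    rw [hπ1, one_pow, Equiv.Perm.one_apply, pow_one] at h
    simp only [hg] at h ⊢
    have h' : g (e ⟨a, ha⟩) = g ⟨a, ha⟩ := (Units.ext h).symm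
    rw [map_mul, map_inv, h', mul_inv_cancel, map_one]
  rw [Representation.char_one, char_eq_degree_iff] at key
  simpa [σ, e] using key

/-- A fully ramified situation: the index of the scalar part is the square of a degree. -/
theorem exists_square {k : ℕ} (ρ₀ : Representation ℂ G (Fin k → ℂ))
    [ρ₀.IsIrreducible] (M C : Subgroup G) (hCM : C ≤ M)
    (hCc : ∀ c ∈ C, ∀ g : G, c * g = g * c)
    (hder : ∀ a ∈ M, ∀ b ∈ M, ⁅a, b⁆ ∈ C)
    (hne : ∀ a ∈ M, a ∉ C → ∃ b ∈ M, ρ₀ (a * b) ≠ ρ₀ (b * a)) :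
    ∃ e : ℕ, e ≤ k ∧ Nat.card M = e * e * Nat.card C := by
  haveI : Nontrivial (Fin k → ℂ) := nontrivial_of_irreducible ρ₀
  haveI : Fintype M := Fintype.ofFinite M
  let σ : Representation ℂ M (Fin k → ℂ) := MonoidHom.comp ρ₀ M.subtype
  obtain ⟨a, ha⟩ := exists_irreducible_subrep σ
  haveI := ha
  set τ := a.toRepresentation with hτ
  set e := finrank ℂ a.toSubmodule with he
  refine ⟨e, (Submodule.finrank_le _).trans (le_of_eq (Module.finrank_fin_fun ℂ)), ?_⟩
  have hscal : ∀ c : M, (c : G) ∈ C → ∃ s : ℂ, ρ₀ (c : G) = s • LinearMap.id ∧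
      τ c = s • LinearMap.id := by
    intro c hc
    obtain ⟨s, hs⟩ := schur_scalar ρ₀ (ρ₀ (c : G)) fun g x => by
      rw [← Module.End.mul_apply, ← Module.End.mul_apply, ← map_mul, ← map_mul, hCc _ hc g]
    refine ⟨s, hs, LinearMap.ext fun v => Subtype.ext ?_⟩
    change σ c (v : Fin k → ℂ) = s • (v : Fin k → ℂ)
    change ρ₀ (c : G) (v : Fin k → ℂ) = _
    rw [hs]
    rfl
  have hvanish : ∀ x : M, (x : G) ∉ C → τ.character x = 0 := by
    intro x hx
    obtain ⟨b, hb, hne'⟩ := hne _ x.2 hx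
    obtain ⟨s, hs, hsτ⟩ := hscal ⁅(⟨b, hb⟩ : M), x⁆ (hder b hb _ x.2)
    have hs1 : s ≠ 1 := by
      intro h1
      refine hne' ?_
      have h2 : b * (x : G) = ⁅b, (x : G)⁆ * ((x : G) * b) := by
        rw [commutatorElement_def]
        group
      rw [h2, map_mul ρ₀ ⁅b, (x : G)⁆]
      have h3 : ρ₀ ⁅b, (x : G)⁆ = LinearMap.id := by
        rw [h1, one_smul] at hs
        exact hs
      rw [h3, Module.End.mul_eq_comp, LinearMap.id_comp]
    have h4 : (⟨b, hb⟩ : M) * x * (⟨b, hb⟩ : M)⁻¹ = ⁅(⟨b, hb⟩ : M), x⁆ * x := by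
      rw [commutatorElement_def]
      group
    have h5 := Representation.char_conj τ x (⟨b, hb⟩ : M)
    rw [h4, Representation.character, map_mul, hsτ, smul_mul_assoc, Module.End.mul_eq_comp,
      LinearMap.id_comp, map_smul, smul_eq_mul] at h5
    have h6 : (s - 1) * τ.character x = 0 := by
      rw [sub_mul, one_mul, sub_eq_zero]
      exact h5
    exact (mul_eq_zero.mp h6).resolve_left (sub_ne_zero.mpr hs1)
  have hnorm : ∀ x : M, (x : G) ∈ C → τ.character x * (starRingEnd ℂ) (τ.character x) =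
      ((e * e : ℕ) : ℂ) := by
    intro x hx
    obtain ⟨s, -, hsτ⟩ := hscal x hx
    rw [Complex.mul_conj, Complex.normSq_eq_norm_sq, (norm_char_eq_iff τ x).mpr ⟨s, hsτ⟩]
    push_cast
    ring
  have hirr : Cfsg.IsIrrCharacter M τ.character := isIrrCharacter_of_rep τ
  have h := classInner_self_irr hirr
  have hsum : ∑ x : M, τ.character x * (starRingEnd ℂ) (τ.character x) =
      ((e * e * Nat.card C : ℕ) : ℂ) := by
    rw [← Finset.sum_filter_add_sum_filter_not Finset.univ (fun x : M => (x : G) ∈ C),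
      Finset.sum_congr rfl fun x hx => hnorm x (Finset.mem_filter.mp hx).2,
      Finset.sum_eq_zero (s := Finset.univ.filter fun x : M => ¬ (x : G) ∈ C) fun x hx => by
        rw [hvanish x (Finset.mem_filter.mp hx).2, zero_mul],
      Finset.sum_const, nsmul_eq_mul, add_zero]
    have hcard : (Finset.univ.filter fun x : M => (x : G) ∈ C).card = Nat.card C := by
      rw [← Fintype.card_subtype, ← Nat.card_eq_fintype_card]
      exact Nat.card_congr ((Equiv.subtypeSubtypeEquivSubtypeInter _ _).trans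
        (Equiv.subtypeEquivRight fun x => ⟨fun hx => hx.2, fun hx => ⟨hCM hx, hx⟩⟩))
    rw [hcard]
    push_cast
    ring
  simp only [Cfsg.classInner, hsum] at h
  have hM0 : (Nat.card M : ℂ) ≠ 0 := Nat.cast_ne_zero.mpr Nat.card_pos.ne'
  have h' : (Nat.card M : ℂ) = ((e * e * Nat.card C : ℕ) : ℂ) := by
    rw [← mul_one (Nat.card M : ℂ), ← h, ← mul_assoc, mul_inv_cancel₀ hM0, one_mul]
  exact_mod_cast h'

/-- An element of order `p` modulo the centraliser fixing only the trivial coset of a central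
subgroup. -/
theorem index_modEq {p : ℕ} [Fact p.Prime] (M C : Subgroup G) [M.Normal] (hCM : C ≤ M)
    (hCc : ∀ c ∈ C, ∀ g : G, c * g = g * c) (y : G) (hy : ∀ m ∈ M, y ^ p * m = m * y ^ p)
    (hfix : ∀ m ∈ M, m⁻¹ * (y * m * y⁻¹) ∈ C → m ∈ C) :
    ∀ j : ℕ, Nat.card M = j * Nat.card C → j ≡ 1 [MOD p] := by
  intro j hj
  set C' := C.subgroupOf M with hC'
  haveI : C'.Normal := ⟨fun c hc g => by
    rw [Subgroup.mem_subgroupOf] at hc ⊢
    have : ((g * c * g⁻¹ : M) : G) = (c : G) := by
      push_cast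
      rw [← hCc _ hc (g : G), mul_inv_cancel_right]
    rw [this]
    exact hc⟩
  let e : MulAut M := MulAut.conjNormal y
  have heC : C' ≤ C'.comap e.toMonoidHom := by
    intro c hc
    rw [Subgroup.mem_comap, Subgroup.mem_subgroupOf] at *
    change ((MulAut.conjNormal y c : M) : G) ∈ C
    rw [MulAut.conjNormal_apply, ← hCc _ hc y, mul_inv_cancel_right]
    exact hc
  let F : M ⧸ C' →* M ⧸ C' := QuotientGroup.map C' C' e.toMonoidHom heC
  have hFmk : ∀ x : M, F (x : M ⧸ C') = ((e x : M) : M ⧸ C') := fun x => rfl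
  have hFsurj : Function.Surjective F := by
    intro q
    obtain ⟨x, rfl⟩ := QuotientGroup.mk_surjective q
    exact ⟨((e.symm x : M) : M ⧸ C'), by rw [hFmk, MulEquiv.apply_symm_apply]⟩
  let π : Equiv.Perm (M ⧸ C') := Equiv.ofBijective F (Finite.surjective_iff_bijective.mp hFsurj)
  have hπ : ∀ (i : ℕ) (x : M), (π ^ i) (x : M ⧸ C') = (((e ^ i) x : M) : M ⧸ C') := by
    intro i
    induction i with
    | zero => intro x; simp
    | succ i ih =>
      intro x
      rw [pow_succ', Equiv.Perm.mul_apply, ih, pow_succ', MulAut.mul_apply]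
      exact hFmk _
  have hπp : π ^ p ^ 1 = 1 := by
    rw [pow_one]
    refine Equiv.ext fun q => ?_
    obtain ⟨x, rfl⟩ := QuotientGroup.mk_surjective q
    rw [hπ, Equiv.Perm.one_apply]
    refine congrArg _ (Subtype.ext ?_)
    rw [show e ^ p = MulAut.conjNormal (y ^ p) by rw [map_pow], MulAut.conjNormal_apply,
      hy (x : G) x.2, mul_inv_cancel_right]
  haveI : Fintype (M ⧸ C') := Fintype.ofFinite _
  have hone : π.supportᶜ = {(1 : M ⧸ C')} := by
    ext q
    obtain ⟨x, rfl⟩ := QuotientGroup.mk_surjective q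
    rw [Finset.mem_compl, Equiv.Perm.mem_support, not_not, Finset.mem_singleton]
    change F (x : M ⧸ C') = _ ↔ _
    rw [hFmk, QuotientGroup.eq_one_iff, eq_comm, QuotientGroup.eq, hC', Subgroup.mem_subgroupOf,
      Subgroup.mem_subgroupOf]
    constructor
    · intro h
      refine hfix _ x.2 ?_
      simpa [e] using h
    · intro h
      have h1 : ((x⁻¹ * e x : M) : G) = 1 := by
        push_cast
        rw [MulAut.conjNormal_apply, ← hCc _ h y, mul_inv_cancel_right, inv_mul_cancel]
      rw [h1]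
      exact C.one_mem
  have h := Equiv.Perm.card_compl_support_modEq hπp
  rw [hone, Finset.card_singleton] at h
  have hcard : Fintype.card (M ⧸ C') = j := by
    have h1 := Subgroup.card_eq_card_quotient_mul_card_subgroup C'
    rw [show Nat.card C' = Nat.card C from
      Nat.card_congr (Subgroup.subgroupOfEquivOfLe hCM).toEquiv, hj] at h1
    rw [← Nat.card_eq_fintype_card]
    exact (Nat.eq_of_mul_eq_mul_right Nat.card_pos h1).symm
  rw [hcard] at h
  exact h.symm

end Cfsg.Agent.Char.Blich
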