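import Cfsg.Agent.Lib.Char.TISylowSmallDegree
import Cfsg.Agent.Lib.Solvable.HHThmB
import Cfsg.Prelude.Def_Blocks
import Cfsg.Agent.Lib.Char.Convolution

/-!
A `p`-solvable group with a TI Sylow subgroup and a faithful character of small degree.
-/

set_option autoImplicit false
set_option linter.unusedSectionVars false
set_option linter.style.haveILetI false

namespace Cfsg.Agent.TISmallDeg

open Cfsg Cfsg.Agent Cfsg.Agent.Char
open scoped commutatorElement Classical Pointwise

universe u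

variable {G : Type u} [Group G] [Fintype G] {p : ℕ} [Fact p.Prime]

/-- A subgroup normalised by the Sylow subgroup, minimal not centralised by it. -/
theorem false_of_minimal (P : Sylow p G)
    (hTI : ∀ g : G, g ∉ Subgroup.normalizer ((P : Subgroup G) : Set G) →
      (P : Subgroup G) ⊓ (MulAut.conj g • (P : Subgroup G)) = ⊥)
    (χ : G → ℂ) (hχ : IsCharacter G χ) (hfaith : ∀ g : G, χ g = χ 1 → g = 1)
    (hdeg : charDegree χ ^ 2 ≤ Nat.card (P : Subgroup G))
    {q : ℕ} [Fact q.Prime] (hqp : q ≠ p) (Q : Subgroup G) (hQ : IsPGroup q Q)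
    (hPQ : (P : Subgroup G) ≤ Subgroup.normalizer (Q : Set G))
    (hnc : ¬ Q ≤ Subgroup.centralizer ((P : Subgroup G) : Set G))
    (hmin : ∀ R : Subgroup G, R < Q → (P : Subgroup G) ≤ Subgroup.normalizer (R : Set G) →
      R ≤ Subgroup.centralizer ((P : Subgroup G) : Set G)) : False := by
  set P₀ : Subgroup G := (P : Subgroup G) with hP₀
  have hcop : (Nat.card P₀).Coprime (Nat.card Q) := by
    obtain ⟨a, ha⟩ := P.isPGroup'.exists_card_eq
    obtain ⟨b, hb⟩ := hQ.exists_card_eq
    rw [show Nat.card P₀ = p ^ a from ha, hb]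
    exact Nat.Coprime.pow a b ((Nat.coprime_primes Fact.out Fact.out).mpr hqp.symm)
  have hsolP : Group.IsSolvable P₀ := by
    haveI : Group.IsNilpotent P₀ := P.isPGroup'.isNilpotent
    infer_instance
  set C : Subgroup G := Q ⊓ Subgroup.centralizer (P₀ : Set G) with hC
  have hinf : P₀ ⊓ Q = ⊥ := Subgroup.inf_eq_bot_of_coprime hcop
  -- the centralizer of a single element
  have hfix : ∀ u ∈ P₀, u ≠ 1 → ∀ c ∈ Q, u * c = c * u → c ∈ C := by
    intro u hu hu1 c hc huc
    have hcN : c ∈ Subgroup.normalizer (P₀ : Set G) := by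
      by_contra h
      have h1 := hTI c h
      refine hu1 ((Subgroup.eq_bot_iff_forall _).mp h1 u ⟨hu, ?_⟩)
      change u ∈ MulAut.conj c • P₀
      rw [Subgroup.mem_pointwise_smul_iff_inv_smul_mem]
      simpa [mul_assoc, huc] using hu
    refine ⟨hc, Subgroup.mem_centralizer_iff.mpr fun y hy => ?_⟩
    have h1 : y * c * y⁻¹ * c⁻¹ ∈ P₀ ⊓ Q := by
      refine ⟨?_, Q.mul_mem ((Subgroup.mem_normalizer_iff.mp (hPQ hy) c).mp hc) (Q.inv_mem hc)⟩
      rw [show y * c * y⁻¹ * c⁻¹ = y * (c * y⁻¹ * c⁻¹) by group]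
      exact P₀.mul_mem hy ((Subgroup.mem_normalizer_iff.mp hcN y⁻¹).mp (P₀.inv_mem hy))
    rw [hinf, Subgroup.mem_bot] at h1
    exact mul_inv_eq_iff_eq_mul.mp (mul_inv_eq_one.mp h1)
  have hQne : Q ≠ ⊥ := fun h => hnc (h ▸ bot_le)
  haveI : Group.IsNilpotent Q := hQ.isNilpotent
  -- `Q = [Q, P]`
  have hQP : ⁅Q, P₀⁆ = Q := by
    by_contra h
    have hle := CoprimeAct.commutator_le_left hPQ
    have hlt : ⁅Q, P₀⁆ < Q := lt_of_le_of_ne hle h
    have h1 := hmin _ hlt (Subgroup.normalizer_commutator_ge_right Q P₀)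
    have h2 := CoprimeAct.commutator_commutator hPQ hcop (Or.inl hsolP)
    rw [Subgroup.commutator_eq_bot_iff_le_centralizer.mpr h1] at h2
    exact hnc (Subgroup.commutator_eq_bot_iff_le_centralizer.mp h2.symm)
  have hderC : ⁅Q, Q⁆ ≤ C := by
    refine le_inf (Subgroup.commutator_le_self Q) ?_
    refine hmin _ (lt_of_le_of_ne (Subgroup.commutator_le_self Q) fun e => ?_) ?_
    · haveI : Nontrivial Q := (Subgroup.nontrivial_iff_ne_bot Q).mpr hQne
      refine (Group.IsSolvable.commutator_lt_top_of_nontrivial (G := Q)).ne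
        (Subgroup.map_injective Q.subtype_injective ?_)
      rw [Subgroup.map_subtype_commutator, e, ← MonoidHom.range_eq_map, Subgroup.range_subtype]
    intro g hg
    rw [Subgroup.mem_normalizer_iff_map_conj_eq, Subgroup.map_commutator]
    have h := Subgroup.mem_normalizer_iff_map_conj_eq.mp (hPQ hg)
    rw [h]
  have hCcen : C ≤ Subgroup.centralizer (Q : Set G) := by
    rw [← Subgroup.commutator_eq_bot_iff_le_centralizer]
    have h1 : ⁅⁅P₀, C⁆, Q⁆ = ⊥ := by
      rw [Subgroup.commutator_comm P₀ C,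
        Subgroup.commutator_eq_bot_iff_le_centralizer.mpr (inf_le_right : C ≤ _),
        Subgroup.commutator_bot_left]
    have h2 : ⁅⁅C, Q⁆, P₀⁆ = ⊥ := by
      rw [Subgroup.commutator_eq_bot_iff_le_centralizer]
      exact ((Subgroup.commutator_mono inf_le_left le_rfl).trans hderC).trans inf_le_right
    have h3 := Subgroup.commutator_commutator_eq_bot_of_rotate (H₁ := Q) (H₂ := P₀) (H₃ := C) h1 h2
    rw [hQP] at h3
    rwa [Subgroup.commutator_comm]
  -- the product
  set H := Q ⊔ P₀ with hH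
  set Q' := Q.subgroupOf H with hQ'
  set P' := P₀.subgroupOf H with hP'
  set C' := C.subgroupOf H with hC'
  have hQH : Q ≤ H := le_sup_left
  have hPH : P₀ ≤ H := le_sup_right
  have hQn : Q'.Normal := Subgroup.normal_subgroupOf_of_le_normalizer
    (sup_le Subgroup.le_normalizer hPQ)
  have hcardQ : Nat.card Q' = Nat.card Q := Nat.card_congr (Subgroup.subgroupOfEquivOfLe hQH).toEquiv
  have hcardP : Nat.card P' = Nat.card P₀ :=
    Nat.card_congr (Subgroup.subgroupOfEquivOfLe hPH).toEquiv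
  have hCc : ∀ c ∈ C', ∀ h : H, c * h = h * c := by
    intro c hc h
    have hle : H ≤ Subgroup.centralizer ({(c : G)} : Set G) := by
      refine sup_le (fun x hx => ?_) (fun x hx => ?_)
      · rw [Subgroup.mem_centralizer_singleton_iff]
        exact Subgroup.mem_centralizer_iff.mp (hCcen (Subgroup.mem_subgroupOf.mp hc)) x hx
      · rw [Subgroup.mem_centralizer_singleton_iff]
        exact Subgroup.mem_centralizer_iff.mp (Subgroup.mem_subgroupOf.mp hc).2 x hx
    exact Subtype.ext (Subgroup.mem_centralizer_singleton_iff.mp (hle h.2)).symm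
  have hQP' : ⁅Q', P'⁆ = Q' := by
    apply Subgroup.map_injective H.subtype_injective
    rw [Subgroup.map_commutator, hQ', hP', Subgroup.map_subgroupOf_eq_of_le hQH,
      Subgroup.map_subgroupOf_eq_of_le hPH, hQP]
  have hsol' : Group.IsSolvable P' := by
    haveI := hsolP
    exact solvable_of_solvable_injective (f := (Subgroup.subgroupOfEquivOfLe hPH).toMonoidHom)
      (Subgroup.subgroupOfEquivOfLe hPH).injective
  -- a constituent nontrivial on `Q`
  have hres : IsCharacter H (fun h : H => χ h) := IsCharacter.restrict hχ H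
  obtain ⟨ψ, hψ, x, hx, hxne⟩ : ∃ ψ : IrrCharacter H, classInner (fun h : H => χ h) ψ ≠ 0 ∧
      ∃ x ∈ Q', (ψ : H → ℂ) x ≠ (ψ : H → ℂ) 1 := by
    by_contra h
    push Not at h
    refine hnc fun g hg => absurd (hfaith g ?_) ?_
    · have e := IsCharacter.eq_sum hres
      have e1 := congrFun e ⟨g, hQH hg⟩
      have e2 := congrFun e 1
      simp only [Finset.sum_apply, Pi.smul_apply, smul_eq_mul, Subgroup.coe_one] at e1 e2
      rw [e1, e2]
      refine Finset.sum_congr rfl fun ψ _ => ?_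
      by_cases hψ : classInner (fun h : H => χ h) ψ = 0
      · rw [hψ, zero_mul, zero_mul]
      · rw [h ψ hψ ⟨g, hQH hg⟩ (Subgroup.mem_subgroupOf.mpr hg)]
    · intro hg1
      exact hnc fun y hy => by
        by_cases hy1 : y = 1
        · rw [hy1]; exact one_mem _
        · exfalso
          refine hy1 (hfaith y ?_)
          have e := IsCharacter.eq_sum hres
          have e1 := congrFun e ⟨y, hQH hy⟩
          have e2 := congrFun e 1
          simp only [Finset.sum_apply, Pi.smul_apply, smul_eq_mul, Subgroup.coe_one] at e1 e2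
          rw [e1, e2]
          refine Finset.sum_congr rfl fun ψ _ => ?_
          by_cases hψ : classInner (fun h : H => χ h) ψ = 0
          · rw [hψ, zero_mul, zero_mul]
          · rw [h ψ hψ ⟨y, hQH hy⟩ (Subgroup.mem_subgroupOf.mpr hy)]
  obtain ⟨n, ρ, hρ, hρψ⟩ := ψ.2
  haveI := hρ
  have hn : (ψ : H → ℂ) 1 = (n : ℂ) := by
    rw [← hρψ, Representation.char_one, Module.finrank_fin_fun]
  have hle : n ≤ charDegree χ :=
    degree_le_of_constituent hres ψ.2 hψ (by simpa using CharX.deg_spec hχ) hn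
  have hdeg' : n ^ 2 ≤ Nat.card P' := by
    rw [hcardP]; exact (Nat.pow_le_pow_left hle 2).trans hdeg
  have hnt : ∃ x ∈ Q', ρ x ≠ 1 := by
    refine ⟨x, hx, fun h => hxne ?_⟩
    rw [← hρψ]
    simp [Representation.character, h]
  have hfix' : ∀ u ∈ P', u ≠ 1 → ∀ c ∈ Q', u * c = c * u → c ∈ C' := fun u hu hu1 c hc h =>
    hfix u hu (fun e => hu1 (Subtype.ext e)) c hc (congrArg Subtype.val h)
  have hcop' : (Nat.card P').Coprime (Nat.card Q') := by rwa [hcardP, hcardQ]
  by_cases hab : ∀ a ∈ Q', ∀ b ∈ Q', ρ (a * b) = ρ (b * a)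
  · refine false_of_abelian ρ Q' P' C' hQn hcop' hsol' hCc hfix' hQP' hnt ?_ hdeg' hab
    intro h
    rw [h, Subgroup.card_bot] at hcardP
    refine hnc fun y _ => Subgroup.mem_centralizer_iff.mpr fun z hz => ?_
    rw [show z = 1 from Subgroup.mem_bot.mp (Subgroup.card_eq_one.mp hcardP.symm ▸ hz), one_mul,
      mul_one]
  · push Not at hab
    exact false_of_nonabelian ρ Q' P' C' hQn hcop' hsol' (fun c hc => hc.1) hCc
      (fun a ha b hb => hderC (Subgroup.commutator_mem_commutator ha hb)) hfix' hdeg' hab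

theorem sylow_normal (hsolv : IsPSolvable p G) (P : Sylow p G)
    (hTI : ∀ g : G, g ∉ Subgroup.normalizer ((P : Subgroup G) : Set G) →
      (P : Subgroup G) ⊓ (MulAut.conj g • (P : Subgroup G)) = ⊥)
    (χ : G → ℂ) (hχ : IsCharacter G χ) (hfaith : ∀ g : G, χ g = χ 1 → g = 1)
    (hdeg : charDegree χ ^ 2 ≤ Nat.card (P : Subgroup G)) : (P : Subgroup G).Normal := by
  by_contra hPn
  -- the `p`-core is trivial
  have hO : Cfsg.pCore p G = ⊥ := by
    by_contra h
    refine hPn (Subgroup.normalizer_eq_top_iff.mp (eq_top_iff.mpr fun g _ => ?_))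
    by_contra hg
    refine h (le_bot_iff.mp ?_)
    rw [← hTI g hg]
    have hcore : Cfsg.pCore p G ≤ (P : Subgroup G) :=
      IsPGroup.le_sylow_of_normal (FittingCores.pCore_isPGroup p) P
    refine le_inf hcore fun x hx => ?_
    rw [Subgroup.mem_pointwise_smul_iff_inv_smul_mem]
    refine hcore ?_
    simpa using (FittingCores.pCore_normal (G := G) p).conj_mem x hx g⁻¹
  set K := Cfsg.pPrimeCore p G with hK
  have hKn : K.Normal := FittingCores.pPrimeCore_normal p
  have hKc : (Nat.card K).Coprime p := FittingCores.pPrimeCore_coprime p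
  have hPK : (P : Subgroup G) ≤ Subgroup.normalizer (K : Set G) := Subgroup.le_normalizer_of_normal
  have hsolP : Group.IsSolvable (P : Subgroup G) := by
    haveI : Group.IsNilpotent (P : Subgroup G) := P.isPGroup'.isNilpotent
    infer_instance
  have hcop : (Nat.card (P : Subgroup G)).Coprime (Nat.card K) := by
    obtain ⟨a, ha⟩ := P.isPGroup'.exists_card_eq
    rw [ha]
    exact hKc.symm.pow_left a
  have hncent : ¬ K ≤ Subgroup.centralizer ((P : Subgroup G) : Set G) := by
    intro h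
    have h1 : (P : Subgroup G) ≤ K := (Subgroup.le_centralizer_iff.mp h).trans
      (HHThmB.centralizer_pPrimeCore_le hsolv hO)
    have h2 : Nat.card (P : Subgroup G) = 1 :=
      Nat.eq_one_of_dvd_coprimes hcop dvd_rfl (Subgroup.card_dvd_of_le h1)
    rw [Subgroup.card_eq_one.mp h2] at hPn
    exact hPn inferInstance
  obtain ⟨q, hq, Q₀, hQ₀, hPQ₀, hnc₀⟩ : ∃ q : ℕ, q.Prime ∧ ∃ Q₀ : Subgroup G,
      (IsPGroup q Q₀ ∧ Q₀ ≤ K) ∧ (P : Subgroup G) ≤ Subgroup.normalizer (Q₀ : Set G) ∧
      ¬ Q₀ ≤ Subgroup.centralizer ((P : Subgroup G) : Set G) := by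
    by_contra h
    push Not at h
    refine hncent ?_
    rw [← Subgroup.subgroupOf_eq_top]
    refine FittingCores.eq_top_of_forall_sylow_le fun q hq => ?_
    haveI := Fact.mk hq
    obtain ⟨S, hS⟩ := CoprimeAct.exists_invariant_sylow hPK hcop (Or.inl hsolP) q
    refine ⟨S, fun y hy => ?_⟩
    exact h q hq _ ⟨S.isPGroup'.map K.subtype, Subgroup.map_subtype_le _⟩ hS
      (Subgroup.mem_map_of_mem K.subtype hy)
  obtain ⟨Q, ⟨hQ, hPQ, hnc⟩, hmin⟩ := (wellFounded_lt (α := Subgroup G)).has_min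
    {R | R ≤ Q₀ ∧ (P : Subgroup G) ≤ Subgroup.normalizer (R : Set G) ∧
      ¬ R ≤ Subgroup.centralizer ((P : Subgroup G) : Set G)} ⟨Q₀, le_rfl, hPQ₀, hnc₀⟩
  haveI := Fact.mk hq
  refine false_of_minimal P hTI χ hχ hfaith hdeg ?_ Q (hQ₀.1.to_le hQ) hPQ hnc fun R hR hPR => ?_
  · rintro rfl
    refine hnc₀ ?_
    obtain ⟨a, ha⟩ := hQ₀.1.exists_card_eq
    have h1 : Nat.card Q₀ = 1 := by
      refine Nat.eq_one_of_dvd_coprimes (hKc.pow_right a) (Subgroup.card_dvd_of_le hQ₀.2) ?_
      rw [ha]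
    rw [Subgroup.card_eq_one.mp h1]
    exact bot_le
  · by_contra h
    exact hmin R ⟨hR.le.trans hQ, hPR, h⟩ hR

end Cfsg.Agent.TISmallDeg
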