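import Cfsg.Agent.Lib.Char.Blichfeldt
import Cfsg.Agent.Lib.Char.TISylowSmallDegreeMain
import Mathlib.GroupTheory.Transfer

/-!
# The theorem of Feit, Thompson and Blichfeldt on normal Sylow subgroups of linear groups
-/

set_option autoImplicit false
set_option linter.unusedSectionVars false
set_option linter.style.haveILetI false

namespace Cfsg.Agent.Char.Blich

open Cfsg Cfsg.Agent Cfsg.Agent.Char
open scoped commutatorElement Classical

universe u

variable {G : Type u} [Group G] [Finite G] {p : ℕ} [Fact p.Prime]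

/-- In a proper subgroup with normal Sylow subgroup all `p`-subgroups lie in one Sylow subgroup. -/
theorem exists_sylow_above (H : Subgroup G) (hH : ∀ Q : Sylow p H, (Q : Subgroup H).Normal) :
    ∃ Q : Sylow p G, ∀ R : Subgroup G, R ≤ H → IsPGroup p R → R ≤ (Q : Subgroup G) := by
  obtain ⟨S⟩ : Nonempty (Sylow p H) := inferInstance
  obtain ⟨Q, hQ⟩ := (S.isPGroup'.map H.subtype).exists_le_sylow
  refine ⟨Q, fun R hR hRp x hx => ?_⟩
  obtain ⟨S', hS'⟩ := (hRp.comap_subtype (K := H)).exists_le_sylow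
  letI := Sylow.unique_of_normal S (hH S)
  rw [Subsingleton.elim S' S] at hS'
  exact hQ ⟨⟨x, hR hx⟩, hS' hx, rfl⟩

/-- A minimal counterexample does not exist. -/
theorem false_of_counterexample {n : ℕ} (ρ : Representation ℂ G (Fin n → ℂ))
    (hρ : Function.Injective ρ) (hnp : n + 1 < p) (P : Sylow p G)
    (hPn : ¬ (P : Subgroup G).Normal)
    (hbig : (n + 1) ^ 2 ≤ Nat.card (P : Subgroup G))
    (hsub : ∀ H : Subgroup G, H ≠ ⊤ → ∀ Q : Sylow p H, (Q : Subgroup H).Normal) : False := by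
  classical
  haveI : Fintype G := Fintype.ofFinite G
  set P₀ : Subgroup G := (P : Subgroup G) with hP₀
  have hab : ∀ Q : Sylow p G, ∀ a ∈ (Q : Subgroup G), ∀ b ∈ (Q : Subgroup G), a * b = b * a :=
    fun Q => comm_of_small ρ hρ (by omega) _ Q.isPGroup'
  have habove : ∀ H : Subgroup G, H ≠ ⊤ → ∃ Q : Sylow p G, ∀ R : Subgroup G, R ≤ H →
      IsPGroup p R → R ≤ (Q : Subgroup G) := fun H hH => exists_sylow_above H (hsub H hH)
  -- no proper normal subgroup contains the Sylow subgroup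
  have hnn : ∀ M : Subgroup G, M.Normal → P₀ ≤ M → M = ⊤ := by
    intro M hM hPM
    by_contra hne
    obtain ⟨Q, hQ⟩ := habove M hne
    have hQP : Q = P := Sylow.ext (P.is_maximal' Q.isPGroup' (hQ P₀ hPM P.isPGroup'))
    refine hPn ⟨fun x hx g => ?_⟩
    have h1 : P₀.map (MulAut.conj g).toMonoidHom ≤ M := by
      rintro _ ⟨z, hz, rfl⟩
      exact hM.conj_mem z (hPM hz) g
    have h2 := hQ _ h1 (P.isPGroup'.map _)
    rw [hQP] at h2
    exact h2 ⟨x, hx, rfl⟩
  have hnab : ∃ a b : G, a * b ≠ b * a := by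
    by_contra h
    push Not at h
    exact hPn ⟨fun x hx g => by rw [h g x, mul_inv_cancel_right]; exact hx⟩
  by_cases hR : P₀ ⊓ Subgroup.center G = ⊥
  · -- the trivial intersection case
    haveI : Fintype P₀ := Fintype.ofFinite _
    have hone : ∀ g : G, g ∉ Subgroup.center G → ∀ a b : G,
        Subgroup.centralizer ({g} : Set G) ⊓ P₀.map (MulAut.conj a).toMonoidHom ≠ ⊥ →
        Subgroup.centralizer ({g} : Set G) ⊓ P₀.map (MulAut.conj b).toMonoidHom ≠ ⊥ →
        P₀.map (MulAut.conj a).toMonoidHom = P₀.map (MulAut.conj b).toMonoidHom := by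
      intro g hg a b ha hb
      have hCg : Subgroup.centralizer ({g} : Set G) ≠ ⊤ := by
        intro h
        refine hg (Subgroup.mem_center_iff.mpr fun z => ?_)
        exact Subgroup.mem_centralizer_singleton_iff.mp (h ▸ Subgroup.mem_top z)
      obtain ⟨Q, hQ⟩ := habove _ hCg
      suffices h : ∀ c : G,
          Subgroup.centralizer ({g} : Set G) ⊓ P₀.map (MulAut.conj c).toMonoidHom ≠ ⊥ →
          P₀.map (MulAut.conj c).toMonoidHom = (Q : Subgroup G) by
        rw [h a ha, h b hb]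
      intro c hc
      obtain ⟨x, hx, hx1⟩ := (Subgroup.bot_or_exists_ne_one _).resolve_left hc
      have hxp : IsPGroup p (Subgroup.zpowers x) :=
        ((P.isPGroup'.map (MulAut.conj c).toMonoidHom)).to_le (Subgroup.zpowers_le.mpr hx.2)
      have hxQ : x ∈ (Q : Subgroup G) :=
        hQ _ (Subgroup.zpowers_le.mpr hx.1) hxp (Subgroup.mem_zpowers x)
      have hxZ : x ∉ Subgroup.center G := by
        intro hz
        obtain ⟨x₀, hx₀, rfl⟩ := hx.2
        have e : (MulAut.conj c).toMonoidHom x₀ = c * x₀ * c⁻¹ := rfl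
        have hz0 : x₀ ∈ Subgroup.center G := by
          have h := (inferInstance : (Subgroup.center G).Normal).conj_mem _ hz c⁻¹
          rw [e] at h
          simpa [mul_assoc] using h
        have h1 : x₀ = 1 := (Subgroup.eq_bot_iff_forall _).mp hR x₀ ⟨hx₀, hz0⟩
        exact hx1 (by rw [h1, map_one])
      have hCx : Subgroup.centralizer ({x} : Set G) ≠ ⊤ := by
        intro h
        refine hxZ (Subgroup.mem_center_iff.mpr fun z => ?_)
        exact Subgroup.mem_centralizer_singleton_iff.mp (h ▸ Subgroup.mem_top z)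
      obtain ⟨Q₂, hQ₂⟩ := habove _ hCx
      have h1 : (Q : Subgroup G) ≤ Q₂ := hQ₂ _ (fun z hz =>
        Subgroup.mem_centralizer_singleton_iff.mpr (hab Q z hz x hxQ)) Q.isPGroup'
      have h2 : P₀.map (MulAut.conj c).toMonoidHom ≤ Q₂ := by
        refine hQ₂ _ (fun z hz => Subgroup.mem_centralizer_singleton_iff.mpr ?_)
          (P.isPGroup'.map _)
        obtain ⟨z₀, hz₀, rfl⟩ := hz
        obtain ⟨x₀, hx₀, rfl⟩ := hx.2
        rw [← map_mul, ← map_mul, hab P z₀ hz₀ x₀ hx₀]
      rw [← Q.is_maximal' Q₂.isPGroup' h1]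
      refine Subgroup.eq_of_le_of_card_ge h2 ?_
      rw [Subgroup.card_map_of_injective (MulAut.conj c).injective]
      exact le_of_eq (Nat.card_congr (Q₂.equiv P).toEquiv)
    obtain ⟨m, hm⟩ := IsCharacter.exists_decomp (χ := ρ.character) ⟨n, ρ, rfl⟩
    obtain ⟨ψ, hψ, hψ1⟩ : ∃ ψ : IrrCharacter G, m ψ ≠ 0 ∧ (ψ : G → ℂ) 1 ≠ 1 := by
      by_contra h
      push Not at h
      obtain ⟨a, b, hne⟩ := hnab
      exact hne (hρ (comm_of_linear ρ m hm h a b))
    obtain ⟨d, -, hd⟩ := IsIrrCharacter.exists_degree ψ.2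
    have hdn : d ≤ n := by
      refine degree_le_of_constituent (α := ρ.character) ⟨n, ρ, rfl⟩ ψ.2 ?_ ?_ hd
      · rw [hm, classInner_combination]
        exact Nat.cast_ne_zero.mpr hψ
      · rw [Representation.char_one, Module.finrank_fin_fun]
    have h := FTBound.bound_two P₀ (hab P) hR hone ψ.2 hd
      (fun h => hψ1 (by rw [hd, h, Nat.cast_one])) hnn
    have h1 : (1 + d) ^ 2 ≤ Nat.card P₀ :=
      (Nat.pow_le_pow_left (by omega) 2).trans hbig
    have h2 : ((1 : ℝ) + d) ^ 2 ≤ (Nat.card P₀ : ℝ) := by exact_mod_cast h1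
    linarith
  -- the central case: transfer
  letI : CommGroup P₀ :=
    { (inferInstance : Group P₀) with mul_comm := fun a b => Subtype.ext (hab P a a.2 b b.2) }
  let τ : G →* P₀ := MonoidHom.transfer (MonoidHom.id P₀)
  have hτz : ∀ z ∈ P₀ ⊓ Subgroup.center G, τ z = 1 → z = 1 := by
    intro z hz h
    have key : ∀ (k : ℕ) (g₀ : G), g₀⁻¹ * z ^ k * g₀ ∈ P₀ → g₀⁻¹ * z ^ k * g₀ = z ^ k := by
      intro k g₀ _
      have hc := Subgroup.mem_center_iff.mp (Subgroup.pow_mem _ hz.2 k) g₀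
      rw [mul_assoc, ← hc, inv_mul_cancel_left]
    have he := MonoidHom.transfer_eq_pow (MonoidHom.id P₀) z key
    rw [show MonoidHom.transfer (MonoidHom.id P₀) z = τ z from rfl, h] at he
    have hpow : z ^ P₀.index = 1 := (congrArg Subtype.val he).symm
    obtain ⟨i, hi⟩ := P.isPGroup' ⟨z, hz.1⟩
    have hpow' : z ^ p ^ i = 1 := congrArg Subtype.val hi
    have hcop : Nat.Coprime (p ^ i) P₀.index :=
      Nat.Coprime.pow_left i ((Nat.Prime.coprime_iff_not_dvd Fact.out).mpr P.not_dvd_index)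
    have := (pow_gcd_eq_one).mpr ⟨hpow', hpow⟩
    rwa [show Nat.gcd (p ^ i) P₀.index = 1 from hcop, pow_one] at this
  set M : Subgroup G := τ.ker with hMdef
  haveI hMn : M.Normal := MonoidHom.normal_ker τ
  have hMne : M ≠ ⊤ := by
    intro h
    refine hR ((Subgroup.eq_bot_iff_forall _).mpr fun z hz => hτz z hz ?_)
    have : z ∈ M := h ▸ Subgroup.mem_top z
    exact this
  obtain ⟨Q, hQ⟩ := habove M hMne
  -- the kernel is a `p'`-group
  have hTn : ((Q : Subgroup G) ⊓ M).Normal := by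
    refine ⟨fun x hx g => ⟨?_, hMn.conj_mem x hx.2 g⟩⟩
    have h1 : ((Q : Subgroup G) ⊓ M).map (MulAut.conj g).toMonoidHom ≤ M := by
      rintro _ ⟨z, hz, rfl⟩
      exact hMn.conj_mem z hz.2 g
    exact hQ _ h1 ((Q.isPGroup'.to_le inf_le_left).map _) ⟨x, hx, rfl⟩
  have hT : (Q : Subgroup G) ⊓ M = ⊥ := by
    have hTP : (Q : Subgroup G) ⊓ M ≤ P₀ :=
      @IsPGroup.le_sylow_of_normal _ _ _ _ hTn (Q.isPGroup'.to_le inf_le_left) P
    haveI := hTn
    have hcent : Subgroup.centralizer (((Q : Subgroup G) ⊓ M : Subgroup G) : Set G) = ⊤ :=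
      hnn _ inferInstance fun y hy =>
        Subgroup.mem_centralizer_iff.mpr fun t ht => hab P t (hTP ht) y hy
    refine (Subgroup.eq_bot_iff_forall _).mpr fun t ht => hτz t ⟨hTP ht, ?_⟩ ht.2
    refine Subgroup.mem_center_iff.mpr fun g => ?_
    exact (Subgroup.mem_centralizer_iff.mp (hcent ▸ Subgroup.mem_top g) t ht).symm
  have hMp : ¬ p ∣ Nat.card M := by
    intro h
    obtain ⟨x, hx⟩ := exists_prime_orderOf_dvd_card' p h
    have hxp : IsPGroup p (Subgroup.zpowers (x : G)) :=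
      IsPGroup.of_card (n := 1) (by rw [Nat.card_zpowers, Subgroup.orderOf_coe, hx, pow_one])
    have h1 : (x : G) ∈ (Q : Subgroup G) :=
      hQ _ (Subgroup.zpowers_le.mpr x.2) hxp (Subgroup.mem_zpowers _)
    have h2 : (x : G) = 1 := (Subgroup.eq_bot_iff_forall _).mp hT _ ⟨h1, x.2⟩
    rw [← Subgroup.orderOf_coe, h2, orderOf_one] at hx
    exact (Fact.out : p.Prime).ne_one hx.symm
  obtain ⟨a, ha⟩ : ∃ a, Nat.card P₀ = p ^ a := P.isPGroup'.exists_card_eq
  have hcop : (Nat.card P₀).Coprime (Nat.card M) := by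
    rw [ha]
    exact Nat.Coprime.pow_left a ((Nat.Prime.coprime_iff_not_dvd Fact.out).mpr hMp)
  have hPM : P₀ ⊓ M = ⊥ := Subgroup.inf_eq_bot_of_coprime hcop
  have hsup : M ⊔ P₀ = ⊤ := by
    rw [← Subgroup.index_eq_one]
    have h1 : (M ⊔ P₀).index ∣ M.index := Subgroup.index_dvd_of_le le_sup_left
    have h2 : (M ⊔ P₀).index ∣ P₀.index := Subgroup.index_dvd_of_le le_sup_right
    have h3 : M.index ∣ Nat.card P₀ := by
      rw [Subgroup.index_ker]
      exact Subgroup.card_subgroup_dvd_card _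
    refine Nat.eq_one_of_dvd_coprimes (Nat.Coprime.coprime_dvd_left h3 ?_) h1 h2
    rw [ha]
    exact Nat.Coprime.pow_left a ((Nat.Prime.coprime_iff_not_dvd Fact.out).mpr P.not_dvd_index)
  have hMnc : ¬ M ≤ Subgroup.centralizer (P₀ : Set G) := by
    intro h
    refine hPn (Subgroup.normalizer_eq_top_iff.mp (top_le_iff.mp ?_))
    rw [← hsup]
    exact sup_le (h.trans (Subgroup.centralizer_le_normalizer _)) Subgroup.le_normalizer
  -- invariant proper subgroups of the kernel are centralised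
  have hsmall : ∀ X : Subgroup G, X ≤ M → P₀ ≤ Subgroup.normalizer (X : Set G) → X ≠ M →
      X ≤ Subgroup.centralizer (P₀ : Set G) := by
    intro X hXM hPX hne
    have hproper : X ⊔ P₀ ≠ ⊤ := by
      intro h
      refine hne (le_antisymm hXM fun m hm => ?_)
      have hmem : m ∈ ((X ⊔ P₀ : Subgroup G) : Set G) := h ▸ Subgroup.mem_top m
      rw [Subgroup.coe_mul_of_right_le_normalizer_left X P₀ hPX] at hmem
      obtain ⟨s, hs, y, hy, rfl⟩ := hmem
      have : y ∈ P₀ ⊓ M := ⟨hy, by simpa using M.mul_mem (M.inv_mem (hXM hs)) hm⟩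
      rw [hPM, Subgroup.mem_bot] at this
      simpa [this] using hs
    obtain ⟨Q', hQ'⟩ := habove _ hproper
    have hQ'P : Q' = P :=
      Sylow.ext (P.is_maximal' Q'.isPGroup' (hQ' P₀ le_sup_right P.isPGroup'))
    intro s hs
    refine Subgroup.mem_centralizer_iff.mpr fun y hy => ?_
    have hle : P₀.map (MulAut.conj s).toMonoidHom ≤ X ⊔ P₀ := by
      rintro _ ⟨z, hz, rfl⟩
      exact Subgroup.mul_mem _ (Subgroup.mul_mem _ (Subgroup.mem_sup_left hs)
        (Subgroup.mem_sup_right hz)) (Subgroup.inv_mem _ (Subgroup.mem_sup_left hs))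
    have h1 : s * y * s⁻¹ ∈ P₀ := by
      have := hQ' _ hle (P.isPGroup'.map _) (Subgroup.mem_map_of_mem _ hy)
      rw [hQ'P] at this
      exact this
    have h2 : s * y * s⁻¹ * y⁻¹ ∈ P₀ ⊓ M := by
      refine ⟨P₀.mul_mem h1 (P₀.inv_mem hy), ?_⟩
      rw [show s * y * s⁻¹ * y⁻¹ = s * (y * s⁻¹ * y⁻¹) by group]
      exact M.mul_mem (hXM hs) (hMn.conj_mem _ (M.inv_mem (hXM hs)) y)
    rw [hPM, Subgroup.mem_bot] at h2
    exact (mul_inv_eq_iff_eq_mul.mp (mul_inv_eq_one.mp h2)).symm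
  have hsolP : Group.IsSolvable P₀ := by
    haveI : Group.IsNilpotent P₀ := P.isPGroup'.isNilpotent
    infer_instance
  have hPnM : P₀ ≤ Subgroup.normalizer (M : Set G) := Subgroup.le_normalizer_of_normal
  obtain ⟨q, hq, hMq⟩ : ∃ q : ℕ, q.Prime ∧ IsPGroup q M := by
    by_contra h
    push Not at h
    refine hMnc ?_
    rw [← Subgroup.subgroupOf_eq_top]
    refine FittingCores.eq_top_of_forall_sylow_le fun q hq => ?_
    haveI := Fact.mk hq
    obtain ⟨S, hS⟩ := CoprimeAct.exists_invariant_sylow hPnM hcop (Or.inl hsolP) q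
    refine ⟨S, fun y hy => ?_⟩
    refine hsmall _ (Subgroup.map_subtype_le _) hS ?_ (Subgroup.mem_map_of_mem M.subtype hy)
    intro e
    exact h q hq (e ▸ S.isPGroup'.map M.subtype)
  haveI := Fact.mk hq
  haveI : Group.IsNilpotent M := hMq.isNilpotent
  set C : Subgroup G := M ⊓ Subgroup.centralizer (P₀ : Set G) with hCdef
  have hM0 : M ≠ ⊥ := fun h => hMnc (h ▸ bot_le)
  -- `M = [M, P]`
  have hMP : ⁅M, P₀⁆ = M := by
    by_contra h
    have h1 := hsmall _ (CoprimeAct.commutator_le_left hPnM)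
      (Subgroup.normalizer_commutator_ge_right M P₀) h
    have h2 := CoprimeAct.commutator_commutator hPnM hcop (Or.inl hsolP)
    rw [Subgroup.commutator_eq_bot_iff_le_centralizer.mpr h1] at h2
    exact hMnc (Subgroup.commutator_eq_bot_iff_le_centralizer.mp h2.symm)
  have hderC : ⁅M, M⁆ ≤ C := by
    refine le_inf (Subgroup.commutator_le_self M) ?_
    refine hsmall _ (Subgroup.commutator_le_self M) ?_ ?_
    · exact Subgroup.le_normalizer_of_normal
    · intro e
      haveI : Nontrivial M := (Subgroup.nontrivial_iff_ne_bot M).mpr hM0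
      refine (Group.IsSolvable.commutator_lt_top_of_nontrivial (G := M)).ne
        (Subgroup.map_injective M.subtype_injective ?_)
      rw [Subgroup.map_subtype_commutator, e, ← MonoidHom.range_eq_map, Subgroup.range_subtype]
  have hCM : C ≤ Subgroup.centralizer (M : Set G) := by
    rw [← Subgroup.commutator_eq_bot_iff_le_centralizer]
    have h1 : ⁅⁅P₀, C⁆, M⁆ = ⊥ := by
      rw [Subgroup.commutator_comm P₀ C,
        Subgroup.commutator_eq_bot_iff_le_centralizer.mpr (inf_le_right : C ≤ _),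
        Subgroup.commutator_bot_left]
    have h2 : ⁅⁅C, M⁆, P₀⁆ = ⊥ := by
      rw [Subgroup.commutator_eq_bot_iff_le_centralizer]
      exact ((Subgroup.commutator_mono inf_le_left le_rfl).trans hderC).trans inf_le_right
    have h3 := Subgroup.commutator_commutator_eq_bot_of_rotate (H₁ := M) (H₂ := P₀) (H₃ := C) h1 h2
    rw [hMP] at h3
    rwa [Subgroup.commutator_comm]
  have hCc : ∀ c ∈ C, ∀ g : G, c * g = g * c := by
    intro c hc g
    have hle : (⊤ : Subgroup G) ≤ Subgroup.centralizer ({c} : Set G) := by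
      rw [← hsup]
      refine sup_le (fun z hz => ?_) (fun z hz => ?_)
      · rw [Subgroup.mem_centralizer_singleton_iff]
        exact Subgroup.mem_centralizer_iff.mp (hCM hc) z hz
      · rw [Subgroup.mem_centralizer_singleton_iff]
        exact Subgroup.mem_centralizer_iff.mp hc.2 z hz
    exact (Subgroup.mem_centralizer_singleton_iff.mp (hle (Subgroup.mem_top g))).symm
  -- an element of `P` with order `p` modulo the centraliser of `M`
  obtain ⟨y, hyP, hync, hyp⟩ : ∃ y ∈ P₀, ¬ (∀ m ∈ M, y * m = m * y) ∧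
      ∀ m ∈ M, y ^ p * m = m * y ^ p := by
    obtain ⟨x, hxP, hx⟩ : ∃ x ∈ P₀, ¬ ∀ m ∈ M, x * m = m * x := by
      by_contra h
      push Not at h
      exact hMnc fun m hm => Subgroup.mem_centralizer_iff.mpr fun y hy => h y hy m hm
    obtain ⟨i, hi⟩ := P.isPGroup' ⟨x, hxP⟩
    have hex : ∃ i, ∀ m ∈ M, x ^ p ^ i * m = m * x ^ p ^ i :=
      ⟨i, fun m _ => by rw [show x ^ p ^ i = 1 from congrArg Subtype.val hi, one_mul, mul_one]⟩
    have hspec := Nat.find_spec hex
    rcases hj : Nat.find hex with _ | j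
    · rw [hj, pow_zero, pow_one] at hspec
      exact absurd hspec hx
    · refine ⟨x ^ p ^ j, P₀.pow_mem hxP _, Nat.find_min hex (by omega), ?_⟩
      rw [hj, pow_succ, pow_mul] at hspec
      exact hspec
  have hyC : ∀ m ∈ M, y * m = m * y → m ∈ C := by
    let X : Subgroup G := M ⊓ Subgroup.centralizer ({y} : Set G)
    have hPX : P₀ ≤ Subgroup.normalizer (X : Set G) := by
      intro z hz
      rw [Subgroup.mem_normalizer_iff]
      intro m
      have hzy : z * y = y * z := hab P z hz y hyP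
      have hzy' : z⁻¹ * y = y * z⁻¹ := hab P _ (P₀.inv_mem hz) y hyP
      constructor
      · rintro ⟨h1, h2⟩
        refine ⟨hMn.conj_mem m h1 z, ?_⟩
        replace h2 : m * y = y * m := Subgroup.mem_centralizer_singleton_iff.mp h2
        refine Subgroup.mem_centralizer_singleton_iff.mpr ?_
        rw [mul_assoc, hzy', ← mul_assoc, mul_assoc z m, h2, ← mul_assoc, hzy]
        group
      · rintro ⟨h1, h2⟩
        refine ⟨by simpa [mul_assoc] using hMn.conj_mem _ h1 z⁻¹, ?_⟩
        replace h2 : z * m * z⁻¹ * y = y * (z * m * z⁻¹) :=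
          Subgroup.mem_centralizer_singleton_iff.mp h2
        refine Subgroup.mem_centralizer_singleton_iff.mpr ?_
        calc m * y = z⁻¹ * (z * m * z⁻¹) * (z * y) := by group
          _ = z⁻¹ * (z * m * z⁻¹) * (y * z) := by rw [hzy]
          _ = z⁻¹ * (y * (z * m * z⁻¹)) * z := by
              rw [← mul_assoc, mul_assoc z⁻¹ (z * m * z⁻¹) y, h2]
          _ = y * z⁻¹ * (z * m * z⁻¹) * z := by rw [← mul_assoc, hzy']
          _ = y * m := by group
    have hXne : X ≠ M := by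
      intro e
      refine hync fun m hm => ?_
      have : m ∈ X := e.symm ▸ hm
      exact (Subgroup.mem_centralizer_singleton_iff.mp this.2).symm
    intro m hm hym
    exact ⟨hm, hsmall X inf_le_left hPX hXne
      ⟨hm, Subgroup.mem_centralizer_singleton_iff.mpr hym.symm⟩⟩
  have hfix : ∀ m ∈ M, m⁻¹ * (y * m * y⁻¹) ∈ C → m ∈ C := by
    intro m hm hc
    set c := m⁻¹ * (y * m * y⁻¹) with hcdef
    have hpow : ∀ k : ℕ, y ^ k * m * (y ^ k)⁻¹ = m * c ^ k := by
      intro k
      induction k with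
      | zero => simp
      | succ k ih =>
        calc y ^ (k + 1) * m * (y ^ (k + 1))⁻¹ = y * (y ^ k * m * (y ^ k)⁻¹) * y⁻¹ := by
              rw [pow_succ' y k]
              group
          _ = y * (m * c ^ k) * y⁻¹ := by rw [ih]
          _ = y * m * (c ^ k * y⁻¹) := by group
          _ = y * m * (y⁻¹ * c ^ k) := by rw [hCc _ (C.pow_mem hc k) y⁻¹]
          _ = m * c ^ (k + 1) := by
              rw [pow_succ' c k, ← mul_assoc m c, ← mul_assoc (y * m),
                show m * c = y * m * y⁻¹ by rw [hcdef]; group]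
    have h1 := hpow p
    rw [hyp m hm, mul_inv_cancel_right] at h1
    have hcp : c ^ p = 1 := mul_left_cancel (a := m) (by rw [mul_one]; exact h1.symm)
    have hc1 : c = 1 := by
      by_contra hne
      refine hMp ?_
      rw [← orderOf_eq_prime hcp hne]
      exact Subgroup.orderOf_dvd_natCard _ hc.1
    refine hyC m hm ?_
    rw [hcdef, inv_mul_eq_one] at hc1
    exact (eq_mul_inv_iff_mul_eq.mp hc1).symm
  -- a constituent nontrivial on `M`
  obtain ⟨g₀, hg₀M, hg₀⟩ := (Subgroup.bot_or_exists_ne_one M).resolve_left hM0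
  obtain ⟨k, ρ₀, hirr, hkn, hne₀⟩ := exists_constituent_nontrivial ρ hρ hg₀
  haveI := hirr
  -- the kernel of the constituent on `M`
  have hK : ∀ m ∈ M, ρ₀ m = LinearMap.id → m ∈ C := by
    intro m hm hid
    refine ⟨hm, hsmall (M ⊓ ρ₀.ker) inf_le_left Subgroup.le_normalizer_of_normal ?_
      ⟨hm, MonoidHom.mem_ker.mpr hid⟩⟩
    intro e
    exact hne₀ (MonoidHom.mem_ker.mp (e.ge hg₀M).2)
  by_cases habM : ∀ a ∈ M, ∀ b ∈ M, ρ₀ (a * b) = ρ₀ (b * a)
  · refine hMnc fun m hm => ?_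
    have h1 := fixed_of_abelian ρ₀ (by omega) M habM y hyp m hm
    have h2 : y * m * y⁻¹ * m⁻¹ ∈ C := hK _ (M.mul_mem (hMn.conj_mem m hm y) (M.inv_mem hm)) h1
    have h3 : m⁻¹ * (y * m * y⁻¹) ∈ C := by
      have h4 : m⁻¹ * (y * m * y⁻¹) = m⁻¹ * (y * m * y⁻¹ * m⁻¹) * m := by group
      rw [h4, mul_assoc, hCc _ h2 m, inv_mul_cancel_left]
      exact h2
    exact (hfix m hm h3).2
  -- the nonabelian case
  push Not at habM
  obtain ⟨a₀, ha₀, b₀, hb₀, hne'⟩ := habM
  have hne : ∀ a ∈ M, a ∉ C → ∃ b ∈ M, ρ₀ (a * b) ≠ ρ₀ (b * a) := by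
    let Z : Subgroup G :=
      { carrier := {x | x ∈ M ∧ ∀ z ∈ M, ρ₀ (x * z) = ρ₀ (z * x)}
        one_mem' := ⟨M.one_mem, fun z _ => by rw [one_mul, mul_one]⟩
        mul_mem' := fun {a b} ha hb => ⟨M.mul_mem ha.1 hb.1, fun z hz => by
          calc ρ₀ (a * b * z) = ρ₀ a * ρ₀ (b * z) := by rw [mul_assoc, map_mul]
            _ = ρ₀ a * ρ₀ (z * b) := by rw [hb.2 z hz]
            _ = ρ₀ (a * z) * ρ₀ b := by rw [map_mul, map_mul, mul_assoc]
            _ = ρ₀ (z * a) * ρ₀ b := by rw [ha.2 z hz]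
            _ = ρ₀ (z * (a * b)) := by rw [← map_mul, mul_assoc]⟩
        inv_mem' := fun {a} ha => ⟨M.inv_mem ha.1, fun z hz => by
          calc ρ₀ (a⁻¹ * z) = ρ₀ a⁻¹ * ρ₀ (z * a) * ρ₀ a⁻¹ := by
                rw [← map_mul, ← map_mul]; congr 1; group
            _ = ρ₀ a⁻¹ * ρ₀ (a * z) * ρ₀ a⁻¹ := by rw [ha.2 z hz]
            _ = ρ₀ (z * a⁻¹) := by rw [← map_mul, ← map_mul]; congr 1; group⟩ }
    have hZM : Z ≤ M := fun x hx => hx.1
    haveI hZn : Z.Normal := by
      refine ⟨fun x hx g => ⟨hMn.conj_mem x hx.1 g, fun z hz => ?_⟩⟩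
      have := hx.2 (g⁻¹ * z * g) (by simpa using hMn.conj_mem z hz g⁻¹)
      calc ρ₀ (g * x * g⁻¹ * z) = ρ₀ g * ρ₀ (x * (g⁻¹ * z * g)) * ρ₀ g⁻¹ := by
            rw [← map_mul, ← map_mul]; congr 1; group
        _ = ρ₀ g * ρ₀ ((g⁻¹ * z * g) * x) * ρ₀ g⁻¹ := by rw [this]
        _ = ρ₀ (z * (g * x * g⁻¹)) := by rw [← map_mul, ← map_mul]; congr 1; group
    intro a ha haC
    by_contra h
    push Not at h
    refine haC ⟨ha, hsmall Z hZM Subgroup.le_normalizer_of_normal ?_ ⟨ha, h⟩⟩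
    intro e
    exact hne' ((e.ge ha₀).2 b₀ hb₀)
  obtain ⟨e, hek, hcard⟩ := exists_square ρ₀ M C inf_le_left hCc
    (fun a ha b hb => hderC (Subgroup.commutator_mem_commutator ha hb)) hne
  have hmod := index_modEq M C inf_le_left hCc y hyp hfix _ hcard
  have he0 : e ≠ 0 := by
    rintro rfl
    simp only [zero_mul] at hcard
    exact Nat.card_pos.ne' hcard
  have he2 : 2 ≤ e := by
    rcases Nat.lt_or_ge e 2 with h | h
    · have h1 : e = 1 := by omega
      rw [h1, one_mul, one_mul] at hcard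
      have hMC : C = M := Subgroup.eq_of_le_of_card_ge inf_le_left hcard.le
      exact absurd (hMC ▸ inf_le_right : M ≤ _) hMnc
    · exact h
  have hdvd : p ∣ (e - 1) * (e + 1) := by
    rw [Nat.mul_comm, ← Nat.sq_sub_sq]
    have h1 : 1 ≤ e * e := by nlinarith
    simpa [sq] using (Nat.modEq_iff_dvd' h1).mp hmod.symm
  rcases (Fact.out : p.Prime).dvd_mul.mp hdvd with h | h
  · have := Nat.le_of_dvd (by omega) h
    omega
  · have := Nat.le_of_dvd (by omega) h
    omega

end Cfsg.Agent.Char.Blich
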