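import Cfsg.Agent.Lib.Char.DegreeFour
import Cfsg.Agent.Lib.Char.Gallagher
import Cfsg.Agent.Lib.Char.ItoPSolvable
import Mathlib.GroupTheory.FiniteAbelian.Duality
import Mathlib.GroupTheory.PGroup
import Mathlib.Data.Nat.Factorial.Basic

/-!
# Abelian subgroups of groups with bounded irreducible degrees

If all irreducible degrees of the finite group `G` are at most `b` then `G` has an abelian
subgroup of index at most `(b!)^2` (Isaacs–Passman).  The proof is an induction on `b`.  Let `M` be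
maximal among the normal subgroups with non-abelian quotient `Q`.  Then `b(M) ≤ b / 2`, the
derived group `W` is the unique minimal normal subgroup of `Q`, and one of three cases holds.
* `W` is central: the preimage of `Z(Q)` has index at most `b ^ 2` and smaller degrees.
* `W` is abelian and not central: the preimage `C` of `C_Q(W)` has index at most `b`; either
  its degrees are smaller, or a character of degree `b` vanishes on `C \ M` and `|Q| ≤ b ^ 3`.
* `W` is not abelian: the preimage of the centraliser of an element with a small class has index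
  at most `b ^ 2`; either its degrees are smaller, or `|Q| ≤ b ^ 4` and `b ≥ 5`.
-/

set_option linter.style.haveILetI false

namespace Cfsg.Agent.BoundedDegree

open Cfsg.Agent.Char
open scoped ComplexConjugate commutatorElement

universe u

variable {G : Type u} [Group G]

/-- There is an abelian subgroup of index at most `n`. -/
def HasAbelian (G : Type u) [Group G] (n : ℕ) : Prop :=
  ∃ A : Subgroup G, (∀ x ∈ A, ∀ y ∈ A, x * y = y * x) ∧ A.index ≤ n

theorem HasAbelian.of_subgroup (H : Subgroup G) {n N : ℕ} (h : HasAbelian H n)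
    (hN : H.index * n ≤ N) : HasAbelian G N := by
  obtain ⟨A, hA, hAi⟩ := h
  refine ⟨A.map H.subtype, ?_, ?_⟩
  · rintro _ ⟨x, hx, rfl⟩ _ ⟨y, hy, rfl⟩
    rw [← map_mul, ← map_mul, hA x hx y hy]
  · rw [Subgroup.index_map_subtype, mul_comm]
    exact (Nat.mul_le_mul_left _ hAi).trans hN

section inequalities

theorem step_bound {b i : ℕ} (hb : 1 ≤ b) (hi : i ≤ b ^ 2) :
    i * Nat.factorial (b - 1) ^ 2 ≤ Nat.factorial b ^ 2 := by
  have : Nat.factorial b = b * Nat.factorial (b - 1) := by
    conv_lhs => rw [← Nat.sub_add_cancel hb, Nat.factorial_succ, Nat.sub_add_cancel hb]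
  rw [this, mul_pow]
  exact Nat.mul_le_mul_right _ hi

theorem four_bound {b : ℕ} (hb : 5 ≤ b) :
    b ^ 4 * Nat.factorial (b / 2) ^ 2 ≤ Nat.factorial b ^ 2 := by
  obtain ⟨c, rfl⟩ : ∃ c, b = c + 3 := ⟨b - 3, by omega⟩
  have h1 : Nat.factorial ((c + 3) / 2) ≤ Nat.factorial c := Nat.factorial_le (by omega)
  have h2 : (c + 3) ^ 2 * Nat.factorial ((c + 3) / 2) ≤ Nat.factorial (c + 3) := by
    simp only [Nat.factorial_succ]
    calc (c + 3) ^ 2 * Nat.factorial ((c + 3) / 2) ≤ (c + 3) ^ 2 * Nat.factorial c :=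
          Nat.mul_le_mul_left _ h1
      _ ≤ (c + 2 + 1) * ((c + 1 + 1) * ((c + 1) * Nat.factorial c)) := by
          rw [← mul_assoc, ← mul_assoc]
          exact Nat.mul_le_mul_right _ (by nlinarith)
  calc (c + 3) ^ 4 * Nat.factorial ((c + 3) / 2) ^ 2
      = ((c + 3) ^ 2 * Nat.factorial ((c + 3) / 2)) ^ 2 := by rw [mul_pow, ← pow_mul]
    _ ≤ _ := Nat.pow_le_pow_left h2 2

theorem three_bound {b : ℕ} (hb : 3 ≤ b) :
    b ^ 3 * Nat.factorial (b / 2) ^ 2 ≤ Nat.factorial b ^ 2 := by
  by_cases h5 : 5 ≤ b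
  · exact le_trans (Nat.mul_le_mul_right _ (Nat.pow_le_pow_right (by omega) (by omega)))
      (four_bound h5)
  · obtain rfl | rfl : b = 3 ∨ b = 4 := by omega
    all_goals norm_num [Nat.factorial]

end inequalities

section chars

variable [Fintype G]

omit [Fintype G] in
/-- A subgroup character of degree `b` is the restriction of every character above it. -/
theorem restrict_eq {b : ℕ} (hG : DegLE G b) (H : Subgroup G) [Fintype H]
    (ψ : Cfsg.IrrCharacter H) (hψ : Cfsg.charDegree (ψ : H → ℂ) = b) (χ : Cfsg.IrrCharacter G)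
    (h : Cfsg.classInner (fun h : H => (χ : G → ℂ) h) (ψ : H → ℂ) ≠ 0) :
    (fun h : H => (χ : G → ℂ) h) = (ψ : H → ℂ) := by
  have hr := IsCharacter.restrict (IsIrrCharacter.isCharacter χ.2) H
  have hle : Cfsg.charDegree (ψ : H → ℂ) ≤ Cfsg.charDegree (χ : G → ℂ) :=
    degree_le_of_constituent hr ψ.2 h (by simpa using CharX.irr_deg χ) (CharX.irr_deg ψ)
  refine eq_of_constituent_degree hr ψ.2 h ?_
  rw [OneMemClass.coe_one, CharX.irr_deg χ, CharX.irr_deg ψ]
  norm_cast
  have := hG χ
  omega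

/-- The key vanishing property: a character of degree `b` of a subgroup vanishes outside the
core of that subgroup. -/
theorem mem_core_of_ne_zero {b : ℕ} (hG : DegLE G b) (H : Subgroup G)
    (ψ : Cfsg.IrrCharacter H) (hψ : Cfsg.charDegree (ψ : H → ℂ) = b) (χ : Cfsg.IrrCharacter G)
    (hχ : (fun h : H => (χ : G → ℂ) h) = (ψ : H → ℂ)) {g : G} (hg : g ∈ H)
    (hne : (χ : G → ℂ) g ≠ 0) : g ∈ H.normalCore := by
  classical
  haveI : Fintype H := Fintype.ofFinite H
  have hI := isCharacter_indFun H (IsIrrCharacter.isCharacter ψ.2)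
  have hψc := IsIrrCharacter.isCharacter ψ.2
  have hres : ∀ θ : Cfsg.IrrCharacter G, Cfsg.classInner (Cfsg.indFun H (ψ : H → ℂ)) θ ≠ 0 →
      ∀ h : H, (θ : G → ℂ) h = (ψ : H → ℂ) h := by
    intro θ hθ h
    have hθc := IsIrrCharacter.isCharacter θ.2
    rw [classInner_indFun_left H _ (IsCharacter.isClassFunction hθc),
      classInner_comm_of_isCharacter hψc (IsCharacter.restrict hθc H)] at hθ
    exact congrFun (restrict_eq hG H ψ hψ θ hθ) h
  have hψ1 : (ψ : H → ℂ) 1 ≠ 0 := IsIrrCharacter.one_ne_zero ψ.2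
  have key : Cfsg.indFun H (ψ : H → ℂ) g = (H.index : ℂ) * (ψ : H → ℂ) ⟨g, hg⟩ := by
    have e1 := congrFun (IsCharacter.eq_sum hI) g
    have e2 := congrFun (IsCharacter.eq_sum hI) 1
    simp only [Finset.sum_apply, Pi.smul_apply, smul_eq_mul] at e1 e2
    rw [indFun_one_apply] at e2
    have step : ∀ h : H, ∑ θ : Cfsg.IrrCharacter G,
        Cfsg.classInner (Cfsg.indFun H (ψ : H → ℂ)) θ * (θ : G → ℂ) h =
          (∑ θ : Cfsg.IrrCharacter G, Cfsg.classInner (Cfsg.indFun H (ψ : H → ℂ)) θ) *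
            (ψ : H → ℂ) h := by
      intro h
      rw [Finset.sum_mul]
      refine Finset.sum_congr rfl fun θ _ => ?_
      by_cases h0 : Cfsg.classInner (Cfsg.indFun H (ψ : H → ℂ)) θ = 0
      · rw [h0, zero_mul, zero_mul]
      · rw [hres θ h0 h]
    rw [step ⟨g, hg⟩] at e1
    have h1 := step 1
    rw [OneMemClass.coe_one] at h1
    rw [h1] at e2
    rw [e1, ← mul_right_cancel₀ hψ1 e2]
  have hext : ∀ x : G, Cfsg.extendByZero H (ψ : H → ℂ) (x⁻¹ * g * x) =
      if x⁻¹ * g * x ∈ H then (χ : G → ℂ) g else 0 := by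
    intro x
    split_ifs with hx
    · rw [extendByZero_mem H _ hx, ← congrFun hχ ⟨_, hx⟩]
      have := IsCharacter.isClassFunction (IsIrrCharacter.isCharacter χ.2) g x⁻¹
      rwa [inv_inv] at this
    · exact extendByZero_not_mem H _ hx
  rw [indFun_apply, Finset.sum_congr rfl (fun x _ => hext x), ← Finset.sum_filter,
    Finset.sum_const, nsmul_eq_mul, ← congrFun hχ ⟨g, hg⟩, ← mul_assoc] at key
  have hcard := mul_right_cancel₀ hne key
  rw [inv_mul_eq_iff_eq_mul₀ (Nat.cast_ne_zero.2 Nat.card_pos.ne'), ← Nat.cast_mul, Nat.cast_inj,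
    Subgroup.card_mul_index, Nat.card_eq_fintype_card, ← Finset.card_univ] at hcard
  have hall := Finset.eq_univ_of_card _ (hcard.trans (Finset.card_univ (α := G)))
  intro x
  have := (Finset.mem_filter.1 (hall.symm ▸ Finset.mem_univ x⁻¹ :
    x⁻¹ ∈ Finset.univ.filter fun y : G => y⁻¹ * g * y ∈ H)).2
  rwa [inv_inv] at this

/-- A character with irreducible restriction to `H` that vanishes on `H \ M` gives `|H|` from
its values on `M`. -/
theorem card_eq_mul_norm (H M : Subgroup G) (hMH : M ≤ H) [Fintype M] (χ : Cfsg.IrrCharacter G)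
    (hirr : Cfsg.IsIrrCharacter H (fun h : H => (χ : G → ℂ) h))
    (hvan : ∀ g ∈ H, g ∉ M → (χ : G → ℂ) g = 0) :
    (Nat.card H : ℂ) = Nat.card M *
      Cfsg.classInner (fun m : M => (χ : G → ℂ) m) (fun m : M => (χ : G → ℂ) m) := by
  classical
  haveI : Fintype H := Fintype.ofFinite H
  have h1 := classInner_self_irr hirr
  rw [Cfsg.classInner, inv_mul_eq_iff_eq_mul₀ (Nat.cast_ne_zero.2 Nat.card_pos.ne'), mul_one] at h1
  rw [Cfsg.classInner, mul_inv_cancel_left₀ (Nat.cast_ne_zero.2 Nat.card_pos.ne'), ← h1]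
  let F : G → ℂ := fun g => (χ : G → ℂ) g * conj ((χ : G → ℂ) g)
  have e : ∀ (K : Subgroup G) [Fintype K],
      (∑ k : K, F k) = ∑ g ∈ Finset.univ.filter (fun g : G => g ∈ K), F g := fun K _ =>
    (Finset.sum_subtype _ (by simp) F).symm
  show ∑ h : H, F h = ∑ m : M, F m
  rw [e H, e M]
  refine (Finset.sum_subset (fun g hg => ?_) fun g hg hg' => ?_).symm
  · simp only [Finset.mem_filter, Finset.mem_univ, true_and] at hg ⊢
    exact hMH hg
  · simp only [Finset.mem_filter, Finset.mem_univ, true_and] at hg hg'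
    simp [F, hvan g hg hg']

/-- The norm of a restricted character, as a sum of squares bounded by the degree. -/
theorem exists_norm (M : Subgroup G) [Fintype M] (χ : Cfsg.IrrCharacter G) :
    ∃ k : ℕ, Cfsg.classInner (fun m : M => (χ : G → ℂ) m) (fun m : M => (χ : G → ℂ) m) = k ∧
      k ≤ Cfsg.charDegree (χ : G → ℂ) ^ 2 ∧ (Cfsg.charDegree (χ : G → ℂ) ≤ 2 → k ≠ 3) := by
  classical
  obtain ⟨a, ha⟩ :=
    IsCharacter.exists_decomp (IsCharacter.restrict (IsIrrCharacter.isCharacter χ.2) M)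
  refine ⟨∑ θ, a θ * a θ, ?_, ?_⟩
  · rw [ha, classInner_combination₂]
    simp
  have hdeg : ∑ θ, a θ ≤ Cfsg.charDegree (χ : G → ℂ) := by
    have h1 := congrFun ha 1
    simp only [OneMemClass.coe_one, CharX.irr_deg, Finset.sum_apply, Pi.smul_apply,
      smul_eq_mul] at h1
    have h2 : Cfsg.charDegree (χ : G → ℂ) =
        ∑ θ, a θ * Cfsg.charDegree (θ : M → ℂ) := by exact_mod_cast h1
    rw [h2]
    exact Finset.sum_le_sum fun θ _ => Nat.le_mul_of_pos_right _ (CharX.irr_deg_pos θ)
  have hsq : ∀ θ, a θ * a θ ≤ a θ * ∑ η, a η := fun θ =>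
    Nat.mul_le_mul_left _ (Finset.single_le_sum (fun η _ => Nat.zero_le _) (Finset.mem_univ θ))
  constructor
  · refine (Finset.sum_le_sum fun θ _ => hsq θ).trans ?_
    rw [← Finset.sum_mul, sq]
    exact Nat.mul_le_mul hdeg hdeg
  · intro h2 h3
    have hle : ∀ θ, a θ ≤ 1 := by
      intro θ
      by_contra h
      have h1 : a θ * a θ ≤ ∑ η, a η * a η :=
        Finset.single_le_sum (f := fun η => a η * a η) (fun η _ => Nat.zero_le _)
          (Finset.mem_univ θ)
      rw [h3] at h1
      nlinarith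
    have : ∑ θ, a θ * a θ = ∑ θ, a θ := Finset.sum_congr rfl fun θ _ => by
      have := hle θ
      interval_cases a θ <;> rfl
    omega

/-- A normal subgroup with non-abelian quotient has at most half the degrees. -/
theorem DegLE.half {b : ℕ} (hG : DegLE G b) (M : Subgroup G) [M.Normal]
    (hM : ¬ commutator G ≤ M) : DegLE M (b / 2) := by
  classical
  haveI : Fintype M := Fintype.ofFinite M
  intro ψ
  rw [Nat.le_div_iff_mul_le (by norm_num)]
  obtain ⟨χ, hχ, hle⟩ := exists_above M ψ
  by_contra hlt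
  have hlt' : Cfsg.charDegree (χ : G → ℂ) < Cfsg.charDegree (ψ : M → ℂ) * 2 := by
    have := hG χ
    omega
  obtain ⟨e, he⟩ := IsCharacter.exists_classInner_nat
    (IsCharacter.restrict (IsIrrCharacter.isCharacter χ.2) M) (IsIrrCharacter.isCharacter ψ.2)
  have hd := clifford_degree M χ.2 ψ.2 hχ
  rw [he, CharX.irr_deg, CharX.irr_deg] at hd
  have hd' : Cfsg.charDegree (χ : G → ℂ) =
      e * (inertia M (ψ : M → ℂ)).index * Cfsg.charDegree (ψ : M → ℂ) := by exact_mod_cast hd
  have hpos := CharX.irr_deg_pos χ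
  have h1 : e * (inertia M (ψ : M → ℂ)).index = 1 := by
    have hne : e * (inertia M (ψ : M → ℂ)).index ≠ 0 := by
      intro h0
      rw [h0, zero_mul] at hd'
      omega
    by_contra h1
    have h2 : 2 ≤ e * (inertia M (ψ : M → ℂ)).index := by omega
    have := Nat.mul_le_mul_right (Cfsg.charDegree (ψ : M → ℂ)) h2
    omega
  have heq := eq_of_constituent_degree
    (IsCharacter.restrict (IsIrrCharacter.isCharacter χ.2) M) ψ.2 hχ (by
      rw [OneMemClass.coe_one, CharX.irr_deg, CharX.irr_deg, hd', h1, one_mul])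
  haveI : Fintype (G ⧸ M) := Fintype.ofFinite _
  obtain ⟨β, hβ⟩ : ∃ β : Cfsg.IrrCharacter (G ⧸ M), 2 ≤ Cfsg.charDegree (β : G ⧸ M → ℂ) := by
    by_contra hall
    push Not at hall
    refine hM ?_
    have hcomm : IsMulCommutative (G ⧸ M) := Ito.comm_of_all_linear fun β => by
      have := hall β
      have := CharX.irr_deg_pos β
      rw [CharX.irr_deg, show Cfsg.charDegree (β : G ⧸ M → ℂ) = 1 by omega, Nat.cast_one]
    rw [commutator_def, Subgroup.commutator_le]
    intro x _ y _
    rw [← QuotientGroup.eq_one_iff]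
    show (QuotientGroup.mk' M) ⁅x, y⁆ = 1
    rw [map_commutatorElement, commutatorElement_eq_one_iff_mul_comm]
    exact hcomm.is_comm.comm _ _
  obtain ⟨h1', -, -⟩ := gallagher_one M (IsIrrCharacter.isCharacter χ.2)
    (by rw [heq]; exact ψ.2)
  have hirr := h1' (CharX.infl M β) fun n => CharX.infl_trivialOn M β n n.2
  have hb' := hG ⟨_, hirr⟩
  rw [deg_eq (IsIrrCharacter.isCharacter hirr) (d := Cfsg.charDegree (β : G ⧸ M → ℂ) *
    Cfsg.charDegree (χ : G → ℂ)) (by
      rw [Pi.mul_apply, CharX.infl_apply, CharX.irr_deg χ, Nat.cast_mul]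
      exact congrArg (· * _) (CharX.irr_deg β))] at hb'
  have := Nat.mul_le_mul_right (Cfsg.charDegree (χ : G → ℂ)) hβ
  omega

/-- Inducing a character from a normal subgroup that is its inertia group. -/
theorem index_mul_le {b : ℕ} (hG : DegLE G b) (C : Subgroup G) [C.Normal] {θ : C → ℂ}
    (hθ : Cfsg.IsIrrCharacter C θ) (hI : inertia C θ ≤ C) {d : ℕ} (hd : θ 1 = d) :
    C.index * d ≤ b := by
  classical
  haveI : Fintype C := Fintype.ofFinite C
  have hIc := isCharacter_indFun C (IsIrrCharacter.isCharacter hθ)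
  have hn : Cfsg.classInner (Cfsg.indFun C θ) (Cfsg.indFun C θ) = 1 := by
    rw [classInner_indFun_normal C hθ hθ]
    have : Nat.card {g : G // conjChar C g θ = θ} = Nat.card C :=
      Nat.card_congr (Equiv.subtypeEquivRight fun g =>
        ⟨fun h => hI h, fun h => conjChar_of_mem C
          (IsCharacter.isClassFunction (IsIrrCharacter.isCharacter hθ)) h⟩)
    rw [this, inv_mul_cancel₀ (Nat.cast_ne_zero.2 Nat.card_pos.ne')]
  have h := hG ⟨_, IsCharacter.isIrr_of_norm_one hIc hn⟩
  rwa [deg_eq hIc (d := C.index * d) (by rw [indFun_one_apply, hd, Nat.cast_mul])] at h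

/-- A nontrivial group has a nontrivial element with a small class. -/
theorem exists_small_class {b : ℕ} (hG : DegLE G b) (hnt : 1 < Nat.card G) :
    ∃ x : G, x ≠ 1 ∧ (Subgroup.centralizer ({x} : Set G)).index ≤ b ^ 2 := by
  classical
  by_contra hall
  push Not at hall
  set k := Fintype.card (Cfsg.IrrCharacter G) with hk
  set n := Nat.card G with hn
  have hsum : k * n = ∑ x : G, Nat.card (Subgroup.centralizer ({x} : Set G)) := by
    have : ((k * n : ℕ) : ℂ) =
        ((∑ x : G, Nat.card (Subgroup.centralizer ({x} : Set G)) : ℕ) : ℂ) := by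
      rw [Nat.cast_sum, Finset.sum_congr rfl fun x _ => (column_orth_of_isConj (IsConj.refl x)).symm,
        Finset.sum_comm, Nat.cast_mul, hk, ← Finset.card_univ, ← nsmul_eq_mul, ← Finset.sum_const]
      refine Finset.sum_congr rfl fun χ _ => ?_
      have h1 := classInner_self_irr χ.2
      rw [Cfsg.classInner, inv_mul_eq_iff_eq_mul₀ (Nat.cast_ne_zero.2 Nat.card_pos.ne'),
        mul_one] at h1
      exact h1.symm
    exact_mod_cast this
  have hbound : (b ^ 2 + 1) * (k * n) ≤ (b ^ 2 + 1) * n + (n - 1) * n := by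
    rw [hsum, ← Finset.add_sum_erase Finset.univ _ (Finset.mem_univ (1 : G)), mul_add,
      Finset.mul_sum]
    refine Nat.add_le_add (Nat.mul_le_mul_left _ (Subgroup.card_le_card_group _)) ?_
    refine (Finset.sum_le_card_nsmul _ _ n fun x hx => ?_).trans (le_of_eq ?_)
    · have h2 : (b ^ 2 + 1) * Nat.card (Subgroup.centralizer ({x} : Set G)) ≤
          (Subgroup.centralizer ({x} : Set G)).index *
            Nat.card (Subgroup.centralizer ({x} : Set G)) :=
        Nat.mul_le_mul_right _ (hall x (Finset.ne_of_mem_erase hx))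
      rwa [Subgroup.index_mul_card] at h2
    · rw [Finset.card_erase_of_mem (Finset.mem_univ _), Finset.card_univ, smul_eq_mul, hn,
        Nat.card_eq_fintype_card]
  have hdeg : n ≤ 1 + (k - 1) * b ^ 2 := by
    rw [hn, ← CharX.sum_deg_sq (G := G),
      ← Finset.add_sum_erase Finset.univ _ (Finset.mem_univ (principal G))]
    refine Nat.add_le_add (by simp [principal, CharX.charDegree_one]) ?_
    refine (Finset.sum_le_card_nsmul _ _ (b ^ 2) fun χ _ => Nat.pow_le_pow_left (hG χ) 2).trans ?_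
    rw [Finset.card_erase_of_mem (Finset.mem_univ _), Finset.card_univ, smul_eq_mul, hk]
  rw [← mul_assoc, ← add_mul] at hbound
  have h3 := Nat.le_of_mul_le_mul_right hbound (by omega)
  rcases k with _ | k
  · simp at hdeg; omega
  rcases k with _ | k
  · simp at hdeg; omega
  simp only [Nat.add_sub_cancel] at hdeg
  nlinarith [Nat.sub_add_cancel hnt.le]

end chars

section quotient

variable [Fintype G] {M : Subgroup G} [M.Normal]

/-- A subgroup whose degrees are not all below `b` carries a restriction of degree `b`. -/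
theorem exists_restrict {b : ℕ} (hG : DegLE G b) (H : Subgroup G) (hH : ¬ DegLE H (b - 1)) :
    ∃ ψ : Cfsg.IrrCharacter H, Cfsg.charDegree (ψ : H → ℂ) = b ∧
      ∃ χ : Cfsg.IrrCharacter G, (fun h : H => (χ : G → ℂ) h) = (ψ : H → ℂ) := by
  haveI : Fintype H := Fintype.ofFinite H
  simp only [DegLE, not_forall, not_le] at hH
  obtain ⟨ψ, hψ⟩ := hH
  have hψb : Cfsg.charDegree (ψ : H → ℂ) = b := by
    have := hG.subgroup H ψ
    omega
  obtain ⟨χ, hχ, -⟩ := exists_above H ψ
  exact ⟨ψ, hψb, χ, restrict_eq hG H ψ hψb χ hχ⟩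

omit [Fintype G] in
theorem mem_center_comap {x : G} :
    x ∈ (Subgroup.center (G ⧸ M)).comap (QuotientGroup.mk' M) ↔
      ∀ g, QuotientGroup.mk' M g * QuotientGroup.mk' M x =
        QuotientGroup.mk' M x * QuotientGroup.mk' M g := by
  rw [Subgroup.mem_comap, Subgroup.mem_center_iff]
  exact ⟨fun h g => h _, fun h q => by
    obtain ⟨g, rfl⟩ := QuotientGroup.mk'_surjective M q; exact h g⟩

/-- The derived group is central modulo `M`. -/
theorem central_case {b : ℕ} (hG : DegLE G b) (hMG : ¬ commutator G ≤ M)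
    (hmin : ∀ N : Subgroup G, N.Normal → M ≤ N → N = M ∨ commutator G ≤ N)
    (hWZ : commutator G ≤ (Subgroup.center (G ⧸ M)).comap (QuotientGroup.mk' M)) :
    ∃ H : Subgroup G, H.index ≤ b ^ 2 ∧ DegLE H (b - 1) := by
  classical
  set Z := (Subgroup.center (G ⧸ M)).comap (QuotientGroup.mk' M) with hZdef
  haveI hZn : Z.Normal := Subgroup.Normal.comap inferInstance _
  haveI : Fintype Z := Fintype.ofFinite Z
  haveI : Fintype (G ⧸ M) := Fintype.ofFinite _
  obtain ⟨β, hβ⟩ : ∃ β : Cfsg.IrrCharacter (G ⧸ M), 2 ≤ Cfsg.charDegree (β : G ⧸ M → ℂ) := by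
    by_contra hall
    push Not at hall
    have hcomm : IsMulCommutative (G ⧸ M) := Ito.comm_of_all_linear fun β => by
      have := hall β
      have := CharX.irr_deg_pos β
      rw [CharX.irr_deg, show Cfsg.charDegree (β : G ⧸ M → ℂ) = 1 by omega, Nat.cast_one]
    refine hMG ?_
    rw [commutator_def, Subgroup.commutator_le]
    intro x _ y _
    rw [← QuotientGroup.eq_one_iff]
    show (QuotientGroup.mk' M) ⁅x, y⁆ = 1
    rw [map_commutatorElement, commutatorElement_eq_one_iff_mul_comm]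
    exact hcomm.is_comm.comm _ _
  set φ := CharX.infl M β with hφ
  set d := Cfsg.charDegree (β : G ⧸ M → ℂ) with hd
  have hφ1 : (φ : G → ℂ) 1 = d := by
    rw [hφ, CharX.infl_apply]
    exact CharX.irr_deg β
  -- the kernel is `M`
  obtain ⟨N, hN, hNmem, -⟩ := IsCharacter.exists_kernel (IsIrrCharacter.isCharacter φ.2)
  haveI := hN
  have hMN : M ≤ N := fun x hx => (hNmem x).2 (CharX.infl_trivialOn M β x hx)
  have hNM : N = M := (hmin N hN hMN).resolve_right fun hle => by
    haveI : IsMulCommutative (G ⧸ N) := ⟨⟨fun p q => by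
      obtain ⟨x, rfl⟩ := QuotientGroup.mk'_surjective N p
      obtain ⟨y, rfl⟩ := QuotientGroup.mk'_surjective N q
      rw [← commutatorElement_eq_one_iff_mul_comm, ← map_commutatorElement]
      exact (QuotientGroup.eq_one_iff _).2 (hle (Subgroup.commutator_mem_commutator
        (Subgroup.mem_top x) (Subgroup.mem_top y)))⟩⟩
    obtain ⟨χ', -, he, hirr⟩ := IsCharacter.deflate (IsIrrCharacter.isCharacter φ.2) N
      fun x hx => (hNmem x).1 hx
    obtain ⟨n, ρ, hρ, hρe⟩ := hirr φ.2
    have hn := Representation.IsIrreducible.finrank_eq_one_of_isMulCommutative ρ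
    have : (φ : G → ℂ) 1 = 1 := by
      rw [← he, ← hρe, QuotientGroup.mk_one, Representation.char_one, hn, Nat.cast_one]
    rw [hφ1] at this
    have : d = 1 := by exact_mod_cast this
    omega
  have hscal : ∀ z ∈ Z, ∃ c : ℂ, ‖c‖ = 1 ∧ (∀ g, (φ : G → ℂ) (z * g) = c * (φ : G → ℂ) g) ∧
      (c = 1 → z ∈ M) := by
    intro z hz
    obtain ⟨c, hc1, hc2, hc3⟩ := IsIrrCharacter.exists_central_scalar β.2
      (Subgroup.mem_comap.1 hz)
    refine ⟨c, hc1, fun g => ?_, fun e => hNM ▸ (hNmem z).2 ?_⟩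
    · rw [hφ, CharX.infl_apply, CharX.infl_apply, QuotientGroup.mk_mul]
      exact hc2 (g : G ⧸ M)
    rw [hφ, CharX.infl_apply, CharX.infl_apply]
    exact hc3.1 e
  have hout : ∀ x, x ∉ Z → (φ : G → ℂ) x = 0 := by
    intro x hx
    rw [hZdef, mem_center_comap] at hx
    push Not at hx
    obtain ⟨g, hg⟩ := hx
    obtain ⟨c, -, hc2, hc3⟩ := hscal ⁅g, x⁆ (hWZ (Subgroup.commutator_mem_commutator
      (Subgroup.mem_top g) (Subgroup.mem_top x)))
    have hne : c ≠ 1 := fun e => hg (by
      rw [← commutatorElement_eq_one_iff_mul_comm, ← map_commutatorElement]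
      exact (QuotientGroup.eq_one_iff _).2 (hc3 e))
    have h1 := hc2 x
    rw [show ⁅g, x⁆ * x = g * x * g⁻¹ by rw [commutatorElement_def, inv_mul_cancel_right],
      IsCharacter.isClassFunction (IsIrrCharacter.isCharacter φ.2) x g] at h1
    by_contra h0
    exact hne (mul_right_cancel₀ h0 (by rw [one_mul]; exact h1.symm))
  have hin : ∀ z ∈ Z, (φ : G → ℂ) z * conj ((φ : G → ℂ) z) = (d : ℂ) ^ 2 := by
    intro z hz
    obtain ⟨c, hc1, hc2, -⟩ := hscal z hz
    have h1 := hc2 1
    rw [mul_one] at h1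
    rw [h1, hφ1, map_mul, map_natCast, mul_mul_mul_comm, Complex.mul_conj,
      Complex.normSq_eq_norm_sq, hc1]
    norm_num [sq]
  -- the sum over `G` of `|φ|^2 F` is concentrated on `Z`
  have hsum : ∀ F : G → ℂ, ∑ g, (φ : G → ℂ) g * conj ((φ : G → ℂ) g) * F g =
      (d : ℂ) ^ 2 * ∑ z : Z, F z := by
    intro F
    rw [Finset.mul_sum,
      ← Finset.sum_subtype (Finset.univ.filter fun g : G => g ∈ Z) (by simp)
        (fun g : G => (d : ℂ) ^ 2 * F g), Finset.sum_filter]
    refine Finset.sum_congr rfl fun g _ => ?_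
    split_ifs with hg
    · rw [hin g hg]
    · rw [hout g hg, zero_mul, zero_mul]
  have hGne : (Nat.card G : ℂ) ≠ 0 := Nat.cast_ne_zero.2 Nat.card_pos.ne'
  have hidx : Z.index = d ^ 2 := by
    have h1 := classInner_self_irr φ.2
    rw [Cfsg.classInner, inv_mul_eq_iff_eq_mul₀ hGne, mul_one] at h1
    have h2 := hsum fun _ => 1
    simp only [mul_one, Finset.sum_const, Finset.card_univ, nsmul_eq_mul] at h2
    rw [h1, ← Nat.card_eq_fintype_card] at h2
    have h3 : Nat.card G = d ^ 2 * Nat.card Z := by exact_mod_cast h2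
    rw [← Subgroup.index_mul_card Z] at h3
    exact Nat.eq_of_mul_eq_mul_right Nat.card_pos h3
  refine ⟨Z, ?_, ?_⟩
  · rw [hidx]
    have := hG φ
    rw [deg_eq (IsIrrCharacter.isCharacter φ.2) hφ1] at this
    exact Nat.pow_le_pow_left this 2
  · by_contra hdeg
    obtain ⟨ψ, hψb, χ, hχ⟩ := exists_restrict hG Z hdeg
    have hc := IsCharacter.mul (IsIrrCharacter.isCharacter φ.2) (IsIrrCharacter.isCharacter χ.2)
    have hnorm : Cfsg.classInner ((φ : G → ℂ) * (χ : G → ℂ)) ((φ : G → ℂ) * (χ : G → ℂ)) = 1 := by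
      rw [Cfsg.classInner, inv_mul_eq_iff_eq_mul₀ hGne, mul_one]
      rw [Finset.sum_congr rfl (g := fun g => (φ : G → ℂ) g * conj ((φ : G → ℂ) g) *
        ((χ : G → ℂ) g * conj ((χ : G → ℂ) g))) (fun g _ => by
          rw [Pi.mul_apply, map_mul, mul_mul_mul_comm]),
        hsum fun g => (χ : G → ℂ) g * conj ((χ : G → ℂ) g)]
      have h1 := classInner_self_irr ψ.2
      rw [← hχ, Cfsg.classInner, inv_mul_eq_iff_eq_mul₀ (Nat.cast_ne_zero.2 Nat.card_pos.ne'),
        mul_one] at h1
      rw [h1, ← Nat.cast_pow, ← Nat.cast_mul, ← hidx, Subgroup.index_mul_card]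
    have hle := hG ⟨_, IsCharacter.isIrr_of_norm_one hc hnorm⟩
    have hχb : (χ : G → ℂ) 1 = b := by
      have := congrFun hχ 1
      rw [OneMemClass.coe_one] at this
      rw [this, CharX.irr_deg, hψb]
    rw [deg_eq hc (d := d * b) (by rw [Pi.mul_apply, hφ1, hχb, Nat.cast_mul])] at hle
    have h2 : 2 * b ≤ d * b := Nat.mul_le_mul_right _ hβ
    have hbpos : 0 < b := hψb ▸ CharX.irr_deg_pos ψ
    omega

omit [Fintype G] in
theorem mem_centralizer_comap {c : G} :
    c ∈ (Subgroup.centralizer (((commutator G).map (QuotientGroup.mk' M) : Subgroup (G ⧸ M)) :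
      Set (G ⧸ M))).comap (QuotientGroup.mk' M) ↔
      ∀ w ∈ commutator G, ⁅c, w⁆ ∈ M := by
  rw [Subgroup.mem_comap, Subgroup.mem_centralizer_iff]
  constructor
  · intro h w hw
    rw [← QuotientGroup.eq_one_iff]
    show (QuotientGroup.mk' M) ⁅c, w⁆ = 1
    rw [map_commutatorElement, commutatorElement_eq_one_iff_mul_comm]
    exact (h _ ⟨w, hw, rfl⟩).symm
  · rintro h _ ⟨w, hw, rfl⟩
    refine (commutatorElement_eq_one_iff_mul_comm.1 ?_).symm
    rw [← map_commutatorElement]
    exact (QuotientGroup.eq_one_iff _).2 (h w hw)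

omit [Fintype G] in
/-- A linear character of a normal subgroup over the minimal normal subgroup detects `M`. -/
theorem mem_of_forall_conj (hMG : ¬ commutator G ≤ M)
    (hmin : ∀ N : Subgroup G, N.Normal → M ≤ N → N = M ∨ commutator G ≤ N)
    (C : Subgroup G) [hCn : C.Normal] (hMC : M ≤ C) (f : C →* ℂˣ)
    (hfM : ∀ c : C, (c : G) ∈ M → f c = 1) (hfW : ∃ c : C, (c : G) ∈ commutator G ∧ f c ≠ 1)
    {x : G} (hx : x ∈ C) (h : ∀ g : G, f (conjHom C g ⟨x, hx⟩) = 1) : x ∈ M := by
  have := hMG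
  let N := (f.ker.map C.subtype).normalCore
  have hN : N = M := by
    refine (hmin N inferInstance ?_).resolve_right ?_
    · exact Subgroup.normal_le_normalCore.2 fun m hm =>
        ⟨⟨m, hMC hm⟩, f.mem_ker.2 (hfM _ hm), rfl⟩
    · intro hle
      obtain ⟨c, hc, hne⟩ := hfW
      obtain ⟨c', hc', e⟩ := Subgroup.normalCore_le _ (hle hc)
      obtain rfl : c' = c := Subtype.ext e
      exact hne hc'
  rw [← hN]
  intro g
  exact ⟨conjHom C g ⟨x, hx⟩, f.mem_ker.2 (h g), rfl⟩

/-- The derived group is abelian and not central modulo `M`. -/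
theorem abelian_case {b : ℕ} (hG : DegLE G b) (hMG : ¬ commutator G ≤ M)
    (hmin : ∀ N : Subgroup G, N.Normal → M ≤ N → N = M ∨ commutator G ≤ N)
    (hWZ : ¬ commutator G ≤ (Subgroup.center (G ⧸ M)).comap (QuotientGroup.mk' M))
    (hWab : ∀ v ∈ commutator G, ∀ w ∈ commutator G, ⁅v, w⁆ ∈ M) (hb : 2 ≤ b) :
    (∃ H : Subgroup G, H.index ≤ b ^ 2 ∧ DegLE H (b - 1)) ∨ (3 ≤ b ∧ M.index ≤ b ^ 3) := by
  classical
  set π := QuotientGroup.mk' M with hπdef
  set C := (Subgroup.centralizer (((commutator G).map π : Subgroup (G ⧸ M)) : Set (G ⧸ M))).comap π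
    with hCdef
  haveI : ((commutator G).map π).Normal :=
    Subgroup.Normal.map inferInstance π (QuotientGroup.mk'_surjective M)
  haveI hCn : C.Normal := Subgroup.Normal.comap inferInstance π
  haveI : Fintype C := Fintype.ofFinite C
  haveI : Fintype M := Fintype.ofFinite M
  have hπ : ∀ {x : G}, π x = 1 ↔ x ∈ M := fun {x} => QuotientGroup.eq_one_iff x
  have hMC : M ≤ C := fun m hm => by
    rw [hCdef, Subgroup.mem_comap, hπ.2 hm]; exact one_mem _
  have hWC : commutator G ≤ C := fun w hw =>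
    mem_centralizer_comap.2 fun v hv => hWab w hw v hv
  have hZM : (Subgroup.center (G ⧸ M)).comap π = M :=
    (hmin _ (Subgroup.Normal.comap inferInstance π) fun m hm => by
      rw [Subgroup.mem_comap, hπ.2 hm]; exact one_mem _).resolve_right hWZ
  have hcomm : ∀ c ∈ C, ∀ w ∈ commutator G, π w * π c = π c * π w := by
    intro c hc w hw
    exact Subgroup.mem_centralizer_iff.1 hc _ ⟨w, hw, rfl⟩
  -- `C` is abelian modulo `M`
  have hCab : ∀ p ∈ C, ∀ q ∈ C, π p * π q = π q * π p := by
    intro p hp q hq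
    rw [← commutatorElement_eq_one_iff_mul_comm, ← map_commutatorElement, hπ, ← hZM,
      mem_center_comap]
    intro g
    have hu : ⁅g, p⁆ ∈ commutator G :=
      Subgroup.commutator_mem_commutator (Subgroup.mem_top g) (Subgroup.mem_top p)
    have hv : ⁅g, q⁆ ∈ commutator G :=
      Subgroup.commutator_mem_commutator (Subgroup.mem_top g) (Subgroup.mem_top q)
    set a := π p with ha
    set c := π q with hc
    set u := π ⁅g, p⁆ with hu'
    set v := π ⁅g, q⁆ with hv'
    have hua : Commute u a := hcomm p hp _ hu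
    have huc : Commute u c := hcomm q hq _ hu
    have hva : Commute v a := hcomm p hp _ hv
    have hvc : Commute v c := hcomm q hq _ hv
    have huv : Commute u v := hcomm _ (hWC hv) _ hu
    have hga : π g * a * (π g)⁻¹ = u * a := by
      rw [hu', ha, map_commutatorElement, commutatorElement_def, inv_mul_cancel_right]
    have hgc : π g * c * (π g)⁻¹ = v * c := by
      rw [hv', hc, map_commutatorElement, commutatorElement_def, inv_mul_cancel_right]
    rw [map_commutatorElement, ← ha, ← hc]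
    have e1 : π g * ⁅a, c⁆ * (π g)⁻¹ = ⁅u * a, v * c⁆ := by
      rw [← hga, ← hgc, commutatorElement_def, commutatorElement_def]
      group
    have e2 : (u * a) * (v * c) = (u * v) * (a * c) := hva.symm.mul_mul_mul_comm u c
    have e3 : (v * c) * (u * a) = (u * v) * (c * a) := by
      rw [huv.eq]
      exact huc.symm.mul_mul_mul_comm v a
    have e4 : ⁅u * a, v * c⁆ = (u * v) * ⁅a, c⁆ * (u * v)⁻¹ := by
      rw [commutatorElement_def, mul_assoc _ (u * a)⁻¹, ← mul_inv_rev, e2, e3,
        commutatorElement_def]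
      group
    have e5 : Commute (u * v) ⁅a, c⁆ := by
      rw [commutatorElement_def]
      have h1 : Commute (u * v) a := hua.mul_left hva
      have h2 : Commute (u * v) c := huc.mul_left hvc
      exact ((h1.mul_right h2).mul_right h1.inv_right).mul_right h2.inv_right
    rw [e4, e5.eq, mul_inv_cancel_right] at e1
    rw [mul_inv_eq_iff_eq_mul] at e1
    exact e1
  -- a linear character of `C` over `W`
  obtain ⟨w₀, hw₀, hw₀M⟩ := SetLike.not_le_iff_exists.1 hMG
  letI : CommGroup (C.map π) :=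
    { (inferInstance : Group (C.map π)) with
      mul_comm := by
        rintro ⟨_, p, hp, rfl⟩ ⟨_, q, hq, rfl⟩
        exact Subtype.ext (hCab p hp q hq) }
  obtain ⟨L0, hL0⟩ := @CommGroup.exists_apply_ne_one_of_hasEnoughRootsOfUnity (C.map π) ℂ
    inferInstance inferInstance inferInstance inferInstance
    ⟨π w₀, w₀, hWC hw₀, rfl⟩ (fun e => hw₀M (hπ.1 (congrArg Subtype.val e)))
  let L : C →* ℂˣ := L0.comp (π.subgroupMap C)
  have hLM : ∀ c : C, (c : G) ∈ M → L c = 1 := by
    intro c hc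
    show L0 (π.subgroupMap C c) = 1
    rw [show π.subgroupMap C c = 1 from Subtype.ext (hπ.2 hc), map_one]
  have hLW : ∃ c : C, (c : G) ∈ commutator G ∧ L c ≠ 1 := ⟨⟨w₀, hWC hw₀⟩, hw₀, hL0⟩
  -- elements fixing `L` on `W` lie in `C`
  have hfix : ∀ g : G, (∀ w : C, (w : G) ∈ commutator G → L (conjHom C g w) = L w) → g ∈ C := by
    intro g hg
    refine mem_centralizer_comap.2 fun w hw => ?_
    have hgw : ⁅g, w⁆ ∈ commutator G :=
      Subgroup.commutator_mem_commutator (Subgroup.mem_top g) (Subgroup.mem_top w)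
    refine mem_of_forall_conj hMG hmin C hMC L hLM hLW (hWC hgw) fun h => ?_
    have hv : ⁅h, g⁆ ∈ commutator G :=
      Subgroup.commutator_mem_commutator (Subgroup.mem_top h) (Subgroup.mem_top g)
    have hw' : h * w * h⁻¹ ∈ commutator G := (inferInstance : (commutator G).Normal).conj_mem w hw h
    have e : conjHom C h ⟨⁅g, w⁆, hWC hgw⟩ =
        (⟨⁅h, g⁆, hWC hv⟩ : C) * conjHom C g ⟨h * w * h⁻¹, hWC hw'⟩ * (⟨⁅h, g⁆, hWC hv⟩ : C)⁻¹ *
          (⟨h * w * h⁻¹, hWC hw'⟩ : C)⁻¹ := by
      refine Subtype.ext ?_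
      simp only [conjHom_coe, Subgroup.coe_mul, Subgroup.coe_inv, commutatorElement_def]
      group
    rw [e, map_mul, map_mul, map_mul, map_inv, map_inv, hg _ hw', mul_right_comm _ _ (L _)⁻¹,
      mul_inv_cancel_right, mul_inv_cancel]
  have hLnorm : ∀ c : C, (L c : ℂ) * conj (L c : ℂ) = 1 := by
    intro c
    have h1 : (L c : ℂ) ^ orderOf c = 1 := by
      rw [← Units.val_pow_eq_pow_val, ← map_pow, pow_orderOf_eq_one, map_one, Units.val_one]
    rw [Complex.mul_conj, Complex.normSq_eq_norm_sq,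
      norm_eq_one_of_pow (isOfFinOrder_of_finite c).orderOf_pos.ne' h1]
    norm_num
  -- either the inertia group is `C` or the character vanishes on `C \ M`
  have dich : ∀ χ : Cfsg.IrrCharacter G, Cfsg.IsIrrCharacter C (fun c : C => (χ : G → ℂ) c) →
      ∀ d : ℕ, (χ : G → ℂ) 1 = d →
      C.index * d ≤ b ∨ ∀ x ∈ C, x ∉ M → (χ : G → ℂ) x = 0 := by
    intro χ hχ d hd
    have hθ : Cfsg.IsIrrCharacter C
        ((fun c : C => (χ : G → ℂ) c) * fun c : C => (L c : ℂ)) := by
      refine IsCharacter.isIrr_of_norm_one (IsCharacter.mul (IsIrrCharacter.isCharacter hχ)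
        (IsIrrCharacter.isCharacter (isIrrCharacter_linear L))) ?_
      refine Eq.trans ?_ (classInner_self_irr hχ)
      simp only [Cfsg.classInner, Pi.mul_apply, map_mul, mul_mul_mul_comm, hLnorm, mul_one]
    by_cases hI : inertia C ((fun c : C => (χ : G → ℂ) c) * fun c : C => (L c : ℂ)) ≤ C
    · exact Or.inl (index_mul_le hG C hθ hI (by simp [hd]))
    obtain ⟨g, hg, hgC⟩ := SetLike.not_le_iff_exists.1 hI
    obtain ⟨w, hw, hne⟩ : ∃ w : C, (w : G) ∈ commutator G ∧ L (conjHom C g w) ≠ L w := by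
      by_contra hall
      push Not at hall
      exact hgC (hfix g hall)
    refine Or.inr fun x hx hxM => ?_
    let μ : C →* ℂˣ := L.comp (conjHom C g) * L⁻¹
    have hμM : ∀ c : C, (c : G) ∈ M → μ c = 1 := fun c hc => by
      show L (conjHom C g c) * (L c)⁻¹ = 1
      rw [hLM _ ((inferInstance : M.Normal).conj_mem _ hc g), hLM c hc, mul_inv_cancel]
    have hμW : ∃ c : C, (c : G) ∈ commutator G ∧ μ c ≠ 1 :=
      ⟨w, hw, fun e => hne (mul_inv_eq_one.1 e)⟩
    obtain ⟨h, hh⟩ : ∃ h : G, μ (conjHom C h ⟨x, hx⟩) ≠ 1 := by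
      by_contra hall
      push Not at hall
      exact hxM (mem_of_forall_conj hMG hmin C hMC μ hμM hμW hx hall)
    set y := conjHom C h ⟨x, hx⟩ with hy
    have he := congrFun ((mem_inertia C).1 hg) y
    have hcl := IsCharacter.isClassFunction (IsIrrCharacter.isCharacter χ.2)
    simp only [conjChar, Pi.mul_apply] at he
    rw [hcl (y : G) g] at he
    have hne' : ((L (conjHom C g y) : ℂˣ) : ℂ) ≠ (L y : ℂ) := fun e =>
      hh (mul_inv_eq_one.2 (Units.ext e))
    have h0 : (χ : G → ℂ) (y : G) = 0 := by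
      by_contra h0
      exact hne' (mul_left_cancel₀ h0 he)
    rwa [hy, conjHom_coe, hcl x h] at h0
  have hCle : C.index ≤ b := by
    rcases dich (principal G) isIrrCharacter_one 1 (by simp [principal]) with h | h
    · simpa using h
    · exact absurd (h w₀ (hWC hw₀) hw₀M) (by simp [principal])
  have hC2 : 2 ≤ C.index := by
    have h0 : C.index ≠ 0 := Subgroup.index_ne_zero_of_finite
    have h1 : C.index ≠ 1 := fun h => hWZ fun w hw => mem_center_comap.2 fun g => by
      exact (hcomm g ((Subgroup.index_eq_one.1 h) ▸ Subgroup.mem_top g) w hw).symm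
    omega
  by_cases hdeg : DegLE C (b - 1)
  · exact Or.inl ⟨C, hCle.trans (Nat.le_self_pow (by norm_num) b), hdeg⟩
  obtain ⟨ψ, hψb, χ, hχ⟩ := exists_restrict hG C hdeg
  have hχ1 : (χ : G → ℂ) 1 = b := by
    have := congrFun hχ 1
    rw [OneMemClass.coe_one] at this
    rw [this, CharX.irr_deg, hψb]
  rcases dich χ (hχ ▸ ψ.2) b hχ1 with h | h
  · have := Nat.mul_le_mul_right b hC2
    omega
  obtain ⟨k, hk, hk2, hk3⟩ := exists_norm M χ
  rw [deg_eq (IsIrrCharacter.isCharacter χ.2) hχ1] at hk2 hk3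
  have hcard := card_eq_mul_norm C M hMC χ (hχ ▸ ψ.2) h
  rw [hk, ← Nat.cast_mul, Nat.cast_inj] at hcard
  have hidx : M.index = C.index * k := by
    have h1 := Subgroup.index_mul_card M
    have h2 := Subgroup.index_mul_card C
    rw [hcard] at h2
    refine Nat.eq_of_mul_eq_mul_right (Nat.card_pos (α := M)) ?_
    rw [h1, ← h2]
    ring
  refine Or.inr ⟨?_, ?_⟩
  · by_contra hb3
    obtain rfl : b = 2 := by omega
    have hk4 : k = 1 ∨ k = 2 ∨ k = 4 := by
      have : k ≠ 0 := fun h0 => by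
        rw [h0, mul_zero] at hcard
        exact Nat.card_pos.ne' hcard
      have := hk3 le_rfl
      omega
    have hp : IsPGroup 2 (G ⧸ M) := by
      obtain ⟨e, he⟩ : ∃ e, M.index = 2 ^ e := by
        rw [hidx, show C.index = 2 by omega]
        rcases hk4 with rfl | rfl | rfl
        exacts [⟨1, rfl⟩, ⟨2, rfl⟩, ⟨3, rfl⟩]
      exact IsPGroup.of_card (by rw [← Subgroup.index_eq_card, he])
    haveI : Nontrivial (G ⧸ M) := QuotientGroup.nontrivial_iff.2 fun e => hMG (e ▸ le_top)
    haveI : Fact (Nat.Prime 2) := ⟨Nat.prime_two⟩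
    haveI := hp.center_nontrivial
    obtain ⟨⟨q, hq⟩, hne⟩ := exists_ne (1 : Subgroup.center (G ⧸ M))
    obtain ⟨x, rfl⟩ := QuotientGroup.mk'_surjective M q
    exact hne (Subtype.ext (hπ.2 (hZM ▸ Subgroup.mem_comap.2 hq)))
  · rw [hidx, pow_succ' b 2]
    exact Nat.mul_le_mul hCle hk2

/-- The derived group is not abelian modulo `M`. -/
theorem nonabelian_case {b : ℕ} (hG : DegLE G b) (hMG : ¬ commutator G ≤ M)
    (hmin : ∀ N : Subgroup G, N.Normal → M ≤ N → N = M ∨ commutator G ≤ N)
    (hWab : ¬ ∀ v ∈ commutator G, ∀ w ∈ commutator G, ⁅v, w⁆ ∈ M) :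
    (∃ H : Subgroup G, H.index ≤ b ^ 2 ∧ DegLE H (b - 1)) ∨ (5 ≤ b ∧ M.index ≤ b ^ 4) := by
  classical
  set π := QuotientGroup.mk' M with hπdef
  haveI : ((commutator G).map π).Normal :=
    Subgroup.Normal.map inferInstance π (QuotientGroup.mk'_surjective M)
  haveI : Fintype M := Fintype.ofFinite M
  haveI : Fintype (G ⧸ M) := Fintype.ofFinite _
  have hπ : ∀ {x : G}, π x = 1 ↔ x ∈ M := fun {x} => QuotientGroup.eq_one_iff x
  haveI : Nontrivial (G ⧸ M) := QuotientGroup.nontrivial_iff.2 fun e => hMG (e ▸ le_top)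
  obtain ⟨q, hq1, hqi⟩ := exists_small_class (hG.quotient M) Finite.one_lt_card
  obtain ⟨x, rfl⟩ := QuotientGroup.mk'_surjective M q
  set H := (Subgroup.centralizer ({π x} : Set (G ⧸ M))).comap π with hH
  have hHi : H.index ≤ b ^ 2 := by
    rw [hH, Subgroup.index_comap_of_surjective _ (QuotientGroup.mk'_surjective M)]
    exact hqi
  have hMH : M ≤ H := fun m hm => by
    rw [hH, Subgroup.mem_comap, hπ.2 hm]; exact one_mem _
  set C := (Subgroup.centralizer (((commutator G).map π : Subgroup (G ⧸ M)) : Set (G ⧸ M))).comap π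
    with hC
  have hCM : C = M := (hmin C (Subgroup.Normal.comap inferInstance π) fun m hm => by
    rw [hC, Subgroup.mem_comap, hπ.2 hm]; exact one_mem _).resolve_right fun hle =>
      hWab fun v hv => mem_centralizer_comap.1 (hle hv)
  have hcore : H.normalCore = M := by
    refine (hmin _ inferInstance (Subgroup.normal_le_normalCore.2 hMH)).resolve_right fun hle => ?_
    have hxC : x ∈ C := by
      rw [hC, Subgroup.mem_comap, Subgroup.mem_centralizer_iff]
      rintro _ ⟨w, hw, rfl⟩
      exact Subgroup.mem_centralizer_singleton_iff.1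
        (Subgroup.mem_comap.1 (Subgroup.normalCore_le _ (hle hw)))
    exact hq1 (hπ.2 (hCM ▸ hxC))
  by_cases hdeg : DegLE H (b - 1)
  · exact Or.inl ⟨H, hHi, hdeg⟩
  obtain ⟨ψ, hψb, χ, hχ⟩ := exists_restrict hG H hdeg
  have hχ1 : (χ : G → ℂ) 1 = b := by
    have := congrFun hχ 1
    rw [OneMemClass.coe_one] at this
    rw [this, CharX.irr_deg, hψb]
  have hcard := card_eq_mul_norm H M hMH χ (hχ ▸ ψ.2) fun g hg hgM => by
    by_contra h0
    exact hgM (hcore ▸ mem_core_of_ne_zero hG H ψ hψb χ hχ hg h0)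
  obtain ⟨k, hk, hk2, -⟩ := exists_norm M χ
  rw [deg_eq (IsIrrCharacter.isCharacter χ.2) hχ1] at hk2
  rw [hk, ← Nat.cast_mul, Nat.cast_inj] at hcard
  have hidx : M.index = H.index * k := by
    have h1 := Subgroup.index_mul_card M
    have h2 := Subgroup.index_mul_card H
    rw [hcard] at h2
    refine Nat.eq_of_mul_eq_mul_right (Nat.card_pos (α := M)) ?_
    rw [h1, ← h2]
    ring
  refine Or.inr ⟨?_, ?_⟩
  · by_contra hb5
    haveI : Group.IsSolvable G :=
      isSolvable_of_degLE_four G fun θ => (hG θ).trans (by omega)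
    haveI : Group.IsSolvable (G ⧸ M) :=
      Group.isSolvable_of_surjective (QuotientGroup.mk'_surjective M)
    have hne : (commutator G).map π ≠ ⊥ := fun e => hMG fun w hw =>
      hπ.1 (Subgroup.mem_bot.1 (e ▸ Subgroup.mem_map_of_mem π hw))
    have hlt := Group.IsSolvable.commutator_lt_of_ne_bot hne
    rcases hmin (⁅commutator G, commutator G⁆ ⊔ M) inferInstance le_sup_right with h | h
    · exact hWab fun v hv w hw =>
        h ▸ (le_sup_left : ⁅commutator G, commutator G⁆ ≤ ⁅commutator G, commutator G⁆ ⊔ M)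
          (Subgroup.commutator_mem_commutator hv hw)
    · refine hlt.not_ge ?_
      have := Subgroup.map_mono (f := π) h
      rwa [Subgroup.map_sup, Subgroup.map_commutator, hπdef, QuotientGroup.map_mk'_self,
        sup_bot_eq, ← hπdef] at this
  · rw [hidx, show b ^ 4 = b ^ 2 * b ^ 2 by ring]
    exact Nat.mul_le_mul hHi hk2

end quotient

/-- The main induction. -/
theorem exists_abelian : ∀ (b : ℕ) (G : Type u) [Group G] [Finite G],
    DegLE G b → HasAbelian G (Nat.factorial b ^ 2) := by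
  classical
  intro b
  induction b using Nat.strong_induction_on with
  | _ b ih =>
  intro G _ _ hG
  haveI := Fintype.ofFinite G
  have hone : 1 ≤ Nat.factorial b ^ 2 := Nat.one_le_pow _ _ (Nat.factorial_pos b)
  by_cases hab : commutator G = ⊥
  · refine ⟨⊤, fun x _ y _ => ?_, by simpa using hone⟩
    rw [commutator_eq_bot_iff_center_eq_top] at hab
    exact Subgroup.mem_center_iff.1 (hab ▸ Subgroup.mem_top y) x
  obtain ⟨M, ⟨hMn, hMG⟩, hmax⟩ := (Set.toFinite
    {N : Subgroup G | N.Normal ∧ ¬ commutator G ≤ N}).exists_maximal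
      ⟨⊥, inferInstance, fun h => hab (le_bot_iff.1 h)⟩
  haveI := hMn
  have hmin : ∀ N : Subgroup G, N.Normal → M ≤ N → N = M ∨ commutator G ≤ N := by
    intro N hN hle
    by_contra hc
    push Not at hc
    exact hc.1 (le_antisymm (hmax ⟨hN, hc.2⟩ hle) hle)
  have hMhalf := hG.half M hMG
  have hb2 : 2 ≤ b := by
    by_contra hlt
    have := hMhalf (principal M)
    rw [show Cfsg.charDegree ((principal M : Cfsg.IrrCharacter M) : M → ℂ) = 1 from
      CharX.charDegree_one] at this
    omega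
  have hfin : (∃ H : Subgroup G, H.index ≤ b ^ 2 ∧ DegLE H (b - 1)) →
      HasAbelian G (Nat.factorial b ^ 2) := fun ⟨H, hle, hd⟩ =>
    HasAbelian.of_subgroup H (ih (b - 1) (by omega) H hd) (step_bound (by omega) hle)
  have hbig : ∀ g, M.index ≤ g → g * Nat.factorial (b / 2) ^ 2 ≤ Nat.factorial b ^ 2 →
      HasAbelian G (Nat.factorial b ^ 2) := fun g hg hle =>
    HasAbelian.of_subgroup M (ih (b / 2) (by omega) M hMhalf)
      (le_trans (Nat.mul_le_mul_right _ hg) hle)
  by_cases hWZ : commutator G ≤ (Subgroup.center (G ⧸ M)).comap (QuotientGroup.mk' M)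
  · exact hfin (central_case hG hMG hmin hWZ)
  by_cases hWab : ∀ v ∈ commutator G, ∀ w ∈ commutator G, ⁅v, w⁆ ∈ M
  · rcases abelian_case hG hMG hmin hWZ hWab hb2 with h | ⟨h3, h⟩
    · exact hfin h
    · exact hbig _ h (three_bound h3)
  · rcases nonabelian_case hG hMG hmin hWab with h | ⟨h5, h⟩
    · exact hfin h
    · exact hbig _ h (four_bound h5)

end Cfsg.Agent.BoundedDegree
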