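/-
The group theory around `CCSylow`.
-/
import Cfsg.Agent.Lib.Char.CCSylow
import Mathlib.GroupTheory.Transfer
import Mathlib.GroupTheory.GroupAction.ConjAct

set_option linter.unusedSectionVars false
set_option linter.style.haveILetI false

namespace Cfsg.Agent.CCSylow

open Cfsg Cfsg.Agent.Char

universe u

variable {G : Type u} [Group G] [Fintype G]

theorem normal_or_complement {p : ℕ} (hp : p.Prime) (P : Sylow p G)
    (hstar : ∀ x ∈ (P : Subgroup G), x ≠ 1 →
      Subgroup.centralizer ({x} : Set G) = Subgroup.centralizer ((P : Subgroup G) : Set G))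
    {n : ℕ} (hn : Nat.card P = p ^ n) (χ : IrrCharacter G) (h1 : (χ : G → ℂ) ≠ fun _ => 1)
    (hdeg : charDegree (χ : G → ℂ) ^ 2 + 1 < p ^ n) :
    (∃ K : Subgroup G, K.Normal ∧ K ≠ ⊤ ∧ (P : Subgroup G) ≤ K) ∨
      ((∃ N : Subgroup G, N.Normal ∧ N.index = p ^ n) ∧ charDegree (χ : G → ℂ) = 1) := by
  classical
  haveI := Fact.mk hp
  set Q : Subgroup G := (P : Subgroup G) with hQdef
  set C := Subgroup.centralizer (Q : Set G) with hC
  set N := Subgroup.normalizer (Q : Set G) with hN
  have hQC : Q ≤ C := by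
    intro x hx
    rcases eq_or_ne x 1 with rfl | hx1
    · exact C.one_mem
    rw [← hstar x hx hx1, Subgroup.mem_centralizer_iff]
    intro t ht
    rw [Set.mem_singleton_iff.1 ht]
  have hcomm : ∀ a ∈ Q, ∀ b ∈ Q, a * b = b * a := fun a ha b hb =>
    Subgroup.mem_centralizer_iff.1 (hQC hb) a ha
  have hpi : ¬ p ∣ Q.index := P.not_dvd_index
  have hcopQ : (Nat.card (Q.subgroupOf C)).Coprime (Q.subgroupOf C).index := by
    rw [Nat.card_congr (Subgroup.subgroupOfEquivOfLe hQC).toEquiv, show Nat.card Q = p ^ n from hn]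
    exact Nat.Coprime.pow_left _ (hp.coprime_iff_not_dvd.2 fun h => hpi
      (h.trans ⟨C.index, (Subgroup.relIndex_mul_index hQC).symm⟩))
  haveI : (Q.subgroupOf C).Normal := ⟨fun x hx g => by
    have h : (x : G) * g = g * x := Subgroup.mem_centralizer_iff.1 g.2 _ hx
    show (g : G) * x * (g : G)⁻¹ ∈ Q
    rw [← h, mul_inv_cancel_right]
    exact hx⟩
  obtain ⟨V', hV'⟩ := Subgroup.exists_right_complement'_of_coprime hcopQ
  let V := V'.map C.subtype
  have hVC : V ≤ C := Subgroup.map_subtype_le _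
  have hpv : ∀ y ∈ Q, ∀ v ∈ V, y * v = v * y := fun y hy v hv =>
    Subgroup.mem_centralizer_iff.1 (hVC hv) y hy
  have hcV : Nat.card V = Nat.card V' := Subgroup.card_map_of_injective C.subtype_injective
  have hcC : Nat.card C = Nat.card Q * Nat.card V := by
    rw [hcV, ← hV'.card_mul_card, Nat.card_congr (Subgroup.subgroupOfEquivOfLe hQC).toEquiv]
  have hcop : (Nat.card Q).Coprime (Nat.card V) := by
    rw [hcV, ← hV'.symm.index_eq_card]
    rwa [Nat.card_congr (Subgroup.subgroupOfEquivOfLe hQC).toEquiv] at hcopQ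
  have hdec : ∀ x ∈ C, ∃ y ∈ Q, ∃ v ∈ V, x = y * v := fun x hx => by
    obtain ⟨⟨a, b⟩, hab⟩ := hV'.2 ⟨x, hx⟩
    exact ⟨(a : C), a.2, (b : C), ⟨(b : C), b.2, rfl⟩, (congrArg Subtype.val hab).symm⟩
  have honeP : ∀ y ∈ Q, y ^ Nat.card Q = 1 := fun y hy =>
    congrArg Subtype.val (pow_card_eq_one' (x := (⟨y, hy⟩ : Q)))
  have honeV : ∀ v ∈ V, v ^ Nat.card V = 1 := fun v hv =>
    congrArg Subtype.val (pow_card_eq_one' (x := (⟨v, hv⟩ : V)))
  have hcharV : ∀ x ∈ C, x ^ Nat.card V = 1 → x ∈ V := by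
    intro x hx h
    obtain ⟨y, hy, v, hv, rfl⟩ := hdec x hx
    rw [(show Commute y v from hpv y hy v hv).mul_pow, honeV v hv, mul_one] at h
    rwa [CharExtend.eq_one_of_pow_coprime (honeP y hy) h hcop, one_mul]
  have hcharQ : ∀ x ∈ C, x ^ Nat.card Q = 1 → x ∈ Q := by
    intro x hx h
    obtain ⟨y, hy, v, hv, rfl⟩ := hdec x hx
    rw [(show Commute y v from hpv y hy v hv).mul_pow, honeP y hy, one_mul] at h
    rwa [CharExtend.eq_one_of_pow_coprime h (honeV v hv) hcop, mul_one]
  have hCN : C ≤ N := Subgroup.centralizer_le_normalizer _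
  have hNP : ∀ w ∈ N, ∀ y ∈ Q, w * y * w⁻¹ ∈ Q := fun w hw y hy =>
    (Subgroup.mem_normalizer_iff.1 hw y).1 hy
  have hNC : ∀ w ∈ N, ∀ x ∈ C, w * x * w⁻¹ ∈ C := by
    intro w hw x hx
    refine Subgroup.mem_centralizer_iff.2 fun t ht => ?_
    have h1 : w⁻¹ * t * w ∈ Q := by
      have := hNP _ (inv_mem hw) t ht
      rwa [inv_inv] at this
    have h2 := Subgroup.mem_centralizer_iff.1 hx _ h1
    calc t * (w * x * w⁻¹) = w * ((w⁻¹ * t * w) * x) * w⁻¹ := by group
      _ = w * (x * (w⁻¹ * t * w)) * w⁻¹ := by rw [h2]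
      _ = w * x * w⁻¹ * t := by group
  have hsing : ∀ y w : G, w * y * w⁻¹ = y → w ∈ Subgroup.centralizer ({y} : Set G) := by
    intro y w h
    refine Subgroup.mem_centralizer_iff.2 fun t ht => ?_
    rw [Set.mem_singleton_iff.1 ht]
    exact (mul_inv_eq_iff_eq_mul.1 h).symm
  have D : Data Q V N (C.subgroupOf N).index :=
    { comm := hcomm
      pv := hpv
      cop := hcop
      hNP := hNP
      hNV := fun w hw v hv => hcharV _ (hNC w hw v (hVC hv))
        (by rw [conj_pow, honeV v hv, mul_one, mul_inv_cancel])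
      hTI := by
        intro y hy hy1 w hwy
        rw [hN, Subgroup.mem_normalizer_iff]
        have hsub : ∀ z ∈ Q, w * z * w⁻¹ ∈ Q := by
          intro z hz
          refine hcharQ _ ?_ (by rw [conj_pow, honeP z hz, mul_one, mul_inv_cancel])
          have hne : w * y * w⁻¹ ≠ 1 := fun h => hy1 (conj_eq_one_iff.1 h)
          show _ ∈ Subgroup.centralizer (Q : Set G)
          rw [show Subgroup.centralizer (Q : Set G) = Subgroup.centralizer ({w * y * w⁻¹} : Set G) from (hstar _ hwy hne).symm]
          refine hsing _ _ ?_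
          have hyz := hcomm y hy z hz
          calc w * z * w⁻¹ * (w * y * w⁻¹) * (w * z * w⁻¹)⁻¹ = w * (z * y * z⁻¹) * w⁻¹ := by group
            _ = w * y * w⁻¹ := by rw [← hyz, mul_inv_cancel_right]
        intro z
        refine ⟨hsub z, fun hz => ?_⟩
        let f : Q → Q := fun t => ⟨w * t * w⁻¹, hsub t t.2⟩
        have hinj : Function.Injective f := fun a b h =>
          Subtype.ext (mul_left_cancel (mul_right_cancel (congrArg Subtype.val h : _)))
        obtain ⟨t, ht⟩ := (Finite.injective_iff_surjective.1 hinj) ⟨w * z * w⁻¹, hz⟩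
        have hzt : (t : G) = z := mul_left_cancel (mul_right_cancel (congrArg Subtype.val ht : _))
        exact hzt ▸ t.2
      hcard := by
        rw [← hcC, ← Subgroup.card_mul_index (C.subgroupOf N), mul_comm,
          Nat.card_congr (Subgroup.subgroupOfEquivOfLe hCN).toEquiv]
      hsemi := fun w _ y hy hy1 h y' hy' => by
        have hw := hsing y w h
        rw [hstar y hy hy1, Subgroup.mem_centralizer_iff] at hw
        exact mul_inv_eq_iff_eq_mul.2 (hw y' hy').symm
      he := rfl }
  haveI : Fintype Q := Fintype.ofFinite _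
  haveI : Fintype V := Fintype.ofFinite _
  haveI : Fintype N := Fintype.ofFinite _
  haveI : Finite (Q →* ℂˣ) := Finite.of_injective (β := IrrCharacter Q)
    (fun f => ⟨_, isIrrCharacter_linear f⟩)
    fun _ _ e => CharExtend.detHom_unique (congrArg Subtype.val e)
  haveI : Fintype (Q →* ℂˣ) := Fintype.ofFinite _
  rcases dichotomy D χ (CharX.irr_deg χ) h1 (by rwa [show Nat.card Q = p ^ n from hn]) with
    h | ⟨he, hx⟩
  · exact Or.inl h
  · refine Or.inr ⟨?_, hx⟩
    have hle : N ≤ C := fun w hw => by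
      have h' : (⟨w, hw⟩ : N) ∈ C.subgroupOf N := by
        rw [Subgroup.index_eq_one.1 he]; exact Subgroup.mem_top _
      exact h'
    refine ⟨(MonoidHom.transferSylow P hle).ker, inferInstance, ?_⟩
    rw [(MonoidHom.ker_transferSylow_isComplement' P hle).symm.index_eq_card]
    exact hn

theorem normal_of_faithful : ∀ (N : ℕ) (G : Type u) [Group G] [Fintype G] (p : ℕ),
    Nat.card G = N → p.Prime → ∀ (P : Sylow p G),
    (∀ x ∈ (P : Subgroup G), x ≠ 1 →
      Subgroup.centralizer ({x} : Set G) = Subgroup.centralizer ((P : Subgroup G) : Set G)) →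
    ∀ (n : ℕ), Nat.card P = p ^ n → ∀ χ : G → ℂ, IsCharacter G χ →
    (∀ g, χ g = χ 1 → g = 1) → charDegree χ ^ 2 + 1 < p ^ n → (P : Subgroup G).Normal := by
  intro N
  induction N using Nat.strong_induction_on with
  | _ N ih =>
  intro G _ _ p hN hp P hstar n hn χ hχ hfaith hdeg
  classical
  haveI := Fact.mk hp
  by_cases hall : ∀ η : IrrCharacter G, classInner χ η ≠ 0 → (η : G → ℂ) 1 = 1
  · have hab : ∀ a b : G, a * b = b * a := by
      intro a b
      rw [← commutatorElement_eq_one_iff_mul_comm]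
      refine hfaith _ ?_
      have h := IsCharacter.eq_sum hχ
      rw [h]
      simp only [Finset.sum_apply, Pi.smul_apply, smul_eq_mul]
      refine Finset.sum_congr rfl fun η _ => ?_
      by_cases hη : classInner χ η = 0
      · rw [hη, zero_mul, zero_mul]
      · obtain ⟨f, hf⟩ := exists_hom_of_degree_one (IsIrrCharacter.isCharacter η.2) (hall η hη)
        rw [congrFun hf, congrFun hf, map_one, map_commutatorElement,
          commutatorElement_eq_one_iff_mul_comm.2 (mul_comm (f a) (f b))]
    exact ⟨fun x hx g => by rw [hab g x, mul_inv_cancel_right]; exact hx⟩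
  push Not at hall
  obtain ⟨η, hη, hη1⟩ := hall
  have hle : charDegree (η : G → ℂ) ≤ charDegree χ :=
    degree_le_of_constituent hχ η.2 hη (CharX.deg_spec hχ) (CharX.irr_deg η)
  rcases normal_or_complement hp P hstar hn η (fun h => hη1 (by rw [h]))
      (lt_of_le_of_lt (Nat.add_le_add_right (Nat.pow_le_pow_left hle 2) 1) hdeg) with
    ⟨K, hK, hKtop, hPK⟩ | ⟨-, hd⟩
  swap
  · exact absurd (by rw [CharX.irr_deg, hd, Nat.cast_one]) hη1
  haveI := hK
  haveI : Fintype K := Fintype.ofFinite _
  let PK := P.subtype hPK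
  have hcard : Nat.card PK = p ^ n := by
    rw [← hn]
    show Nat.card ((P : Subgroup G).subgroupOf K) = _
    exact Nat.card_congr (Subgroup.subgroupOfEquivOfLe hPK).toEquiv
  have hPKn : (PK : Subgroup K).Normal := by
    refine ih (Nat.card K) ?_ K p rfl hp PK ?_ n hcard (fun k : K => χ k)
      (IsCharacter.restrict hχ K) ?_ ?_
    · rw [← hN, ← K.card_mul_index]
      exact lt_mul_of_one_lt_right Nat.card_pos (Subgroup.one_lt_index_of_ne_top hKtop)
    · intro x hx hx1
      ext g
      have h := SetLike.ext_iff.1 (hstar (x : G) hx fun h => hx1 (Subtype.ext h)) (g : G)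
      simp only [Subgroup.mem_centralizer_iff] at h ⊢
      refine ⟨fun hg y hy => ?_, fun hg t ht => ?_⟩
      · refine Subtype.ext (h.1 (fun t ht => ?_) (y : G) hy)
        rw [Set.mem_singleton_iff.1 ht]
        exact congrArg Subtype.val (hg x rfl)
      · rw [Set.mem_singleton_iff.1 ht]
        exact Subtype.ext (h.2 (fun y hy => congrArg Subtype.val (hg ⟨y, hPK hy⟩ hy)) x rfl)
    · exact fun k hk => Subtype.ext (hfaith k (by simpa using hk))
    · have : charDegree (fun k : K => χ k) = charDegree χ := by simp [charDegree]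
      rwa [this]
  haveI := hPKn
  haveI : (PK : Subgroup K).Characteristic := Sylow.characteristic_of_normal PK hPKn
  have := (ConjAct.normal_of_characteristic_of_normal : ((PK : Subgroup K).map K.subtype).Normal)
  rwa [show (PK : Subgroup K).map K.subtype = (P : Subgroup G) from
    Subgroup.map_subgroupOf_eq_of_le hPK] at this

end Cfsg.Agent.CCSylow
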