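import Cfsg.Agent.Lib.Char.CoherenceChief

/-!
# Coherence of the irreducible induced characters not trivial on a central subgroup
-/

set_option linter.style.haveILetI false
set_option linter.unusedSectionVars false

namespace Cfsg.Agent.Char.Central

open Cfsg.Agent.Char
open scoped Classical

universe u v

variable {L : Type u} [Group L] [Fintype L] (K : Subgroup L) [hK : K.Normal]

theorem card_fiber_irr {θ : Cfsg.IrrCharacter K}
    (h : Cfsg.IsIrrCharacter L (Cfsg.indFun K (θ : K → ℂ))) :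
    (Finset.univ.filter fun φ : Cfsg.IrrCharacter K =>
      Cfsg.indFun K (φ : K → ℂ) = Cfsg.indFun K (θ : K → ℂ)).card = K.index := by
  haveI : Fintype K := Fintype.ofFinite K
  have hI : Nat.card (inertia K (θ : K → ℂ)) = Nat.card K := by
    have h1 := classInner_self_irr h
    rw [classInner_indFun_normal K θ.2 θ.2] at h1
    have e : Nat.card {g : L // conjChar K g (θ : K → ℂ) = (θ : K → ℂ)} =
        Nat.card (inertia K (θ : K → ℂ)) :=
      Nat.card_congr (Equiv.subtypeEquivRight fun g => (mem_inertia K).symm)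
    rw [e, inv_mul_eq_one₀ (Nat.cast_ne_zero.mpr Nat.card_pos.ne'), Nat.cast_inj] at h1
    exact h1.symm
  have hidx : (inertia K (θ : K → ℂ)).index = K.index :=
    Nat.eq_of_mul_eq_mul_left Nat.card_pos
      (((Subgroup.card_mul_index _).trans (Subgroup.card_mul_index K).symm).trans
        (congrArg (· * K.index) hI.symm))
  rw [← hidx, ← card_conjOrbit]
  refine Finset.card_bij (fun φ _ => (φ : K → ℂ)) (fun φ hφ => ?_)
    (fun a _ b _ e => Subtype.ext e) (fun f hf => ?_)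
  · obtain ⟨g, hg⟩ := (IndSet.ind_eq_iff K θ.2 φ.2).mp (Finset.mem_filter.mp hφ).2.symm
    exact (mem_conjOrbit K).mpr ⟨g, hg.symm⟩
  · obtain ⟨g, rfl⟩ := (mem_conjOrbit K).mp hf
    exact ⟨⟨_, isIrrCharacter_conjChar K θ.2 g⟩,
      Finset.mem_filter.mpr ⟨Finset.mem_univ _, indFun_conjChar K _ g⟩, rfl⟩

theorem sum_not_over_sq (Z : Subgroup L) [Z.Normal] :
    ∑ θ ∈ Finset.univ.filter (fun θ : Cfsg.IrrCharacter K =>
        ¬ ∀ a : K, (a : L) ∈ Z → (θ : K → ℂ) a = (θ : K → ℂ) 1), Cfsg.charDegree (θ : K → ℂ) ^ 2 +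
      Z.relIndex K = Nat.card K := by
  have h1 := CharX.sum_deg_sq (G := K)
  rw [← Finset.sum_filter_not_add_sum_filter Finset.univ
    (fun θ : Cfsg.IrrCharacter K => ∀ a : K, (a : L) ∈ Z → (θ : K → ℂ) a = (θ : K → ℂ) 1)] at h1
  rw [← h1]
  congr 1
  rw [← IndSet.sum_over_sq K Z]
  have : (Finset.univ.filter fun θ : Cfsg.IrrCharacter K =>
      ∀ a : K, (a : L) ∈ Z → (θ : K → ℂ) a = (θ : K → ℂ) 1) = insert (principal K) (IndSet.over K Z) := by
    ext θ
    simp only [Finset.mem_filter, Finset.mem_univ, true_and, Finset.mem_insert, IndSet.mem_over]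
    constructor
    · intro h
      by_cases e : (θ : K → ℂ) = fun _ => 1
      · exact Or.inl (Subtype.ext e)
      · exact Or.inr ⟨e, h⟩
    · rintro (rfl | ⟨-, h⟩)
      · exact fun a _ => rfl
      · exact h
  rw [this, Finset.sum_insert (fun hp => ((IndSet.mem_over K).mp hp).1 rfl),
    show Cfsg.charDegree ((principal K : Cfsg.IrrCharacter K) : K → ℂ) = 1 from CharX.charDegree_one,
    one_pow, add_comm]

theorem exists_nontrivial_on (Z : Subgroup L) [Z.Normal] (hZ1 : Z ≠ ⊥) (hZK : Z ≤ K) :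
    ∃ θ : Cfsg.IrrCharacter K, ¬ ∀ a : K, (a : L) ∈ Z → (θ : K → ℂ) a = (θ : K → ℂ) 1 := by
  by_contra hall
  push Not at hall
  have h := sum_not_over_sq K Z
  rw [Finset.sum_eq_zero (fun θ hθ => absurd (hall θ) (Finset.mem_filter.mp hθ).2), zero_add] at h
  refine hZ1 (Subgroup.card_eq_one.mp ?_)
  have h2 := Subgroup.relIndex_mul_relIndex ⊥ Z K bot_le hZK
  rw [Subgroup.relIndex_bot_left, Subgroup.relIndex_bot_left, h] at h2
  exact (mul_eq_right₀ Nat.card_pos.ne').mp h2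

theorem irr_over_central (Z : Subgroup L) [Z.Normal] (hZK : Z ≤ K)
    (hirr : ∀ χ ∈ Cfsg.inducedIrrAbove K ⊥ \ Cfsg.inducedIrrAbove K Z, Cfsg.IsIrrCharacter L χ) :
    Cfsg.inducedIrrAbove K ⊥ \ Cfsg.inducedIrrAbove K Z =
      {χ | Cfsg.IsIrrCharacter L χ ∧ ∃ z ∈ Z, χ z ≠ χ 1} := by
  haveI : Fintype K := Fintype.ofFinite K
  refine Set.Subset.antisymm (fun χ hχ => ⟨hirr χ hχ, ?_⟩) ?_
  · have hirrχ := hirr χ hχ
    obtain ⟨⟨θ, hθ, hθ1, -, rfl⟩, hnot⟩ := hχ
    by_contra hall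
    push Not at hall
    refine hnot ⟨θ, hθ, hθ1, fun a ha => ?_, rfl⟩
    have hc : Cfsg.classInner (fun h : K => Cfsg.indFun K θ h) θ ≠ 0 := by
      rw [← classInner_indFun_right K θ (isClassFunction_indFun K θ), classInner_self_irr hirrχ]
      exact one_ne_zero
    obtain ⟨m, hm⟩ := IsCharacter.exists_decomp
      (IsCharacter.restrict (IsIrrCharacter.isCharacter hirrχ) K)
    refine kernel_constituent m ?_ ⟨θ, hθ⟩ ?_
    · have e1 := congrFun hm a
      have e2 := congrFun hm 1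
      simp only [Finset.sum_apply, Pi.smul_apply, smul_eq_mul] at e1 e2
      rw [← e1, ← e2, OneMemClass.coe_one, hall _ ha]
    · intro h0
      apply hc
      rw [hm, show θ = ((⟨θ, hθ⟩ : Cfsg.IrrCharacter K) : K → ℂ) from rfl, classInner_combination,
        h0, Nat.cast_zero]
  · rintro χ ⟨hχ, z, hz, hzne⟩
    obtain ⟨θ, hθ⟩ := exists_restrict_constituent hχ K
    have hnot : ¬ ∀ a : K, (a : L) ∈ Z → (θ : K → ℂ) a = (θ : K → ℂ) 1 := by
      intro h
      refine hzne ?_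
      have e1 := congrFun (clifford K hχ θ.2 hθ) ⟨z, hZK hz⟩
      have e2 := congrFun (clifford K hχ θ.2 hθ) 1
      simp only [Pi.smul_apply, Finset.sum_apply] at e1 e2
      rw [OneMemClass.coe_one] at e2
      rw [e1, e2]
      congr 1
      refine Finset.sum_congr rfl fun φ hφ => ?_
      obtain ⟨g, rfl⟩ := (mem_conjOrbit K).mp hφ
      exact IndSet.trivial_conj K Z h g _ hz
    have hθ1 : (θ : K → ℂ) ≠ fun _ => 1 := fun e => hnot fun a _ => by rw [e]
    have hmem : Cfsg.indFun K (θ : K → ℂ) ∈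
        Cfsg.inducedIrrAbove K ⊥ \ Cfsg.inducedIrrAbove K Z := by
      refine ⟨⟨θ, θ.2, hθ1, fun a ha => ?_, rfl⟩, fun h => hnot ((IndSet.mem_above_iff K Z θ.2 hθ1).mp h)⟩
      rw [Subgroup.mem_bot] at ha
      rw [show a = 1 from Subtype.ext ha]
    have : χ = Cfsg.indFun K (θ : K → ℂ) := by
      by_contra hne
      apply hθ
      rw [← classInner_indFun_right K _ (IsCharacter.isClassFunction (IsIrrCharacter.isCharacter hχ))]
      exact classInner_irr_of_ne hχ (hirr _ hmem) hne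
    exact this ▸ hmem

variable {G : Type v} [Group G] [Fintype G] {τ : (L → ℂ) → (G → ℂ)}
  {R : (L → ℂ) → Finset (G → ℂ)}

/-- Coherence of the characters not trivial on a central subgroup, for a prime power kernel. -/
theorem coherent_pgroup (hS : Cfsg.IsCoherenceSystem (Cfsg.inducedIrrAbove K ⊥) τ R) {p m : ℕ}
    (hp : p.Prime) (hp2 : p ≠ 2) (hcard : Nat.card K = p ^ m) (hcop : Nat.Coprime p K.index)
    (Z : Subgroup L) [Z.Normal] (hZ1 : Z ≠ ⊥) (hZK : Z ≤ K)
    (hZc : ∀ z ∈ Z, ∀ k ∈ K, z * k = k * z)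
    (hirr : ∀ χ ∈ Cfsg.inducedIrrAbove K ⊥ \ Cfsg.inducedIrrAbove K Z, Cfsg.IsIrrCharacter L χ) :
    Cfsg.IsCoherent (Cfsg.inducedIrrAbove K ⊥ \ Cfsg.inducedIrrAbove K Z) ({1}ᶜ : Set L) τ := by
  set S := Cfsg.inducedIrrAbove K ⊥
  set X := Cfsg.inducedIrrAbove K ⊥ \ Cfsg.inducedIrrAbove K Z with hX
  have hXS : X ⊆ S := Set.sdiff_subset
  have hXc : ∀ φ ∈ X, Cfsg.conjFun φ ∈ X := fun φ h =>
    ⟨IndSet.conj_mem_above K ⊥ h.1, fun h' => h.2 (by
      simpa [Coherence.conjFun_conjFun] using IndSet.conj_mem_above K Z h')⟩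
  set Θ := Finset.univ.filter fun θ : Cfsg.IrrCharacter K =>
    ¬ ∀ a : K, (a : L) ∈ Z → (θ : K → ℂ) a = (θ : K → ℂ) 1 with hΘ
  set ind : Cfsg.IrrCharacter K → (L → ℂ) := fun θ => Cfsg.indFun K (θ : K → ℂ) with hind
  have hΘmem : ∀ θ ∈ Θ, ind θ ∈ X := by
    intro θ hθ
    have hnot := (Finset.mem_filter.mp hθ).2
    have hθ1 : (θ : K → ℂ) ≠ fun _ => 1 := fun e => hnot fun a _ => by rw [e]
    refine ⟨⟨θ, θ.2, hθ1, fun a ha => ?_, rfl⟩, fun h => hnot ((IndSet.mem_above_iff K Z θ.2 hθ1).mp h)⟩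
    rw [Subgroup.mem_bot] at ha
    rw [show a = 1 from Subtype.ext ha]
  have hXex : ∀ φ ∈ X, ∃ θ ∈ Θ, ind θ = φ := by
    rintro φ ⟨⟨θ, hθ, hθ1, -, rfl⟩, hnot⟩
    exact ⟨⟨θ, hθ⟩, Finset.mem_filter.mpr ⟨Finset.mem_univ _,
      fun h => hnot ((IndSet.mem_above_iff K Z hθ hθ1).mpr h)⟩, rfl⟩
  set e := K.index with he
  have he0 : 0 < e := Nat.pos_of_ne_zero Subgroup.index_ne_zero_of_finite
  set d : (L → ℂ) → ℕ := Cfsg.charDegree with hdd
  have hd : ∀ φ ∈ S, φ 1 = (d φ : ℂ) := fun φ h => CharX.deg_spec (hS.isCharacter φ h)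
  set n : (L → ℂ) → ℕ := fun _ => 1
  have hSX : ∀ {T : Set (L → ℂ)}, T ⊆ X → (∀ φ ∈ T, Cfsg.conjFun φ ∈ T) → T.Nonempty →
      Cfsg.IsCoherenceSystem T τ R := fun hT hc hne => Coherence.sys_mono hS (hT.trans hXS) hc hne
  have hnX : ∀ φ ∈ X, Cfsg.classInner φ φ = ((n φ : ℕ) : ℂ) := fun φ h => by
    simp [n, classInner_self_irr (hirr φ h)]
  have hdeg : ∀ θ ∈ Θ, d (ind θ) = e * Cfsg.charDegree (θ : K → ℂ) := fun θ hθ =>
    Nat.cast_injective (R := ℂ) ((hd _ (hXS (hΘmem θ hθ))).symm.trans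
      (IndSet.indFun_degree K (IsIrrCharacter.isCharacter θ.2)))
  have hpow : ∀ θ : Cfsg.IrrCharacter K, ∃ i, Cfsg.charDegree (θ : K → ℂ) = p ^ i := fun θ => by
    obtain ⟨i, -, hi⟩ := (Nat.dvd_prime_pow hp).mp (hcard ▸ CharX.irr_deg_dvd_card θ)
    exact ⟨i, hi⟩
  obtain ⟨θ0, hθ0⟩ := exists_nontrivial_on K Z hZ1 hZK
  have hXne : X.Nonempty := ⟨ind θ0, hΘmem θ0 (Finset.mem_filter.mpr ⟨Finset.mem_univ _, hθ0⟩)⟩
  have hfin : X.Finite := (Coherence.sys_finite hS).subset hXS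
  set XF := hfin.toFinset
  obtain ⟨χ₀, hχ₀, hmin⟩ := XF.exists_min_image d (Set.Finite.toFinset_nonempty hfin |>.mpr hXne)
  rw [Set.Finite.mem_toFinset] at hχ₀
  obtain ⟨θ₁, hθ₁, hθ₁e⟩ := hXex χ₀ hχ₀
  obtain ⟨i₀, hi₀⟩ := hpow θ₁
  have hd₀ : d χ₀ = e * p ^ i₀ := by rw [← hθ₁e, hdeg θ₁ hθ₁, hi₀]
  set W : ℕ → Set (L → ℂ) := fun D => {φ | φ ∈ X ∧ d φ ≤ D} with hW
  have hdconj : ∀ φ ∈ X, d (Cfsg.conjFun φ) = d φ := fun φ h => by
    apply Nat.cast_injective (R := ℂ)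
    rw [← hd _ (hXS (hXc φ h)), ← hd _ (hXS h), Coherence.conj_one hS (hXS h)]
  have hWc : ∀ D, ∀ φ ∈ W D, Cfsg.conjFun φ ∈ W D := fun D φ h =>
    ⟨hXc φ h.1, by rw [hdconj φ h.1]; exact h.2⟩
  suffices key : ∀ D, d χ₀ ≤ D → Cfsg.IsCoherent (W D) ({1}ᶜ : Set L) τ by
    have hbig := key (∑ φ ∈ XF, d φ)
      (Finset.single_le_sum (fun φ _ => Nat.zero_le _) ((Set.Finite.mem_toFinset hfin).mpr hχ₀))
    have : W (∑ φ ∈ XF, d φ) = X := Set.Subset.antisymm (fun φ h => h.1) fun φ h =>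
      ⟨h, Finset.single_le_sum (fun φ _ => Nat.zero_le _) ((Set.Finite.mem_toFinset hfin).mpr h)⟩
    rwa [this] at hbig
  intro D hD
  induction D, hD using Nat.le_induction with
  | base =>
    refine Coherence.coherent_of_equal_degree (R := R)
      (hSX (fun φ h => h.1) (hWc _) ⟨χ₀, hχ₀, le_rfl⟩) ?_
    have hall : ∀ φ ∈ W (d χ₀), d φ = d χ₀ := fun φ h =>
      le_antisymm h.2 (hmin φ ((Set.Finite.mem_toFinset hfin).mpr h.1))
    intro φ hφ ψ hψ
    rw [hd φ (hXS hφ.1), hd ψ (hXS hψ.1), hall φ hφ, hall ψ hψ]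
  | succ D hD ih =>
    have hWfin : (W D).Finite := hfin.subset fun φ h => h.1
    set WF := hWfin.toFinset
    have hWF : (↑WF : Set (L → ℂ)) = W D := hWfin.coe_toFinset
    have hdvd : ∀ χ ∈ {φ | φ ∈ X ∧ d φ = D + 1}, ∃ j, d χ = e * p ^ j ∧ i₀ < j := by
      rintro χ ⟨hχ, hχd⟩
      obtain ⟨θ, hθ, rfl⟩ := hXex χ hχ
      obtain ⟨j, hj⟩ := hpow θ
      refine ⟨j, by rw [hdeg θ hθ, hj], ?_⟩
      by_contra hle
      push Not at hle
      have hlt : d χ₀ < d (ind θ) := by omega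
      rw [hdeg θ hθ, hj, hd₀] at hlt
      exact absurd (Nat.mul_le_mul_left e (Nat.pow_le_pow_right hp.pos hle)) (by omega)
    obtain ⟨T, hT1, hT2, -, hT4⟩ := Coherence.coherent_grow (hSX subset_rfl hXc hXne) d n
      (fun φ h => hd φ (hXS h)) hnX WF (hWF ▸ fun φ h => h.1)
      (fun φ h => (Set.Finite.mem_toFinset hWfin).mpr (hWc D φ ((Set.Finite.mem_toFinset hWfin).mp h)))
      (hWF.symm ▸ ih) (χ₁ := χ₀) ((Set.Finite.mem_toFinset hWfin).mpr ⟨hχ₀, hD⟩)
      (Y := {φ | φ ∈ X ∧ d φ = D + 1}) (fun φ h => h.1)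
      (fun χ hχ => by
        obtain ⟨j, hj, hij⟩ := hdvd χ hχ
        rw [hd₀, hj]
        exact Nat.mul_dvd_mul_left _ (Nat.pow_dvd_pow p hij.le))
      (fun χ hχ => by
        obtain ⟨j, hj, hij⟩ := hdvd χ hχ
        have hDj : D + 1 = e * p ^ j := hχ.2.symm.trans hj
        -- the weight of `W D`
        set Θs := Θ.filter fun θ => d (ind θ) ≤ D with hΘs
        set t : (L → ℂ) → ℕ := fun φ => d φ / e
        have hfib : ∑ θ ∈ Θs, Cfsg.charDegree (θ : K → ℂ) ^ 2 = e * ∑ φ ∈ WF, t φ ^ 2 := by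
          rw [Finset.mul_sum, ← Finset.sum_fiberwise_of_maps_to (g := ind) (t := WF) (fun θ hθ =>
            (Set.Finite.mem_toFinset hWfin).mpr
              ⟨hΘmem θ (Finset.mem_filter.mp hθ).1, (Finset.mem_filter.mp hθ).2⟩)]
          refine Finset.sum_congr rfl fun φ hφ => ?_
          obtain ⟨hφX, hφD⟩ := (Set.Finite.mem_toFinset hWfin).mp hφ
          obtain ⟨θ, hθ, rfl⟩ := hXex φ hφX
          have hset : Θs.filter (fun φ => ind φ = ind θ) =
              Finset.univ.filter fun φ : Cfsg.IrrCharacter K =>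
                Cfsg.indFun K (φ : K → ℂ) = Cfsg.indFun K (θ : K → ℂ) := by
            ext φ
            simp only [hΘs, Finset.mem_filter, Finset.mem_univ, true_and, hind]
            refine ⟨fun h => h.2, fun h => ⟨⟨?_, ?_⟩, h⟩⟩
            · refine Finset.mem_filter.mpr ⟨Finset.mem_univ _, fun hφt => (Finset.mem_filter.mp hθ).2 ?_⟩
              obtain ⟨g, hg⟩ := (IndSet.ind_eq_iff K φ.2 θ.2).mp h
              rw [← hg]
              exact IndSet.trivial_conj K Z hφt g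
            · rw [h]; exact hφD
          have hc : ∀ φ ∈ Θs.filter (fun φ => ind φ = ind θ),
              Cfsg.charDegree (φ : K → ℂ) ^ 2 = t (ind θ) ^ 2 := by
            intro φ hφ'
            obtain ⟨h1, h2⟩ := Finset.mem_filter.mp hφ'
            have := hdeg φ (Finset.mem_filter.mp h1).1
            rw [h2] at this
            simp only [t, this, Nat.mul_div_cancel_left _ he0]
          rw [Finset.sum_congr rfl hc, Finset.sum_const, smul_eq_mul, hset,
            card_fiber_irr K (hirr _ (hΘmem θ hθ))]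
        have hdiv : p ^ (2 * j) ∣ ∑ θ ∈ Θs, Cfsg.charDegree (θ : K → ℂ) ^ 2 := by
          have hZd : p ^ (2 * j) ∣ Z.relIndex K := by
            obtain ⟨θ, hθ, rfl⟩ := hXex χ hχ.1
            have hθd : Cfsg.charDegree (θ : K → ℂ) = p ^ j := by
              have := hdeg θ hθ
              rw [hj] at this
              exact Nat.eq_of_mul_eq_mul_left he0 this.symm
            have hle := IndSet.degree_sq_le (B := ⊥) (C := K) (D := Z) K le_rfl
              (fun x hx y hy => by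
                rw [Subgroup.mem_bot, hZc x hx y hy, mul_inv_cancel_right, mul_inv_cancel])
              θ.2 (fun a ha => by
                rw [Subgroup.mem_bot] at ha
                rw [show a = 1 from Subtype.ext ha]) (CharX.irr_deg θ)
            rw [Subgroup.relIndex_self, one_pow, one_mul, hθd, ← pow_mul, mul_comm j 2] at hle
            have hdvdK : Z.relIndex K ∣ p ^ m := by
              have h2 := Subgroup.relIndex_mul_relIndex ⊥ Z K bot_le hZK
              rw [Subgroup.relIndex_bot_left, Subgroup.relIndex_bot_left, hcard] at h2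
              exact h2 ▸ dvd_mul_left _ _
            obtain ⟨c, -, hc⟩ := (Nat.dvd_prime_pow hp).mp hdvdK
            rw [hc] at hle ⊢
            exact Nat.pow_dvd_pow p ((Nat.pow_le_pow_iff_right hp.one_lt).mp hle)
          have hKd : p ^ (2 * j) ∣ Nat.card K := by
            refine hZd.trans ?_
            have h2 := Subgroup.relIndex_mul_relIndex ⊥ Z K bot_le hZK
            rw [Subgroup.relIndex_bot_left, Subgroup.relIndex_bot_left] at h2
            exact h2 ▸ dvd_mul_left _ _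
          have hrest : p ^ (2 * j) ∣ ∑ θ ∈ Θ.filter (fun θ => ¬ d (ind θ) ≤ D),
              Cfsg.charDegree (θ : K → ℂ) ^ 2 := by
            refine Finset.dvd_sum fun θ hθ => ?_
            obtain ⟨h1, h2⟩ := Finset.mem_filter.mp hθ
            obtain ⟨i, hi⟩ := hpow θ
            rw [hdeg θ h1, hi, not_le] at h2
            rw [hi, ← pow_mul, mul_comm i 2]
            refine Nat.pow_dvd_pow p (Nat.mul_le_mul_left 2 ?_)
            by_contra hlt
            push Not at hlt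
            have := Nat.mul_lt_mul_of_pos_left (Nat.pow_lt_pow_right hp.one_lt hlt) he0
            omega
          have htot := sum_not_over_sq K Z
          rw [← hΘ] at htot
          rw [← Finset.sum_filter_add_sum_filter_not Θ (fun θ => d (ind θ) ≤ D), ← hΘs] at htot
          rw [← htot] at hKd
          exact (Nat.dvd_add_left hrest).mp ((Nat.dvd_add_left hZd).mp hKd)
        have hdiv' : p ^ (2 * j) ∣ ∑ φ ∈ WF, t φ ^ 2 :=
          (Nat.Coprime.pow_left _ hcop).dvd_of_dvd_mul_left (hfib ▸ hdiv)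
        have ht : ∀ φ ∈ WF, d φ = e * t φ := fun φ hφ => by
          obtain ⟨θ, hθ, rfl⟩ := hXex φ ((Set.Finite.mem_toFinset hWfin).mp hφ).1
          simp only [t, hdeg θ hθ, Nat.mul_div_cancel_left _ he0]
        have hpos : 0 < ∑ φ ∈ WF, t φ ^ 2 := by
          have hmem : χ₀ ∈ WF := (Set.Finite.mem_toFinset hWfin).mpr ⟨hχ₀, hD⟩
          refine lt_of_lt_of_le ?_ (Finset.single_le_sum (fun φ _ => Nat.zero_le _) hmem)
          have := ht χ₀ hmem
          rw [hd₀] at this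
          rw [← Nat.eq_of_mul_eq_mul_left he0 this]
          exact pow_pos (pow_pos hp.pos _) _
        have hge := Nat.le_of_dvd hpos hdiv'
        have hsum : ∑ φ ∈ WF, ((d φ : ℝ) ^ 2 / (n φ : ℝ)) =
            (e : ℝ) ^ 2 * ((∑ φ ∈ WF, t φ ^ 2 : ℕ) : ℝ) := by
          push_cast
          rw [Finset.mul_sum]
          refine Finset.sum_congr rfl fun φ hφ => ?_
          simp [n, ht φ hφ, mul_pow]
        rw [hsum, hd₀, hj]
        have h3 : 2 * p ^ i₀ < p ^ j := by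
          refine lt_of_lt_of_le ?_ (Nat.pow_le_pow_right hp.pos hij)
          rw [pow_succ]
          have : 3 ≤ p := by have := hp.two_le; omega
          calc 2 * p ^ i₀ < 3 * p ^ i₀ := Nat.mul_lt_mul_of_pos_right (by norm_num) (pow_pos hp.pos _)
            _ ≤ p ^ i₀ * p := by rw [mul_comm]; exact Nat.mul_le_mul_left _ this
        have h4 : 2 * (e * p ^ j) * (e * p ^ i₀) < e ^ 2 * ∑ φ ∈ WF, t φ ^ 2 := by
          refine lt_of_lt_of_le ?_ (Nat.mul_le_mul_left _ hge)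
          calc 2 * (e * p ^ j) * (e * p ^ i₀) = e ^ 2 * p ^ j * (2 * p ^ i₀) := by ring
            _ < e ^ 2 * p ^ j * p ^ j := Nat.mul_lt_mul_of_pos_left h3
                (Nat.mul_pos (pow_pos he0 2) (pow_pos hp.pos j))
            _ = e ^ 2 * p ^ (2 * j) := by rw [mul_comm 2 j, pow_mul]; ring
        exact_mod_cast h4)
    refine Coherence.coherent_mono hS hT4 (fun φ h => hT1 ?_) (fun φ h => hXS h.1) (hWc _)
      ⟨χ₀, hχ₀, Nat.le_succ_of_le hD⟩
    rcases Nat.lt_or_ge (d φ) (D + 1) with h' | h'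
    · exact Or.inl (hWF ▸ ⟨h.1, Nat.lt_succ_iff.mp h'⟩)
    · exact Or.inr ⟨h.1, le_antisymm h.2 h'⟩

theorem coherent_central (hsolv : Group.IsSolvable K)
    (hS : Cfsg.IsCoherenceSystem (Cfsg.inducedIrrAbove K ⊥) τ R) (hodd : Odd (Nat.card L))
    (hnil : Group.IsNilpotent K) (hH₁K : ⁅K, K⁆ < K)
    (hfrob : ∀ k ∈ K, k ∉ ⁅K, K⁆ → ∀ x : L, x * k * x⁻¹ * k⁻¹ ∈ ⁅K, K⁆ → x ∈ K)
    (Z : Subgroup L) [Z.Normal] (hZ1 : Z ≠ ⊥) (hZK : Z ≤ K)
    (hZc : ∀ z ∈ Z, ∀ k ∈ K, z * k = k * z)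
    (hirr : ∀ χ ∈ Cfsg.inducedIrrAbove K ⊥ \ Cfsg.inducedIrrAbove K Z, Cfsg.IsIrrCharacter L χ) :
    Cfsg.IsCoherent (Cfsg.inducedIrrAbove K ⊥ \ Cfsg.inducedIrrAbove K Z) ({1}ᶜ : Set L) τ := by
  by_cases hpp : ∃ p m : ℕ, p.Prime ∧ Nat.card K = p ^ m
  · obtain ⟨p, m, hp, hcard⟩ := hpp
    have hK1 : K ≠ ⊥ := fun e => hZ1 (le_bot_iff.mp (e ▸ hZK))
    have hdiv : (⁅K, K⁆).relIndex K ∣ p ^ m := hcard ▸ Subgroup.relIndex_dvd_card _ _
    obtain ⟨a, -, ha⟩ := (Nat.dvd_prime_pow hp).mp hdiv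
    have ha0 : a ≠ 0 := by
      rintro rfl
      rw [pow_zero, Subgroup.relIndex_eq_one] at ha
      exact hH₁K.not_ge ha
    have hpodd : p ≠ 2 := by
      rintro rfl
      have h2 : 2 ∣ Nat.card L :=
        ((dvd_pow_self 2 ha0).trans (ha ▸ Subgroup.relIndex_dvd_card _ _)).trans
          (Subgroup.card_subgroup_dvd_card K)
      exact (Nat.not_even_iff_odd.mpr hodd) (even_iff_two_dvd.mpr h2)
    have hcop : Nat.Coprime p K.index := by
      have h := Chief.index_dvd_relIndex_sub_one K ⁅K, K⁆ K hH₁K.le le_rfl le_rfl hfrob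
      rw [ha] at h
      refine hp.coprime_iff_not_dvd.mpr fun hpe => ?_
      have h1 : p ∣ p ^ a - 1 := hpe.trans h
      have h2 : p ∣ p ^ a := dvd_pow_self p ha0
      have h3 : 1 ≤ p ^ a := pow_pos hp.pos a
      exact hp.not_dvd_one (by simpa [Nat.sub_sub_self h3] using Nat.dvd_sub h2 h1)
    exact coherent_pgroup K hS hp hpodd hcard hcop Z hZ1 hZK hZc hirr
  · have hM : Group.IsNilpotent (↥K ⧸ (⊥ : Subgroup L).subgroupOf K) := by
      haveI := hnil
      exact Group.nilpotent_of_surjective (QuotientGroup.mk' _) (QuotientGroup.mk'_surjective _)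
    have hall : Cfsg.IsCoherent (Cfsg.inducedIrrAbove K ⊥) ({1}ᶜ : Set L) τ :=
      Chief.coherent_frob K hsolv hS hodd ⊥ bot_le hM ⁅K, K⁆ (sup_bot_eq _).symm hH₁K hfrob
        (Or.inr (Or.inr (Or.inl fun ⟨p, m, hp, hm⟩ =>
          hpp ⟨p, m, hp, by rw [← hm, Subgroup.relIndex_bot_left]⟩)))
    obtain ⟨θ0, hθ0⟩ := exists_nontrivial_on K Z hZ1 hZK
    refine Coherence.coherent_mono hS hall Set.sdiff_subset Set.sdiff_subset
      (fun φ h => ⟨IndSet.conj_mem_above K ⊥ h.1, fun h' => h.2 (by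
        simpa [Coherence.conjFun_conjFun] using IndSet.conj_mem_above K Z h')⟩) ?_
    have hθ1 : (θ0 : K → ℂ) ≠ fun _ => 1 := fun e => hθ0 fun a _ => by rw [e]
    refine ⟨_, ⟨θ0, θ0.2, hθ1, fun a ha => ?_, rfl⟩,
      fun h => hθ0 ((IndSet.mem_above_iff K Z θ0.2 hθ1).mp h)⟩
    rw [Subgroup.mem_bot] at ha
    rw [show a = 1 from Subtype.ext ha]

end Cfsg.Agent.Char.Central
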