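import Cfsg.Agent.Lib.Char.Induction
import Cfsg.Agent.Lib.Char.Integral

/-!
# Conjugation of functions on a normal subgroup, inertia
-/

set_option linter.style.haveILetI false

namespace Cfsg.Agent.Char

open scoped ComplexConjugate

universe u

variable {G : Type u} [Group G] (H : Subgroup G) [hN : H.Normal]

/-- Conjugation by `g` as an endomorphism of a normal subgroup. -/
def conjHom (g : G) : H →* H where
  toFun h := ⟨g * h * g⁻¹, hN.conj_mem h h.2 g⟩
  map_one' := by ext; simp
  map_mul' a b := by ext; simp [mul_assoc]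

@[simp] theorem conjHom_coe (g : G) (h : H) : ((conjHom H g h : H) : G) = g * h * g⁻¹ := rfl

theorem conjHom_surjective (g : G) : Function.Surjective (conjHom H g) := fun h =>
  ⟨conjHom H g⁻¹ h, Subtype.ext (by simp [mul_assoc])⟩

theorem conjHom_mul (g k : G) (h : H) : conjHom H (g * k) h = conjHom H g (conjHom H k h) :=
  Subtype.ext (by simp [mul_assoc])

theorem conjHom_one (h : H) : conjHom H 1 h = h := Subtype.ext (by simp)

/-- The conjugate of a function on a normal subgroup. -/
abbrev conjChar (g : G) (θ : H → ℂ) : H → ℂ :=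
  fun h => θ ⟨g * h * g⁻¹, hN.conj_mem h h.2 g⟩

theorem conjChar_mul (g k : G) (θ : H → ℂ) :
    conjChar H (g * k) θ = conjChar H k (conjChar H g θ) :=
  funext fun h => congrArg θ (conjHom_mul H g k h)

theorem conjChar_one (θ : H → ℂ) : conjChar H 1 θ = θ :=
  funext fun h => congrArg θ (conjHom_one H h)

theorem isCharacter_conjChar {θ : H → ℂ} (h : Cfsg.IsCharacter H θ) (g : G) :
    Cfsg.IsCharacter H (conjChar H g θ) :=
  IsCharacter.comp h (conjHom H g)

theorem isIrrCharacter_conjChar {θ : H → ℂ} (h : Cfsg.IsIrrCharacter H θ) (g : G) :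
    Cfsg.IsIrrCharacter H (conjChar H g θ) :=
  IsIrrCharacter.comp h (conjHom H g) (conjHom_surjective H g)

theorem conjChar_of_mem {θ : H → ℂ} (hθ : Cfsg.IsClassFunction H θ) {g : G} (hg : g ∈ H) :
    conjChar H g θ = θ :=
  funext fun h => (congrArg θ (Subtype.ext rfl)).trans (hθ h ⟨g, hg⟩)

/-- The inertia group of a function on a normal subgroup. -/
def inertia (θ : H → ℂ) : Subgroup G where
  carrier := {g | conjChar H g θ = θ}
  one_mem' := conjChar_one H θ
  mul_mem' {a b} ha hb := by
    simp only [Set.mem_setOf_eq] at ha hb ⊢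
    rw [conjChar_mul, ha, hb]
  inv_mem' {a} ha := by
    simp only [Set.mem_setOf_eq] at ha ⊢
    conv_lhs => rw [← ha]
    rw [← conjChar_mul, mul_inv_cancel, conjChar_one]

theorem mem_inertia {θ : H → ℂ} {g : G} : g ∈ inertia H θ ↔ conjChar H g θ = θ := Iff.rfl

theorem mem_inertia_iff {θ : H → ℂ} {g : G} :
    g ∈ inertia H θ ↔ ∀ h : H, θ ⟨g * h * g⁻¹, hN.conj_mem h h.2 g⟩ = θ h :=
  funext_iff

theorem le_inertia {θ : H → ℂ} (hθ : Cfsg.IsClassFunction H θ) : H ≤ inertia H θ :=
  fun _ hg => conjChar_of_mem H hθ hg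

variable [Fintype G]

theorem indFun_normal_apply (θ : H → ℂ) (h : H) :
    Cfsg.indFun H θ h = (Nat.card H : ℂ)⁻¹ * ∑ x : G, conjChar H x θ h := by
  rw [indFun_apply]
  congr 1
  refine Fintype.sum_equiv (Equiv.inv G) _ _ fun x => ?_
  have hm : x⁻¹ * (h : G) * x ∈ H := by simpa using hN.conj_mem h h.2 x⁻¹
  rw [extendByZero_mem H θ hm]
  exact congrArg θ (Subtype.ext (by simp))

open scoped Classical in
/-- Inner product of functions induced from irreducible characters of a normal subgroup. -/
theorem classInner_indFun_normal {θ φ : H → ℂ} (hθ : Cfsg.IsIrrCharacter H θ)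
    (hφ : Cfsg.IsIrrCharacter H φ) :
    Cfsg.classInner (Cfsg.indFun H θ) (Cfsg.indFun H φ) =
      (Nat.card H : ℂ)⁻¹ * (Nat.card {g : G // conjChar H g θ = φ} : ℂ) := by
  haveI : Fintype H := Fintype.ofFinite H
  rw [classInner_indFun_right H φ (isClassFunction_indFun H θ)]
  have hfun : (fun h : H => Cfsg.indFun H θ h) =
      (Nat.card H : ℂ)⁻¹ • ∑ x : G, conjChar H x θ := by
    funext h
    simp [indFun_normal_apply]
  rw [hfun, classInner_smul_left, classInner_sum_left,
    Finset.sum_congr rfl fun x _ => classInner_irr (isIrrCharacter_conjChar H hθ x) hφ,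
    Finset.sum_boole, Nat.card_eq_fintype_card (α := {g : G // conjChar H g θ = φ}),
    Fintype.card_subtype]

theorem classInner_conjChar [Fintype H] (θ φ : H → ℂ) (g : G) :
    Cfsg.classInner (conjChar H g θ) (conjChar H g φ) = Cfsg.classInner θ φ := by
  simp only [Cfsg.classInner]
  congr 1
  exact Fintype.sum_equiv (Equiv.ofBijective (conjHom H g)
    (Finite.surjective_iff_bijective.mp (conjHom_surjective H g))) _ _ fun _ => rfl

theorem indFun_conjChar (θ : H → ℂ) (g : G) :
    Cfsg.indFun H (conjChar H g θ) = Cfsg.indFun H θ := by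
  funext a
  by_cases ha : a ∈ H
  · rw [show a = ((⟨a, ha⟩ : H) : G) from rfl, indFun_normal_apply, indFun_normal_apply]
    congr 1
    refine Fintype.sum_equiv (Equiv.mulLeft g) _ _ fun x => ?_
    exact (congrFun (conjChar_mul H g x θ) _).symm
  · rw [indFun_eq_zero_of_not_mem H _ ha, indFun_eq_zero_of_not_mem H _ ha]

end Cfsg.Agent.Char
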