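import Cfsg.Agent.Lib.Char.BrauerInduction
import Cfsg.Agent.Lib.Char.Conjugate
import Mathlib.GroupTheory.PGroup

/-!
# Detection of invariant characters by elementary subgroups
-/

set_option linter.style.haveILetI false
set_option linter.unusedSectionVars false
set_option maxHeartbeats 800000

namespace Cfsg.Agent.Char

open scoped ComplexConjugate

universe u

variable {G : Type u} [Group G]

/-- An invariant integer function on a set acted on by a `p`-group has the same sum modulo `p` as
its restriction to the fixed points. -/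
theorem sum_zmod_fixed {p : ℕ} [Fact p.Prime] {Q : Type*} [Group Q] (hQ : IsPGroup p Q) {X : Type*}
    [Fintype X] [MulAction Q X] [Finite Q] (f : X → ZMod p) (hf : ∀ (q : Q) (x : X), f (q • x) = f x)
    (h0 : ∀ x ∈ MulAction.fixedPoints Q X, f x = 0) : ∑ x, f x = 0 := by
  classical
  rw [← Finset.sum_fiberwise Finset.univ f f]
  refine Finset.sum_eq_zero fun v _ => ?_
  rw [Finset.sum_congr rfl fun x hx => (Finset.mem_filter.mp hx).2, Finset.sum_const, nsmul_eq_mul]
  by_cases hv : v = 0
  · rw [hv, mul_zero]
  let Y := {x : X // f x = v}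
  letI : MulAction Q Y :=
    { smul := fun q x => ⟨q • (x : X), (hf q x).trans x.2⟩
      one_smul := fun x => Subtype.ext (one_smul Q (x : X))
      mul_smul := fun a b x => Subtype.ext (mul_smul a b (x : X)) }
  have h := hQ.card_modEq_card_fixedPoints (α := Y)
  have hemp : IsEmpty (MulAction.fixedPoints Q Y) := ⟨fun x => hv (by
    rw [← x.1.2]
    exact h0 _ fun q => congrArg Subtype.val (x.2 q))⟩
  rw [Nat.card_of_isEmpty (α := MulAction.fixedPoints Q Y), Nat.card_eq_fintype_card (α := Y),
    Fintype.card_subtype, ← ZMod.natCast_eq_natCast_iff] at h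
  rw [h, Nat.cast_zero, zero_mul]

variable [Fintype G]

/-- Dade's detection of an invariant character by a `p`-elementary subgroup. -/
theorem exists_elementary_detection {p : ℕ} (hp : p.Prime) (N : Subgroup G) [hN : N.Normal]
    [Fintype N] (hind : ∃ k : ℕ, N.index = p ^ k) {θ : N → ℂ} (hθ : Cfsg.IsIrrCharacter N θ)
    (hinv : ∀ (g : G) (n : N), θ ⟨g * n * g⁻¹, hN.conj_mem (n : G) n.2 g⟩ = θ n) :
    ∃ (E : Subgroup G) (φ : ↥(E ⊓ N) → ℂ), Cfsg.IsElementary p E ∧ E ⊔ N = ⊤ ∧
      Cfsg.IsIrrCharacter ↥(E ⊓ N) φ ∧
      (∀ (g : G) (hg : g ∈ E) (x : ↥(E ⊓ N)), φ ⟨g * x * g⁻¹,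
        ⟨E.mul_mem (E.mul_mem hg x.2.1) (E.inv_mem hg), hN.conj_mem (x : G) x.2.2 g⟩⟩ = φ x) ∧
      ∃ m : ℕ, ¬ p ∣ m ∧ (Nat.card ↥(E ⊓ N) : ℂ)⁻¹ *
        ∑ᶠ x : ↥(E ⊓ N), θ ⟨(x : G), x.2.2⟩ * conj (φ x) = (m : ℂ) := by
  classical
  haveI := Fact.mk hp
  obtain ⟨m₀, hm₀, hspan⟩ := exists_elem_const (G := G) hp
  have hθc := IsIrrCharacter.isCharacter hθ
  set F : G → ℂ := Cfsg.extendByZero N (fun n => θ n * conj (θ n)) with hF
  have hFc : Cfsg.IsClassFunction G F := by
    intro g h
    by_cases hg : g ∈ N
    · rw [hF, extendByZero_mem N _ hg, extendByZero_mem N _ (hN.conj_mem g hg h)]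
      simp only [hinv h ⟨g, hg⟩]
    · rw [hF, extendByZero_not_mem N _ hg, extendByZero_not_mem N _]
      exact fun h' => hg (by simpa [mul_assoc] using hN.conj_mem _ h' h⁻¹)
  have hFreal : ∀ g, conj (F g) = F g := fun g => by
    by_cases hg : g ∈ N
    · rw [hF, extendByZero_mem N _ hg, map_mul, Complex.conj_conj, mul_comm]
    · rw [hF, extendByZero_not_mem N _ hg, map_zero]
  -- the value on the constant function
  have hconst : ∑ g : G, (fun _ : G => (m₀ : ℂ)) g * F g = (Nat.card N : ℂ) * m₀ := by
    rw [Finset.sum_congr rfl fun g _ => mul_comm _ _, hF, sum_mul_extendByZero]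
    rw [← Finset.sum_mul]
    have h := classInner_self_irr hθ
    unfold Cfsg.classInner at h
    rw [inv_mul_eq_one₀ (Nat.cast_ne_zero.mpr Nat.card_pos.ne')] at h
    rw [← h]
  by_contra hno
  push Not at hno
  have key : ∀ f ∈ elemSpan p G, ∃ z : ℤ, (p : ℤ) ∣ z ∧
      ∑ g : G, f g * F g = (Nat.card N : ℂ) * z := by
    intro f hf
    induction hf using AddSubgroup.closure_induction with
    | zero => exact ⟨0, dvd_zero _, by simp⟩
    | add y z _ _ hy hz =>
      obtain ⟨a, ha, ea⟩ := hy
      obtain ⟨b, hb, eb⟩ := hz
      exact ⟨a + b, dvd_add ha hb, by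
        simp only [Pi.add_apply, add_mul, Finset.sum_add_distrib, ea, eb, Int.cast_add, mul_add]⟩
    | neg y _ hy =>
      obtain ⟨a, ha, ea⟩ := hy
      exact ⟨-a, dvd_neg.mpr ha, by
        simp only [Pi.neg_apply, neg_mul, Finset.sum_neg_distrib, ea, Int.cast_neg, mul_neg]⟩
    | mem x hx =>
      obtain ⟨E, φ, hE, hφ, rfl⟩ := hx
      let D : Subgroup G := E ⊓ N
      let iN : D →* N := Subgroup.inclusion inf_le_right
      let iE : D →* E := Subgroup.inclusion inf_le_left
      let θD : D → ℂ := fun d => θ (iN d)
      let φD : D → ℂ := fun d => φ (iE d)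
      have hθD : Cfsg.IsCharacter D θD := IsCharacter.comp hθc iN
      have hφD : Cfsg.IsCharacter D φD := IsCharacter.comp hφ iE
      obtain ⟨K, hK⟩ := IsCharacter.exists_classInner_nat (IsCharacter.mul hθD hφD) hθD
      have hsum : ∑ g : G, Cfsg.indFun E φ g * F g =
          (Fintype.card G : ℂ) * (Nat.card E : ℂ)⁻¹ * (Nat.card D : ℂ) * K := by
        have h := classInner_indFun_left E φ hFc
        unfold Cfsg.classInner at h
        simp only [hFreal] at h
        rw [inv_mul_eq_iff_eq_mul₀ (Nat.cast_ne_zero.mpr Nat.card_pos.ne'),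
          Nat.card_eq_fintype_card] at h
        rw [h, mul_assoc, mul_assoc, ← mul_assoc (_ : ℂ)⁻¹]
        congr 1
        rw [mul_assoc]
        congr 1
        rw [← hK]
        unfold Cfsg.classInner
        rw [← mul_assoc, mul_inv_cancel₀ (Nat.cast_ne_zero.mpr Nat.card_pos.ne'), one_mul]
        have e1 := sum_mul_extendByZero E φ F
        have e2 := sum_mul_extendByZero D (fun d => (θD * φD) d * conj (θD d)) (fun _ => 1)
        simp only [mul_one] at e2
        rw [← e1, ← e2]
        refine Finset.sum_congr rfl fun g _ => ?_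
        by_cases hgE : g ∈ E
        · by_cases hgN : g ∈ N
          · rw [extendByZero_mem E _ hgE, hF, extendByZero_mem N _ hgN,
              extendByZero_mem D _ ⟨hgE, hgN⟩]
            simp only [θD, φD, iN, iE, Pi.mul_apply, Subgroup.inclusion, MonoidHom.mk'_apply]
            ring
          · rw [hF, extendByZero_not_mem N _ hgN, extendByZero_not_mem D _ (fun h => hgN h.2),
              mul_zero]
        · rw [extendByZero_not_mem E _ hgE, extendByZero_not_mem D _ (fun h => hgE h.1), zero_mul]
      have hcard : Fintype.card G * Nat.card D = (E ⊔ N).index * Nat.card N * Nat.card E := by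
        have h1 : N.relIndex E * (E ⊔ N).index = N.index := by
          rw [← Subgroup.relIndex_sup_right (H := E) (K := N), Subgroup.relIndex_mul_index le_sup_right]
        have h2 : Nat.card D * N.relIndex E = Nat.card E := by
          rw [← Subgroup.relIndex_bot_left, ← Subgroup.relIndex_bot_left,
            ← Subgroup.inf_relIndex_left (H := E) (K := N)]
          exact Subgroup.relIndex_mul_relIndex _ _ _ bot_le inf_le_left
        rw [← Nat.card_eq_fintype_card, ← Subgroup.card_mul_index N, ← h1, ← h2]
        ring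
      refine ⟨((E ⊔ N).index * K : ℕ), ?_, ?_⟩
      · rw [Int.natCast_dvd_natCast]
        obtain ⟨k, hk⟩ := hind
        obtain ⟨j, -, hj⟩ := (Nat.dvd_prime_pow hp).mp
          (hk ▸ Subgroup.index_dvd_of_le (le_sup_right : N ≤ E ⊔ N))
        rcases j with _ | j
        swap
        · exact (hj ▸ dvd_pow_self p (Nat.succ_ne_zero j)).mul_right K
        rw [pow_zero] at hj
        have htop : E ⊔ N = ⊤ := Subgroup.index_eq_one.mp hj
        refine Dvd.dvd.mul_left ?_ _
        -- the invariant constituents
        haveI hDn : (D.subgroupOf E).Normal := by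
          rw [show D.subgroupOf E = N.subgroupOf E from Subgroup.inf_subgroupOf_left _ _]
          infer_instance
        let conjD : E → D →* D := fun g =>
          { toFun := fun d => ⟨(g : G) * d * (g : G)⁻¹,
              ⟨E.mul_mem (E.mul_mem g.2 d.2.1) (E.inv_mem g.2), hN.conj_mem (d : G) d.2.2 g⟩⟩
            map_one' := Subtype.ext (by simp)
            map_mul' := fun a b => Subtype.ext (by simp [mul_assoc]) }
        have hconjmul : ∀ g h d, conjD (g * h) d = conjD g (conjD h d) := fun g h d =>
          Subtype.ext (by simp [conjD, mul_assoc])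
        have hconjone : ∀ d, conjD 1 d = d := fun d => Subtype.ext (by simp [conjD])
        let eD : E → D ≃* D := fun g =>
          MulEquiv.mk' ⟨conjD g, conjD g⁻¹,
            fun d => by rw [← hconjmul, inv_mul_cancel, hconjone],
            fun d => by rw [← hconjmul, mul_inv_cancel, hconjone]⟩ (map_mul (conjD g))
        letI : MulAction E (Cfsg.IrrCharacter D) :=
          { smul := fun g α => ⟨fun d => (α : D → ℂ) (conjD g⁻¹ d),
              IsIrrCharacter.comp α.2 (eD g⁻¹).toMonoidHom (eD g⁻¹).surjective⟩
            one_smul := fun α => Subtype.ext (funext fun d =>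
              congrArg (α : D → ℂ) (by rw [inv_one]; exact hconjone d))
            mul_smul := fun a b α => Subtype.ext (funext fun d =>
              congrArg (α : D → ℂ) (by rw [mul_inv_rev, hconjmul])) }
        let c : Cfsg.IrrCharacter D → ℕ := fun α =>
          (IsCharacter.exists_classInner_nat hθD (IsIrrCharacter.isCharacter α.2)).choose
        have hc : ∀ α : Cfsg.IrrCharacter D, Cfsg.classInner θD (α : D → ℂ) = c α := fun α =>
          (IsCharacter.exists_classInner_nat hθD (IsIrrCharacter.isCharacter α.2)).choose_spec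
        let d' : Cfsg.IrrCharacter D → ℕ := fun α => (IsCharacter.exists_classInner_nat
          (IsCharacter.mul (IsIrrCharacter.isCharacter α.2) hφD) hθD).choose
        have hd : ∀ α : Cfsg.IrrCharacter D,
            Cfsg.classInner ((α : D → ℂ) * φD) θD = d' α := fun α => (IsCharacter.exists_classInner_nat
          (IsCharacter.mul (IsIrrCharacter.isCharacter α.2) hφD) hθD).choose_spec
        have hinvθ : ∀ (g : E) (d : D), θD (conjD g d) = θD d := fun g d => hinv g (iN d)
        have hinvφ : ∀ (g : E) (d : D), φD (conjD g d) = φD d := fun g d =>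
          IsCharacter.isClassFunction hφ (iE d) g
        have hcomp : ∀ (g : E) (f f' : D → ℂ),
            Cfsg.classInner (fun d => f (conjD g d)) (fun d => f' (conjD g d)) =
              Cfsg.classInner f f' := fun g f f' => by
          unfold Cfsg.classInner
          congr 1
          exact Fintype.sum_equiv (eD g).toEquiv _ _ fun d => rfl
        have hcinv : ∀ (g : E) α, c (g • α) = c α := fun g α => by
          have h := hc (g • α)
          rw [show θD = fun d => θD (conjD g⁻¹ d) from funext fun d => (hinvθ g⁻¹ d).symm] at h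
          rw [show ((g • α : Cfsg.IrrCharacter D) : D → ℂ) = fun d => (α : D → ℂ) (conjD g⁻¹ d)
            from rfl, hcomp, hc] at h
          exact_mod_cast h.symm
        have hdinv : ∀ (g : E) α, d' (g • α) = d' α := fun g α => by
          have h := hd (g • α)
          rw [show θD = fun d => θD (conjD g⁻¹ d) from funext fun d => (hinvθ g⁻¹ d).symm,
            show ((g • α : Cfsg.IrrCharacter D) : D → ℂ) * φD =
              fun d => ((α : D → ℂ) * φD) (conjD g⁻¹ d) from
              funext fun d => by
                show (α : D → ℂ) (conjD g⁻¹ d) * φD d = _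
                rw [Pi.mul_apply, hinvφ], hcomp, hd] at h
          exact_mod_cast h.symm
        have hKsum : K = ∑ α : Cfsg.IrrCharacter D, c α * d' α := by
          have h : (K : ℂ) = ((∑ α : Cfsg.IrrCharacter D, c α * d' α : ℕ) : ℂ) := by
            rw [← hK]
            conv_lhs => arg 1; rw [IsCharacter.eq_sum hθD]
            rw [Finset.sum_mul, classInner_sum_left, Nat.cast_sum]
            refine Finset.sum_congr rfl fun α _ => ?_
            rw [smul_mul_assoc, classInner_smul_left, hc, hd, Nat.cast_mul]
          exact_mod_cast h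
        obtain ⟨Q⟩ : Nonempty (Sylow p E) := inferInstance
        have hQD : ((Q : Subgroup E) ⊔ D.subgroupOf E) = ⊤ := by
          refine Subgroup.index_eq_one.mp ?_
          have h1 : (D.subgroupOf E).index ∣ p ^ k := by
            rw [show D.subgroupOf E = N.subgroupOf E from Subgroup.inf_subgroupOf_left _ _, ← hk]
            exact Subgroup.relIndex_dvd_index_of_normal N E
          have h2 := Subgroup.index_dvd_of_le (le_sup_left : (Q : Subgroup E) ≤ _ ⊔ D.subgroupOf E)
          have h3 := (Subgroup.index_dvd_of_le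
            (le_sup_right : D.subgroupOf E ≤ (Q : Subgroup E) ⊔ _)).trans h1
          obtain ⟨i, -, hi⟩ := (Nat.dvd_prime_pow hp).mp h3
          rcases i with _ | i
          · rw [hi, pow_zero]
          · exact absurd ((hi ▸ dvd_pow_self p (Nat.succ_ne_zero i)).trans h2) Q.not_dvd_index
        rw [← ZMod.natCast_eq_zero_iff, hKsum, Nat.cast_sum]
        refine sum_zmod_fixed (Q := (Q : Subgroup E)) Q.isPGroup' _ (fun q α => ?_) fun α hα => ?_
        · show ((c ((q : E) • α) * d' ((q : E) • α) : ℕ) : ZMod p) = _
          rw [hcinv, hdinv]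
        have hfix : ∀ (g : E) (d : D), (α : D → ℂ) (conjD g d) = (α : D → ℂ) d := by
          have hst : (⊤ : Subgroup E) ≤ MulAction.stabilizer E α := by
            rw [← hQD, sup_le_iff]
            refine ⟨fun q hq => hα ⟨q, hq⟩, fun e he => ?_⟩
            refine Subtype.ext (funext fun d => ?_)
            have := IsCharacter.isClassFunction (IsIrrCharacter.isCharacter α.2) d
              (⟨((e⁻¹ : E) : G), (D.inv_mem he)⟩ : D)
            refine Eq.trans (congrArg (α : D → ℂ) (Subtype.ext ?_)) this
            simp [conjD]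
          intro g d
          have h1 := congrFun (congrArg Subtype.val (hst (Subgroup.mem_top g⁻¹))) d
          simpa [show ((g⁻¹ • α : Cfsg.IrrCharacter D) : D → ℂ) d = (α : D → ℂ) (conjD g⁻¹⁻¹ d)
            from rfl] using h1
        have hdvd : p ∣ c α := by
          by_contra hpc
          refine hno E (α : D → ℂ) hE htop α.2 (fun g hg x => hfix ⟨g, hg⟩ x) (c α) hpc ?_
          rw [finsum_eq_sum_of_fintype, ← hc α]
          rfl
        rw [Nat.cast_mul, (ZMod.natCast_eq_zero_iff _ _).mpr hdvd, zero_mul]
      · rw [hsum]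
        have h : (Fintype.card G : ℂ) * Nat.card D =
            ((E ⊔ N).index : ℂ) * Nat.card N * Nat.card E := by exact_mod_cast hcard
        have hE0 : (Nat.card E : ℂ) ≠ 0 := Nat.cast_ne_zero.mpr Nat.card_pos.ne'
        push_cast
        field_simp
        linear_combination (K : ℂ) * h
  obtain ⟨z, hz, he⟩ := key _ hspan
  rw [hconst] at he
  have := mul_left_cancel₀ (Nat.cast_ne_zero.mpr Nat.card_pos.ne') he
  exact hm₀ (Int.cast_injective this ▸ hz)

end Cfsg.Agent.Char
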