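import Cfsg.Agent.Lib.Char.DadeDetect
import Cfsg.Agent.Lib.Char.ExtensionChar
import Cfsg.Agent.Lib.Char.Orbit
import Cfsg.Agent.Lib.Char.Invariants
import Mathlib.GroupTheory.FiniteAbelian.Duality
import Mathlib.Analysis.Complex.Polynomial.Basic

/-!
# Extension of invariant characters when the Sylow intersection is central
-/

set_option linter.style.haveILetI false
set_option linter.unusedSectionVars false
set_option maxHeartbeats 800000

namespace Cfsg.Agent.CharExtend

open scoped ComplexConjugate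
open Cfsg.Agent.Char

universe u

variable {G : Type u} [Group G]

/-- Linear characters of the part in `N` of a `p`-elementary subgroup extend. -/
theorem exists_linear_elem [Finite G] {p : ℕ} [Fact p.Prime] (N : Subgroup G) [hN : N.Normal]
    (hind : ∃ k : ℕ, N.index = p ^ k) (P : Sylow p G)
    (hcent : ∀ x ∈ (P : Subgroup G) ⊓ N, ∀ y ∈ (P : Subgroup G), x * y = y * x)
    (hlin : ∀ lam : ↥((P : Subgroup G) ⊓ N) → ℂ, Cfsg.IsCharacter ↥((P : Subgroup G) ⊓ N) lam →
      lam 1 = 1 → ∃ μ : ↥(P : Subgroup G) → ℂ, Cfsg.IsCharacter ↥(P : Subgroup G) μ ∧ μ 1 = 1 ∧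
        ∀ x : ↥((P : Subgroup G) ⊓ N), μ ⟨(x : G), x.2.1⟩ = lam x)
    (E : Subgroup G) (hE : Cfsg.IsElementary p E) :
    (∀ d ∈ E ⊓ N, ∀ e ∈ E, d * e = e * d) ∧
      ∀ a : ↥(E ⊓ N) →* ℂˣ, ∃ μ : E →* ℂˣ, ∀ d : ↥(E ⊓ N), μ ⟨(d : G), d.2.1⟩ = a d := by
  classical
  obtain ⟨x, hxc, hxcop, k, hk⟩ := hE
  set Z : Subgroup E := Subgroup.zpowers x with hZdef
  have hZc : ∀ z ∈ Z, ∀ e : E, z * e = e * z := fun z hz e =>
    ((Subgroup.mem_center_iff.mp (Subgroup.zpowers_le.mpr hxc hz)) e).symm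
  haveI hZn : Z.Normal := ⟨fun z hz e => by rwa [← hZc z hz e, mul_inv_cancel_right]⟩
  have hxN : (x : G) ∈ N := by
    obtain ⟨j, hj⟩ := hind
    rw [← QuotientGroup.eq_one_iff (N := N), ← orderOf_eq_one_iff]
    refine Nat.eq_one_of_dvd_coprimes (hxcop.pow_right j) ?_ ?_
    · rw [← Subgroup.orderOf_coe]; exact orderOf_map_dvd (QuotientGroup.mk' N) (x : G)
    · rw [← hj, Subgroup.index_eq_card]; exact orderOf_dvd_natCard _
  have hZN : ∀ z ∈ Z, (z : G) ∈ N := fun z hz => by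
    obtain ⟨i, rfl⟩ := Subgroup.mem_zpowers_iff.mp hz
    rw [Subgroup.coe_zpow]
    exact N.zpow_mem hxN i
  obtain ⟨Q⟩ : Nonempty (Sylow p E) := inferInstance
  let f : (Q : Subgroup E) →* E ⧸ Z := (QuotientGroup.mk' Z).comp (Q : Subgroup E).subtype
  have hcardQ : Nat.card (Q : Subgroup E) = p ^ k := by
    rw [Q.card_eq_multiplicity, ← Subgroup.card_mul_index Z, hk, Nat.card_zpowers,
      Nat.factorization_mul (orderOf_pos x).ne' (pow_ne_zero _ (Fact.out : p.Prime).ne_zero)]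
    simp only [Finsupp.add_apply, (Fact.out : p.Prime).factorization_pow, Finsupp.single_eq_same]
    rw [Nat.factorization_eq_zero_of_not_dvd fun h =>
      (Fact.out : p.Prime).ne_one (Nat.eq_one_of_dvd_coprimes hxcop h dvd_rfl), zero_add]
  have hfinj : Function.Injective f := by
    rw [injective_iff_map_eq_one]
    intro q hq
    have h1 : (q : E) ∈ Z := (QuotientGroup.eq_one_iff _).mp hq
    rw [← orderOf_eq_one_iff, ← Subgroup.orderOf_coe]
    refine Nat.eq_one_of_dvd_coprimes (hxcop.pow_right k) ?_ ?_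
    · rw [← Nat.card_zpowers x]
      exact Subgroup.orderOf_dvd_natCard Z h1
    · rw [← hcardQ]; exact Subgroup.orderOf_dvd_natCard _ q.2
  have hfbij : Function.Bijective f := (Nat.bijective_iff_injective_and_card f).mpr
    ⟨hfinj, by rw [hcardQ, ← Subgroup.index_eq_card, hk]⟩
  let π : E →* (Q : Subgroup E) :=
    (MulEquiv.ofBijective f hfbij).symm.toMonoidHom.comp (QuotientGroup.mk' Z)
  have hπ : ∀ e : E, e * ((π e : E))⁻¹ ∈ Z := fun e => by
    have h : f (π e) = QuotientGroup.mk' Z e :=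
      (MulEquiv.ofBijective f hfbij).apply_symm_apply _
    rw [← QuotientGroup.eq_one_iff, QuotientGroup.mk_mul, QuotientGroup.mk_inv, mul_inv_eq_one]
    exact h.symm
  -- conjugate into the given Sylow subgroup
  obtain ⟨P', hP'⟩ := (Q.isPGroup'.map E.subtype).exists_le_sylow
  obtain ⟨g, rfl⟩ := MulAction.exists_smul_eq G P P'
  have hmemP : ∀ q : (Q : Subgroup E), g⁻¹ * ((q : E) : G) * g ∈ (P : Subgroup G) := fun q => by
    have h := hP' (Subgroup.mem_map_of_mem E.subtype q.2)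
    rw [Sylow.coe_subgroup_smul, Subgroup.mem_pointwise_smul_iff_inv_smul_mem] at h
    simpa [MulAut.smul_def] using h
  let c : (Q : Subgroup E) →* (P : Subgroup G) :=
    { toFun := fun q => ⟨g⁻¹ * ((q : E) : G) * g, hmemP q⟩
      map_one' := Subtype.ext (by simp)
      map_mul' := fun a b => Subtype.ext (by simp [mul_assoc]) }
  have hcinj : Function.Injective c := fun a b h => by
    simpa [c] using congrArg Subtype.val h
  have hcN : ∀ q : (Q : Subgroup E), ((q : E) : G) ∈ N →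
      ((c q : G)) ∈ (P : Subgroup G) ⊓ N := fun q hq =>
    ⟨(c q).2, by simpa [c] using hN.conj_mem _ hq g⁻¹⟩
  have hπN : ∀ e : E, (e : G) ∈ N → (((π e) : E) : G) ∈ N := fun e he => by
    have h := N.mul_mem (N.inv_mem (hZN _ (hπ e))) he
    simpa using h
  have hcentral : ∀ d ∈ E ⊓ N, ∀ e ∈ E, d * e = e * d := by
    intro d hd e he
    have h1 : ((⟨d, hd.1⟩ : E) * ⟨e, he⟩ : E) = ⟨e, he⟩ * ⟨d, hd.1⟩ := by
      set D : E := ⟨d, hd.1⟩
      set B : E := ⟨e, he⟩
      have hcomm : (π D : E) * (π B : E) = (π B : E) * (π D : E) := by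
        have h := hcent _ (hcN _ (hπN D hd.2)) _ (c (π B)).2
        have h' : c (π D * π B) = c (π B * π D) := by
          rw [map_mul, map_mul]; exact Subtype.ext h
        simpa using congrArg (fun q : (Q : Subgroup E) => (q : E)) (hcinj h')
      have h2 : ∀ u : E, (D * (π D : E)⁻¹) * u = u * (D * (π D : E)⁻¹) := hZc _ (hπ D)
      have h3 : ∀ u : E, (B * (π B : E)⁻¹) * u = u * (B * (π B : E)⁻¹) := hZc _ (hπ B)
      calc D * B = (D * (π D : E)⁻¹) * (π D : E) * ((B * (π B : E)⁻¹) * (π B : E)) := by simp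
        _ = (B * (π B : E)⁻¹) * (D * (π D : E)⁻¹) * ((π D : E) * (π B : E)) := by
          rw [← mul_assoc, mul_assoc (D * (π D : E)⁻¹) (π D : E), ← h3, ← mul_assoc, h2]
          group
        _ = (B * (π B : E)⁻¹) * ((π B : E) * ((D * (π D : E)⁻¹) * (π D : E))) := by
          rw [hcomm, mul_assoc, ← mul_assoc (D * (π D : E)⁻¹), h2 (π B : E), mul_assoc (π B : E)]
        _ = B * D := by simp [mul_assoc]
    exact congrArg Subtype.val h1
  refine ⟨hcentral, fun a => ?_⟩
  let PN : Subgroup G := (P : Subgroup G) ⊓ N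
  letI : CommGroup PN :=
    { (inferInstance : Group PN) with
      mul_comm := fun u v => Subtype.ext (hcent _ u.2 _ v.2.1) }
  let QN : Subgroup (Q : Subgroup E) := N.comap (E.subtype.comp (Q : Subgroup E).subtype)
  let j : QN →* ↥(E ⊓ N) :=
    (E.subtype.comp ((Q : Subgroup E).subtype.comp QN.subtype)).codRestrict _
      fun q => ⟨((q : (Q : Subgroup E)) : E).2, q.2⟩
  let c' : QN →* PN :=
    (((P : Subgroup G).subtype.comp c).comp QN.subtype).codRestrict _ fun q => hcN _ q.2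
  have hc'inj : Function.Injective c' := fun u v h =>
    Subtype.ext (hcinj (Subtype.ext (congrArg (fun w : PN => (w : G)) h)))
  let R : Subgroup PN := c'.range
  let a' : R →* ℂˣ := (a.comp j).comp (MonoidHom.ofInjective hc'inj).symm.toMonoidHom
  obtain ⟨lam, hlam⟩ := MonoidHom.domRestrict_surjective ℂ R a'
  obtain ⟨μ, hμ, hμ1, hμeq⟩ := hlin (fun u => (lam u : ℂ))
    (IsIrrCharacter.isCharacter (isIrrCharacter_linear lam)) (by simp)
  obtain ⟨ν, rfl⟩ := exists_hom_of_degree_one hμ hμ1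
  let ρ : E →* ↥(E ⊓ N) :=
    { toFun := fun e => ⟨((e * ((π e : E))⁻¹ : E) : G), (e * ((π e : E))⁻¹).2, hZN _ (hπ e)⟩
      map_one' := Subtype.ext (by simp)
      map_mul' := fun u v => Subtype.ext (by
        show (((u * v) * ((π (u * v) : E))⁻¹ : E) : G) =
          ((u * ((π u : E))⁻¹ * (v * ((π v : E))⁻¹) : E) : G)
        congr 1
        rw [map_mul, Subgroup.coe_mul, mul_inv_rev, mul_assoc u ((π u : E))⁻¹,
          ← hZc _ (hπ v) ((π u : E))⁻¹]
        group) }
  refine ⟨(a.comp ρ) * ((ν.comp c).comp π), fun d => ?_⟩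
  set D : E := ⟨(d : G), d.2.1⟩
  have hq : π D ∈ QN := hπN D d.2.2
  have hνeq : ν (c (π D)) = a (j ⟨π D, hq⟩) := by
    have h1 : (ν (c (π D)) : ℂ) = (lam (c' ⟨π D, hq⟩) : ℂ) := hμeq (c' ⟨π D, hq⟩)
    have h2 := DFunLike.congr_fun hlam ⟨c' ⟨π D, hq⟩, ⟨_, rfl⟩⟩
    rw [Units.ext h1]
    refine h2.trans ?_
    show a (j ((MonoidHom.ofInjective hc'inj).symm _)) = _
    congr 2
    rw [MulEquiv.symm_apply_eq]
    rfl
  show a (ρ D) * ν (c (π D)) = a d
  rw [hνeq, ← map_mul]
  refine congrArg a (Subtype.ext ?_)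
  show ((D * ((π D : E))⁻¹ : E) : G) * (((π D : (Q : Subgroup E)) : E) : G) = (d : G)
  rw [← Subgroup.coe_mul, inv_mul_cancel_right]

variable {N : Subgroup G} [hN : N.Normal]
variable {V : Type} [AddCommGroup V] [Module ℂ V] [FiniteDimensional ℂ V]

/-- The multiplicity of an extendible linear character of a central part gives an exponent. -/
theorem multiplicity_mem_powSet [Finite G] (σ : Representation ℂ N V) (E : Subgroup G)
    (htop : E ⊔ N = ⊤) (hcentral : ∀ d ∈ E ⊓ N, ∀ e ∈ E, d * e = e * d)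
    (μ : E →* ℂˣ) [Fintype ↥(E ⊓ N)] (m : ℕ)
    (hm : (Nat.card ↥(E ⊓ N) : ℂ)⁻¹ * ∑ d : ↥(E ⊓ N),
      σ.character ⟨(d : G), d.2.2⟩ * conj (μ ⟨(d : G), d.2.1⟩ : ℂ) = (m : ℂ)) :
    (m : ℤ) ∈ powSet σ := by
  classical
  let iN : ↥(E ⊓ N) →* N := Subgroup.inclusion inf_le_right
  let iE : ↥(E ⊓ N) →* E := Subgroup.inclusion inf_le_left
  let τ : Representation ℂ ↥(E ⊓ N) V :=
    { toFun := fun d => (((μ (iE d))⁻¹ : ℂˣ) : ℂ) • σ (iN d)
      map_one' := by simp
      map_mul' := fun u v => by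
        simp only [map_mul, mul_inv, Units.val_mul, smul_mul_smul_comm] }
  let W : Submodule ℂ V := τ.invariants
  have hW : Module.finrank ℂ W = m := by
    have h := sum_char_eq_finrank_invariants τ
    rw [Finset.sum_congr rfl (fun d _ => show τ.character d =
      σ.character ⟨(d : G), d.2.2⟩ * conj (μ ⟨(d : G), d.2.1⟩ : ℂ) from ?_), hm] at h
    · exact_mod_cast h.symm
    · show LinearMap.trace ℂ V ((((μ (iE d))⁻¹ : ℂˣ) : ℂ) • σ (iN d)) = _
      rw [map_smul, smul_eq_mul, mul_comm]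
      congr 1
      rw [Units.val_inv_eq_inv_val]
      refine Complex.inv_eq_conj (norm_eq_one_of_pow (m := Nat.card E) Nat.card_pos.ne' ?_)
      rw [← Units.val_pow_eq_pow_val, ← map_pow, pow_card_eq_one', map_one, Units.val_one]
  have hmemW : ∀ (w : W) (d : ↥(E ⊓ N)), σ (iN d) (w : V) = (μ (iE d) : ℂ) • (w : V) := fun w d => by
    have h := (Representation.mem_invariants τ (w : V)).mp w.2 d
    change (((μ (iE d))⁻¹ : ℂˣ) : ℂ) • σ (iN d) (w : V) = (w : V) at h
    conv_rhs => rw [← h]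
    rw [smul_smul, ← Units.val_mul, mul_inv_cancel, Units.val_one, one_smul]
  let ΓE : Subgroup (interGroup σ) := E.comap (proj σ)
  have hmaps : ∀ e : ΓE, ∀ w ∈ W, (op σ (e : interGroup σ) : Module.End ℂ V) w ∈ W := by
    intro e w hw
    refine (Representation.mem_invariants τ _).mpr fun d => ?_
    have h := LinearMap.congr_fun ((e : interGroup σ).2 (iN d)) w
    have hd : conjHom N (proj σ (e : interGroup σ)) (iN d) = iN d := Subtype.ext (by
      show proj σ (e : interGroup σ) * (d : G) * (proj σ (e : interGroup σ))⁻¹ = (d : G)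
      rw [← hcentral _ d.2 _ e.2, mul_inv_cancel_right])
    change (op σ (e : interGroup σ) : Module.End ℂ V) (σ (iN d) w) =
      σ (conjHom N (proj σ (e : interGroup σ)) (iN d)) ((op σ (e : interGroup σ) : Module.End ℂ V) w) at h
    rw [hd, hmemW ⟨w, hw⟩ d, map_smul] at h
    show (((μ (iE d))⁻¹ : ℂˣ) : ℂ) • σ (iN d) ((op σ (e : interGroup σ) : Module.End ℂ V) w) = _
    rw [← h, smul_smul, ← Units.val_mul, inv_mul_cancel, Units.val_one, one_smul]
  let Λ : ΓE →* Module.End ℂ W :=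
    { toFun := fun e => (op σ (e : interGroup σ) : Module.End ℂ V).restrict (hmaps e)
      map_one' := LinearMap.ext fun w => Subtype.ext (by simp [LinearMap.restrict_apply])
      map_mul' := fun u v => LinearMap.ext fun w => Subtype.ext (by
        simp [LinearMap.restrict_apply]) }
  let πE : ΓE →* E := ((proj σ).comp ΓE.subtype).codRestrict E fun e => e.2
  let L₀ : ΓE →* ℂˣ := ((LinearMap.det : Module.End ℂ W →* ℂ).comp Λ).toHomUnits /
    ((μ.comp πE) ^ m)
  -- descend along `emb N`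
  set I : Subgroup (interGroup σ) := (emb σ).range with hI
  haveI : I.Normal := ⟨by
    rintro _ ⟨n, rfl⟩ e
    rw [conj_emb]
    exact ⟨_, rfl⟩⟩
  let f : ΓE →* interGroup σ ⧸ I := (QuotientGroup.mk' I).comp ΓE.subtype
  have hsurj : Function.Surjective f := by
    intro q
    obtain ⟨e, rfl⟩ := QuotientGroup.mk'_surjective I q
    obtain ⟨y, hy, n, hn, hyn⟩ := Subgroup.mem_sup_of_normal_right.mp
      (htop ▸ Subgroup.mem_top (proj σ e) : proj σ e ∈ E ⊔ N)
    refine ⟨⟨e * (emb σ ⟨n, hn⟩)⁻¹, ?_⟩, ?_⟩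
    · show proj σ (e * (emb σ ⟨n, hn⟩)⁻¹) ∈ E
      rw [map_mul, map_inv, proj_emb, ← hyn, mul_inv_cancel_right]
      exact hy
    · show QuotientGroup.mk' I (e * (emb σ ⟨n, hn⟩)⁻¹) = QuotientGroup.mk' I e
      rw [map_mul, map_inv, (QuotientGroup.eq_one_iff (N := I) _).mpr ⟨⟨n, hn⟩, rfl⟩ |> fun h =>
        show QuotientGroup.mk' I (emb σ ⟨n, hn⟩) = 1 from h, inv_one, mul_one]
  have hdet_smul : ∀ (e : ΓE) (z : ℂ), (∀ w : W, (op σ (e : interGroup σ) : Module.End ℂ V) w =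
      z • (w : V)) → LinearMap.det (Λ e) = z ^ m := by
    intro e z h
    have : Λ e = z • LinearMap.id := LinearMap.ext fun w => Subtype.ext (by
      simpa [Λ, LinearMap.restrict_apply] using h w)
    rw [this, LinearMap.det_smul, LinearMap.det_id, mul_one, hW]
  have hker : f.ker ≤ L₀.ker := by
    intro e he
    obtain ⟨n, hn⟩ := (QuotientGroup.eq_one_iff _).mp he
    change emb σ n = (e : interGroup σ) at hn
    have hnE : (n : G) ∈ E := by
      have := e.2
      rw [Subgroup.mem_comap] at this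
      simpa [← hn] using this
    rw [MonoidHom.mem_ker]
    show _ / _ = (1 : ℂˣ)
    rw [div_eq_one]
    refine Units.ext ?_
    rw [MonoidHom.coe_toHomUnits, MonoidHom.comp_apply, MonoidHom.pow_apply, MonoidHom.comp_apply,
      Units.val_pow_eq_pow_val, hdet_smul e (μ (iE ⟨(n : G), hnE, n.2⟩) : ℂ) fun w => ?_]
    · congr 3
      exact Subtype.ext (show (n : G) = proj σ (e : interGroup σ) by simp [← hn])
    · rw [← hn, op_emb]
      exact hmemW w ⟨(n : G), hnE, n.2⟩
  let L : interGroup σ →* ℂˣ := (f.liftOfSurjective hsurj ⟨L₀, hker⟩).comp (QuotientGroup.mk' I)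
  have hL : ∀ e : ΓE, L (e : interGroup σ) = L₀ e := fun e =>
    MonoidHom.liftOfRightInverse_comp_apply f _ (Function.rightInverse_surjInv hsurj) ⟨L₀, hker⟩ e
  refine ⟨L, fun z => ?_, fun n => ?_⟩
  · have hz : scal σ z ∈ ΓE := by simp [ΓE, E.one_mem]
    rw [show scal σ z = ((⟨scal σ z, hz⟩ : ΓE) : interGroup σ) from rfl, hL]
    show _ / _ = z ^ (m : ℤ)
    rw [zpow_natCast, MonoidHom.pow_apply, MonoidHom.comp_apply,
      show πE ⟨scal σ z, hz⟩ = 1 from Subtype.ext (proj_scal σ z), map_one, one_pow, div_one]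
    refine Units.ext ?_
    rw [MonoidHom.coe_toHomUnits, MonoidHom.comp_apply, Units.val_pow_eq_pow_val,
      hdet_smul _ (z : ℂ) fun w => ?_]
    simp [scalarUnit_val]
  · show f.liftOfSurjective hsurj ⟨L₀, hker⟩ (QuotientGroup.mk' I (emb σ n)) = 1
    rw [show QuotientGroup.mk' I (emb σ n) = 1 from (QuotientGroup.eq_one_iff _).mpr ⟨n, rfl⟩,
      map_one]

/-- Dade: extension of invariant characters. -/
theorem exists_extension_central [Fintype G] {p : ℕ} [Fact p.Prime] (hind : ∃ k : ℕ, N.index = p ^ k)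
    (P : Sylow p G) (hcent : ∀ x ∈ (P : Subgroup G) ⊓ N, ∀ y ∈ (P : Subgroup G), x * y = y * x)
    (hlin : ∀ lam : ↥((P : Subgroup G) ⊓ N) → ℂ, Cfsg.IsCharacter ↥((P : Subgroup G) ⊓ N) lam →
      lam 1 = 1 → ∃ μ : ↥(P : Subgroup G) → ℂ, Cfsg.IsCharacter ↥(P : Subgroup G) μ ∧ μ 1 = 1 ∧
        ∀ x : ↥((P : Subgroup G) ⊓ N), μ ⟨(x : G), x.2.1⟩ = lam x)
    {θ : N → ℂ} (hθ : Cfsg.IsIrrCharacter N θ)
    (hinv : ∀ (g : G) (n : N), θ ⟨g * n * g⁻¹, hN.conj_mem (n : G) n.2 g⟩ = θ n) :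
    ∃ χ : G → ℂ, Cfsg.IsIrrCharacter G χ ∧ ∀ n : N, χ n = θ n := by
  classical
  haveI : Fintype N := Fintype.ofFinite N
  obtain ⟨E, φ, hE, htop, hφ, -, m, hm, hinner⟩ :=
    exists_elementary_detection (Fact.out : p.Prime) N hind hθ hinv
  obtain ⟨hcentral, hext⟩ := exists_linear_elem N hind P hcent hlin E hE
  have hdeg : φ 1 = 1 := degree_one_of_comm
    (fun u v => Subtype.ext (hcentral _ u.2 _ v.2.1)) hφ
  obtain ⟨a, rfl⟩ := exists_hom_of_degree_one (IsIrrCharacter.isCharacter hφ) hdeg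
  obtain ⟨μ, hμ⟩ := hext a
  obtain ⟨d, σ, hσ, rfl, -, hinvσ⟩ := exists_setup hθ hinv
  have hmem : (m : ℤ) ∈ powSet σ := by
    refine multiplicity_mem_powSet σ E htop hcentral μ m ?_
    rw [← hinner, finsum_eq_sum_of_fintype]
    simp only [hμ]
  have h1 : (1 : ℤ) ∈ powSet σ := by
    refine one_mem_of_forall_prime _ fun q hq => ?_
    by_cases hqp : q = p
    · exact ⟨m, hmem, by rw [hqp, Int.natCast_dvd_natCast]; exact hm⟩
    · refine ⟨N.index, index_mem_powSet σ hinvσ N le_rfl σ (fun n => rfl), ?_⟩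
      obtain ⟨k, hk⟩ := hind
      rw [Int.natCast_dvd_natCast, hk]
      exact fun h => hqp ((Nat.prime_dvd_prime_iff_eq hq Fact.out).mp (hq.dvd_of_dvd_pow h))
  obtain ⟨η, hη⟩ := exists_extension_of_one_mem σ hinvσ h1
  exact ⟨η.character, exists_char_of_rep hη⟩

end Cfsg.Agent.CharExtend
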