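import Cfsg.Agent.Lib.Char.Degree
import Cfsg.Agent.Lib.Char.Clifford
import Mathlib.GroupTheory.Solvable
import Mathlib.LinearAlgebra.Determinant

/-!
# Groups all of whose irreducible degrees are at most four are solvable

The reduction is to a non-abelian simple group `S`: it has even order, an involution `t` acts
with determinant one and without being scalar in each non-principal irreducible representation, so
its character value is `-1` in degree `3`, `0` in degree `4`, while degree `2` is impossible;
orthogonality of the columns of `1` and `t` then fails.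
-/

set_option linter.style.haveILetI false

namespace Cfsg.Agent.BoundedDegree

open Cfsg.Agent.Char Module
open scoped ComplexConjugate

universe u

/-- All irreducible degrees are at most `b`. -/
def DegLE (G : Type u) [Group G] (b : ℕ) : Prop :=
  ∀ χ : Cfsg.IrrCharacter G, Cfsg.charDegree (χ : G → ℂ) ≤ b

variable {G : Type u} [Group G]

theorem deg_eq {χ : G → ℂ} (h : Cfsg.IsCharacter G χ) {d : ℕ} (hd : χ 1 = d) :
    Cfsg.charDegree χ = d :=
  Nat.cast_injective ((CharX.deg_spec h).symm.trans hd)

/-- An irreducible character of a subgroup lies under one of the group. -/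
theorem exists_above [Fintype G] (H : Subgroup G) [Fintype H] (ψ : Cfsg.IrrCharacter H) :
    ∃ χ : Cfsg.IrrCharacter G,
      Cfsg.classInner (fun h : H => (χ : G → ℂ) h) (ψ : H → ℂ) ≠ 0 ∧
        Cfsg.charDegree (ψ : H → ℂ) ≤ Cfsg.charDegree (χ : G → ℂ) := by
  have hψ := IsIrrCharacter.isCharacter ψ.2
  obtain ⟨χ, hχ⟩ := IsCharacter.exists_constituent (isCharacter_indFun H hψ) fun h => by
    have h1 := congrFun h 1
    rw [indFun_one_apply, Pi.zero_apply, mul_eq_zero, Nat.cast_eq_zero] at h1
    exact h1.elim Subgroup.index_ne_zero_of_finite (IsIrrCharacter.one_ne_zero ψ.2)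
  have hχc := IsIrrCharacter.isCharacter χ.2
  rw [classInner_indFun_left H _ (IsCharacter.isClassFunction hχc),
    classInner_comm_of_isCharacter hψ (IsCharacter.restrict hχc H)] at hχ
  refine ⟨χ, hχ, ?_⟩
  exact degree_le_of_constituent (IsCharacter.restrict hχc H) ψ.2 hχ
    (by simpa using CharX.irr_deg χ) (CharX.irr_deg ψ)

theorem DegLE.subgroup [Finite G] {b : ℕ} (h : DegLE G b) (H : Subgroup G) : DegLE H b := by
  haveI := Fintype.ofFinite G
  haveI := Fintype.ofFinite H
  intro ψ
  obtain ⟨χ, -, hle⟩ := exists_above H ψ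
  exact hle.trans (h χ)

theorem DegLE.quotient [Finite G] {b : ℕ} (h : DegLE G b) (N : Subgroup G) [N.Normal] :
    DegLE (G ⧸ N) b := by
  intro χ
  have h1 := h (CharX.infl N χ)
  rwa [deg_eq (IsIrrCharacter.isCharacter (CharX.infl N χ).2) (d := Cfsg.charDegree
    (χ : G ⧸ N → ℂ)) (by rw [CharX.infl_apply]; exact CharX.irr_deg χ)] at h1

/-- Determinant and trace of a linear involution. -/
theorem det_trace_involution {d : ℕ} (T : Module.End ℂ (Fin d → ℂ)) (hT : T * T = 1) :
    ∃ k ≤ d, LinearMap.det T = (-1) ^ k ∧ LinearMap.trace ℂ (Fin d → ℂ) T = (d : ℂ) - 2 * k ∧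
      (k = 0 → T = 1) ∧ (k = d → T = -1) := by
  set P : Module.End ℂ (Fin d → ℂ) := (1 / 2 : ℂ) • (1 - T) with hPdef
  have hP : IsIdempotentElem P := by
    show P * P = P
    have e : (1 - T) * (1 - T) = (2 : ℂ) • (1 - T) := by
      rw [two_smul]
      simp only [mul_sub, sub_mul, mul_one, one_mul, hT]
      abel
    rw [hPdef, smul_mul_smul_comm, e, smul_smul]
    norm_num
  have hproj : LinearMap.IsProj (LinearMap.range P) P := LinearMap.IsProj.mk
    (fun x => LinearMap.mem_range_self P x)
    (by
      rintro _ ⟨y, rfl⟩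
      exact LinearMap.congr_fun hP y)
  have hc := hproj.isCompl
  have hT' : T = 1 - (2 : ℂ) • P := by
    rw [hPdef, smul_smul]
    norm_num
  have hconj : T = (Submodule.prodEquivOfIsCompl _ _ hc).conj
      ((-(LinearMap.id : Module.End ℂ (LinearMap.range P))).prodMap LinearMap.id) := by
    have h2 := hproj.eq_conj_prodMap
    conv_lhs => rw [hT', h2]
    have h1 : (1 : Module.End ℂ (Fin d → ℂ)) =
        (Submodule.prodEquivOfIsCompl _ _ hc).conj LinearMap.id :=
      (LinearEquiv.conj_id _).symm
    rw [h1, ← map_smul, ← map_sub]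
    congr 1
    refine LinearMap.ext fun x => ?_
    ext <;> simp [two_smul]
  refine ⟨finrank ℂ (LinearMap.range P), ?_, ?_, ?_, fun h => ?_, fun h => ?_⟩
  · exact (Submodule.finrank_le _).trans (by simp)
  · rw [hconj, LinearEquiv.conj_apply, LinearMap.comp_assoc, LinearMap.det_conj,
      LinearMap.det_prodMap, LinearMap.det_id, mul_one,
      show -(LinearMap.id : Module.End ℂ (LinearMap.range P)) = (-1 : ℂ) • LinearMap.id from
        LinearMap.ext fun x => (neg_one_smul ℂ x).symm,
      LinearMap.det_smul, LinearMap.det_id, mul_one]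
  · conv_lhs => rw [hT', map_sub, map_smul, hproj.trace, LinearMap.trace_one]
    simp [smul_eq_mul]
  · have : LinearMap.range P = ⊥ := Submodule.finrank_eq_zero.1 h
    rw [hT', LinearMap.range_eq_bot.1 this, smul_zero, sub_zero]
  · have hr : LinearMap.range P = ⊤ := Submodule.eq_top_of_finrank_eq (by simp [h])
    have hid : P = 1 := LinearMap.ext fun x => hproj.map_id x (hr ▸ Submodule.mem_top)
    rw [hT', hid, two_smul]
    abel

/-- There is no non-abelian simple group all of whose irreducible degrees are at most four. -/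
theorem false_of_simple [Finite G] [IsSimpleGroup G] (hG : ¬ IsMulCommutative G)
    (h : DegLE G 4) : False := by
  classical
  haveI := Fintype.ofFinite G
  have hhom : ∀ f : G →* ℂˣ, ∀ g, f g = 1 := by
    intro f g
    rcases (inferInstance : f.ker.Normal).eq_bot_or_eq_top with h0 | h0
    · exact absurd ⟨⟨fun a b => (MonoidHom.ker_eq_bot_iff f).1 h0
        (by rw [map_mul, map_mul, mul_comm])⟩⟩ hG
    · exact f.mem_ker.1 (h0 ▸ Subgroup.mem_top g)
  have hone : ∀ χ : Cfsg.IrrCharacter G, χ ≠ principal G →
      2 ≤ Cfsg.charDegree (χ : G → ℂ) := by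
    intro χ hne
    by_contra hlt
    have h1 : Cfsg.charDegree (χ : G → ℂ) = 1 := by
      have := CharX.irr_deg_pos χ
      omega
    obtain ⟨f, hf⟩ := exists_hom_of_degree_one (IsIrrCharacter.isCharacter χ.2)
      (by rw [CharX.irr_deg, h1, Nat.cast_one])
    exact hne (Subtype.ext (by rw [hf]; funext g; simp [hhom f g, principal]))
  have h2 : 2 ∣ Nat.card G := by
    by_contra hodd
    have hdeg : ∀ χ : Cfsg.IrrCharacter G, χ ≠ principal G →
        Cfsg.charDegree (χ : G → ℂ) = 3 := by
      intro χ hne
      have h4 := h χ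
      have hd := CharX.irr_deg_dvd_card χ
      have := hone χ hne
      generalize Cfsg.charDegree (χ : G → ℂ) = d at h4 hd this ⊢
      interval_cases d
      · exact absurd hd hodd
      · rfl
      · exact absurd ((by norm_num : 2 ∣ 4).trans hd) hodd
    have hs := CharX.sum_deg_sq (G := G)
    rw [← Finset.add_sum_erase Finset.univ _ (Finset.mem_univ (principal G)),
      show Cfsg.charDegree ((principal G : Cfsg.IrrCharacter G) : G → ℂ) = 1 from
        CharX.charDegree_one, Finset.sum_congr rfl (g := fun _ => 9) (fun χ hχ => by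
          rw [hdeg χ (Finset.ne_of_mem_erase hχ)]; norm_num), Finset.sum_const, smul_eq_mul] at hs
    have h3 : 3 ∣ Nat.card G := by
      by_cases hex : ∃ χ : Cfsg.IrrCharacter G, χ ≠ principal G
      · obtain ⟨χ, hχ⟩ := hex
        exact hdeg χ hχ ▸ CharX.irr_deg_dvd_card χ
      · push Not at hex
        have hz : (Finset.univ.erase (principal G)).card = 0 := by
          rw [Finset.card_eq_zero]
          ext χ
          simp [hex χ]
        rw [hz] at hs
        haveI : Subsingleton G := (Nat.card_eq_one_iff_unique.1 (by omega)).1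
        exact absurd ⟨⟨fun a b => Subsingleton.elim _ _⟩⟩ hG
    obtain ⟨c, hc⟩ := h3
    omega
  obtain ⟨t, ht⟩ := exists_prime_orderOf_dvd_card' (G := G) 2 h2
  have ht1 : t ≠ 1 := fun e => by simp [e] at ht
  have hval : ∀ χ : Cfsg.IrrCharacter G, χ ≠ principal G →
      ∃ s : ℕ, (χ : G → ℂ) t * conj ((χ : G → ℂ) 1) = -(3 * (s : ℂ)) := by
    intro χ hne
    obtain ⟨d, ρ, hρ, he⟩ := χ.2
    have hd : Cfsg.charDegree (χ : G → ℂ) = d := deg_eq (IsIrrCharacter.isCharacter χ.2)
      (by rw [← he, Representation.char_one]; simp)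
    have hd2 := hone χ hne
    have hd4 := h χ
    rw [hd] at hd2 hd4
    have hker : ∀ g, ρ g = 1 → g = 1 := by
      rcases (inferInstance : (MonoidHom.ker ρ).Normal).eq_bot_or_eq_top with h0 | h0
      · intro g hg
        exact Subgroup.mem_bot.1 (h0 ▸ (MonoidHom.mem_ker.2 hg))
      · exfalso
        have hc : (χ : G → ℂ) = fun _ => (d : ℂ) := by
          funext g
          rw [← he, Representation.character,
            MonoidHom.mem_ker.1 (h0 ▸ Subgroup.mem_top g), LinearMap.trace_one]
          simp
        have h0' := classInner_irr_of_ne χ.2 (principal G).2 (fun e => hne (Subtype.ext e))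
        rw [hc, show (fun _ : G => (d : ℂ)) = (d : ℂ) • fun _ : G => (1 : ℂ) from
          funext fun _ => by simp, classInner_smul_left, show ((principal G : Cfsg.IrrCharacter G) :
          G → ℂ) = fun _ => (1 : ℂ) from rfl, classInner_self_irr isIrrCharacter_one] at h0'
        simp at h0'
        omega
    have hsq : ρ t * ρ t = 1 := by
      rw [← map_mul, ← sq, ← ht, pow_orderOf_eq_one, map_one]
    obtain ⟨k, hkd, hdet, htr, hk0, hkd'⟩ := det_trace_involution (ρ t) hsq
    have hdet1 : LinearMap.det (ρ t) = 1 := by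
      have := hhom (MonoidHom.toHomUnits ((LinearMap.det).comp ρ)) t
      simpa [MonoidHom.coe_toHomUnits] using congrArg Units.val this
    have hkne : k ≠ 0 := fun e => ht1 (hker t (hk0 e))
    have hkne' : k ≠ d := by
      intro e
      have hm := hkd' e
      have hcen : t ∈ Subgroup.center G := Subgroup.mem_center_iff.2 fun g => by
        have h1 : ρ (g * t * (t * g)⁻¹) = 1 := by
          have h2 : ρ (g * t) = ρ (t * g) := by
            rw [map_mul, map_mul, hm]
            exact LinearMap.ext fun x => by simp [Module.End.mul_apply]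
          rw [map_mul, h2, ← map_mul, mul_inv_cancel, map_one]
        exact mul_inv_eq_one.1 (hker _ h1)
      rcases (inferInstance : (Subgroup.center G).Normal).eq_bot_or_eq_top with h0 | h0
      · exact ht1 (Subgroup.mem_bot.1 (h0 ▸ hcen))
      · exact hG ⟨⟨fun a b => Subgroup.mem_center_iff.1 (h0 ▸ Subgroup.mem_top b) a⟩⟩
    have hk2 : k = 2 := by
      rw [hdet1] at hdet
      by_contra hk2
      have : k = 1 ∨ k = 3 := by omega
      rcases this with rfl | rfl <;> norm_num at hdet
    subst hk2
    have : d = 3 ∨ d = 4 := by omega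
    have hc1 : (χ : G → ℂ) 1 = (d : ℂ) := by rw [CharX.irr_deg, hd]
    have hct : (χ : G → ℂ) t = (d : ℂ) - 4 := by
      rw [← he, Representation.character, htr]; norm_num
    rw [hct, hc1, map_natCast]
    rcases this with rfl | rfl
    · exact ⟨1, by norm_num⟩
    · exact ⟨0, by norm_num⟩
  have horth := column_orth_of_not_isConj (g := t) (h := 1)
    (fun hc => ht1 (isConj_one_left.1 hc))
  rw [← Finset.add_sum_erase Finset.univ _ (Finset.mem_univ (principal G))] at horth
  choose! s hs using hval
  rw [Finset.sum_congr rfl (fun χ hχ => hs χ (Finset.ne_of_mem_erase hχ))] at horth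
  simp only [principal, map_one, mul_one] at horth
  rw [Finset.sum_neg_distrib, ← Finset.mul_sum, ← Nat.cast_sum, ← sub_eq_add_neg, sub_eq_zero]
    at horth
  have : 1 = 3 * ∑ χ ∈ Finset.univ.erase (principal G), s χ := by exact_mod_cast horth
  omega

/-- A group all of whose irreducible degrees are at most four is solvable. -/
theorem isSolvable_of_degLE_four : ∀ (G : Type u) [Group G] [Finite G],
    DegLE G 4 → Group.IsSolvable G := by
  suffices H : ∀ n : ℕ, ∀ (G : Type u) [Group G] [Finite G], Nat.card G = n →
      DegLE G 4 → Group.IsSolvable G from fun G _ _ h => H _ G rfl h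
  intro n
  induction n using Nat.strong_induction_on with
  | _ n ih =>
    intro G _ _ hn h
    by_cases hc : IsMulCommutative G
    · exact Group.isSolvable_of_comm fun a b => hc.is_comm.comm a b
    haveI : Nontrivial G := by
      by_contra hnt
      rw [not_nontrivial_iff_subsingleton] at hnt
      exact hc ⟨⟨fun a b => Subsingleton.elim _ _⟩⟩
    by_cases hs : IsSimpleGroup G
    · exact (false_of_simple hc h).elim
    obtain ⟨N, hN, hbot, htop⟩ : ∃ N : Subgroup G, N.Normal ∧ N ≠ ⊥ ∧ N ≠ ⊤ := by
      by_contra hne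
      push Not at hne
      exact hs ⟨fun N hN => or_iff_not_imp_left.2 (hne N hN)⟩
    haveI := hN
    have h1 : Nat.card N < n := by
      rw [← hn]
      exact lt_of_le_of_ne (Subgroup.card_le_card_group N) fun e =>
        htop (Subgroup.eq_top_of_card_eq N e)
    have h2 : Nat.card (G ⧸ N) < n := by
      rw [← hn, Subgroup.card_eq_card_quotient_mul_card_subgroup N]
      exact lt_mul_of_one_lt_right Nat.card_pos ((Subgroup.one_lt_card_iff_ne_bot N).2 hbot)
    haveI := ih _ h1 N rfl (h.subgroup N)
    haveI := ih _ h2 (G ⧸ N) rfl (h.quotient N)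
    exact Group.isSolvable_of_ker_le_range N.subtype (QuotientGroup.mk' N) (by simp)

end Cfsg.Agent.BoundedDegree
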