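/-
Groups whose degrees are one and a prime `p`.
-/
import Cfsg.Agent.Lib.Char.TwoDegrees
import Cfsg.Agent.Lib.Char.Orbit
import Cfsg.Agent.Lib.Transfer.PGroup

set_option linter.unusedSectionVars false
set_option linter.style.haveILetI false

namespace Cfsg.Agent.TwoDegrees

open Cfsg Cfsg.Agent.Char Cfsg.Agent.Blocks

open scoped ComplexConjugate commutatorElement Pointwise

universe u v

variable {G : Type u} [Group G] [Fintype G]

/-- The counting formula for the classes. -/
theorem classes_mul_card :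
    Nat.card (ConjClasses G) * Nat.card G =
      ∑ x : G, Nat.card (Subgroup.centralizer ({x} : Set G)) := by
  rw [← card_comm_eq_card_conjClasses_mul_card, ← Nat.card_sigma]
  refine Nat.card_congr
    { toFun := fun q => ⟨q.1.1, q.1.2, Subgroup.mem_centralizer_singleton_iff.2 q.2.symm.eq⟩
      invFun := fun q => ⟨(q.1, (q.2 : G)),
        (Subgroup.mem_centralizer_singleton_iff.1 q.2.2).symm⟩
      left_inv := fun q => rfl
      right_inv := fun q => rfl }

/-- The classes under a bound for the centralizers of non-central elements. -/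
theorem classes_le (b : ℕ)
    (hb : ∀ x : G, x ∉ Subgroup.center G → Nat.card (Subgroup.centralizer ({x} : Set G)) ≤ b) :
    Nat.card (ConjClasses G) * Nat.card G ≤ Nat.card (Subgroup.center G) * Nat.card G +
      (Nat.card G - Nat.card (Subgroup.center G)) * b := by
  classical
  rw [classes_mul_card, ← Finset.sum_filter_add_sum_filter_not Finset.univ
    (fun x : G => x ∈ Subgroup.center G)]
  have h1 : (Finset.univ.filter fun x : G => x ∈ Subgroup.center G).card =
      Nat.card (Subgroup.center G) := by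
    rw [← Fintype.card_subtype, ← Nat.card_eq_fintype_card]
  have h2 : (Finset.univ.filter fun x : G => ¬ x ∈ Subgroup.center G).card =
      Nat.card G - Nat.card (Subgroup.center G) := by
    have h3 := Finset.card_filter_add_card_filter_not (s := (Finset.univ : Finset G))
      (p := fun x : G => x ∈ Subgroup.center G)
    rw [Finset.card_univ, ← Nat.card_eq_fintype_card, h1] at h3
    omega
  gcongr
  · refine (Finset.sum_le_card_nsmul _ _ (Nat.card G) fun x _ =>
      Subgroup.card_le_card_group _).trans ?_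
    rw [smul_eq_mul, h1]
  · refine (Finset.sum_le_card_nsmul _ _ b fun x hx => hb x (Finset.mem_filter.1 hx).2).trans ?_
    rw [smul_eq_mul, h2]

/-- The order in terms of the number of classes and of linear characters. -/
theorem card_eq_degrees {p : ℕ} (hcd : CD G p) (hp1 : p ≠ 1) :
    Nat.card G + p ^ 2 * (commutator G).index =
      (commutator G).index + p ^ 2 * Nat.card (ConjClasses G) := by
  classical
  have h1 : ((∑ χ : IrrCharacter G, charDegree (χ : G → ℂ) ^ 2 : ℕ) : ℂ) = (Nat.card G : ℂ) := by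
    push_cast
    simp only [← irr_one_eq_charDegree]
    exact sum_sq_degree
  rw [Nat.cast_inj] at h1
  have hlin : (Finset.univ.filter fun χ : IrrCharacter G => charDegree (χ : G → ℂ) = 1).card =
      (commutator G).index := by
    rw [← card_linear, ← Fintype.card_subtype, ← Nat.card_eq_fintype_card]
    refine Nat.card_congr (Equiv.subtypeEquivRight fun χ => ?_)
    rw [irr_one_eq_charDegree]
    exact ⟨fun e => by rw [e, Nat.cast_one], fun e => by exact_mod_cast e⟩
  have hk : (Finset.univ : Finset (IrrCharacter G)).card = Nat.card (ConjClasses G) := by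
    rw [Finset.card_univ, ← Nat.card_eq_fintype_card, card_irrCharacter]
  have ha : ∑ χ ∈ Finset.univ.filter (fun χ : IrrCharacter G => charDegree (χ : G → ℂ) = 1),
      charDegree (χ : G → ℂ) ^ 2 = (commutator G).index := by
    rw [Finset.sum_congr rfl (g := fun _ => 1) fun χ hχ => by
      rw [(Finset.mem_filter.1 hχ).2, one_pow], Finset.sum_const, smul_eq_mul, mul_one, hlin]
  have hb : ∑ χ ∈ Finset.univ.filter (fun χ : IrrCharacter G => ¬ charDegree (χ : G → ℂ) = 1),
      charDegree (χ : G → ℂ) ^ 2 =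
      (Finset.univ.filter fun χ : IrrCharacter G => ¬ charDegree (χ : G → ℂ) = 1).card * p ^ 2 := by
    rw [Finset.sum_congr rfl (g := fun _ => p ^ 2) fun χ hχ => by
      rw [(hcd χ).resolve_left (Finset.mem_filter.1 hχ).2], Finset.sum_const, smul_eq_mul]
  rw [← h1, ← Finset.sum_filter_add_sum_filter_not Finset.univ
      (fun χ : IrrCharacter G => charDegree (χ : G → ℂ) = 1), ha, hb, ← hk,
    ← Finset.card_filter_add_card_filter_not (s := (Finset.univ : Finset (IrrCharacter G)))
      (fun χ : IrrCharacter G => charDegree (χ : G → ℂ) = 1), hlin]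
  ring

theorem card_le_sq {p : ℕ} (hcd : CD G p) (hp1 : 1 < p) :
    Nat.card G ≤ p ^ 2 * Nat.card (ConjClasses G) := by
  have h := card_eq_degrees hcd (by omega)
  have := Nat.le_mul_of_pos_left (commutator G).index (pow_pos (show 0 < p by omega) 2)
  omega

/-! ## The converse -/

/-- The square of a degree is at most the index of the centre. -/
theorem sq_le_index (χ : IrrCharacter G) :
    charDegree (χ : G → ℂ) ^ 2 ≤ (Subgroup.center G).index := by
  classical
  set d := charDegree (χ : G → ℂ) with hd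
  have hsum := classInner_self_irr χ.2
  rw [classInner, inv_mul_eq_iff_eq_mul₀ (Nat.cast_ne_zero.2 Nat.card_pos.ne'), mul_one] at hsum
  simp only [Complex.mul_conj, ← Complex.ofReal_sum] at hsum
  have hsum' : ∑ x : G, Complex.normSq ((χ : G → ℂ) x) = (Nat.card G : ℝ) := by exact_mod_cast hsum
  have hz : ∀ z ∈ Subgroup.center G, Complex.normSq ((χ : G → ℂ) z) = (d : ℝ) ^ 2 := by
    intro z hz
    obtain ⟨c, hc, hmul, -⟩ := IsIrrCharacter.exists_central_scalar χ.2 hz
    have h1 := hmul 1
    rw [mul_one] at h1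
    rw [h1, Complex.normSq_eq_norm_sq, norm_mul, hc, one_mul, irr_one_eq_charDegree,
      Complex.norm_natCast]
  have hle : (Nat.card (Subgroup.center G) : ℝ) * (d : ℝ) ^ 2 ≤ (Nat.card G : ℝ) := by
    rw [← hsum', ← Finset.sum_filter_add_sum_filter_not Finset.univ
      (fun x : G => x ∈ Subgroup.center G),
      Finset.sum_congr rfl fun x hx => hz x (Finset.mem_filter.1 hx).2, Finset.sum_const,
      nsmul_eq_mul, ← Fintype.card_subtype, ← Nat.card_eq_fintype_card]
    exact le_add_of_nonneg_right (Finset.sum_nonneg fun x _ => Complex.normSq_nonneg _)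
  have h2 : Nat.card (Subgroup.center G) * d ^ 2 ≤
      Nat.card (Subgroup.center G) * (Subgroup.center G).index := by
    rw [Subgroup.card_mul_index]; exact_mod_cast hle
  exact Nat.le_of_mul_le_mul_left h2 Nat.card_pos

theorem cd_of_abelian_index {p : ℕ} (hp : p.Prime) (A : Subgroup G) [A.Normal]
    (hA : ∀ a ∈ A, ∀ b ∈ A, a * b = b * a) (hidx : A.index = p) : CD G p := fun χ =>
  hp.eq_one_or_self_of_dvd _ (hidx ▸ Cfsg.Agent.Char.Ito.degree_dvd_index A
    ⟨⟨fun a b => Subtype.ext (hA _ a.2 _ b.2)⟩⟩ χ)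

theorem cd_of_center_index {p : ℕ} (hp : p.Prime) (hidx : (Subgroup.center G).index = p ^ 3) :
    CD G p := by
  intro χ
  have h1 := degree_dvd_index_center χ.2 (irr_one_eq_charDegree χ)
  have h2 := sq_le_index χ
  rw [hidx] at h1 h2
  obtain ⟨i, -, hi⟩ := (Nat.dvd_prime_pow hp).1 h1
  rw [hi, ← pow_mul] at h2
  have h3 := (Nat.pow_le_pow_iff_right hp.one_lt).1 h2
  rcases i with _ | _ | i
  · exact Or.inl (by simpa using hi)
  · exact Or.inr (by simpa using hi)
  · omega

/-! ## Nilpotent groups -/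

section Nilpotent

variable [Group.IsNilpotent G] {p : ℕ}

/-- The common value of the differences for two characters with different stabilizers. -/
theorem exists_delta (hp : p.Prime) (hcd : CD G p) (A : Subgroup G) [A.Normal]
    {l m : A →* ℂˣ} (hl : stab A l ≠ ⊤) (hm : stab A m ≠ ⊤) (hne : stab A l ≠ stab A m) :
    ∃ d : A →* ℂˣ, d ≠ 1 ∧ d ^ p = 1 ∧ (∀ g : G, ∃ j : ℕ, act A l g = l * d ^ j) ∧
      (∀ g : G, ∃ j : ℕ, act A m g = m * d ^ j) := by
  classical
  haveI := Fact.mk hp
  have hil := stab_index A hcd hp hl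
  have him := stab_index A hcd hp hm
  have hln : (stab A l).Normal := normal_of_commutator_le (comm_le_of_index hcd hp.ne_one _ hil)
  have hmn : (stab A m).Normal := normal_of_commutator_le (comm_le_of_index hcd hp.ne_one _ him)
  have hcard : ∀ T : Subgroup G, T.index = p → ∀ T' : Subgroup G, T'.index = p → T ≤ T' →
      T = T' := by
    intro T hT T' hT' hle
    refine Subgroup.eq_of_le_of_card_ge hle (le_of_eq ?_)
    have h1 := T'.card_mul_index
    rw [← T.card_mul_index, hT, hT'] at h1
    exact Nat.eq_of_mul_eq_mul_right hp.pos h1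
  obtain ⟨e, hem, hel⟩ : ∃ e, e ∈ stab A m ∧ e ∉ stab A l := SetLike.not_le_iff_exists.1
    fun h => hne (hcard _ him _ hil h).symm
  obtain ⟨f, hfl, hfm⟩ : ∃ f, f ∈ stab A l ∧ f ∉ stab A m := SetLike.not_le_iff_exists.1
    fun h => hne (hcard _ hil _ him h)
  -- powers of an element outside a stabilizer of prime index
  have gen : ∀ (k : A →* ℂˣ), stab A k ≠ ⊤ → ∀ x, x ∉ stab A k →
      ∀ g : G, ∃ i : ℕ, act A k g = act A k (x ^ i) := by
    intro k hk x hx g
    have hi := stab_index A hcd hp hk
    haveI := normal_of_commutator_le (comm_le_of_index hcd hp.ne_one _ hi)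
    have hc : Nat.card (G ⧸ stab A k) = p := by rw [← Subgroup.index_eq_card, hi]
    obtain ⟨i, hi'⟩ := Submonoid.mem_powers_iff _ _ |>.1 (mem_powers_of_prime_card
      (g := (x : G ⧸ stab A k)) (g' := (g : G ⧸ stab A k)) hc
      (fun h => hx ((QuotientGroup.eq_one_iff x).1 h)))
    refine ⟨i, ?_⟩
    have h1 : g * (x ^ i)⁻¹ ∈ stab A k := by
      rw [← QuotientGroup.eq_one_iff, QuotientGroup.mk_mul, QuotientGroup.mk_inv,
        QuotientGroup.mk_pow, hi', mul_inv_cancel]
    conv_lhs => rw [← inv_mul_cancel_right g (x ^ i)]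
    rw [← act_mul, (mem_stab A).1 h1]
  have h3 : f ∉ stab A (l * m) := fun h => hfm ((mem_stab A).2 (mul_left_cancel (a := l) (by
    have := (mem_stab A).1 h
    rwa [act_hom_mul, (mem_stab A).1 hfl] at this)))
  have h3' : stab A (l * m) ≠ ⊤ := fun h => h3 (h ▸ Subgroup.mem_top f)
  obtain ⟨i, hi⟩ := gen (l * m) h3' f h3 e
  rw [act_hom_mul, act_hom_mul, (mem_stab A).1 hem, (mem_stab A).1 (pow_mem hfl i)] at hi
  have hconj : ∀ (k : A →* ℂˣ), (stab A k).Normal → ∀ g t : G, t ∈ stab A k →
      act A (act A k g) t = act A k g := by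
    intro k hk g t ht
    rw [act_mul, show g * t = g * t * g⁻¹ * g by group, ← act_mul,
      (mem_stab A).1 (hk.conj_mem t ht g)]
  set d := act A l e * l⁻¹ with hd
  have hd2 : d = act A m (f ^ i) * m⁻¹ := MonoidHom.ext fun n => by
    have h := DFunLike.congr_fun hi n
    simp only [hd, MonoidHom.mul_apply, MonoidHom.inv_apply] at h ⊢
    rw [← eq_mul_inv_iff_mul_eq] at h
    rw [h, mul_assoc (l n), mul_comm (l n), mul_inv_cancel_right]
  have hfix : ∀ g : G, act A d g = d := by
    have hsub : stab A l ⊔ stab A m = ⊤ := by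
      have h1 : (stab A l ⊔ stab A m).index ∣ p := hil ▸ Subgroup.index_dvd_of_le le_sup_left
      rcases hp.eq_one_or_self_of_dvd _ h1 with h2 | h2
      · exact Subgroup.index_eq_one.1 h2
      · exact absurd ((hcard _ hil _ h2 le_sup_left) ▸ le_sup_right : stab A m ≤ stab A l)
          fun h => hne (hcard _ him _ hil h).symm
    intro g
    refine (mem_stab A).1 ((sup_le (fun t ht => ?_) (fun t ht => ?_) :
      stab A l ⊔ stab A m ≤ stab A d) (hsub ▸ Subgroup.mem_top g))
    · rw [mem_stab, hd, act_hom_mul, act_hom_inv, (mem_stab A).1 ht, hconj l hln e t ht]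
    · rw [mem_stab, hd2, act_hom_mul, act_hom_inv, (mem_stab A).1 ht, hconj m hmn _ t ht]
  have hpw : ∀ (k : A →* ℂˣ) (x : G), act A k x = k * d → ∀ j : ℕ, act A k (x ^ j) = k * d ^ j := by
    intro k x hx j
    induction j with
    | zero => rw [pow_zero, act_one]; exact MonoidHom.ext fun n => by simp
    | succ j ih =>
      rw [pow_succ, ← act_mul, ih, act_hom_mul, hx, act_hom_pow, hfix]
      exact MonoidHom.ext fun n => by simp [pow_succ']; ac_rfl
  have hle : act A l e = l * d := MonoidHom.ext fun n => by simp [hd]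
  have hmf : act A m (f ^ i) = m * d := MonoidHom.ext fun n => by rw [hd2]; simp
  have hd1 : d ≠ 1 := fun h => hel ((mem_stab A).2 (by
    rw [hle, h]; exact MonoidHom.ext fun n => by simp))
  have hfi : f ^ i ∉ stab A m := fun h => hd1 (MonoidHom.ext fun n => by
    rw [hd2, (mem_stab A).1 h]; simp)
  refine ⟨d, hd1, ?_, fun g => ?_, fun g => ?_⟩
  · have h1 : e ^ p ∈ stab A l := by
      rw [← QuotientGroup.eq_one_iff, QuotientGroup.mk_pow, ← hil, Subgroup.index_eq_card,
        pow_card_eq_one']
    have h2 := hpw l e hle p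
    rw [(mem_stab A).1 h1] at h2
    refine MonoidHom.ext fun n => ?_
    have h4 := DFunLike.congr_fun h2 n
    simp only [MonoidHom.mul_apply, MonoidHom.pow_apply, left_eq_mul] at h4
    simpa using h4
  · obtain ⟨j, hj⟩ := gen l hl e hel g
    exact ⟨j, hj.trans (hpw l e hle j)⟩
  · obtain ⟨j, hj⟩ := gen m hm _ hfi g
    exact ⟨j, hj.trans (hpw m _ hmf j)⟩

/-- A self-centralizing abelian normal subgroup contains the centre with index at most `p`. -/
theorem relIndex_le (hp : p.Prime) (hcd : CD G p)
    (hno : ∀ B : Subgroup G, B.Normal → (∀ a ∈ B, ∀ b ∈ B, a * b = b * a) → B.index ≠ p)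
    (A : Subgroup G) [A.Normal] (hab : ∀ a ∈ A, ∀ b ∈ A, a * b = b * a)
    (hC : Subgroup.centralizer (A : Set G) = A) : (Subgroup.center G).relIndex A ≤ p := by
  classical
  haveI := Fact.mk hp
  by_cases hall : ∀ l : A →* ℂˣ, stab A l = ⊤
  · -- everything is central
    have hAc : A ≤ Subgroup.center G := fun a ha => Subgroup.mem_center_iff.2 fun g =>
      commute_of_fix A hab (fun l => (mem_stab A).1 (hall l ▸ Subgroup.mem_top g)) ha
    rw [Subgroup.relIndex_eq_one.2 hAc]
    exact hp.one_lt.le
  push Not at hall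
  obtain ⟨l, hl⟩ := hall
  obtain ⟨m, hm, hne⟩ : ∃ m, stab A m ≠ ⊤ ∧ stab A l ≠ stab A m := by
    by_contra hcon
    push Not at hcon
    refine hno _ (normal_of_commutator_le
      (comm_le_of_index hcd hp.ne_one _ (stab_index A hcd hp hl))) ?_ (stab_index A hcd hp hl)
    have hfixall : ∀ g ∈ stab A l, ∀ k, act A k g = k := fun g hg k => (mem_stab A).1 (by
      by_cases hk : stab A k = ⊤
      · exact hk ▸ Subgroup.mem_top g
      · exact hcon k hk ▸ hg)
    have hle : stab A l ≤ A := fun g hg => hC ▸ Subgroup.mem_centralizer_iff.2 fun a ha =>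
      (commute_of_fix A hab (hfixall g hg) ha).symm
    exact fun a ha b hb => hab a (hle ha) b (hle hb)
  obtain ⟨d, hd1, hdp, hdl, hdm⟩ := exists_delta hp hcd A hl hm hne
  -- powers of `d` form a group of prime order
  have hswap : ∀ (d' : A →* ℂˣ) (k : A →* ℂˣ), stab A k ≠ ⊤ → d' ^ p = 1 →
      (∀ g, ∃ j : ℕ, act A k g = k * d ^ j) → (∀ g, ∃ j : ℕ, act A k g = k * d' ^ j) →
      ∀ n : A, d n = 1 → d' n = 1 := by
    intro d' k hk hd'p h1 h2 n hn
    obtain ⟨g, hg⟩ : ∃ g, g ∉ stab A k := by
      by_contra h; push Not at h; exact hk ((Subgroup.eq_top_iff' _).2 h)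
    obtain ⟨j, hj⟩ := h1 g
    obtain ⟨j', hj'⟩ := h2 g
    have h3 : d' n ^ j' = 1 := by
      have := DFunLike.congr_fun (hj.symm.trans hj') n
      simp only [MonoidHom.mul_apply, MonoidHom.pow_apply, hn, one_pow, mul_one, left_eq_mul] at this
      exact this
    have h4 : ¬ p ∣ j' := fun ⟨c, hc⟩ => hg ((mem_stab A).2 (by
      rw [hj', hc]; rw [show d' ^ (p * c) = 1 from MonoidHom.ext fun x => by
        rw [MonoidHom.pow_apply, pow_mul, ← MonoidHom.pow_apply, hd'p]; simp]; exact MonoidHom.ext fun x => by simp))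
    have h5 : d' n ^ p = 1 := by
      rw [← MonoidHom.pow_apply, hd'p, MonoidHom.one_apply]
    exact orderOf_eq_one_iff.1 (Nat.eq_one_of_dvd_coprimes (hp.coprime_iff_not_dvd.2 h4)
      (orderOf_dvd_of_pow_eq_one h5) (orderOf_dvd_of_pow_eq_one h3))
  have hker : ∀ n : A, d n = 1 → ∀ (k : A →* ℂˣ) (g : G), act A k g n = k n := by
    intro n hn k g
    by_cases hk : stab A k = ⊤
    · exact DFunLike.congr_fun ((mem_stab A).1 (hk ▸ Subgroup.mem_top g)) n
    have hmain : ∀ k' : A →* ℂˣ, stab A k' ≠ ⊤ → stab A k' ≠ stab A k →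
        (∀ g, ∃ j : ℕ, act A k' g = k' * d ^ j) → act A k g n = k n := by
      intro k' hk' hne' hdk'
      obtain ⟨d', hd'1, hd'p, hdk, hdk2⟩ := exists_delta hp hcd A hk' hk hne'
      have hn' := hswap d' k' hk' hd'p hdk' hdk n hn
      obtain ⟨j, hj⟩ := hdk2 g
      rw [hj, MonoidHom.mul_apply, MonoidHom.pow_apply, hn', one_pow, mul_one]
    by_cases hlk : stab A l = stab A k
    · exact hmain m hm (fun e => hne (hlk.trans e.symm)) hdm
    · exact hmain l hl hlk hdl
  have hle : d.ker ≤ (Subgroup.center G).subgroupOf A := by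
    intro n hn
    rw [Subgroup.mem_subgroupOf, Subgroup.mem_center_iff]
    intro g
    have h := congrArg Subtype.val (separate A hab (x := conjHom A g n) (y := n)
      fun k => hker n (MonoidHom.mem_ker.1 hn) k g)
    rw [conjHom_coe, mul_inv_eq_iff_eq_mul] at h
    exact h
  refine (Nat.le_of_dvd ?_ (Subgroup.index_dvd_of_le hle)).trans ?_
  · exact Nat.pos_of_ne_zero Subgroup.index_ne_zero_of_finite
  rw [Subgroup.index_ker]
  have hsub : ∀ z ∈ d.range, ((z : ℂˣ) : ℂ) ∈ (Polynomial.nthRoots p (1 : ℂ)).toFinset := by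
    rintro z ⟨n, rfl⟩
    rw [Multiset.mem_toFinset, Polynomial.mem_nthRoots hp.pos, ← Units.val_pow_eq_pow_val,
      ← MonoidHom.pow_apply, hdp, MonoidHom.one_apply, Units.val_one]
  refine le_trans ?_ ((Multiset.toFinset_card_le _).trans (Polynomial.card_nthRoots p (1 : ℂ)))
  rw [← Nat.card_eq_finsetCard]
  exact Nat.card_le_card_of_injective (fun z => ⟨_, hsub z z.2⟩)
    fun a b h => Subtype.ext (Units.ext (congrArg (fun t : _ => (t.1 : ℂ)) h))

/-- The index of the centre in a nilpotent group. -/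
theorem center_index (hp : p.Prime) (hcd : CD G p)
    (hno : ∀ B : Subgroup G, B.Normal → (∀ a ∈ B, ∀ b ∈ B, a * b = b * a) → B.index ≠ p)
    (hna : ∃ a b : G, a * b ≠ b * a) {n : ℕ} (hn : (Subgroup.center G).index = p ^ n) :
    (Subgroup.center G).index = p ^ 3 := by
  classical
  haveI := Fact.mk hp
  set Z := Subgroup.center G with hZ
  have hZab : ∀ a ∈ Z, ∀ b ∈ Z, a * b = b * a := fun a ha b _ =>
    (Subgroup.mem_center_iff.1 ha b).symm
  -- abelian normal subgroups above the centre
  have habrel : ∀ B : Subgroup G, B.Normal → (∀ a ∈ B, ∀ b ∈ B, a * b = b * a) → Z ≤ B →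
      B ≠ Z → Z.relIndex B = p ∧ Subgroup.centralizer (B : Set G) = B := by
    intro B hBn hBab hZB hBZ
    obtain ⟨A, hBA, ⟨hAn, hAab⟩, hAmax⟩ := (Set.toFinite
      {A : Subgroup G | A.Normal ∧ ∀ a ∈ A, ∀ b ∈ A, a * b = b * a}).exists_le_maximal
      (show B ∈ _ from ⟨hBn, hBab⟩)
    haveI := hAn
    have hC : Subgroup.centralizer (A : Set G) = A :=
      Cfsg.Agent.PGroupBasics.centralizer_eq_of_maximal A
        ⟨⟨fun a b => Subtype.ext (hAab _ a.2 _ b.2)⟩⟩
        fun D hD hDc hAD => le_antisymm
          (hAmax ⟨hD, fun a ha b hb =>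
            congrArg Subtype.val (hDc.is_comm.comm ⟨a, ha⟩ ⟨b, hb⟩)⟩ hAD) hAD
    have hle := relIndex_le hp hcd hno A hAab hC
    have hdvd : Z.relIndex A ∣ p ^ n :=
      hn ▸ Subgroup.relIndex_dvd_index_of_le (hZB.trans hBA)
    have hmul := Subgroup.relIndex_mul_relIndex Z B A hZB hBA
    obtain ⟨i, -, hi⟩ := (Nat.dvd_prime_pow hp).1 hdvd
    have hB1 : Z.relIndex B ≠ 1 := fun h => hBZ (le_antisymm (Subgroup.relIndex_eq_one.1 h) hZB)
    have hA : Z.relIndex A = p := by
      rcases i with _ | _ | i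
      · rw [hi, pow_zero] at hmul
        exact absurd (Nat.eq_one_of_mul_eq_one_right hmul) hB1
      · simpa using hi
      · exfalso
        rw [hi] at hle
        have : p ^ 2 ≤ p ^ (i + 1 + 1) := Nat.pow_le_pow_right hp.pos (by omega)
        nlinarith [hp.two_le]
    rw [hA] at hmul
    have hBp : Z.relIndex B = p :=
      (hp.eq_one_or_self_of_dvd _ ⟨_, hmul.symm⟩).resolve_left hB1
    refine ⟨hBp, ?_⟩
    rw [hBp] at hmul
    have h1 : B.relIndex A = 1 := by
      have := hp.pos
      nlinarith
    rw [show B = A from le_antisymm hBA (Subgroup.relIndex_eq_one.1 h1), hC]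
  -- at least three
  have hn3 : 3 ≤ n := by
    by_contra hlt
    obtain ⟨a, b, hab'⟩ := hna
    have haZ : a ∉ Z := fun h => hab' (Subgroup.mem_center_iff.1 h b).symm
    obtain ⟨A, ⟨hAn, hAc⟩, hAmax⟩ := (Set.toFinite
      {A : Subgroup G | A.Normal ∧ ∀ a ∈ A, ∀ b ∈ A, a * b = b * a}).exists_maximal
      ⟨Z, inferInstance, hZab⟩
    haveI := hAn
    have hC : Subgroup.centralizer (A : Set G) = A :=
      Cfsg.Agent.PGroupBasics.centralizer_eq_of_maximal A
        ⟨⟨fun a b => Subtype.ext (hAc _ a.2 _ b.2)⟩⟩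
        fun D hD hDc hAD => le_antisymm
          (hAmax ⟨hD, fun a ha b hb =>
            congrArg Subtype.val (hDc.is_comm.comm ⟨a, ha⟩ ⟨b, hb⟩)⟩ hAD) hAD
    have hZA : Z ≤ A := by rw [← hC]; exact Subgroup.center_le_centralizer _
    by_cases hAZ : A = Z
    · rw [hAZ, hZ] at hC
      refine haZ ?_
      rw [hZ, ← hC, Subgroup.mem_centralizer_iff]
      exact fun z hz => (Subgroup.mem_center_iff.1 hz a).symm
    obtain ⟨hr, -⟩ := habrel A hAn hAc hZA hAZ
    have hmul := Subgroup.relIndex_mul_index hZA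
    rw [hr, hn] at hmul
    rcases n with _ | _ | _ | n
    · simp only [pow_zero] at hmul
      exact hp.ne_one (Nat.eq_one_of_mul_eq_one_right hmul)
    · simp only [zero_add, pow_one] at hmul
      have h1 : A.index = 1 := by have := hp.pos; nlinarith
      rw [Subgroup.index_eq_one] at h1
      exact hab' (hAc a (h1 ▸ Subgroup.mem_top a) b (h1 ▸ Subgroup.mem_top b))
    · refine hno A hAn hAc (Nat.eq_of_mul_eq_mul_left hp.pos ?_)
      rw [hmul]; ring
    · omega
  suffices hle : n ≤ 3 by rw [hn, le_antisymm hle hn3]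
  have hcardG : Nat.card G = Nat.card Z * p ^ n := by rw [← hn, Subgroup.card_mul_index]
  by_cases hcl : commutator G ≤ Z
  · -- class two
    have hbound : ∀ x : G, x ∉ Subgroup.center G →
        Nat.card (Subgroup.centralizer ({x} : Set G)) ≤ p * Nat.card Z := by
      intro x hx
      set B := Z ⊔ Subgroup.zpowers x with hB
      have hcomm : ∀ (s : Set G), (∀ a ∈ s, ∀ b ∈ s, a * b = b * a) →
          ∀ a ∈ Z ⊔ Subgroup.closure s, ∀ b ∈ Z ⊔ Subgroup.closure s, a * b = b * a := by
        intro s hs a ha b hb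
        rw [← Subgroup.closure_eq Z, ← Subgroup.closure_union] at ha hb
        refine Subgroup.closure_induction₂ (p := fun a b _ _ => Commute a b) ?_ ?_ ?_ ?_ ?_ ?_ ?_
          ha hb
        · rintro a b (ha | ha) (hb | hb)
          · exact hZab a ha b hb
          · exact (Subgroup.mem_center_iff.1 ha b).symm
          · exact Subgroup.mem_center_iff.1 hb a
          · exact hs a ha b hb
        · exact fun x _ => Commute.one_left x
        · exact fun x _ => Commute.one_right x
        · exact fun _ _ _ _ _ _ h1 h2 => h1.mul_left h2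
        · exact fun _ _ _ _ _ _ h1 h2 => h1.mul_right h2
        · exact fun _ _ _ _ h1 => h1.inv_left
        · exact fun _ _ _ _ h1 => h1.inv_right
      have hBn : ∀ D : Subgroup G, Z ≤ D → D.Normal := fun D hD =>
        normal_of_commutator_le (hcl.trans hD)
      have hxB : x ∈ B := Subgroup.mem_sup_right (Subgroup.mem_zpowers x)
      obtain ⟨hr, -⟩ := habrel B (hBn B le_sup_left)
        (by rw [hB, Subgroup.zpowers_eq_closure]; exact hcomm {x} (by simp))
        le_sup_left (fun h => hx ((le_of_eq h) hxB))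
      have hsub : Subgroup.centralizer ({x} : Set G) ≤ B := by
        intro y hy
        have hxy : x * y = y * x := (Subgroup.mem_centralizer_singleton_iff.1 hy).symm
        set D := Z ⊔ Subgroup.closure ({x, y} : Set G) with hD
        have hxD : x ∈ D := Subgroup.mem_sup_right (Subgroup.subset_closure (by simp))
        obtain ⟨hr', -⟩ := habrel D (hBn D le_sup_left)
          (hcomm {x, y} (by
            rintro a (rfl | rfl) b (rfl | rfl) <;> first | rfl | exact hxy | exact hxy.symm))
          le_sup_left (fun h => hx ((le_of_eq h) hxD))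
        have hBD : B ≤ D := sup_le le_sup_left (Subgroup.zpowers_le.2 hxD)
        have hmul := Subgroup.relIndex_mul_relIndex Z B D le_sup_left hBD
        rw [hr, hr'] at hmul
        have h1 : B.relIndex D = 1 := by have := hp.pos; nlinarith
        exact Subgroup.relIndex_eq_one.1 h1 (Subgroup.mem_sup_right (Subgroup.subset_closure (by simp)))
      refine (Subgroup.card_le_of_le hsub).trans (le_of_eq ?_)
      have := Subgroup.card_mul_index (Z.subgroupOf B)
      rw [Nat.card_congr (Subgroup.subgroupOfEquivOfLe (le_sup_left : Z ≤ B)).toEquiv] at this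
      rw [← this, ← hr, Subgroup.relIndex]
      ring
    have h1 := classes_le (p * Nat.card Z) hbound
    have h2 := card_le_sq hcd hp.one_lt
    by_contra hlt
    have hk : Nat.card (ConjClasses G) * Nat.card G ≤
        (Nat.card Z + p * Nat.card Z) * Nat.card G := by
      refine h1.trans ?_
      rw [add_mul, mul_comm (p * Nat.card Z) (Nat.card G)]
      gcongr
      exact Nat.sub_le _ _
    have hk' := Nat.le_of_mul_le_mul_right hk Nat.card_pos
    have h3 : Nat.card Z * p ^ n ≤ Nat.card Z * (p ^ 2 * (1 + p)) := by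
      rw [← hcardG]; nlinarith
    have h4 := Nat.le_of_mul_le_mul_left h3 Nat.card_pos
    have h5 : p ^ 4 ≤ p ^ n := Nat.pow_le_pow_right hp.pos (by omega)
    have h6 : p ^ 2 * (1 + p) < p ^ 2 * p ^ 2 :=
      Nat.mul_lt_mul_of_pos_left (by nlinarith [hp.two_le]) (pow_pos hp.pos 2)
    rw [← pow_add, show 2 + 2 = 4 from rfl] at h6
    omega
  · -- class at least three
    have hGc := commute_commutator hcd hp.ne_one
    set A := Z ⊔ commutator G with hA
    have hAn : A.Normal := normal_of_commutator_le le_sup_right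
    haveI := hAn
    have hAab : ∀ a ∈ A, ∀ b ∈ A, a * b = b * a := by
      intro a ha b hb
      rw [hA, ← Subgroup.closure_eq Z, ← Subgroup.closure_eq (commutator G),
        ← Subgroup.closure_union] at ha hb
      refine Subgroup.closure_induction₂ (p := fun a b _ _ => Commute a b) ?_ ?_ ?_ ?_ ?_ ?_ ?_
        ha hb
      · rintro a b (ha | ha) (hb | hb)
        · exact hZab a ha b hb
        · exact (Subgroup.mem_center_iff.1 ha b).symm
        · exact Subgroup.mem_center_iff.1 hb a
        · exact hGc a ha b hb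
      · exact fun x _ => Commute.one_left x
      · exact fun x _ => Commute.one_right x
      · exact fun _ _ _ _ _ _ h1 h2 => h1.mul_left h2
      · exact fun _ _ _ _ _ _ h1 h2 => h1.mul_right h2
      · exact fun _ _ _ _ h1 => h1.inv_left
      · exact fun _ _ _ _ h1 => h1.inv_right
    obtain ⟨hr, hC⟩ := habrel A hAn hAab le_sup_left
      (fun h => hcl (le_sup_right.trans (le_of_eq h)))
    set φ := QuotientGroup.mk' Z with hφ
    haveI : Fintype (G ⧸ Z) := Fintype.ofFinite _
    have hφs : Function.Surjective φ := QuotientGroup.mk'_surjective Z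
    have hQ : Nat.card (G ⧸ Z) = p ^ n := by rw [← Subgroup.index_eq_card, hn]
    have hmapA : A.map φ = commutator (G ⧸ Z) := by
      rw [hA, Subgroup.map_sup, show Z.map φ = ⊥ by
        rw [Subgroup.map_eq_bot_iff, hφ, QuotientGroup.ker_mk'], bot_sup_eq, commutator_def,
        commutator_def, Subgroup.map_commutator, Subgroup.map_top_of_surjective φ hφs]
    have hidx : (commutator (G ⧸ Z)).index * p = p ^ n := by
      rw [← hmapA, Subgroup.index_map_eq A hφs (by rw [hφ, QuotientGroup.ker_mk']; exact le_sup_left),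
        ← hn, mul_comm, ← hr]
      exact Subgroup.relIndex_mul_index le_sup_left
    have hcardc : Nat.card (commutator (G ⧸ Z)) = p := by
      have h1 := (commutator (G ⧸ Z)).card_mul_index
      rw [hQ, ← hidx, mul_comm] at h1
      exact Nat.eq_of_mul_eq_mul_left
        (Nat.pos_of_ne_zero Subgroup.index_ne_zero_of_finite) h1
    have hcenle : Subgroup.center (G ⧸ Z) ≤ commutator (G ⧸ Z) := by
      intro q hq
      obtain ⟨b, rfl⟩ := hφs q
      rw [← hmapA]
      refine ⟨b, ?_, rfl⟩
      have hb : ∀ g : G, ⁅b, g⁆ ∈ Z := fun g => by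
        rw [← QuotientGroup.eq_one_iff]
        show φ ⁅b, g⁆ = 1
        rw [map_commutatorElement, commutatorElement_eq_one_iff_mul_comm]
        exact (Subgroup.mem_center_iff.1 hq (φ g)).symm
      have hhom : ∀ g h : G, ⁅b, g * h⁆ = ⁅b, g⁆ * ⁅b, h⁆ := fun g h => by
        rw [show ⁅b, g * h⁆ = ⁅b, g⁆ * (g * ⁅b, h⁆ * g⁻¹) by
            simp only [commutatorElement_def]; group,
          Subgroup.mem_center_iff.1 (hb h) g, mul_inv_cancel_right]
      let c : G →* Z :=
        { toFun := fun g => ⟨⁅b, g⁆, hb g⟩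
          map_one' := Subtype.ext (by simp)
          map_mul' := fun g h => Subtype.ext (hhom g h) }
      letI : CommGroup Z := { (inferInstance : Group Z) with
        mul_comm := fun a b => Subtype.ext (hZab _ a.2 _ b.2) }
      have hk : ∀ g ∈ commutator G, g * b = b * g := fun g hg => by
        have h1 := MonoidHom.mem_ker.1 (Abelianization.commutator_subset_ker c hg)
        exact (commutatorElement_eq_one_iff_mul_comm.1 (congrArg Subtype.val h1)).symm
      rw [← hC, SetLike.mem_coe, Subgroup.mem_centralizer_iff]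
      have hAle : A ≤ Subgroup.centralizer ({b} : Set G) := sup_le
        (fun z hz => Subgroup.mem_centralizer_singleton_iff.2 (Subgroup.mem_center_iff.1 hz b).symm)
        (fun z hz => Subgroup.mem_centralizer_singleton_iff.2 (hk z hz))
      exact fun a ha => Subgroup.mem_centralizer_singleton_iff.1 (hAle ha)
    have hbound : ∀ q : G ⧸ Z, q ∉ Subgroup.center (G ⧸ Z) →
        Nat.card (Subgroup.centralizer ({q} : Set (G ⧸ Z))) ≤ p ^ (n - 1) := by
      intro q hq
      have hd := Subgroup.card_subgroup_dvd_card (Subgroup.centralizer ({q} : Set (G ⧸ Z)))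
      rw [hQ] at hd
      obtain ⟨i, hi, hie⟩ := (Nat.dvd_prime_pow hp).1 hd
      rw [hie]
      refine Nat.pow_le_pow_right hp.pos ?_
      rcases eq_or_lt_of_le hi with h | h
      · refine absurd (Subgroup.mem_center_iff.2 fun g => ?_) hq
        have htop : Subgroup.centralizer ({q} : Set (G ⧸ Z)) = ⊤ :=
          Subgroup.eq_top_of_card_eq _ (by rw [hie, hQ, h])
        exact Subgroup.mem_centralizer_singleton_iff.1
          ((Subgroup.eq_top_iff' _).1 htop g)
      · omega
    have h1 := classes_le (p ^ (n - 1)) hbound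
    have h2 := card_eq_degrees (hcd.quot Z) hp.ne_one
    have h3 : Nat.card (Subgroup.center (G ⧸ Z)) ≤ p := hcardc ▸ Subgroup.card_le_of_le hcenle
    have h4 : (commutator (G ⧸ Z)).index = p ^ (n - 1) := by
      refine Nat.eq_of_mul_eq_mul_right hp.pos ?_
      rw [hidx, ← pow_succ, Nat.sub_add_cancel (by omega)]
    obtain ⟨j, rfl⟩ : ∃ j, n = j + 1 := ⟨n - 1, by omega⟩
    rw [hQ, Nat.add_sub_cancel] at h1
    rw [hQ, h4, Nat.add_sub_cancel] at h2
    set k := Nat.card (ConjClasses (G ⧸ Z)) with hkdef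
    set c := Nat.card (Subgroup.center (G ⧸ Z)) with hc
    have hpj : 0 < p ^ j := pow_pos hp.pos j
    rw [pow_succ] at h1 h2
    have hk : k * p ≤ c * p + (p ^ j * p - c) := by
      refine Nat.le_of_mul_le_mul_right ?_ hpj
      calc k * p * p ^ j = k * (p ^ j * p) := by ring
        _ ≤ c * (p ^ j * p) + (p ^ j * p - c) * p ^ j := h1
        _ = (c * p + (p ^ j * p - c)) * p ^ j := by ring
    have hcpos : 0 < c := Nat.card_pos
    have hcle : c ≤ p ^ j * p := by
      rw [← pow_succ, ← hQ]; exact Subgroup.card_le_card_group _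
    have hk2 : k + 1 ≤ p + p ^ j := by
      have hk' : k * p + c ≤ c * p + p ^ j * p := by omega
      obtain ⟨t, ht⟩ : ∃ t, p = t + 1 := ⟨p - 1, by have := hp.pos; omega⟩
      have h6 : c * t ≤ p * t := Nat.mul_le_mul_right t h3
      have h7 : c * p = c * t + c := by rw [ht]; ring
      have h8 : p * p = p * t + p := by rw [ht]; ring
      refine Nat.le_of_mul_le_mul_right (c := p) ?_ hp.pos
      rw [add_mul, add_mul, one_mul]
      omega
    have h5 : p ^ j * p + p ^ 2 ≤ p ^ j + p ^ 2 * p := by
      have h6 := Nat.mul_le_mul_left (p ^ 2) hk2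
      ring_nf at h6 h2 ⊢
      linarith
    by_contra hlt
    have h7 : p ^ 3 ≤ p ^ j := Nat.pow_le_pow_right hp.pos (by omega)
    have h8 := Nat.mul_le_mul_left (p ^ j) hp.two_le
    have h9 : 0 < p ^ 2 := pow_pos hp.pos 2
    have h10 : p ^ 2 * p = p ^ 3 := by ring
    omega

end Nilpotent

/-- Degrees one and `p`: the structure. -/
theorem degrees_one_p {p : ℕ} (hp : p.Prime) (hcd : CD G p) (hna : ∃ a b : G, a * b ≠ b * a) :
    (∃ A : Subgroup G, A.Normal ∧ (∀ a ∈ A, ∀ b ∈ A, a * b = b * a) ∧ A.index = p) ∨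
      (Subgroup.center G).index = p ^ 3 := by
  classical
  by_cases hA : ∃ A : Subgroup G, A.Normal ∧ (∀ a ∈ A, ∀ b ∈ A, a * b = b * a) ∧ A.index = p
  · exact Or.inl hA
  rcases structure_two hcd hp.one_lt hna with h | ⟨q, e, hq, hpe, P, A, hPn, hAn, hP, -, hdis,
    hsup, hcen⟩
  · exact absurd h hA
  have he : e ≠ 0 := fun e0 => hp.ne_one (by rw [hpe, e0, pow_zero])
  have hpq : q = p := ((Nat.prime_dvd_prime_iff_eq hp hq).1
    (hp.dvd_of_dvd_pow (n := e) (by rw [← hpe]))).symm
  rw [hpq] at hP
  haveI := Fact.mk hp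
  haveI := hPn
  haveI := hAn
  haveI : Group.IsNilpotent P := hP.isNilpotent
  have hc : P.IsComplement' A := Subgroup.isComplement'_of_disjoint_and_mul_eq_univ
    (disjoint_iff.2 hdis) (by rw [← Subgroup.mul_normal, hsup]; rfl)
  haveI : Group.IsNilpotent G := Subgroup.isNilpotent_of_ker_le_center (proj hc)
    (fun n hn => Subgroup.mem_center_iff.2 fun g =>
      hcen g n (mem_of_proj_one hc (MonoidHom.mem_ker.1 hn)))
  obtain ⟨k, hk⟩ := hP.exists_card_eq
  have hAZ : A ≤ Subgroup.center G := fun a ha => Subgroup.mem_center_iff.2 fun g => hcen g a ha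
  obtain ⟨n, -, hn⟩ := (Nat.dvd_prime_pow hp).1
    (show (Subgroup.center G).index ∣ p ^ k by
      rw [← hk, ← hc.index_eq_card]; exact Subgroup.index_dvd_of_le hAZ)
  push Not at hA
  exact Or.inr (center_index hp hcd hA hna hn)

end Cfsg.Agent.TwoDegrees
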