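import Cfsg.Agent.Lib.Char.Conjugate
import Cfsg.Prelude.Def_CharExt
import Mathlib.GroupTheory.Transfer
import Mathlib.Algebra.GCDMonoid.Nat
import Mathlib.RingTheory.PrincipalIdealDomain
import Mathlib.Data.Int.GCD

/-!
# Extending invariant irreducible characters of normal subgroups

For an invariant irreducible representation `σ` of `N` the pairs `(g, A)` with `A` intertwining
`σ` with its `g`-conjugate form a group `E σ`, an extension of `G` by the scalars.  A homomorphism
`E σ → ℂˣ` which is the identity on scalars and trivial on the copy of `N` gives an extension of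
`σ`.  Such homomorphisms are produced by transfer.
-/

set_option linter.style.haveILetI false

namespace Cfsg.Agent.CharExtend

open Cfsg.Agent.Char

universe u v

variable {G : Type u} [Group G]
variable {N : Subgroup G} [hN : N.Normal]
variable {V : Type v} [AddCommGroup V] [Module ℂ V] [FiniteDimensional ℂ V]

/-- Scalars as invertible endomorphisms. -/
noncomputable def scalarUnit : ℂˣ →* (Module.End ℂ V)ˣ :=
  Units.map (algebraMap ℂ (Module.End ℂ V)).toMonoidHom

theorem scalarUnit_val (z : ℂˣ) :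
    ((scalarUnit z : (Module.End ℂ V)ˣ) : Module.End ℂ V) = (z : ℂ) • LinearMap.id := by
  simp [scalarUnit, Algebra.algebraMap_eq_smul_one, Module.End.one_eq_id]

theorem scalarUnit_comm (z : ℂˣ) (A : (Module.End ℂ V)ˣ) :
    scalarUnit z * A = A * scalarUnit z :=
  Units.ext (Algebra.commutes (z : ℂ) (A : Module.End ℂ V))

theorem scalarUnit_injective [Nontrivial V] :
    Function.Injective (scalarUnit : ℂˣ → (Module.End ℂ V)ˣ) :=
  fun a b h => Units.ext ((algebraMap ℂ (Module.End ℂ V)).injective (congrArg Units.val h))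

variable (σ : Representation ℂ N V)

/-- The group of pairs `(g, A)` with `A σ(n) = σ(g n g⁻¹) A`. -/
def interGroup : Subgroup (G × (Module.End ℂ V)ˣ) where
  carrier := {p | ∀ n : N, (p.2 : Module.End ℂ V) * σ n = σ (conjHom N p.1 n) * p.2}
  one_mem' n := by simp [conjHom_one]
  mul_mem' {p q} hp hq n := by
    simp only [Prod.fst_mul, Prod.snd_mul, Units.val_mul, conjHom_mul]
    rw [mul_assoc, hq n, ← mul_assoc, hp, mul_assoc]
  inv_mem' {p} hp n := by
    simp only [Prod.fst_inv, Prod.snd_inv]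
    rw [Units.inv_mul_eq_iff_eq_mul, ← mul_assoc, hp, ← conjHom_mul, mul_inv_cancel, conjHom_one,
      mul_assoc, Units.mul_inv, mul_one]

theorem mem_interGroup {p : G × (Module.End ℂ V)ˣ} :
    p ∈ interGroup σ ↔ ∀ n : N, (p.2 : Module.End ℂ V) * σ n = σ (conjHom N p.1 n) * p.2 :=
  Iff.rfl

/-- The projection to `G`. -/
def proj : interGroup σ →* G := (MonoidHom.fst G _).comp (interGroup σ).subtype

/-- The intertwiner. -/
def op : interGroup σ →* (Module.End ℂ V)ˣ := (MonoidHom.snd G _).comp (interGroup σ).subtype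

/-- The copy of the scalars. -/
noncomputable def scal : ℂˣ →* interGroup σ :=
  ((MonoidHom.inr G (Module.End ℂ V)ˣ).comp scalarUnit).codRestrict _ fun z n => by
    simp only [MonoidHom.coe_comp, Function.comp_apply, MonoidHom.inr_apply, conjHom_one]
    exact Algebra.commutes (z : ℂ) (σ n)

/-- The copy of `N`. -/
def emb : N →* interGroup σ :=
  (N.subtype.prod σ.toHomUnits).codRestrict _ fun m n => by
    simp only [MonoidHom.prod_apply, MonoidHom.coe_toHomUnits, Subgroup.coe_subtype]
    rw [← map_mul, ← map_mul]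
    congr 1
    ext
    simp [mul_assoc]

@[simp] theorem proj_scal (z : ℂˣ) : proj σ (scal σ z) = 1 := rfl
@[simp] theorem op_scal (z : ℂˣ) : op σ (scal σ z) = scalarUnit z := rfl
@[simp] theorem proj_emb (n : N) : proj σ (emb σ n) = n := rfl
theorem op_emb (n : N) : (op σ (emb σ n) : Module.End ℂ V) = σ n := rfl

theorem interGroup_ext {e e' : interGroup σ} (h1 : proj σ e = proj σ e')
    (h2 : op σ e = op σ e') : e = e' := Subtype.ext (Prod.ext h1 h2)

theorem scal_comm (z : ℂˣ) (e : interGroup σ) : scal σ z * e = e * scal σ z :=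
  interGroup_ext σ (by simp) (by simp only [map_mul, op_scal]; exact scalarUnit_comm z _)

theorem conj_emb (e : interGroup σ) (n : N) :
    e * emb σ n * e⁻¹ = emb σ (conjHom N (proj σ e) n) := by
  rw [mul_inv_eq_iff_eq_mul]
  refine interGroup_ext σ ?_ ?_
  · simp
  · apply Units.ext
    simp only [map_mul, Units.val_mul, op_emb]
    exact e.2 n

section irr

variable [hσ : σ.IsIrreducible]
include hσ

theorem exists_scalarUnit_eq (A : (Module.End ℂ V)ˣ)
    (hA : ∀ n : N, (A : Module.End ℂ V) * σ n = σ n * A) : ∃ z : ℂˣ, scalarUnit z = A := by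
  haveI := nontrivial_of_irreducible σ
  obtain ⟨c, hc⟩ := schur_scalar σ (A : Module.End ℂ V) fun n x => LinearMap.congr_fun (hA n) x
  have hc0 : c ≠ 0 := by
    rintro rfl
    rw [zero_smul] at hc
    exact not_isUnit_zero (M₀ := Module.End ℂ V) (hc ▸ A.isUnit)
  exact ⟨Units.mk0 c hc0, Units.ext (by rw [scalarUnit_val, hc, Units.val_mk0])⟩

theorem exists_scal_of_proj_eq_one (e : interGroup σ) (he : proj σ e = 1) :
    ∃ z : ℂˣ, scal σ z = e := by
  obtain ⟨z, hz⟩ := exists_scalarUnit_eq σ (op σ e) fun n => by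
    have := e.2 n
    rwa [show (e : G × (Module.End ℂ V)ˣ).1 = 1 from he, conjHom_one] at this
  exact ⟨z, interGroup_ext σ (by simp [he]) (by simp [hz])⟩

theorem proj_surjective [Finite G]
    (hinv : ∀ g : G, conjChar N g σ.character = σ.character) :
    Function.Surjective (proj σ) := by
  intro g
  haveI : Fintype N := Fintype.ofFinite N
  let σg : Representation ℂ N V := σ.comp (conjHom N g)
  haveI : σg.IsIrreducible := by
    have e : Subrepresentation σ ≃o Subrepresentation σg :=
      { toFun := fun a => ⟨a.toSubmodule, fun x => a.apply_mem_toSubmodule (conjHom N g x)⟩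
        invFun := fun a => ⟨a.toSubmodule, fun y v hv => by
          obtain ⟨x, rfl⟩ := conjHom_surjective N g y
          exact a.apply_mem_toSubmodule x hv⟩
        left_inv := fun _ => rfl
        right_inv := fun _ => rfl
        map_rel_iff' := Iff.rfl }
    exact e.isSimpleOrder_iff.mp hσ
  obtain ⟨e⟩ := nonempty_equiv_of_irr σ σg (hinv g).symm
  let A : (Module.End ℂ V)ˣ :=
    LinearMap.GeneralLinearGroup.ofLinearEquiv e.toLinearEquiv
  exact ⟨⟨(g, A), fun n => LinearMap.ext fun x => e.toIntertwiningMap.isIntertwining σ σg n x⟩, rfl⟩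

end irr

/-- The exponents realised by homomorphisms to the scalars. -/
def powSet : AddSubgroup ℤ where
  carrier := {m | ∃ L : interGroup σ →* ℂˣ, (∀ z, L (scal σ z) = z ^ m) ∧ ∀ n, L (emb σ n) = 1}
  zero_mem' := ⟨1, fun z => by simp, fun n => rfl⟩
  add_mem' := by
    rintro a b ⟨L, h1, h2⟩ ⟨M, h3, h4⟩
    exact ⟨L * M, fun z => by simp [h1, h3, zpow_add], fun n => by simp [h2, h4]⟩
  neg_mem' := by
    rintro a ⟨L, h1, h2⟩
    exact ⟨L⁻¹, fun z => by simp [h1], fun n => by simp [h2]⟩

theorem one_mem_of_forall_prime (S : AddSubgroup ℤ)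
    (h : ∀ p : ℕ, p.Prime → ∃ m ∈ S, ¬ (p : ℤ) ∣ m) : (1 : ℤ) ∈ S := by
  obtain ⟨a, rfl⟩ := Int.subgroup_cyclic S
  simp only [← AddSubgroup.zmultiples_eq_closure, Int.mem_zmultiples_iff] at h ⊢
  by_contra ha
  obtain ⟨p, hp, hpa⟩ := Nat.exists_prime_and_dvd
    (fun e => ha (Int.natAbs_dvd_natAbs.mp (by simp [e])) : a.natAbs ≠ 1)
  obtain ⟨m, hm, hpm⟩ := h p hp
  exact hpm ((Int.natCast_dvd.mpr hpa).trans hm)

/-- An extension from a splitting. -/
theorem exists_extension_of_one_mem [hσ : σ.IsIrreducible] [Finite G]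
    (hinv : ∀ g : G, conjChar N g σ.character = σ.character) (h1 : (1 : ℤ) ∈ powSet σ) :
    ∃ η : Representation ℂ G V, ∀ n : N, η n = σ n := by
  obtain ⟨L, hs, he⟩ := h1
  let μ : interGroup σ →* (Module.End ℂ V)ˣ :=
    { toFun := fun e => op σ e * scalarUnit (L e)⁻¹
      map_one' := by simp
      map_mul' := fun a b => by
        rw [map_mul, map_mul, mul_inv, map_mul]
        rw [mul_assoc (op σ a), ← mul_assoc (op σ b), ← scalarUnit_comm ((L a)⁻¹) (op σ b),
          mul_assoc, ← mul_assoc (op σ a)] }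
  have hker : (proj σ).ker ≤ μ.ker := by
    intro e he'
    obtain ⟨z, rfl⟩ := exists_scal_of_proj_eq_one σ e he'
    rw [MonoidHom.mem_ker]
    show op σ (scal σ z) * scalarUnit (L (scal σ z))⁻¹ = 1
    rw [hs, zpow_one, op_scal, ← map_mul, mul_inv_cancel, map_one]
  let η₀ := (proj σ).liftOfSurjective (proj_surjective σ hinv) ⟨μ, hker⟩
  refine ⟨(Units.coeHom _).comp η₀, fun n => ?_⟩
  have hlift : η₀ n = μ (emb σ n) := by
    rw [show (n : G) = proj σ (emb σ n) from rfl]
    exact MonoidHom.liftOfRightInverse_comp_apply _ _ _ _ (emb σ n)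
  show ((η₀ n : (Module.End ℂ V)ˣ) : Module.End ℂ V) = σ n
  rw [hlift]
  show ((op σ (emb σ n) * scalarUnit (L (emb σ n))⁻¹ : (Module.End ℂ V)ˣ) : Module.End ℂ V) = σ n
  rw [he, inv_one, map_one, mul_one, op_emb]

/-- Transfer from a subgroup to which `σ` extends. -/
theorem index_mem_powSet [hσ : σ.IsIrreducible] [Finite G]
    (hinv : ∀ g : G, conjChar N g σ.character = σ.character)
    (P : Subgroup G) (hNP : N ≤ P) (τ : Representation ℂ P V)
    (hτ : ∀ n : N, τ ⟨n, hNP n.2⟩ = σ n) : (P.index : ℤ) ∈ powSet σ := by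
  haveI := nontrivial_of_irreducible σ
  set EP : Subgroup (interGroup σ) := P.comap (proj σ) with hEP
  let pr : EP →* P := ((proj σ).comp EP.subtype).codRestrict P fun e => e.2
  let opP : EP →* (Module.End ℂ V)ˣ := (op σ).comp EP.subtype
  have hcomm : ∀ (a : EP) (n : N),
      ((opP a * (τ.toHomUnits (pr a))⁻¹ : (Module.End ℂ V)ˣ) : Module.End ℂ V) * σ n =
        σ n * (opP a * (τ.toHomUnits (pr a))⁻¹ : (Module.End ℂ V)ˣ) := by
    intro a n
    obtain ⟨m, rfl⟩ := conjHom_surjective N (proj σ a) n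
    simp only [Units.val_mul]
    have h1 : ((τ.toHomUnits (pr a))⁻¹ : (Module.End ℂ V)ˣ) * σ (conjHom N (proj σ (a : interGroup σ)) m) =
        σ m * ((τ.toHomUnits (pr a))⁻¹ : (Module.End ℂ V)ˣ) := by
      rw [Units.inv_mul_eq_iff_eq_mul, ← mul_assoc, Units.eq_mul_inv_iff_mul_eq,
        MonoidHom.coe_toHomUnits, ← hτ, ← hτ, ← map_mul, ← map_mul]
      congr 1
      ext
      show proj σ (a : interGroup σ) * (m : G) * (proj σ (a : interGroup σ))⁻¹ *
        proj σ (a : interGroup σ) = proj σ (a : interGroup σ) * m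
      simp [mul_assoc]
    rw [mul_assoc, h1, ← mul_assoc, show (opP a : Module.End ℂ V) * σ m =
      σ (conjHom N (proj σ (a : interGroup σ)) m) * opP a from (a : interGroup σ).2 m, mul_assoc]
  let ν : EP →* (Module.End ℂ V)ˣ :=
    { toFun := fun a => opP a * (τ.toHomUnits (pr a))⁻¹
      map_one' := by simp
      map_mul' := fun a b => by
        obtain ⟨z, hz⟩ := exists_scalarUnit_eq σ _ (hcomm b)
        rw [map_mul, map_mul, map_mul, mul_inv_rev, ← hz, ← mul_assoc, mul_assoc (opP a),
          ← hz, mul_assoc (opP a), scalarUnit_comm, ← mul_assoc] }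
  have hν : ∀ a : EP, ν a ∈ (scalarUnit (V := V)).range := fun a =>
    exists_scalarUnit_eq σ _ (hcomm a)
  let φ : EP →* ℂˣ := (MonoidHom.ofInjective (scalarUnit_injective (V := V))).symm.toMonoidHom.comp
    (ν.codRestrict _ hν)
  have hφ : ∀ a : EP, scalarUnit (φ a) = ν a := fun a => by
    show scalarUnit ((MonoidHom.ofInjective (scalarUnit_injective (V := V))).symm _) = _
    rw [← MonoidHom.ofInjective_apply (hf := scalarUnit_injective (V := V)),
      MulEquiv.apply_symm_apply]
    rfl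
  have hidx : EP.index = P.index :=
    Subgroup.index_comap_of_surjective P (proj_surjective σ hinv)
  haveI : EP.FiniteIndex := ⟨by rw [hidx]; exact Subgroup.index_ne_zero_of_finite⟩
  refine ⟨MonoidHom.transfer φ, fun z => ?_, fun n => ?_⟩
  · rw [MonoidHom.transfer_eq_pow φ (scal σ z) fun k g₀ _ => by
      rw [← map_pow, mul_assoc, scal_comm, inv_mul_cancel_left]]
    apply scalarUnit_injective (V := V)
    rw [hφ, zpow_natCast, ← hidx]
    show op σ ((scal σ z) ^ EP.index) * (τ.toHomUnits (pr _))⁻¹ = _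
    rw [show pr ⟨(scal σ z) ^ EP.index, _⟩ = 1 from Subtype.ext (show proj σ (scal σ z ^ EP.index) = 1 by simp), map_one, inv_one,
      mul_one, ← map_pow, op_scal]
  · classical
    haveI : Fintype (interGroup σ ⧸ EP) := EP.fintypeQuotientOfFiniteIndex
    rw [MonoidHom.transfer_eq_prod_quotient_orbitRel_zpowers_quot]
    refine Finset.prod_eq_one fun q _ => ?_
    apply scalarUnit_injective (V := V)
    rw [hφ, map_one]
    set k := Function.minimalPeriod (fun x => emb σ n • x) q.out
    have e : q.out.out⁻¹ * emb σ n ^ k * q.out.out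
        = emb σ (conjHom N (proj σ q.out.out)⁻¹ (n ^ k)) := by
      rw [← map_inv, ← conj_emb, inv_inv, map_pow]
    show op σ (q.out.out⁻¹ * emb σ n ^ k * q.out.out) * (τ.toHomUnits (pr _))⁻¹ = 1
    rw [mul_inv_eq_one]
    apply Units.ext
    rw [congrArg (op σ) e, op_emb, MonoidHom.coe_toHomUnits, ← hτ]
    congr 1
    ext
    exact ((congrArg (proj σ) e).trans (proj_emb σ _)).symm

/-- The determinant gives the exponent `dim V`, when it extends. -/
theorem finrank_mem_powSet (μ : G →* ℂˣ)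
    (hμ : ∀ n : N, (μ n : ℂ) = LinearMap.det (σ n)) :
    (Module.finrank ℂ V : ℤ) ∈ powSet σ := by
  let D : interGroup σ →* ℂˣ :=
    (Units.map (LinearMap.det : (Module.End ℂ V) →* ℂ)).comp (op σ)
  refine ⟨D * (μ.comp (proj σ))⁻¹, fun z => ?_, fun n => ?_⟩
  · apply Units.ext
    simp [D, scalarUnit_val, LinearMap.det_smul]
  · apply Units.ext
    simp [D, op_emb, hμ n]
    rw [← hμ n]
    exact mul_inv_cancel₀ (μ n).ne_zero

theorem isIrreducible_of_restrict [hσ : σ.IsIrreducible] (η : Representation ℂ G V)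
    (h : ∀ n : N, η n = σ n) : η.IsIrreducible := by
  haveI := nontrivial_of_irreducible σ
  haveI : Nontrivial (Subrepresentation η) := ⟨⟨⊥, ⊤, fun e =>
    bot_ne_top (congrArg Subrepresentation.toSubmodule e)⟩⟩
  refine ⟨fun a => ?_⟩
  let b : Subrepresentation σ := ⟨a.toSubmodule, fun n v hv => by
    rw [← h]; exact a.apply_mem_toSubmodule _ hv⟩
  rcases hσ.eq_bot_or_eq_top b with e | e
  · exact Or.inl (Subrepresentation.toSubmodule_injective (congrArg Subrepresentation.toSubmodule e :))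
  · exact Or.inr (Subrepresentation.toSubmodule_injective (congrArg Subrepresentation.toSubmodule e :))

/-- A character extending the character of `σ` is afforded by an extension of `σ`. -/
theorem exists_rep_of_char [Finite G] {χ : G → ℂ} (hχ : Cfsg.IsCharacter G χ)
    (h : ∀ n : N, χ n = σ.character n) :
    ∃ η : Representation ℂ G V, (∀ n : N, η n = σ n) ∧ η.character = χ := by
  obtain ⟨m, ρ, rfl⟩ := hχ
  obtain ⟨e⟩ := nonempty_equiv_of_char_eq (ρ.comp N.subtype : Representation ℂ N (Fin m → ℂ)) σ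
    (funext fun n => h n)
  refine ⟨transport ρ e.toLinearEquiv, fun n => LinearMap.ext fun x => ?_, character_transport _ _⟩
  rw [transport_apply]
  have := e.toIntertwiningMap.isIntertwining (ρ.comp N.subtype) σ n (e.toLinearEquiv.symm x)
  refine this.trans ?_
  exact congrArg (σ n) (e.toLinearEquiv.apply_symm_apply x)

/-- Two extensions differ by a linear character. -/
theorem exists_linear_of_extensions [hσ : σ.IsIrreducible] (η η' : Representation ℂ G V)
    (h : ∀ n : N, η n = σ n) (h' : ∀ n : N, η' n = σ n) :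
    ∃ c : G →* ℂˣ, (∀ n : N, c n = 1) ∧ ∀ g : G, η' g = (c g : ℂ) • η g := by
  haveI := nontrivial_of_irreducible σ
  let u : G → (Module.End ℂ V)ˣ := fun g => η.toHomUnits g⁻¹ * η'.toHomUnits g
  have hu : ∀ g, ∀ n : N, (u g : Module.End ℂ V) * σ n = σ n * u g := by
    intro g n
    simp only [u, Units.val_mul, MonoidHom.coe_toHomUnits]
    calc η g⁻¹ * η' g * σ n = η g⁻¹ * η' ((conjHom N g n : G) * g) := by
          rw [← h', mul_assoc, ← map_mul]; congr 2; simp
      _ = η g⁻¹ * η (conjHom N g n) * η' g := by rw [map_mul, h', ← h, mul_assoc]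
      _ = η (g⁻¹ * (conjHom N g n : G)) * η' g := by rw [map_mul]
      _ = η ((n : G) * g⁻¹) * η' g := by congr 2; simp [mul_assoc]
      _ = σ n * (η g⁻¹ * η' g) := by rw [map_mul, h, mul_assoc]
  choose c hc using fun g => exists_scalarUnit_eq σ (u g) (hu g)
  have hc' : ∀ g, η'.toHomUnits g = scalarUnit (c g) * η.toHomUnits g := fun g => by
    rw [scalarUnit_comm, hc]; simp [u]
  refine ⟨MonoidHom.mk' c fun a b => ?_, fun n => ?_, fun g => ?_⟩
  · apply scalarUnit_injective (V := V)
    have e := hc' (a * b)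
    rw [map_mul, map_mul, hc' a, hc' b] at e
    rw [map_mul]
    refine (mul_right_cancel (b := η.toHomUnits a * η.toHomUnits b) ?_).symm
    rw [← e, mul_assoc (scalarUnit (c a)) (scalarUnit (c b)), ← mul_assoc (scalarUnit (c b)),
      scalarUnit_comm (c b) (η.toHomUnits a)]
    simp only [mul_assoc]
  · apply scalarUnit_injective (V := V)
    show scalarUnit (c n) = _
    rw [hc, map_one]
    apply Units.ext
    simp only [u, Units.val_mul, Units.val_one, MonoidHom.coe_toHomUnits, h']
    rw [← h, ← map_mul, inv_mul_cancel, map_one]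
  · have := congrArg Units.val (hc' g)
    simp only [Units.val_mul, MonoidHom.coe_toHomUnits, scalarUnit_val] at this
    rw [this]
    ext x
    simp

/-- A subgroup of pairs meeting the scalars trivially and covering `G` gives an extension. -/
theorem exists_extension_of_section (S : Subgroup (interGroup σ))
    (hemb : ∀ n, emb σ n ∈ S) (hsurj : ∀ g : G, ∃ e ∈ S, proj σ e = g)
    (hinj : ∀ e ∈ S, proj σ e = 1 → e = 1) :
    ∃ η : Representation ℂ G V, ∀ n : N, η n = σ n := by
  let p : S →* G := (proj σ).comp S.subtype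
  have hb : Function.Bijective p := ⟨(injective_iff_map_eq_one p).mpr fun e he =>
    Subtype.ext (hinj e e.2 he), fun g => by
      obtain ⟨e, he, rfl⟩ := hsurj g
      exact ⟨⟨e, he⟩, rfl⟩⟩
  refine ⟨(Units.coeHom _).comp
    (((op σ).comp S.subtype).comp (MulEquiv.ofBijective p hb).symm.toMonoidHom), fun n => ?_⟩
  have hs : (MulEquiv.ofBijective p hb).symm (n : G) = ⟨emb σ n, hemb n⟩ := by
    rw [MulEquiv.symm_apply_eq]
    rfl
  show ((op σ ((MulEquiv.ofBijective p hb).symm (n : G)) : (Module.End ℂ V)ˣ) : Module.End ℂ V) = σ n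
  rw [hs]
  rfl

theorem exists_extension_of_cyclic [hσ : σ.IsIrreducible] [Finite G]
    (hinv : ∀ g : G, conjChar N g σ.character = σ.character) (hcyc : IsCyclic (G ⧸ N)) :
    ∃ η : Representation ℂ G V, ∀ n : N, η n = σ n := by
  obtain ⟨q, hq⟩ := hcyc.exists_generator
  obtain ⟨g₀, rfl⟩ := QuotientGroup.mk_surjective q
  obtain ⟨e₀, he₀⟩ := proj_surjective σ hinv g₀
  set m := orderOf (g₀ : G ⧸ N) with hm
  have hm0 : 0 < m := (isOfFinOrder_of_finite _).orderOf_pos
  have hn₀ : g₀ ^ m ∈ N := by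
    rw [← QuotientGroup.eq_one_iff, QuotientGroup.mk_pow, hm, pow_orderOf_eq_one]
  set n₀ : N := ⟨g₀ ^ m, hn₀⟩
  obtain ⟨z, hz⟩ := exists_scal_of_proj_eq_one σ (e₀ ^ m * (emb σ n₀)⁻¹)
    (by simp [he₀, n₀])
  obtain ⟨r, hr⟩ := IsAlgClosed.exists_pow_nat_eq ((z⁻¹ : ℂˣ) : ℂ) hm0
  have hr0 : r ≠ 0 := by
    rintro rfl
    rw [zero_pow hm0.ne'] at hr
    exact (z⁻¹).ne_zero hr.symm
  set e := scal σ (Units.mk0 r hr0) * e₀ with hedef
  have hrz : Units.mk0 r hr0 ^ m = z⁻¹ := Units.ext (by simpa using hr)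
  have hem : e ^ m = emb σ n₀ := by
    rw [hedef, Commute.mul_pow (scal_comm σ _ e₀), ← map_pow, hrz,
      ← inv_mul_eq_iff_eq_mul.mpr (show e₀ ^ m = _ from ((eq_mul_inv_iff_mul_eq).mp hz).symm),
      map_inv]
  have hnorm : (emb σ).range.Normal := ⟨by
    rintro _ ⟨n, rfl⟩ a
    exact ⟨_, (conj_emb σ a n).symm⟩⟩
  have hpe : proj σ e = g₀ := by simp [hedef, he₀]
  refine exists_extension_of_section σ (Subgroup.zpowers e ⊔ (emb σ).range)
    (fun n => Subgroup.mem_sup_right ⟨n, rfl⟩) (fun g => ?_) (fun a ha ha1 => ?_)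
  · obtain ⟨k, hk⟩ := Subgroup.mem_zpowers_iff.mp (hq (g : G ⧸ N))
    have hmem : (g₀ ^ k)⁻¹ * g ∈ N := by
      rw [← QuotientGroup.eq]
      simpa using hk
    refine ⟨e ^ k * emb σ ⟨_, hmem⟩, Subgroup.mul_mem _
      (Subgroup.mem_sup_left (Subgroup.zpow_mem_zpowers e k)) (Subgroup.mem_sup_right ⟨_, rfl⟩), ?_⟩
    rw [map_mul, map_zpow, hpe, proj_emb]
    exact mul_inv_cancel_left _ _
  · obtain ⟨x, hx, y, ⟨n, rfl⟩, rfl⟩ := Subgroup.mem_sup_of_normal_right.mp ha
    obtain ⟨k, rfl⟩ := Subgroup.mem_zpowers_iff.mp hx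
    rw [map_mul, map_zpow, hpe, proj_emb] at ha1
    have hk : (g₀ : G ⧸ N) ^ k = 1 := by
      rw [← QuotientGroup.mk_zpow, QuotientGroup.eq_one_iff, eq_inv_of_mul_eq_one_left ha1]
      exact N.inv_mem n.2
    obtain ⟨l, rfl⟩ := orderOf_dvd_iff_zpow_eq_one.mpr hk
    rw [zpow_mul, zpow_natCast, ← hm, hem, ← map_zpow, ← map_mul]
    rw [zpow_mul, zpow_natCast, ← hm] at ha1
    rw [show n₀ ^ l * n = 1 from Subtype.ext (by simpa [n₀] using ha1), map_one]

end Cfsg.Agent.CharExtend
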