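import Cfsg.Agent.Lib.Char.DegreeCenter
import Cfsg.Agent.Lib.Char.Induction
import Cfsg.Agent.Lib.Char.Orbit
import Cfsg.Agent.Lib.FGBasics.Extraspecial

/-!
# Characters of extraspecial groups
-/

set_option linter.style.haveILetI false

namespace Cfsg.Agent.Char.XS

open scoped ComplexConjugate

universe u

variable {P : Type u} [Group P] [Fintype P] {p : ℕ} [Fact p.Prime]

theorem zpowers_eq_center (hP : Cfsg.IsExtraspecial p P) {w : P} (hw : w ∈ Subgroup.center P)
    (hw1 : w ≠ 1) : Subgroup.zpowers w = Subgroup.center P := by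
  have hle : Subgroup.zpowers w ≤ Subgroup.center P := Subgroup.zpowers_le.mpr hw
  refine Subgroup.eq_of_le_of_card_ge hle ?_
  have hd : Nat.card (Subgroup.zpowers w) ∣ p := hP.2 ▸ Subgroup.card_dvd_of_le hle
  rcases (Fact.out : p.Prime).eq_one_or_self_of_dvd _ hd with h | h
  · exact absurd (Subgroup.zpowers_eq_bot.mp (Subgroup.card_eq_one.mp h)) hw1
  · rw [h, hP.2]

theorem exists_commutator (hP : Cfsg.IsExtraspecial p P) {x : P} (hx : x ∉ Subgroup.center P) :
    ∃ y w : P, w ∈ Subgroup.center P ∧ w ≠ 1 ∧ y * x * y⁻¹ = w * x := by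
  rw [Subgroup.mem_center_iff] at hx
  push Not at hx
  obtain ⟨y, hy⟩ := hx
  refine ⟨y, y * x * y⁻¹ * x⁻¹, ?_, ?_, by group⟩
  · rw [← hP.1.2.2]
    exact Subgroup.commutator_mem_commutator (Subgroup.mem_top y) (Subgroup.mem_top x)
  · intro h
    apply hy
    have := mul_inv_eq_one.mp h
    rwa [mul_inv_eq_iff_eq_mul] at this

/-- A class function with nontrivial central scalars vanishes off the centre. -/
theorem vanish_off_center (hP : Cfsg.IsExtraspecial p P) {χ : P → ℂ}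
    (hχ : Cfsg.IsClassFunction P χ)
    (hc : ∀ w ∈ Subgroup.center P, w ≠ 1 → ∃ c : ℂ, c ≠ 1 ∧ ∀ g, χ (w * g) = c * χ g) {x : P}
    (hx : x ∉ Subgroup.center P) : χ x = 0 := by
  obtain ⟨y, w, hw, hw1, hyx⟩ := exists_commutator hP hx
  obtain ⟨c, hc1, hcg⟩ := hc w hw hw1
  have h := hχ x y
  rw [hyx, hcg] at h
  by_contra h0
  exact hc1 ((mul_eq_right₀ h0).mp h)

theorem norm_of_vanish {χ : P → ℂ} (hP : Cfsg.IsExtraspecial p P) (d : ℕ)
    (hv : ∀ x, x ∉ Subgroup.center P → χ x = 0)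
    (hn : ∀ w ∈ Subgroup.center P, ‖χ w‖ = d) :
    Cfsg.classInner χ χ = (Nat.card P : ℂ)⁻¹ * ((p : ℂ) * (d : ℂ) ^ 2) := by
  classical
  unfold Cfsg.classInner
  congr 1
  rw [← Finset.sum_subset (Finset.subset_univ (Finset.univ.filter fun x => x ∈ Subgroup.center P))]
  · rw [Finset.sum_congr rfl fun x hx => show χ x * conj (χ x) = (d : ℂ) ^ 2 by
      rw [Complex.mul_conj', hn x (Finset.mem_filter.mp hx).2]; norm_num]
    rw [Finset.sum_const, nsmul_eq_mul]
    congr 2
    rw [← Fintype.card_subtype, ← Nat.card_eq_fintype_card]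
    exact hP.2
  · intro x _ hx
    rw [hv x (fun h => hx (Finset.mem_filter.mpr ⟨Finset.mem_univ _, h⟩)), zero_mul]

/-- An irreducible character is linear or has degree `p ^ n` and vanishes off the centre. -/
theorem degree_cases (hP : Cfsg.IsExtraspecial p P) {n : ℕ} (hcard : Nat.card P = p ^ (2 * n + 1))
    {χ : P → ℂ} (hχ : Cfsg.IsIrrCharacter P χ) :
    χ 1 = 1 ∨ χ 1 = (p : ℂ) ^ n := by
  by_cases htriv : ∀ w ∈ Subgroup.center P, χ w = χ 1
  · left
    refine degree_one_of_commutators hχ fun a b => htriv _ ?_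
    rw [← hP.1.2.2]
    exact Subgroup.commutator_mem_commutator (Subgroup.mem_top a) (Subgroup.mem_top b)
  right
  push Not at htriv
  obtain ⟨z, hz, hz1⟩ := htriv
  obtain ⟨K, hKn, hK, -⟩ := IsCharacter.exists_kernel (IsIrrCharacter.isCharacter hχ)
  have hc : ∀ w ∈ Subgroup.center P, w ≠ 1 → ∃ c : ℂ, c ≠ 1 ∧ ∀ g, χ (w * g) = c * χ g := by
    intro w hw hw1
    obtain ⟨c, -, hcg, hciff⟩ := IsIrrCharacter.exists_central_scalar hχ hw
    refine ⟨c, fun h => hz1 ?_, hcg⟩
    have hwK : w ∈ K := (hK w).mpr (hciff.mp h)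
    exact (hK z).mp (Subgroup.zpowers_le.mpr hwK (by rw [zpowers_eq_center hP hw hw1]; exact hz))
  obtain ⟨d, -, hd⟩ := IsIrrCharacter.exists_degree hχ
  have hn : ∀ w ∈ Subgroup.center P, ‖χ w‖ = d := by
    intro w hw
    obtain ⟨c, hcn, hcg, -⟩ := IsIrrCharacter.exists_central_scalar hχ hw
    rw [← mul_one w, hcg, norm_mul, hcn, one_mul, hd, Complex.norm_natCast]
  have h := norm_of_vanish hP d
    (fun x hx => vanish_off_center hP
      (IsCharacter.isClassFunction (IsIrrCharacter.isCharacter hχ)) hc hx) hn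
  rw [classInner_self_irr hχ, eq_comm, inv_mul_eq_iff_eq_mul₀
    (Nat.cast_ne_zero.mpr Nat.card_pos.ne'), mul_one, hcard] at h
  have h' : d ^ 2 = (p ^ n) ^ 2 := by
    have h2 : p * d ^ 2 = p ^ (2 * n + 1) := by exact_mod_cast h
    refine Nat.eq_of_mul_eq_mul_left (Fact.out : p.Prime).pos (h2.trans ?_)
    ring
  rw [hd, Nat.pow_left_injective two_ne_zero h', Nat.cast_pow]

end Cfsg.Agent.Char.XS
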