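import Cfsg.Agent.Lib.Char.DegreeCenter
import Cfsg.Agent.Lib.Char.Complete
import Cfsg.Agent.Lib.Char.Orbit
import Mathlib.GroupTheory.Subgroup.Centralizer

/-!
# The Feit–Thompson degree bound for an abelian subgroup
-/

set_option linter.style.haveILetI false

namespace Cfsg.Agent.Char.FTBound

open scoped ComplexConjugate
open Cfsg.Agent.Char

universe u

/-- Averaging an irreducible character over a normal subgroup gives zero or the character. -/
theorem avg_irr {N : Type u} [Group N] [Finite N] (K : Subgroup N) [hK : K.Normal] [Fintype K]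
    {φ : N → ℂ} (hφ : Cfsg.IsIrrCharacter N φ) :
    (∀ g, ∑ k : K, φ (k * g) = (Nat.card K : ℂ) * φ g) ∨ (∀ g, ∑ k : K, φ (k * g) = 0) := by
  classical
  obtain ⟨n, ρ, hρ, rfl⟩ := hφ
  haveI := hρ
  set E : (Fin n → ℂ) →ₗ[ℂ] (Fin n → ℂ) := ∑ k : K, ρ (k : N) with hE
  have hsum : ∀ g, ∑ k : K, ρ.character (k * g) = LinearMap.trace ℂ _ (E * ρ g) := fun g => by
    rw [hE, Finset.sum_mul, map_sum]
    exact Finset.sum_congr rfl fun k _ => by rw [Representation.character, map_mul]
  have hcomm : ∀ g, E * ρ g = ρ g * E := by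
    intro g
    rw [hE, Finset.sum_mul, Finset.mul_sum]
    refine Fintype.sum_equiv
      (Equiv.ofBijective (fun k : K => (⟨g⁻¹ * k * g, by simpa using hK.conj_mem k k.2 g⁻¹⟩ : K))
        (Finite.injective_iff_bijective.mp fun a b h => Subtype.ext (by simpa using h))) _ _
      fun k => ?_
    rw [Equiv.ofBijective_apply, ← map_mul, ← map_mul]
    exact congrArg ρ (by group)
  obtain ⟨s, hs⟩ := schur_scalar ρ E fun g x => by
    rw [← Module.End.mul_apply, ← Module.End.mul_apply, hcomm]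
  by_cases hs0 : s = 0
  · right
    intro g
    rw [hsum, hs, hs0, zero_smul, zero_mul, map_zero]
  · left
    have hid : ∀ k : K, ρ (k : N) = LinearMap.id := by
      intro k
      have h : ρ (k : N) * E = E := by
        rw [hE, Finset.mul_sum]
        exact Fintype.sum_equiv (Equiv.mulLeft k) _ _ fun j => by
          rw [Equiv.coe_mulLeft, Subgroup.coe_mul, map_mul]
      rw [hs, mul_smul_comm] at h
      exact smul_right_injective _ hs0 (by simpa [Module.End.mul_eq_comp] using h)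
    intro g
    rw [Finset.sum_congr rfl fun (k : K) _ => show ρ.character (k * g) = ρ.character g by
      rw [Representation.character, Representation.character, map_mul, hid, Module.End.mul_eq_comp,
        LinearMap.id_comp], Finset.sum_const, nsmul_eq_mul, Finset.card_univ,
      ← Nat.card_eq_fintype_card]

/-- The mass identity for a character on the normalizer of a subgroup. -/
theorem split_mass {N : Type u} [Group N] [Fintype N] (K : Subgroup N) [K.Normal] [Fintype K]
    {χ : N → ℂ} (hχ : Cfsg.IsCharacter N χ) (hne : ∃ k : K, χ k ≠ χ 1) :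
    (∑ g, ‖(Nat.card K : ℂ)⁻¹ * ∑ k : K, χ (k * g)‖ ^ 2 : ℝ) + Nat.card N ≤
      ∑ g, ‖χ g‖ ^ 2 := by
  classical
  obtain ⟨m, hm⟩ := IsCharacter.exists_decomp hχ
  let a : Cfsg.IrrCharacter N → ℕ := fun φ =>
    if ∀ g, ∑ k : K, (φ : N → ℂ) (k * g) = (Nat.card K : ℂ) * (φ : N → ℂ) g then m φ else 0
  have hK0 : (Nat.card K : ℂ) ≠ 0 := Nat.cast_ne_zero.mpr Nat.card_pos.ne'
  set χ0 : N → ℂ := fun g => (Nat.card K : ℂ)⁻¹ * ∑ k : K, χ (k * g) with hχ0
  have h0 : χ0 = ∑ φ, (a φ : ℂ) • (φ : N → ℂ) := by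
    funext g
    simp only [hχ0, hm, Finset.sum_apply, Pi.smul_apply, smul_eq_mul]
    rw [Finset.sum_comm, Finset.mul_sum]
    refine Finset.sum_congr rfl fun φ _ => ?_
    rw [← Finset.mul_sum]
    by_cases hφ : ∀ g, ∑ k : K, (φ : N → ℂ) (k * g) = (Nat.card K : ℂ) * (φ : N → ℂ) g
    · simp only [a, if_pos hφ, hφ g]
      field_simp
    · simp only [a, if_neg hφ, (avg_irr K φ.2).resolve_left hφ g]
      simp
  have hnorm : ∀ c : Cfsg.IrrCharacter N → ℕ,
      (∑ g, ‖(∑ φ, (c φ : ℂ) • (φ : N → ℂ)) g‖ ^ 2 : ℝ) =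
        (Nat.card N : ℝ) * ∑ φ, ((c φ * c φ : ℕ) : ℝ) := by
    intro c
    have h := classInner_combination₂ (G := N) (fun φ => (c φ : ℂ)) (fun φ => (c φ : ℂ))
    simp only [map_natCast] at h
    rw [Cfsg.classInner, inv_mul_eq_iff_eq_mul₀ (Nat.cast_ne_zero.mpr Nat.card_pos.ne')] at h
    apply Complex.ofReal_injective
    push_cast
    rw [← h]
    exact Finset.sum_congr rfl fun g _ => by rw [Complex.mul_conj']
  show (∑ g, ‖χ0 g‖ ^ 2 : ℝ) + (Nat.card N : ℝ) ≤ _
  rw [h0, hnorm a, hm, hnorm m]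
  have hlt : (∑ φ, a φ * a φ) + 1 ≤ ∑ φ, m φ * m φ := by
    refine Nat.succ_le_of_lt (Finset.sum_lt_sum (fun φ _ => ?_) ?_)
    · simp only [a]; split_ifs <;> simp
    · by_contra hc
      push Not at hc
      have heq : ∀ φ, a φ = m φ := fun φ => by
        by_contra hne'
        have h := hc φ (Finset.mem_univ φ)
        simp only [a] at hne' h
        split_ifs at hne' h with hφ
        · exact hne' rfl
        · simp only [mul_zero, nonpos_iff_eq_zero, mul_eq_zero, or_self] at h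
          exact hne' h.symm
      obtain ⟨k0, hk0⟩ := hne
      apply hk0
      have e : χ = χ0 := by rw [h0, hm]; simp only [heq]
      have e1 := congrFun e (k0 : N)
      have e2 := congrFun e 1
      rw [e1, e2]
      simp only [hχ0, mul_one]
      congr 1
      exact Fintype.sum_equiv (Equiv.mulRight k0) _ _ fun k => rfl
  have hlt' : ((∑ φ, a φ * a φ : ℕ) : ℝ) + 1 ≤ ((∑ φ, m φ * m φ : ℕ) : ℝ) := by exact_mod_cast hlt
  push_cast at hlt' ⊢
  nlinarith [(Nat.cast_nonneg (Nat.card N) : (0 : ℝ) ≤ _)]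

variable {G : Type u} [Group G] [Fintype G]

theorem bound (H : Subgroup G) [Fintype H] (hab : ∀ a ∈ H, ∀ b ∈ H, a * b = b * a)
    (hZ : H ⊓ Subgroup.center G = ⊥)
    (hone : ∀ g : G, g ∉ Subgroup.center G → ∀ a b : G,
      Subgroup.centralizer ({g} : Set G) ⊓ H.map (MulAut.conj a).toMonoidHom ≠ ⊥ →
      Subgroup.centralizer ({g} : Set G) ⊓ H.map (MulAut.conj b).toMonoidHom ≠ ⊥ →
      H.map (MulAut.conj a).toMonoidHom = H.map (MulAut.conj b).toMonoidHom)
    {χ : G → ℂ} (hχ : Cfsg.IsIrrCharacter G χ) (hker : ∃ h ∈ H, χ h ≠ χ 1) {d c : ℕ}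
    (hd : χ 1 = d) (hc : (Nat.card H : ℂ)⁻¹ * ∑ h : H, χ h = c) :
    Nat.card H * c ^ 2 < d ^ 2 := by
  classical
  by_contra hle
  push Not at hle
  set N := Subgroup.normalizer (H : Set G) with hN
  have hHN : H ≤ N := Subgroup.le_normalizer
  haveI : Fintype N := Fintype.ofFinite N
  set K := H.subgroupOf N
  haveI : K.Normal := by
    refine ⟨fun k hk g => ?_⟩
    exact Subgroup.mem_subgroupOf.mpr ((Subgroup.mem_normalizer_iff.mp g.2 _).mp hk)
  haveI : Fintype K := Fintype.ofFinite K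
  let eK := Subgroup.subgroupOfEquivOfLe hHN
  obtain ⟨h0, hh0, hh0χ⟩ := hker
  have hh01 : h0 ≠ 1 := fun h => hh0χ (by rw [h])
  have hcardK : Nat.card K = Nat.card H := Nat.card_congr eK.toEquiv
  have hχN : Cfsg.IsCharacter N (fun g : N => χ g) :=
    IsCharacter.restrict (IsIrrCharacter.isCharacter hχ) N
  have hmass := split_mass K hχN ⟨eK.symm ⟨h0, hh0⟩, hh0χ⟩
  set χ0 : G → ℂ := fun g => (Nat.card H : ℂ)⁻¹ * ∑ h : H, χ (h * g) with hχ0
  have hχ0N : ∀ g : N, (Nat.card K : ℂ)⁻¹ * ∑ k : K, χ ((k * g : N) : G) = χ0 g := by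
    intro g
    rw [hχ0, hcardK]
    congr 1
    exact Fintype.sum_equiv eK.toEquiv _ _ fun k => rfl
  simp only [hχ0N] at hmass
  let X : Finset G := Finset.univ.filter fun g => g ∈ N ∧ ∃ h ∈ H, h ≠ 1 ∧ g * h = h * g
  have hoff : ∀ g ∈ N, g ∉ X → χ0 g = χ g := by
    intro g hg hgX
    have hfix : ∀ h ∈ H, g * h = h * g → h = 1 := fun h hh e => by
      by_contra h1
      exact hgX (Finset.mem_filter.mpr ⟨Finset.mem_univ _, hg, h, hh, h1, e⟩)
    have hmem : ∀ k : H, (k : G) * (g * (k : G)⁻¹ * g⁻¹) ∈ H := fun k =>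
      H.mul_mem k.2 ((Subgroup.mem_normalizer_iff.mp hg _).mp (H.inv_mem k.2))
    have hbij : Function.Bijective (fun k : H => (⟨_, hmem k⟩ : H)) := by
      refine Finite.injective_iff_bijective.mp fun a b h => ?_
      have h' : (a : G) * (g * (a : G)⁻¹ * g⁻¹) = (b : G) * (g * (b : G)⁻¹ * g⁻¹) :=
        congrArg Subtype.val h
      have hm : (b : G)⁻¹ * a ∈ H := H.mul_mem (H.inv_mem b.2) a.2
      have key := hfix _ hm (by
        have e1 : (b : G)⁻¹ * a * g = g * (b : G)⁻¹ * a := by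
          have := congrArg (fun z => (b : G)⁻¹ * z * g * a) h'
          simpa [mul_assoc] using this
        rw [e1, mul_assoc])
      exact Subtype.ext (inv_mul_eq_one.mp key).symm
    show (Nat.card H : ℂ)⁻¹ * ∑ h : H, χ (h * g) = χ g
    rw [← Fintype.sum_bijective _ hbij (fun k => χ g) (fun h : H => χ (h * g)) fun k => by
      show χ g = χ ((k : G) * (g * (k : G)⁻¹ * g⁻¹) * g)
      rw [show (k : G) * (g * (k : G)⁻¹ * g⁻¹) * g = (k : G) * g * (k : G)⁻¹ by group,
        IsCharacter.isClassFunction (IsIrrCharacter.isCharacter hχ) g (k : G)]]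
    rw [Finset.sum_const, Finset.card_univ, nsmul_eq_mul, ← Nat.card_eq_fintype_card,
      inv_mul_cancel_left₀ (Nat.cast_ne_zero.mpr Nat.card_pos.ne')]
  have hXN : X ⊆ Finset.univ.filter fun g => g ∈ N := fun g hg =>
    Finset.mem_filter.mpr ⟨Finset.mem_univ _, (Finset.mem_filter.mp hg).2.1⟩
  have hsub : ∀ f : G → ℝ, ∑ g : N, f g = ∑ g ∈ Finset.univ.filter (fun g => g ∈ N), f g := fun f =>
    (Finset.sum_subtype _ (fun g => by simp) f).symm
  rw [hsub (fun g => ‖χ0 g‖ ^ 2), hsub (fun g => ‖χ g‖ ^ 2), ← Finset.sum_sdiff hXN,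
    ← Finset.sum_sdiff hXN (f := fun g => ‖χ g‖ ^ 2),
    Finset.sum_congr rfl (g := fun g => ‖χ g‖ ^ 2) fun g hg => by
      rw [hoff g (Finset.mem_filter.mp (Finset.mem_sdiff.mp hg).1).2
        (Finset.mem_sdiff.mp hg).2]] at hmass
  have hscal : ∀ z ∈ Subgroup.center G, ∀ g, ‖χ (z * g)‖ = ‖χ g‖ ∧ ‖χ0 (z * g)‖ = ‖χ0 g‖ := by
    intro z hz g
    obtain ⟨w, hw, hwg, -⟩ := IsIrrCharacter.exists_central_scalar hχ hz
    refine ⟨by rw [hwg, norm_mul, hw, one_mul], ?_⟩
    have e : χ0 (z * g) = w * χ0 g := by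
      simp only [hχ0]
      rw [Finset.sum_congr rfl fun (h : H) _ => show χ (h * (z * g)) = w * χ (h * g) by
        rw [← hwg, ← mul_assoc (h : G), Subgroup.mem_center_iff.mp hz h, mul_assoc],
        ← Finset.mul_sum]
      ring
    rw [e, norm_mul, hw, one_mul]
  set Zf := Finset.univ.filter fun g : G => g ∈ Subgroup.center G with hZf
  have hZX : Zf ⊆ X := fun g hg => by
    have hgz := (Finset.mem_filter.mp hg).2
    exact Finset.mem_filter.mpr ⟨Finset.mem_univ _, (show g ∈ N from Subgroup.center_le_normalizer _ hgz), h0, hh0,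
      hh01, (Subgroup.mem_center_iff.mp hgz h0).symm⟩
  have hZsum : ∑ g ∈ Zf, ‖χ g‖ ^ 2 = (Zf.card : ℝ) * (d : ℝ) ^ 2 := by
    rw [Finset.sum_congr rfl fun g hg => show ‖χ g‖ ^ 2 = (d : ℝ) ^ 2 by
      rw [← mul_one g, (hscal g (Finset.mem_filter.mp hg).2 1).1, hd, Complex.norm_natCast],
      Finset.sum_const, nsmul_eq_mul]
  have hZH : (Zf.card : ℝ) * (d : ℝ) ^ 2 ≤ ∑ g ∈ X, ‖χ0 g‖ ^ 2 := by
    let img := (Zf ×ˢ (Finset.univ : Finset H)).image fun p => p.1 * (p.2 : G)
    have hinj : Set.InjOn (fun p : G × H => p.1 * (p.2 : G))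
        ↑(Zf ×ˢ (Finset.univ : Finset H)) := by
      rintro ⟨z, h⟩ hzh ⟨z', h'⟩ hzh' e
      simp only [Finset.coe_product, Set.mem_prod, hZf, Finset.coe_filter, Finset.mem_univ,
        true_and, Set.mem_setOf_eq] at hzh hzh'
      have hm : (h' : G) * (h : G)⁻¹ ∈ H ⊓ Subgroup.center G := by
        refine ⟨H.mul_mem h'.2 (H.inv_mem h.2), ?_⟩
        have : z'⁻¹ * z = (h' : G) * (h : G)⁻¹ := by
          rw [inv_mul_eq_iff_eq_mul, ← mul_assoc, eq_mul_inv_iff_mul_eq]
          exact e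
        rw [← this]
        exact (Subgroup.center G).mul_mem ((Subgroup.center G).inv_mem hzh'.1) hzh.1
      rw [hZ, Subgroup.mem_bot, mul_inv_eq_one] at hm
      obtain rfl : h' = h := Subtype.ext hm
      simp only [mul_left_inj] at e
      rw [e]
    have himg : img ⊆ X := by
      intro g hg
      obtain ⟨⟨z, h⟩, hp, rfl⟩ := Finset.mem_image.mp hg
      have hz := (Finset.mem_filter.mp (Finset.mem_product.mp hp).1).2
      refine Finset.mem_filter.mpr ⟨Finset.mem_univ _,
        N.mul_mem (Subgroup.center_le_normalizer _ hz) (hHN h.2), h0, hh0, hh01, ?_⟩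
      rw [mul_assoc, hab _ h.2 _ hh0, ← mul_assoc, ← Subgroup.mem_center_iff.mp hz h0, mul_assoc]
    refine le_trans ?_ (Finset.sum_le_sum_of_subset_of_nonneg himg fun g _ _ => sq_nonneg _)
    rw [Finset.sum_image hinj, Finset.sum_congr rfl fun p hp => show
      ‖χ0 (p.1 * (p.2 : G))‖ ^ 2 = (c : ℝ) ^ 2 by
      rw [(hscal p.1 (Finset.mem_filter.mp (Finset.mem_product.mp hp).1).2 _).2]
      have e : χ0 (p.2 : G) = c := by
        simp only [hχ0]
        rw [← hc]
        congr 1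
        exact Fintype.sum_equiv (Equiv.mulRight p.2) _ _ fun k => rfl
      rw [e, Complex.norm_natCast],
      Finset.sum_const, Finset.card_product, Finset.card_univ, nsmul_eq_mul,
      ← Nat.card_eq_fintype_card, Nat.cast_mul, mul_assoc]
    exact mul_le_mul_of_nonneg_left (by exact_mod_cast hle) (Nat.cast_nonneg _)
  set Y := X \ Zf with hY
  have hYsum : (Nat.card N : ℝ) ≤ ∑ g ∈ Y, ‖χ g‖ ^ 2 := by
    have := Finset.sum_sdiff hZX (f := fun g => ‖χ g‖ ^ 2)
    rw [← hY, hZsum] at this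
    linarith
  -- spreading over the conjugates
  have hfib : ∀ x : G, ((Finset.univ : Finset G).filter fun a => a⁻¹ * x * a ∈ Y).card ≤
      Nat.card N := by
    intro x
    rcases ((Finset.univ : Finset G).filter fun a => a⁻¹ * x * a ∈ Y).eq_empty_or_nonempty with
      he | ⟨a, ha⟩
    · simp [he]
    · rw [Nat.card_eq_fintype_card, ← Finset.card_univ]
      have key : ∀ b ∈ (Finset.univ : Finset G).filter (fun a => a⁻¹ * x * a ∈ Y), a⁻¹ * b ∈ N := by
        intro b hb
        have hconj : ∀ b : G, b⁻¹ * x * b ∈ Y → x ∉ Subgroup.center G ∧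
            Subgroup.centralizer ({x} : Set G) ⊓ H.map (MulAut.conj b).toMonoidHom ≠ ⊥ := by
          intro b hb
          obtain ⟨hbX, hbZ⟩ := Finset.mem_sdiff.mp hb
          obtain ⟨-, -, h, hh, hh1, hcomm⟩ := Finset.mem_filter.mp hbX
          refine ⟨fun hx => hbZ (Finset.mem_filter.mpr ⟨Finset.mem_univ _, ?_⟩), fun hbot => hh1 ?_⟩
          · rwa [mul_assoc, ← Subgroup.mem_center_iff.mp hx b, inv_mul_cancel_left]
          · have hm : b * h * b⁻¹ ∈
                Subgroup.centralizer ({x} : Set G) ⊓ H.map (MulAut.conj b).toMonoidHom := by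
              refine ⟨Subgroup.mem_centralizer_singleton_iff.mpr ?_, h, hh, rfl⟩
              calc b * h * b⁻¹ * x = b * (h * (b⁻¹ * x * b)) * b⁻¹ := by group
                _ = b * (b⁻¹ * x * b * h) * b⁻¹ := by rw [hcomm]
                _ = x * (b * h * b⁻¹) := by group
            rw [hbot, Subgroup.mem_bot] at hm
            simpa using hm
        obtain ⟨hxa, ha'⟩ := hconj a (Finset.mem_filter.mp ha).2
        obtain ⟨-, hb'⟩ := hconj b (Finset.mem_filter.mp hb).2
        have he := hone x hxa a b ha' hb'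
        rw [hN, Subgroup.mem_normalizer_iff]
        intro y
        constructor
        · intro hy
          have : b * y * b⁻¹ ∈ H.map (MulAut.conj a).toMonoidHom := he ▸ ⟨y, hy, rfl⟩
          obtain ⟨z, hz, hz'⟩ := this
          simp only [MulEquiv.coe_toMonoidHom, MulAut.conj_apply] at hz'
          have e : a⁻¹ * b * y * (a⁻¹ * b)⁻¹ = z := by
            rw [mul_inv_rev, inv_inv, show a⁻¹ * b * y * (b⁻¹ * a) = a⁻¹ * (b * y * b⁻¹) * a by
              group, ← hz']
            group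
          rw [e]; exact hz
        · intro hy
          have : a * (a⁻¹ * b * y * (a⁻¹ * b)⁻¹) * a⁻¹ ∈ H.map (MulAut.conj b).toMonoidHom :=
            he ▸ ⟨_, hy, rfl⟩
          obtain ⟨z, hz, hz'⟩ := this
          simp only [MulEquiv.coe_toMonoidHom, MulAut.conj_apply] at hz'
          have e : y = z := by
            have : b * z * b⁻¹ = b * y * b⁻¹ := by rw [hz']; group
            exact (mul_left_cancel (mul_right_cancel this)).symm
          rw [e]; exact hz
      refine Finset.card_le_card_of_injOn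
        (fun b => if hb : a⁻¹ * b ∈ N then (⟨_, hb⟩ : N) else 1) (fun b _ => Finset.mem_univ _) ?_
      intro b hb b' hb' e
      simp only [dif_pos (key b hb), dif_pos (key b' hb'), Subtype.mk.injEq, mul_right_inj] at e
      exact e
  have hG : ∑ x : G, ‖χ x‖ ^ 2 = (Nat.card G : ℝ) := by
    have h := classInner_self_irr hχ
    rw [Cfsg.classInner, inv_mul_eq_iff_eq_mul₀ (Nat.cast_ne_zero.mpr Nat.card_pos.ne'),
      mul_one] at h
    apply Complex.ofReal_injective
    push_cast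
    rw [← h]
    exact Finset.sum_congr rfl fun g _ => by rw [Complex.mul_conj']
  have hd0 : 0 < d := Nat.pos_of_ne_zero fun h => IsIrrCharacter.one_ne_zero hχ (by
    rw [hd, h, Nat.cast_zero])
  have hdouble : (Nat.card G : ℝ) * ∑ g ∈ Y, ‖χ g‖ ^ 2 ≤
      (Nat.card N : ℝ) * ∑ x ∈ Finset.univ.erase (1 : G), ‖χ x‖ ^ 2 := by
    have e0 : ∀ a : G, (∑ x : G, if a⁻¹ * x * a ∈ Y then ‖χ x‖ ^ 2 else 0) =
        ∑ g ∈ Y, ‖χ g‖ ^ 2 := by
      intro a
      rw [← Fintype.sum_ite_mem Y (fun g => ‖χ g‖ ^ 2)]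
      refine (Fintype.sum_equiv (MulAut.conj a).toEquiv _ _ fun g => ?_).symm
      simp only [MulEquiv.toEquiv_eq_coe, MulEquiv.coe_toEquiv, MulAut.conj_apply]
      simp only [show a⁻¹ * (a * g * a⁻¹) * a = g by group,
        IsCharacter.isClassFunction (IsIrrCharacter.isCharacter hχ) g a]
    have e1 : (Nat.card G : ℝ) * ∑ g ∈ Y, ‖χ g‖ ^ 2 =
        ∑ x : G, (((Finset.univ : Finset G).filter fun a => a⁻¹ * x * a ∈ Y).card : ℝ) *
          ‖χ x‖ ^ 2 := by
      calc (Nat.card G : ℝ) * ∑ g ∈ Y, ‖χ g‖ ^ 2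
          = ∑ a : G, ∑ x : G, if a⁻¹ * x * a ∈ Y then ‖χ x‖ ^ 2 else 0 := by
            rw [Finset.sum_congr rfl fun a _ => e0 a, Finset.sum_const, nsmul_eq_mul,
              Finset.card_univ, Nat.card_eq_fintype_card]
        _ = ∑ x : G, ∑ a : G, if a⁻¹ * x * a ∈ Y then ‖χ x‖ ^ 2 else 0 := Finset.sum_comm
        _ = _ := Finset.sum_congr rfl fun x _ => by
            rw [← Finset.sum_filter, Finset.sum_const, nsmul_eq_mul]
    rw [e1, Finset.mul_sum, ← Finset.sum_erase_add _ _ (Finset.mem_univ (1 : G))]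
    have h1 : ((Finset.univ : Finset G).filter fun a => a⁻¹ * 1 * a ∈ Y).card = 0 := by
      rw [Finset.card_eq_zero, Finset.filter_eq_empty_iff]
      intro a _ ha
      rw [mul_one, inv_mul_cancel] at ha
      exact (Finset.mem_sdiff.mp ha).2
        (Finset.mem_filter.mpr ⟨Finset.mem_univ _, Subgroup.one_mem _⟩)
    rw [h1, Nat.cast_zero, zero_mul, add_zero]
    exact Finset.sum_le_sum fun x _ =>
      mul_le_mul_of_nonneg_right (by exact_mod_cast hfib x) (sq_nonneg _)
  have herase := Finset.sum_erase_add Finset.univ (fun x => ‖χ x‖ ^ 2) (Finset.mem_univ (1 : G))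
  rw [hG] at herase
  have hN0 : (0 : ℝ) < Nat.card N := by exact_mod_cast Nat.card_pos
  have hG0 : (0 : ℝ) < Nat.card G := by exact_mod_cast Nat.card_pos
  have hd1 : (1 : ℝ) ≤ ‖χ 1‖ ^ 2 := by
    rw [hd, Complex.norm_natCast]
    exact one_le_pow₀ (by exact_mod_cast hd0)
  nlinarith [mul_le_mul_of_nonneg_left hYsum hG0.le]

/-- The second bound: no proper normal subgroup contains `H`. -/
theorem bound_two (H : Subgroup G) [Fintype H] (hab : ∀ a ∈ H, ∀ b ∈ H, a * b = b * a)
    (hZ : H ⊓ Subgroup.center G = ⊥)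
    (hone : ∀ g : G, g ∉ Subgroup.center G → ∀ a b : G,
      Subgroup.centralizer ({g} : Set G) ⊓ H.map (MulAut.conj a).toMonoidHom ≠ ⊥ →
      Subgroup.centralizer ({g} : Set G) ⊓ H.map (MulAut.conj b).toMonoidHom ≠ ⊥ →
      H.map (MulAut.conj a).toMonoidHom = H.map (MulAut.conj b).toMonoidHom)
    {χ : G → ℂ} (hχ : Cfsg.IsIrrCharacter G χ) {d : ℕ} (hd : χ 1 = d) (hd1 : d ≠ 1)
    (hnormal : ∀ M : Subgroup G, M.Normal → H ≤ M → M = ⊤) :
    (Nat.card H : ℝ) < (1 + (d : ℝ)) ^ 2 := by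
  classical
  have hχc := IsIrrCharacter.isCharacter hχ
  set ψ : G → ℂ := fun g => χ g * conj (χ g) with hψ
  have hψc : Cfsg.IsCharacter G ψ := IsCharacter.mul hχc (IsCharacter.conj hχc)
  obtain ⟨m, hm⟩ := IsCharacter.exists_decomp hψc
  have hm1 : m (principal G) = 1 := by
    have h := classInner_combination (G := G) (fun φ => (m φ : ℂ)) (principal G)
    rw [← hm] at h
    have h' : Cfsg.classInner ψ (principal G : G → ℂ) = Cfsg.classInner χ χ := by
      simp [Cfsg.classInner, hψ, principal]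
    rw [h', classInner_self_irr hχ] at h
    exact_mod_cast h.symm
  have hH0 : (Nat.card H : ℂ) ≠ 0 := Nat.cast_ne_zero.mpr Nat.card_pos.ne'
  have hcnat : ∀ φ : Cfsg.IrrCharacter G, ∃ c : ℕ,
      (Nat.card H : ℂ)⁻¹ * ∑ h : H, (φ : G → ℂ) h = c := by
    intro φ
    obtain ⟨c, hc⟩ := IsCharacter.exists_classInner_nat
      (IsCharacter.restrict (IsIrrCharacter.isCharacter φ.2) H) isCharacter_one
    exact ⟨c, by simpa [Cfsg.classInner] using hc⟩
  choose c hc using hcnat
  choose e he0 he using fun φ : Cfsg.IrrCharacter G => IsIrrCharacter.exists_degree φ.2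
  have hdeg : d * d = ∑ φ, m φ * e φ := by
    have h := congrFun hm 1
    simp only [hψ, hd, map_natCast, Finset.sum_apply, Pi.smul_apply, smul_eq_mul, he] at h
    exact_mod_cast h
  have hfix : d ≤ ∑ φ, m φ * c φ := by
    obtain ⟨r, hr⟩ := IsCharacter.exists_decomp (IsCharacter.restrict hχc H)
    have h1 : (∑ l, ((r l * r l : ℕ) : ℂ)) = ∑ φ, ((m φ * c φ : ℕ) : ℂ) := by
      have ha := classInner_combination₂ (G := H) (fun l => (r l : ℂ)) (fun l => (r l : ℂ))
      rw [← hr] at ha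
      simp only [map_natCast] at ha
      push_cast
      rw [← ha]
      simp only [← hc]
      rw [Cfsg.classInner]
      have hb : ∑ h : H, χ h * conj (χ h) = ∑ φ, (m φ : ℂ) * ∑ h : H, (φ : G → ℂ) h := by
        rw [Finset.sum_congr rfl fun (h : H) _ => show χ h * conj (χ h) =
          ∑ φ, (m φ : ℂ) * (φ : G → ℂ) h by simpa [hψ] using congrFun hm (h : G),
          Finset.sum_comm]
        simp only [Finset.mul_sum]
      rw [hb, Finset.mul_sum]
      exact Finset.sum_congr rfl fun φ _ => by ring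
    have h2 : ∑ l, r l * r l = ∑ φ, m φ * c φ := by exact_mod_cast h1
    have h3 : d = ∑ l, r l := by
      have h := congrFun hr 1
      simp only [Subgroup.coe_one, hd, Finset.sum_apply, Pi.smul_apply, smul_eq_mul] at h
      rw [Finset.sum_congr rfl fun l _ => by
        rw [degree_one_of_comm (fun a b => Subtype.ext (hab _ a.2 _ b.2)) l.2, mul_one]] at h
      exact_mod_cast h
    rw [← h2, h3]
    exact Finset.sum_le_sum fun l _ => Nat.le_mul_self _
  set s := Real.sqrt (Nat.card H : ℝ)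
  have hlt : ∀ φ ∈ Finset.univ.erase (principal G), s * (c φ : ℝ) < (e φ : ℝ) := by
    intro φ hφ
    have hker : ∃ h ∈ H, (φ : G → ℂ) h ≠ (φ : G → ℂ) 1 := by
      by_contra hcon
      push Not at hcon
      obtain ⟨M, hMn, hM, -⟩ := IsCharacter.exists_kernel (IsIrrCharacter.isCharacter φ.2)
      have htop := hnormal M hMn fun x hx => (hM x).mpr (hcon x hx)
      have hconst : (φ : G → ℂ) = fun _ => (φ : G → ℂ) 1 := funext fun g =>
        (hM g).mp (htop ▸ Subgroup.mem_top g)
      have h0 := classInner_irr_of_ne φ.2 (principal G).2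
        (fun h => (Finset.mem_erase.mp hφ).1 (Subtype.ext h))
      rw [hconst] at h0
      simp [Cfsg.classInner, principal, IsIrrCharacter.one_ne_zero φ.2,
        Finset.card_univ] at h0
    have hb := bound H hab hZ hone φ.2 hker (he φ) (hc φ)
    have hb' : (Nat.card H : ℝ) * (c φ : ℝ) ^ 2 < (e φ : ℝ) ^ 2 := by exact_mod_cast hb
    refine lt_of_pow_lt_pow_left₀ 2 (Nat.cast_nonneg _) ?_
    rw [mul_pow, Real.sq_sqrt (Nat.cast_nonneg _)]
    exact hb'
  have he1 : e (principal G) = 1 := by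
    have := he (principal G)
    simp only [principal] at this
    exact_mod_cast this.symm
  have hc1 : c (principal G) = 1 := by
    have := hc (principal G)
    simp only [principal, Finset.sum_const, Finset.card_univ, nsmul_eq_mul, mul_one,
      ← Nat.card_eq_fintype_card, inv_mul_cancel₀ hH0] at this
    exact_mod_cast this.symm
  rw [← Finset.add_sum_erase _ _ (Finset.mem_univ (principal G)), hm1, he1] at hdeg
  rw [← Finset.add_sum_erase _ _ (Finset.mem_univ (principal G)), hm1, hc1] at hfix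
  have hd2 : 2 ≤ d := by
    have : d ≠ 0 := fun h => IsIrrCharacter.one_ne_zero hχ (by rw [hd, h, Nat.cast_zero])
    omega
  set E := Finset.univ.erase (principal G)
  have hsum : s * ((∑ φ ∈ E, m φ * c φ : ℕ) : ℝ) < ((∑ φ ∈ E, m φ * e φ : ℕ) : ℝ) := by
    push_cast
    rw [Finset.mul_sum]
    refine Finset.sum_lt_sum (fun φ hφ => ?_) ?_
    · rw [mul_left_comm]
      exact mul_le_mul_of_nonneg_left (hlt φ hφ).le (Nat.cast_nonneg _)
    · by_contra hcon
      push Not at hcon
      have : ∑ φ ∈ E, m φ * e φ = 0 := Finset.sum_eq_zero fun φ hφ => by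
        rcases Nat.eq_zero_or_pos (m φ) with h | h
        · rw [h, zero_mul]
        · have h1 := hcon φ hφ
          have h2 : (m φ : ℝ) * (s * c φ) < (m φ : ℝ) * e φ :=
            mul_lt_mul_of_pos_left (hlt φ hφ) (by exact_mod_cast h)
          linarith
      nlinarith
  have ha : ((∑ φ ∈ E, m φ * e φ : ℕ) : ℝ) + 1 = (d : ℝ) * d := by
    have : (∑ φ ∈ E, m φ * e φ) + 1 = d * d := by omega
    exact_mod_cast this
  have hb : (d : ℝ) ≤ ((∑ φ ∈ E, m φ * c φ : ℕ) : ℝ) + 1 := by
    have : d ≤ (∑ φ ∈ E, m φ * c φ) + 1 := by omega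
    exact_mod_cast this
  have hs0 : 0 ≤ s := Real.sqrt_nonneg _
  have hd2' : (2 : ℝ) ≤ d := by exact_mod_cast hd2
  have : s < 1 + d := by nlinarith
  calc (Nat.card H : ℝ) = s ^ 2 := (Real.sq_sqrt (Nat.cast_nonneg _)).symm
    _ < (1 + (d : ℝ)) ^ 2 := pow_lt_pow_left₀ this hs0 two_ne_zero

end Cfsg.Agent.Char.FTBound
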