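import Cfsg.Agent.Lib.Char.TwoTrans
import Cfsg.Agent.Lib.Char.Induction
import Mathlib.Data.Sym.Card

/-!
Characters of groups acting with four-fold transitivity: the constituents of the permutation
characters on points, on two-element subsets and on ordered pairs.
-/

set_option linter.style.haveILetI false
set_option linter.unusedSectionVars false
set_option autoImplicit false

namespace Cfsg.Agent.Char.FourTrans

open Cfsg.Agent.Char
open scoped ComplexConjugate

universe u v w

variable (G : Type u) [Group G] (α : Type v) [MulAction G α]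

/-- Tuples of length four with the same equalities are in one orbit. -/
def PatTrans : Prop :=
  ∀ z z' : Fin 4 → α, (∀ i j, z i = z j ↔ z' i = z' j) → ∃ g : G, ∀ i, g • z i = z' i

theorem patTrans_of_pretransitive [MulAction.IsMultiplyPretransitive G α 4] (h4 : 4 ≤ Nat.card α)
    [Finite α] : PatTrans G α := by
  classical
  intro z z' hz
  set s := Finset.univ.image z with hs
  set m := s.card with hm
  have hm4 : m ≤ 4 := le_trans Finset.card_image_le (by simp)
  haveI := Fintype.ofFinite α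
  haveI : MulAction.IsMultiplyPretransitive G α m :=
    MulAction.isMultiplyPretransitive_of_le (n := 4) hm4 (by simpa using h4)
  have hmem : ∀ k : s, ∃ i, z i = (k : α) := fun k => by
    obtain ⟨i, -, hi⟩ := Finset.mem_image.1 k.2
    exact ⟨i, hi⟩
  choose pre hpre using hmem
  let y : Fin m ↪ α := ⟨fun k => (s.equivFin.symm k : α), fun a b e =>
    s.equivFin.symm.injective (Subtype.ext e)⟩
  let y' : Fin m ↪ α := ⟨fun k => z' (pre (s.equivFin.symm k)), fun a b e => by
    refine s.equivFin.symm.injective (Subtype.ext ?_)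
    rw [← hpre, ← hpre, hz]
    exact e⟩
  obtain ⟨g, hg⟩ := MulAction.exists_smul_eq G y y'
  refine ⟨g, fun i => ?_⟩
  have hi : z i ∈ s := Finset.mem_image.2 ⟨i, Finset.mem_univ _, rfl⟩
  have e := congrArg (fun t : Fin m ↪ α => t (s.equivFin ⟨z i, hi⟩)) hg
  simp only [Function.Embedding.smul_apply] at e
  change g • ((s.equivFin.symm (s.equivFin ⟨z i, hi⟩) : s) : α) =
    z' (pre (s.equivFin.symm (s.equivFin ⟨z i, hi⟩))) at e
  rw [Equiv.symm_apply_apply] at e
  rw [e]
  exact (hz _ _).1 (hpre ⟨z i, hi⟩)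

/-- Ordered pairs of distinct points. -/
abbrev OPair : Type v := {q : α × α // q.1 ≠ q.2}

/-- Unordered pairs of distinct points. -/
abbrev UPair : Type v := {s : Sym2 α // ¬ s.IsDiag}

instance [Finite α] : Finite (OPair α) := Subtype.finite
instance [Finite α] : Finite (UPair α) := Subtype.finite

instance : MulAction G (OPair α) where
  smul g q := ⟨(g • q.1.1, g • q.1.2), fun h => q.2 (MulAction.injective g h)⟩
  one_smul q := Subtype.ext (Prod.ext (one_smul G _) (one_smul G _))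
  mul_smul g k q := Subtype.ext (Prod.ext (mul_smul g k _) (mul_smul g k _))

instance : MulAction G (UPair α) where
  smul g s := ⟨s.1.map (g • ·), fun h => s.2 ((Sym2.isDiag_map (MulAction.injective g)).1 h)⟩
  one_smul s := Subtype.ext (show s.1.map _ = s.1 by simp)
  mul_smul g k s := Subtype.ext (show s.1.map _ = (s.1.map _).map _ by
    rw [Sym2.map_map]; simp [Function.comp_def, mul_smul])

variable {G α}

theorem opair_smul (g : G) (q : OPair α) : (g • q).1 = (g • q.1.1, g • q.1.2) := rfl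

theorem upair_smul (g : G) (s : UPair α) : (g • s).1 = s.1.map (g • ·) := rfl

theorem mem_smul_iff (g : G) (a : α) (s : UPair α) : g • a ∈ (g • s).1 ↔ a ∈ s.1 := by
  rw [upair_smul, Sym2.mem_map]
  exact ⟨fun ⟨x, hx, e⟩ => MulAction.injective g e ▸ hx, fun h => ⟨a, h, rfl⟩⟩

theorem upair_mk (g : G) {a b a' b' : α} {h : ¬ s(a, b).IsDiag} {h' : ¬ s(a', b').IsDiag}
    (h1 : g • a = a') (h2 : g • b = b') :
    g • (⟨s(a, b), h⟩ : UPair α) = ⟨s(a', b'), h'⟩ :=
  Subtype.ext (show Sym2.map (g • ·) s(a, b) = _ by rw [Sym2.map_mk, h1, h2])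

variable (G) in
/-- The fixed point count as a class function. -/
noncomputable def piX (X : Type w) [MulAction G X] : G → ℂ :=
  fun g => (Nat.card (MulAction.fixedBy X g) : ℂ)

theorem isCharacter_piX (X : Type w) [MulAction G X] [Finite X] : Cfsg.IsCharacter G (piX G X) := by
  classical
  haveI : Fintype X := Fintype.ofFinite X
  have e : piX G X = (Representation.ofMulAction ℂ G X).character :=
    funext fun g => (character_ofMulAction X g).symm
  rw [e]
  exact isCharacter_of_rep _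

theorem piX_one (X : Type w) [MulAction G X] [Finite X] : piX G X 1 = Nat.card X := by
  simp only [piX, MulAction.fixedBy_one_eq_univ, Nat.card_univ]

theorem classInner_piX [Fintype G] (X : Type w) (Y : Type v) [MulAction G X] [MulAction G Y]
    [Finite X] [Finite Y] {k : ℕ} (h : Nat.card (Quotient (MulAction.orbitRel G (X × Y))) = k) :
    Cfsg.classInner (piX G X) (piX G Y) = k := by
  classical
  unfold Cfsg.classInner piX
  simp only [map_natCast, ← Nat.cast_mul, ← Nat.cast_sum]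
  have e : ∀ g : G, Nat.card (MulAction.fixedBy X g) * Nat.card (MulAction.fixedBy Y g) =
      Nat.card (MulAction.fixedBy (X × Y) g) := fun g => by
    rw [← Nat.card_prod]
    exact Nat.card_congr
      { toFun := fun p => ⟨(p.1.1, p.2.1), Prod.ext p.1.2 p.2.2⟩
        invFun := fun p => (⟨p.1.1, congrArg Prod.fst p.2⟩, ⟨p.1.2, congrArg Prod.snd p.2⟩)
        left_inv := fun p => rfl
        right_inv := fun p => rfl }
  simp only [e]
  rw [sum_natCard_fixedBy, h, Nat.cast_mul, mul_comm (k : ℂ), inv_mul_cancel_left₀]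
  exact Nat.cast_ne_zero.2 Nat.card_pos.ne'

theorem card_orbits {Z : Type w} [MulAction G Z] {k : ℕ} (Φ : Z → Fin k)
    (hinv : ∀ (g : G) z, Φ (g • z) = Φ z) (hsurj : ∀ c, ∃ z, Φ z = c)
    (htrans : ∀ z z', Φ z = Φ z' → ∃ g : G, g • z = z') :
    Nat.card (Quotient (MulAction.orbitRel G Z)) = k := by
  let f : Quotient (MulAction.orbitRel G Z) → Fin k := Quotient.lift Φ fun x y h => by
    obtain ⟨g, rfl⟩ := (MulAction.orbitRel_apply.mp h : x ∈ MulAction.orbit G y)
    exact hinv g y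
  rw [Nat.card_eq_of_bijective f ⟨?_, fun c => ?_⟩, Nat.card_fin]
  · rintro ⟨x⟩ ⟨y⟩ e
    obtain ⟨g, rfl⟩ := htrans x y e
    exact (Quotient.sound (MulAction.orbitRel_apply.mpr (MulAction.mem_orbit x g))).symm
  · obtain ⟨z, hz⟩ := hsurj c
    exact ⟨Quotient.mk _ z, hz⟩

theorem pat4 (hP : PatTrans G α) {a b c d a' b' c' d' : α} (hab : a = b ↔ a' = b')
    (hac : a = c ↔ a' = c') (had : a = d ↔ a' = d') (hbc : b = c ↔ b' = c')
    (hbd : b = d ↔ b' = d') (hcd : c = d ↔ c' = d') :
    ∃ g : G, g • a = a' ∧ g • b = b' ∧ g • c = c' ∧ g • d = d' := by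
  obtain ⟨g, hg⟩ := hP ![a, b, c, d] ![a', b', c', d'] (by
    intro i j
    fin_cases i <;> fin_cases j <;>
      simp [hab, hac, had, hbc, hbd, hcd, eq_comm (a := b) (b := a), eq_comm (a := c) (b := a),
        eq_comm (a := d) (b := a), eq_comm (a := c) (b := b), eq_comm (a := d) (b := b),
        eq_comm (a := d) (b := c), eq_comm (a := b') (b := a'), eq_comm (a := c') (b := a'),
        eq_comm (a := d') (b := a'), eq_comm (a := c') (b := b'), eq_comm (a := d') (b := b'),
        eq_comm (a := d') (b := c')])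
  exact ⟨g, hg 0, hg 1, hg 2, hg 3⟩

/-- Four distinct points. -/
theorem exists_four [Finite α] (h : 4 ≤ Nat.card α) :
    ∃ a b c d : α, a ≠ b ∧ a ≠ c ∧ a ≠ d ∧ b ≠ c ∧ b ≠ d ∧ c ≠ d := by
  let e := Finite.equivFin α
  have hne : ∀ i j : Fin 4, i ≠ j → e.symm (Fin.castLE h i) ≠ e.symm (Fin.castLE h j) :=
    fun i j hij he => hij (Fin.castLE_injective h (e.symm.injective he))
  exact ⟨_, _, _, _, hne 0 1 (by decide), hne 0 2 (by decide), hne 0 3 (by decide),
    hne 1 2 (by decide), hne 1 3 (by decide), hne 2 3 (by decide)⟩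

variable [Finite α] (hP : PatTrans G α) (h4 : 4 ≤ Nat.card α)
include hP h4

theorem orb_xx : Nat.card (Quotient (MulAction.orbitRel G (α × α))) = 2 := by
  classical
  obtain ⟨a, b, -, -, hab, -⟩ := exists_four h4
  refine card_orbits (fun z => if z.1 = z.2 then 0 else 1) (fun g z => ?_) (fun c => ?_) ?_
  · simp only [Prod.smul_fst, Prod.smul_snd, (MulAction.injective g).eq_iff]
  · fin_cases c
    · exact ⟨(a, a), by simp⟩
    · exact ⟨(a, b), by simp [hab]⟩
  · rintro ⟨x, y⟩ ⟨x', y'⟩ h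
    have hi : x = y ↔ x' = y' := by
      constructor <;> intro e <;> by_contra e' <;> simp [e, e'] at h
    obtain ⟨g, h1, h2, -⟩ := pat4 hP (a := x) (b := y) (c := x) (d := x) (a' := x') (b' := y')
      (c' := x') (d' := x') hi (by simp) (by simp) (by simp [eq_comm, hi]) (by simp [eq_comm, hi])
      (by simp)
    exact ⟨g, Prod.ext h1 h2⟩

theorem orb_xp : Nat.card (Quotient (MulAction.orbitRel G (α × OPair α))) = 3 := by
  classical
  obtain ⟨a, b, c, -, hab, hac, -, hbc, -⟩ := exists_four h4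
  refine card_orbits (fun z => if z.1 = z.2.1.1 then 0 else if z.1 = z.2.1.2 then 1 else 2)
    (fun g z => ?_) (fun i => ?_) ?_
  · simp only [Prod.smul_fst, Prod.smul_snd, opair_smul, (MulAction.injective g).eq_iff]
  · fin_cases i
    · exact ⟨(a, ⟨(a, b), hab⟩), by simp⟩
    · exact ⟨(b, ⟨(a, b), hab⟩), by simp [hab.symm]⟩
    · exact ⟨(c, ⟨(a, b), hab⟩), by simp [hac.symm, hbc.symm]⟩
  · rintro ⟨x, ⟨⟨p, q⟩, hpq⟩⟩ ⟨x', ⟨⟨p', q'⟩, hpq'⟩⟩ h
    simp only [ne_eq] at hpq hpq'
    obtain ⟨g, h1, h2, h3, -⟩ := pat4 hP (a := x) (b := p) (c := q) (d := x) (a' := x') (b' := p')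
      (c' := q') (d' := x') (by grind) (by grind) (by simp) (by grind) (by grind) (by grind)
    exact ⟨g, Prod.ext h1 (Subtype.ext (Prod.ext h2 h3))⟩

theorem orb_xu : Nat.card (Quotient (MulAction.orbitRel G (α × UPair α))) = 2 := by
  classical
  obtain ⟨a, b, c, -, hab, hac, -, hbc, -⟩ := exists_four h4
  refine card_orbits (fun z => if z.1 ∈ z.2.1 then 0 else 1) (fun g z => ?_) (fun i => ?_) ?_
  · simp only [Prod.smul_fst, Prod.smul_snd, mem_smul_iff]
  · fin_cases i
    · exact ⟨(a, ⟨s(a, b), by simpa using hab⟩), by simp⟩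
    · exact ⟨(c, ⟨s(a, b), by simpa using hab⟩), by simp [hac.symm, hbc.symm]⟩
  · rintro ⟨x, ⟨s, hs⟩⟩ ⟨x', ⟨s', hs'⟩⟩ h
    by_cases hx : x ∈ s
    · have hx' : x' ∈ s' := by by_contra e; simp [hx, e] at h
      obtain ⟨q, rfl⟩ := Sym2.mem_iff_exists.1 hx
      obtain ⟨q', rfl⟩ := Sym2.mem_iff_exists.1 hx'
      simp only [Sym2.mk_isDiag_iff] at hs hs'
      obtain ⟨g, h1, h2, -⟩ := pat4 hP (a := x) (b := q) (c := x) (d := x) (a' := x') (b' := q')
        (c' := x') (d' := x') (by grind) (by simp) (by simp) (by grind) (by grind) (by simp)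
      exact ⟨g, Prod.ext h1 (upair_mk g h1 h2)⟩
    · have hx' : x' ∉ s' := fun e => by simp [hx, e] at h
      induction s using Sym2.ind with | _ p q => ?_
      induction s' using Sym2.ind with | _ p' q' => ?_
      simp only [Sym2.mk_isDiag_iff, Sym2.mem_iff, not_or] at hs hs' hx hx'
      obtain ⟨g, h1, h2, h3, -⟩ := pat4 hP (a := x) (b := p) (c := q) (d := x) (a' := x') (b' := p')
        (c' := q') (d' := x') (by grind) (by grind) (by simp) (by grind) (by grind) (by grind)
      exact ⟨g, Prod.ext h1 (upair_mk g h2 h3)⟩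

theorem orb_pp : Nat.card (Quotient (MulAction.orbitRel G (OPair α × OPair α))) = 7 := by
  classical
  obtain ⟨a, b, c, d, hab, hac, had, hbc, hbd, hcd⟩ := exists_four h4
  refine card_orbits (fun z =>
    if z.2.1.1 = z.1.1.1 then (if z.2.1.2 = z.1.1.2 then 0 else 2)
    else if z.2.1.1 = z.1.1.2 then (if z.2.1.2 = z.1.1.1 then 1 else 3)
    else if z.2.1.2 = z.1.1.1 then 4 else if z.2.1.2 = z.1.1.2 then 5 else 6)
    (fun g z => ?_) (fun i => ?_) ?_
  · simp only [Prod.smul_fst, Prod.smul_snd, opair_smul, (MulAction.injective g).eq_iff]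
  · fin_cases i
    · exact ⟨(⟨(a, b), hab⟩, ⟨(a, b), hab⟩), by simp⟩
    · exact ⟨(⟨(a, b), hab⟩, ⟨(b, a), hab.symm⟩), by simp [hab.symm]⟩
    · exact ⟨(⟨(a, b), hab⟩, ⟨(a, c), hac⟩), by simp [hbc.symm]⟩
    · exact ⟨(⟨(a, b), hab⟩, ⟨(b, c), hbc⟩), by simp [hab.symm, hac.symm]⟩
    · exact ⟨(⟨(a, b), hab⟩, ⟨(c, a), hac.symm⟩), by simp [hac.symm, hbc.symm]⟩
    · exact ⟨(⟨(a, b), hab⟩, ⟨(c, b), hbc.symm⟩), by simp [hac.symm, hbc.symm, hab.symm]⟩
    · exact ⟨(⟨(a, b), hab⟩, ⟨(c, d), hcd⟩),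
        by simp [hac.symm, hbc.symm, had.symm, hbd.symm]⟩
  · rintro ⟨⟨⟨p, q⟩, hpq⟩, ⟨⟨r, s⟩, hrs⟩⟩ ⟨⟨⟨p', q'⟩, hpq'⟩, ⟨⟨r', s'⟩, hrs'⟩⟩ h
    simp only [ne_eq] at hpq hpq' hrs hrs'
    obtain ⟨g, h1, h2, h3, h5⟩ := pat4 hP (a := p) (b := q) (c := r) (d := s) (a' := p') (b' := q')
      (c' := r') (d' := s') (by grind) (by grind) (by grind) (by grind) (by grind) (by grind)
    exact ⟨g, Prod.ext (Subtype.ext (Prod.ext h1 h2)) (Subtype.ext (Prod.ext h3 h5))⟩

theorem orb_uu : Nat.card (Quotient (MulAction.orbitRel G (UPair α × UPair α))) = 3 := by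
  classical
  obtain ⟨a, b, c, d, hab, hac, had, hbc, hbd, hcd⟩ := exists_four h4
  refine card_orbits (fun z => if z.1 = z.2 then 0 else if ∃ x, x ∈ z.1.1 ∧ x ∈ z.2.1 then 1 else 2)
    (fun g z => ?_) (fun i => ?_) ?_
  · have hex : (∃ x, x ∈ (g • z.1).1 ∧ x ∈ (g • z.2).1) ↔ ∃ x, x ∈ z.1.1 ∧ x ∈ z.2.1 :=
      ⟨fun ⟨x, h1, h2⟩ => ⟨g⁻¹ • x, (mem_smul_iff g _ _).1 (by simpa using h1),
        (mem_smul_iff g _ _).1 (by simpa using h2)⟩,
       fun ⟨x, h1, h2⟩ => ⟨g • x, (mem_smul_iff g _ _).2 h1, (mem_smul_iff g _ _).2 h2⟩⟩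
    simp only [Prod.smul_fst, Prod.smul_snd, (MulAction.injective g).eq_iff, hex]
  · fin_cases i
    · exact ⟨(⟨s(a, b), by simpa using hab⟩, ⟨s(a, b), by simpa using hab⟩), by simp⟩
    · refine ⟨(⟨s(a, b), by simpa using hab⟩, ⟨s(a, c), by simpa using hac⟩), ?_⟩
      simp [hbc, hac]
    · refine ⟨(⟨s(a, b), by simpa using hab⟩, ⟨s(c, d), by simpa using hcd⟩), ?_⟩
      simp [hac, had, hbc, hbd]
  · rintro ⟨⟨s, hs⟩, ⟨t, ht⟩⟩ ⟨⟨s', hs'⟩, ⟨t', ht'⟩⟩ h
    by_cases e : s = t
    · subst e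
      have e' : s' = t' := by
        by_contra e'; simp [e'] at h; split_ifs at h <;> simp_all
      subst e'
      induction s using Sym2.ind with | _ p q => ?_
      induction s' using Sym2.ind with | _ p' q' => ?_
      simp only [Sym2.mk_isDiag_iff] at hs hs'
      obtain ⟨g, h1, h2, -⟩ := pat4 hP (a := p) (b := q) (c := p) (d := p) (a' := p') (b' := q')
        (c' := p') (d' := p') (by grind) (by simp) (by simp) (by grind) (by grind) (by simp)
      exact ⟨g, Prod.ext (upair_mk g h1 h2)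
        (upair_mk g h1 h2)⟩
    have e' : ¬ s' = t' := fun e' => by simp [e, e'] at h; split_ifs at h <;> simp_all
    by_cases hx : ∃ x, x ∈ s ∧ x ∈ t
    · have hx' : ∃ x, x ∈ s' ∧ x ∈ t' := by by_contra hh; simp [e, e', hx, hh] at h
      obtain ⟨p, hp1, hp2⟩ := hx
      obtain ⟨p', hp1', hp2'⟩ := hx'
      obtain ⟨q, rfl⟩ := Sym2.mem_iff_exists.1 hp1
      obtain ⟨r, rfl⟩ := Sym2.mem_iff_exists.1 hp2
      obtain ⟨q', rfl⟩ := Sym2.mem_iff_exists.1 hp1'
      obtain ⟨r', rfl⟩ := Sym2.mem_iff_exists.1 hp2'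
      simp only [Sym2.mk_isDiag_iff] at hs hs' ht ht'
      have hqr : q ≠ r := fun h => e (by rw [h])
      have hqr' : q' ≠ r' := fun h => e' (by rw [h])
      obtain ⟨g, h1, h2, h3, -⟩ := pat4 hP (a := p) (b := q) (c := r) (d := p) (a' := p') (b' := q')
        (c' := r') (d' := p') (by grind) (by grind) (by simp) (by grind) (by grind) (by grind)
      exact ⟨g, Prod.ext (upair_mk g h1 h2)
        (upair_mk g h1 h3)⟩
    · have hx' : ¬ ∃ x, x ∈ s' ∧ x ∈ t' := fun hh => by simp [e, e', hx, hh] at h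
      induction s using Sym2.ind with | _ p q => ?_
      induction t using Sym2.ind with | _ r u => ?_
      induction s' using Sym2.ind with | _ p' q' => ?_
      induction t' using Sym2.ind with | _ r' u' => ?_
      simp only [Sym2.mk_isDiag_iff] at hs hs' ht ht'
      simp only [Sym2.mem_iff] at hx hx'
      obtain ⟨g, h1, h2, h3, h5⟩ := pat4 hP (a := p) (b := q) (c := r) (d := u) (a' := p') (b' := q')
        (c' := r') (d' := u') (iff_of_false hs hs')
        (iff_of_false (fun h => hx ⟨p, Or.inl rfl, Or.inl h⟩) fun h => hx' ⟨p', Or.inl rfl, Or.inl h⟩)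
        (iff_of_false (fun h => hx ⟨p, Or.inl rfl, Or.inr h⟩) fun h => hx' ⟨p', Or.inl rfl, Or.inr h⟩)
        (iff_of_false (fun h => hx ⟨q, Or.inr rfl, Or.inl h⟩) fun h => hx' ⟨q', Or.inr rfl, Or.inl h⟩)
        (iff_of_false (fun h => hx ⟨q, Or.inr rfl, Or.inr h⟩) fun h => hx' ⟨q', Or.inr rfl, Or.inr h⟩)
        (iff_of_false ht ht')
      exact ⟨g, Prod.ext (upair_mk g h1 h2)
        (upair_mk g h3 h5)⟩

theorem orb_pu : Nat.card (Quotient (MulAction.orbitRel G (OPair α × UPair α))) = 4 := by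
  classical
  obtain ⟨a, b, c, d, hab, hac, had, hbc, hbd, hcd⟩ := exists_four h4
  refine card_orbits (fun z => if z.1.1.1 ∈ z.2.1 then (if z.1.1.2 ∈ z.2.1 then 0 else 1)
      else if z.1.1.2 ∈ z.2.1 then 2 else 3)
    (fun g z => ?_) (fun i => ?_) ?_
  · simp only [Prod.smul_fst, Prod.smul_snd, opair_smul, mem_smul_iff]
  · fin_cases i
    · exact ⟨(⟨(a, b), hab⟩, ⟨s(a, b), by simpa using hab⟩), by simp⟩
    · exact ⟨(⟨(a, b), hab⟩, ⟨s(a, c), by simpa using hac⟩), by simp [hab.symm, hbc]⟩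
    · exact ⟨(⟨(a, b), hab⟩, ⟨s(c, b), by simpa using hbc.symm⟩), by simp [hab, hac]⟩
    · exact ⟨(⟨(a, b), hab⟩, ⟨s(c, d), by simpa using hcd⟩), by simp [hac, had, hbc, hbd]⟩
  · rintro ⟨⟨⟨p, q⟩, hpq⟩, ⟨s, hs⟩⟩ ⟨⟨⟨p', q'⟩, hpq'⟩, ⟨s', hs'⟩⟩ h
    simp only [ne_eq] at hpq hpq'
    have hp : p ∈ s ↔ p' ∈ s' := by grind
    have hq : q ∈ s ↔ q' ∈ s' := by grind
    obtain ⟨r, u, rfl, r', u', rfl, hh⟩ : ∃ r u, s = s(r, u) ∧ ∃ r' u', s' = s(r', u') ∧
        ((p = r ↔ p' = r') ∧ (p = u ↔ p' = u') ∧ (q = r ↔ q' = r') ∧ (q = u ↔ q' = u')) := by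
      induction s using Sym2.ind with | _ r u => ?_
      induction s' using Sym2.ind with | _ r' u' => ?_
      simp only [Sym2.mk_isDiag_iff] at hs hs'
      simp only [Sym2.mem_iff] at hp hq
      by_cases h1 : ((p = r ↔ p' = r') ∧ (p = u ↔ p' = u') ∧ (q = r ↔ q' = r') ∧ (q = u ↔ q' = u'))
      · exact ⟨r, u, rfl, r', u', rfl, h1⟩
      · exact ⟨r, u, rfl, u', r', Sym2.eq_swap, by grind⟩
    obtain ⟨hpr, hpu, hqr, hqu⟩ := hh
    simp only [Sym2.mk_isDiag_iff] at hs hs'
    obtain ⟨g, h1, h2, h3, h5⟩ := pat4 hP (a := p) (b := q) (c := r) (d := u) (a' := p') (b' := q')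
      (c' := r') (d' := u') (by grind) hpr hpu hqr hqu (by grind)
    exact ⟨g, Prod.ext (Subtype.ext (Prod.ext h1 h2)) (upair_mk g h3 h5)⟩

omit hP h4

variable (G α) in
/-- The three functions. -/
noncomputable def chiOne : G → ℂ := piX G α - fun _ => 1

variable (G α) in
/-- Two-element subsets minus points. -/
noncomputable def chiTwo : G → ℂ := piX G (UPair α) - piX G α

variable (G α) in
/-- The antisymmetric square of `chiOne`. -/
noncomputable def chiAlt : G → ℂ := piX G (OPair α) - piX G (UPair α) - piX G α + fun _ => 1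

theorem irr_of_gen [Fintype G] {f : G → ℂ} (hf : Cfsg.IsGeneralizedCharacter G f)
    (hn : Cfsg.classInner f f = 1) {d : ℕ} (h1 : f 1 = d) : Cfsg.IsIrrCharacter G f := by
  rcases IsGeneralizedCharacter.of_norm_one hf hn with h | h
  · exact h
  · exfalso
    obtain ⟨e, he, he'⟩ := IsIrrCharacter.exists_degree h
    rw [Pi.neg_apply, h1] at he'
    have : (e : ℤ) = -(d : ℤ) := by exact_mod_cast he'.symm
    omega

include hP h4

theorem chi_irr [Fintype G] : Cfsg.IsIrrCharacter G (chiOne G α) ∧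
    Cfsg.IsIrrCharacter G (chiTwo G α) ∧ Cfsg.IsIrrCharacter G (chiAlt G α) := by
  classical
  have hx : Nat.card (Quotient (MulAction.orbitRel G α)) = 1 := by
    refine card_orbits (fun _ => (0 : Fin 1)) (fun _ _ => rfl) (fun c => ?_) fun x y _ => ?_
    · obtain ⟨a, -⟩ := exists_four h4
      exact ⟨a, Subsingleton.elim _ _⟩
    · obtain ⟨g, h, -⟩ := pat4 hP (a := x) (b := x) (c := x) (d := x) (a' := y) (b' := y) (c' := y)
        (d' := y) (by simp) (by simp) (by simp) (by simp) (by simp) (by simp)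
      exact ⟨g, h⟩
  have hp : Nat.card (Quotient (MulAction.orbitRel G (OPair α))) = 1 := by
    refine card_orbits (fun _ => (0 : Fin 1)) (fun _ _ => rfl) (fun c => ?_) fun x y _ => ?_
    · obtain ⟨a, b, -, -, hab, -⟩ := exists_four h4
      exact ⟨⟨(a, b), hab⟩, Subsingleton.elim _ _⟩
    · obtain ⟨g, h1, h2, -⟩ := pat4 hP (a := x.1.1) (b := x.1.2) (c := x.1.1) (d := x.1.1)
        (a' := y.1.1) (b' := y.1.2) (c' := y.1.1) (d' := y.1.1) (by simp [x.2, y.2]) (by simp)
        (by simp) (by simp [Ne.symm x.2, Ne.symm y.2]) (by simp [Ne.symm x.2, Ne.symm y.2]) (by simp)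
      exact ⟨g, Subtype.ext (Prod.ext h1 h2)⟩
  have hu : Nat.card (Quotient (MulAction.orbitRel G (UPair α))) = 1 := by
    refine card_orbits (fun _ => (0 : Fin 1)) (fun _ _ => rfl) (fun c => ?_) fun x y _ => ?_
    · obtain ⟨a, b, -, -, hab, -⟩ := exists_four h4
      exact ⟨⟨s(a, b), by simpa using hab⟩, Subsingleton.elim _ _⟩
    · obtain ⟨s, hs⟩ := x
      obtain ⟨t, ht⟩ := y
      induction s using Sym2.ind with | _ p q => ?_
      induction t using Sym2.ind with | _ r u => ?_
      simp only [Sym2.mk_isDiag_iff] at hs ht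
      obtain ⟨g, h1, h2, -⟩ := pat4 hP (a := p) (b := q) (c := p) (d := p)
        (a' := r) (b' := u) (c' := r) (d' := r) (by grind) (by simp)
        (by simp) (by grind) (by grind) (by simp)
      exact ⟨g, upair_mk g h1 h2⟩
  have one_inner : ∀ (X : Type v) [MulAction G X] [Finite X],
      Nat.card (Quotient (MulAction.orbitRel G X)) = 1 →
      Cfsg.classInner (piX G X) (fun _ => 1) = 1 := by
    intro X _ _ h
    unfold Cfsg.classInner piX
    simp only [map_one, mul_one, ← Nat.cast_sum]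
    rw [sum_natCard_fixedBy, h, one_mul, inv_mul_cancel₀ (Nat.cast_ne_zero.2 Nat.card_pos.ne')]
  have one_inner' : ∀ (X : Type v) [MulAction G X] [Finite X],
      Nat.card (Quotient (MulAction.orbitRel G X)) = 1 →
      Cfsg.classInner (fun _ => (1 : ℂ)) (piX G X) = 1 := fun X _ _ h => by
    rw [← classInner_conj_symm, one_inner X h, map_one]
  have hone : Cfsg.classInner (fun _ : G => (1 : ℂ)) (fun _ => 1) = 1 :=
    classInner_self_irr isIrrCharacter_one
  have hswap : ∀ {a b : G → ℂ} {k : ℕ}, Cfsg.classInner a b = (k : ℂ) →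
      Cfsg.classInner b a = (k : ℂ) := fun {a b k} h => by
    rw [← classInner_conj_symm, h, map_natCast]
  have i11 := classInner_piX α α (orb_xx hP h4)
  have i1u := classInner_piX α (UPair α) (orb_xu hP h4)
  have i1p := classInner_piX α (OPair α) (orb_xp hP h4)
  have iuu := classInner_piX (UPair α) (UPair α) (orb_uu hP h4)
  have ipu := classInner_piX (OPair α) (UPair α) (orb_pu hP h4)
  have ipp := classInner_piX (OPair α) (OPair α) (orb_pp hP h4)
  have iu1 := hswap i1u
  have ip1 := hswap i1p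
  have iup := hswap ipu
  have g1 : Cfsg.IsGeneralizedCharacter G (fun _ : G => (1 : ℂ)) :=
    IsGeneralizedCharacter.of_isCharacter isCharacter_one
  have gx := IsGeneralizedCharacter.of_isCharacter (isCharacter_piX (G := G) α)
  have gu := IsGeneralizedCharacter.of_isCharacter (isCharacter_piX (G := G) (UPair α))
  have gp := IsGeneralizedCharacter.of_isCharacter (isCharacter_piX (G := G) (OPair α))
  haveI : Fintype α := Fintype.ofFinite α
  have hU : Nat.card (UPair α) = (Nat.card α).choose 2 := by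
    rw [Nat.card_eq_fintype_card, Nat.card_eq_fintype_card]
    exact Sym2.card_subtype_not_diag
  have hO : Nat.card (OPair α) = Nat.card α * Nat.card α - Nat.card α := by
    show Nat.card {q : α × α // q.1 ≠ q.2} = _
    rw [Nat.card_eq_fintype_card, Nat.card_eq_fintype_card, Fintype.card_subtype_compl,
      Fintype.card_prod]
    congr 1
    exact Fintype.card_congr
      { toFun := fun q => q.1.1
        invFun := fun a => ⟨(a, a), rfl⟩
        left_inv := fun ⟨⟨a, b⟩, h⟩ => Subtype.ext (Prod.ext rfl h)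
        right_inv := fun a => rfl }
  obtain ⟨n, hn⟩ : ∃ n, n = Nat.card α := ⟨_, rfl⟩
  have hc2 : 2 * n.choose 2 = n * n - n := by
    rw [Nat.choose_two_right, Nat.two_mul_div_two_of_even (Nat.even_mul_pred_self n), Nat.mul_sub,
      mul_one]
  have h4' : 4 * n ≤ n * n := Nat.mul_le_mul_right n (hn ▸ h4)
  refine ⟨irr_of_gen (IsGeneralizedCharacter.sub gx g1) ?_ (d := n - 1) ?_,
    irr_of_gen (IsGeneralizedCharacter.sub gu gx) ?_ (d := n.choose 2 - n) ?_,
    irr_of_gen (IsGeneralizedCharacter.add (IsGeneralizedCharacter.sub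
      (IsGeneralizedCharacter.sub gp gu) gx) g1) ?_ (d := n.choose 2 - n + 1) ?_⟩
  · simp only [chiOne, classInner_sub_left, classInner_sub_right, i11, one_inner α hx,
      one_inner' α hx, hone]
    norm_num
  · simp only [chiOne, Pi.sub_apply, piX_one, ← hn]
    rw [Nat.cast_sub (by omega), Nat.cast_one]
  · simp only [chiTwo, classInner_sub_left, classInner_sub_right, i11, i1u, iu1, iuu]
    norm_num
  · simp only [chiTwo, Pi.sub_apply, piX_one, hU, ← hn]
    rw [Nat.cast_sub (by omega)]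
  · simp only [chiAlt, classInner_sub_left, classInner_sub_right, classInner_add_left,
      classInner_add_right, i11, i1u, iu1, iuu, i1p, ip1, ipu, iup, ipp, one_inner α hx,
      one_inner' α hx, one_inner _ hu, one_inner' _ hu, one_inner _ hp, one_inner' _ hp, hone]
    norm_num
  · simp only [chiAlt, Pi.sub_apply, Pi.add_apply, piX_one, hU, hO, ← hn]
    rw [Nat.cast_add, Nat.cast_sub (show n ≤ n.choose 2 by omega), ← hc2, Nat.cast_mul]
    push_cast; ring

omit hP h4

/-- Values at an element without transpositions among its cycles. -/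
theorem values_of_no_swap (g : G) (hg : ∀ x : α, g • g • x = x → g • x = x) {f : ℕ}
    (hf : Nat.card (MulAction.fixedBy α g) = f) :
    piX G (UPair α) g = (f.choose 2 : ℕ) ∧ piX G (OPair α) g = (f * f - f : ℕ) := by
  classical
  haveI : Fintype α := Fintype.ofFinite α
  let F := MulAction.fixedBy α g
  have hfix : ∀ a b : α, Sym2.map (g • ·) s(a, b) = s(a, b) → a ∈ F ∧ b ∈ F := by
    intro a b h
    simp only [Sym2.map_mk, Sym2.eq_iff] at h
    rcases h with ⟨h1, h2⟩ | ⟨h1, h2⟩
    · exact ⟨h1, h2⟩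
    · have := hg a (by rw [h1, h2])
      have hab : a = b := this.symm.trans h1
      subst hab
      exact ⟨this, this⟩
  constructor
  · show (Nat.card (MulAction.fixedBy (UPair α) g) : ℂ) = _
    congr 1
    rw [← hf, Nat.card_eq_fintype_card (α := F), ← Sym2.card_subtype_not_diag,
      ← Nat.card_eq_fintype_card]
    refine (Nat.card_congr (Equiv.ofBijective (fun s : {s : Sym2 F // ¬ s.IsDiag} =>
      (⟨⟨s.1.map Subtype.val, fun h => s.2 ((Sym2.isDiag_map Subtype.val_injective).1 h)⟩,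
        Subtype.ext (by
          show Sym2.map (g • ·) (Sym2.map Subtype.val s.1) = Sym2.map Subtype.val s.1
          rw [Sym2.map_map]
          exact Sym2.map_congr fun x _ => x.2)⟩ : MulAction.fixedBy (UPair α) g)) ⟨?_, ?_⟩)).symm
    · intro s t h
      exact Subtype.ext (Sym2.map.injective Subtype.val_injective
        (congrArg (fun x => x.1.1) h))
    · rintro ⟨⟨s, hs⟩, h⟩
      induction s using Sym2.ind with | _ a b => ?_
      obtain ⟨ha, hb⟩ := hfix a b (congrArg Subtype.val h)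
      exact ⟨⟨s(⟨a, ha⟩, ⟨b, hb⟩), fun e => hs (by simpa using e)⟩, rfl⟩
  · show (Nat.card (MulAction.fixedBy (OPair α) g) : ℂ) = _
    congr 1
    rw [← hf, Nat.card_congr (β := {q : F × F // q.1 ≠ q.2})
      { toFun := fun q => ⟨(⟨q.1.1.1, congrArg Prod.fst (congrArg Subtype.val q.2)⟩,
            ⟨q.1.1.2, congrArg Prod.snd (congrArg Subtype.val q.2)⟩),
          fun e => q.1.2 (congrArg Subtype.val e)⟩
        invFun := fun q => ⟨⟨(q.1.1.1, q.1.2.1), fun e => q.2 (Subtype.ext e)⟩,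
          Subtype.ext (Prod.ext q.1.1.2 q.1.2.2)⟩
        left_inv := fun q => rfl
        right_inv := fun q => rfl },
      Nat.card_eq_fintype_card, Nat.card_eq_fintype_card, Fintype.card_subtype_compl,
      Fintype.card_prod]
    congr 1
    exact Fintype.card_congr
      { toFun := fun q => q.1.1
        invFun := fun a => ⟨(a, a), rfl⟩
        left_inv := fun ⟨⟨a, b⟩, h⟩ => Subtype.ext (Prod.ext rfl h)
        right_inv := fun a => rfl }

end Cfsg.Agent.Char.FourTrans
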