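import Mathlib.Analysis.InnerProductSpace.PiL2
import Mathlib.Analysis.Normed.Operator.Basic
import Mathlib.LinearAlgebra.Eigenspace.Pi
import Mathlib.LinearAlgebra.Eigenspace.Semisimple
import Mathlib.LinearAlgebra.Eigenspace.Triangularizable
import Mathlib.LinearAlgebra.Semisimple
import Mathlib.FieldTheory.Separable
import Mathlib.Analysis.Complex.Polynomial.Basic
import Mathlib.Analysis.SpecialFunctions.Complex.Arg
import Mathlib.GroupTheory.OrderOfElement
import Mathlib.GroupTheory.Index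
import Mathlib.RepresentationTheory.Basic

/-!
Frobenius: in a finite unitary group the elements near the identity generate an abelian
normal subgroup `A`, and every abelian subgroup meets `A` with index at most `12 ^ n`.
-/

set_option autoImplicit false

noncomputable section

namespace Cfsg.Agent.FrobBound

open Module
open scoped ComplexConjugate NNReal

variable {G : Type*} [Group G] [Finite G]
variable {E : Type*} [NormedAddCommGroup E] [InnerProductSpace ℂ E] [FiniteDimensional ℂ E]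
variable (τ : G →* (E →L[ℂ] E))

/-- joint eigenspace of a subgroup -/
def weightSpace (H : Subgroup G) (χ : H → ℂ) : Submodule ℂ E :=
  ⨅ h : H, Module.End.eigenspace ((τ (h : G)).toLinearMap : Module.End ℂ E) (χ h)

theorem mem_weightSpace {H : Subgroup G} {χ : H → ℂ} {v : E} :
    v ∈ weightSpace τ H χ ↔ ∀ h : H, τ (h : G) v = χ h • v := by
  simp [weightSpace, Submodule.mem_iInf, Module.End.mem_eigenspace_iff]

theorem tau_mul (g h : G) (v : E) : τ (g * h) v = τ g (τ h v) := by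
  rw [map_mul]; rfl

variable (hiso : ∀ g v, ‖τ g v‖ = ‖v‖)
include hiso

omit [FiniteDimensional ℂ E] in
theorem inner_map (g : G) (v w : E) : inner ℂ (τ g v) (τ g w) = inner ℂ v w :=
  (LinearMap.norm_map_iff_inner_map_map (τ g)).1 (hiso g) v w

omit [FiniteDimensional ℂ E] in
theorem eigen_norm {g : G} {μ : ℂ} {v : E} (hv : v ≠ 0) (h : τ g v = μ • v) : ‖μ‖ = 1 := by
  have := hiso g v
  rw [h, norm_smul] at this
  exact (mul_eq_right₀ (norm_ne_zero_iff.2 hv)).1 this

omit [FiniteDimensional ℂ E] in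
theorem eigen_orth {g : G} {μ ν : ℂ} {v w : E} (hv : τ g v = μ • v) (hw : τ g w = ν • w)
    (hne : μ ≠ ν) : inner ℂ v w = 0 := by
  by_cases h0 : v = 0
  · simp [h0]
  have hμ := eigen_norm τ hiso h0 hv
  have h := inner_map τ hiso g v w
  rw [hv, hw, inner_smul_left, inner_smul_right, ← mul_assoc] at h
  by_contra hi
  have h1 : conj μ * ν = 1 := (mul_eq_right₀ hi).1 h
  have h2 : μ * conj μ = 1 := by rw [Complex.mul_conj']; simp [hμ]
  apply hne
  calc μ = μ * (conj μ * ν) := by rw [h1, mul_one]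
    _ = ν := by rw [← mul_assoc, h2, one_mul]

omit hiso in
theorem isSemisimple_tau (g : G) :
    Module.End.IsSemisimple ((τ g).toLinearMap : Module.End ℂ E) := by
  refine Module.End.isSemisimple_of_squarefree_aeval_eq_zero
    (p := Polynomial.X ^ orderOf g - 1)
    ((Polynomial.X_pow_sub_one_separable_iff.2
      (Nat.cast_ne_zero.2 (orderOf_pos g).ne')).squarefree) ?_
  have key : ∀ k : ℕ, ((τ g).toLinearMap : Module.End ℂ E) ^ k = (τ (g ^ k)).toLinearMap := by
    intro k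
    induction k with
    | zero => ext v; simp
    | succ k ih => rw [pow_succ, ih]; ext v; simp [pow_succ, map_mul]
  simp [key, pow_orderOf_eq_one]

omit hiso in
theorem iSup_weightSpace (H : Subgroup G) (hH : ∀ x ∈ H, ∀ y ∈ H, x * y = y * x) :
    ⨆ χ : H → ℂ, weightSpace τ H χ = ⊤ := by
  let f : H → Module.End ℂ E := fun h => (τ (h : G)).toLinearMap
  have hc : Pairwise fun i j => Commute (f i) (f j) := by
    intro i j _
    refine LinearMap.ext fun v => ?_
    show τ (i : G) (τ (j : G) v) = τ (j : G) (τ (i : G) v)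
    rw [← tau_mul, ← tau_mul, hH _ i.2 _ j.2]
  have := Module.End.iSup_iInf_maxGenEigenspace_eq_top_of_iSup_maxGenEigenspace_eq_top_of_commute
    f hc (fun i => Module.End.iSup_maxGenEigenspace_eq_top (f i))
  simpa [weightSpace, f,
    (isSemisimple_tau τ _).isFinitelySemisimple.maxGenEigenspace_eq_eigenspace] using this

omit hiso in
theorem indep_weightSpace (H : Subgroup G) (hH : ∀ x ∈ H, ∀ y ∈ H, x * y = y * x) :
    iSupIndep fun χ : H → ℂ => weightSpace τ H χ := by
  let f : H → Module.End ℂ E := fun h => (τ (h : G)).toLinearMap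
  have := Module.End.independent_iInf_maxGenEigenspace_of_forall_mapsTo f (fun i j φ =>
    Module.End.mapsTo_maxGenEigenspace_of_comm (LinearMap.ext fun v => by
      show τ (j : G) (τ (i : G) v) = τ (i : G) (τ (j : G) v)
      rw [← tau_mul, ← tau_mul, hH _ i.2 _ j.2]) φ)
  simpa [weightSpace, f,
    (isSemisimple_tau τ _).isFinitelySemisimple.maxGenEigenspace_eq_eigenspace] using this

/-- an operator acting by scalars on all weight spaces has norm at most the largest scalar -/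
theorem norm_le_of_weights (H : Subgroup G) (hH : ∀ x ∈ H, ∀ y ∈ H, x * y = y * x)
    (T : E →L[ℂ] E) (r : ℝ) (hr : 0 ≤ r)
    (hT : ∀ χ, weightSpace τ H χ ≠ ⊥ →
      ∃ μ : ℂ, ‖μ‖ ≤ r ∧ ∀ v ∈ weightSpace τ H χ, T v = μ • v) : ‖T‖ ≤ r := by
  classical
  refine ContinuousLinearMap.opNorm_le_bound _ hr fun v => ?_
  obtain ⟨w, hw, hsum⟩ := (Submodule.mem_iSup_iff_exists_finsupp _ v).1
    (iSup_weightSpace τ H hH ▸ Submodule.mem_top (x := v))
  rw [Finsupp.sum] at hsum
  have horth : ∀ χ χ' : H → ℂ, χ ≠ χ' → ∀ a ∈ weightSpace τ H χ, ∀ b ∈ weightSpace τ H χ',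
      inner ℂ a b = 0 := by
    intro χ χ' hne a ha b hb
    obtain ⟨h, hh⟩ := Function.ne_iff.1 hne
    exact eigen_orth τ hiso ((mem_weightSpace τ).1 ha h) ((mem_weightSpace τ).1 hb h) hh
  have pyth : ∀ u : (H → ℂ) → E, (∀ χ, u χ ∈ weightSpace τ H χ) →
      ‖∑ χ ∈ w.support, u χ‖ ^ 2 = ∑ χ ∈ w.support, ‖u χ‖ ^ 2 := by
    intro u hu
    have e : inner ℂ (∑ χ ∈ w.support, u χ) (∑ χ ∈ w.support, u χ) =
        ∑ χ ∈ w.support, inner ℂ (u χ) (u χ) := by
      rw [sum_inner]
      refine Finset.sum_congr rfl fun a ha => ?_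
      rw [inner_sum, Finset.sum_eq_single a (fun b _ hb =>
        horth a b (Ne.symm hb) _ (hu a) _ (hu b)) (fun h => (h ha).elim)]
    have := congrArg Complex.re e
    simpa [inner_self_eq_norm_sq_to_K, Complex.re_sum, ← Complex.ofReal_pow] using this
  have hmem : ∀ χ, T (w χ) ∈ weightSpace τ H χ := by
    intro χ
    by_cases h0 : w χ = 0
    · simp [h0]
    obtain ⟨μ, -, hμ⟩ := hT χ (Submodule.ne_bot_iff _ |>.2 ⟨_, hw χ, h0⟩)
    rw [hμ _ (hw χ)]
    exact Submodule.smul_mem _ _ (hw χ)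
  have hb : ∀ χ ∈ w.support, ‖T (w χ)‖ ^ 2 ≤ r ^ 2 * ‖w χ‖ ^ 2 := by
    intro χ hχ
    obtain ⟨μ, hμr, hμ⟩ := hT χ (Submodule.ne_bot_iff _ |>.2
      ⟨_, hw χ, Finsupp.mem_support_iff.1 hχ⟩)
    rw [hμ _ (hw χ), norm_smul, mul_pow]
    gcongr
  have : ‖T v‖ ^ 2 ≤ (r * ‖v‖) ^ 2 := by
    rw [← hsum, map_sum, mul_pow, pyth _ hw, pyth _ hmem, Finset.mul_sum]
    exact Finset.sum_le_sum hb
  exact le_of_pow_le_pow_left₀ two_ne_zero (by positivity) this

/-- If `a` commutes with its conjugate by an element near `1`, it equals that conjugate. -/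
theorem commute_of_commute_conj (hinj : Function.Injective τ) {a b : G} (hb : ‖τ b - 1‖ < 1)
    (hc : Commute a (b * a * b⁻¹)) : Commute a b := by
  set y := b * a * b⁻¹ with hy
  let H : Subgroup G := Subgroup.closure {a, y}
  have hH : ∀ u ∈ H, ∀ v ∈ H, u * v = v * u := by
    intro u hu v hv
    have hcomm : IsMulCommutative H := Subgroup.isMulCommutative_closure (by
      rintro p (rfl | rfl) q (rfl | rfl)
      exacts [rfl, hc.eq, hc.eq.symm, rfl])
    exact congrArg Subtype.val (hcomm.is_comm.comm ⟨u, hu⟩ ⟨v, hv⟩)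
  have haH : a ∈ H := Subgroup.subset_closure (by simp)
  have hyH : y ∈ H := Subgroup.subset_closure (by simp)
  have key : τ a = τ y := by
    refine ContinuousLinearMap.ext fun v => ?_
    have hv : v ∈ ⨆ χ : H → ℂ, weightSpace τ H χ := by
      rw [iSup_weightSpace τ H hH]; trivial
    induction hv using Submodule.iSup_induction' with
    | mem χ w hw =>
      have h1 : τ a w = χ ⟨a, haH⟩ • w := (mem_weightSpace τ).1 hw ⟨a, haH⟩
      have h2 : τ y w = χ ⟨y, hyH⟩ • w := (mem_weightSpace τ).1 hw ⟨y, hyH⟩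
      rw [h1, h2]
      by_contra hne
      have hne' : χ ⟨a, haH⟩ ≠ χ ⟨y, hyH⟩ := fun h => hne (by rw [h])
      have hw0 : w ≠ 0 := fun h => hne (by simp [h])
      set u := τ b⁻¹ w
      have hu : τ a u = χ ⟨y, hyH⟩ • u := by
        rw [← map_smul, ← h2, ← tau_mul, ← tau_mul, hy]
        congr 2
        group
      have horth : inner ℂ u w = 0 := eigen_orth τ hiso hu h1 hne'.symm
      have hbu : τ b u = w := by simp [u, ← tau_mul]
      have hnorm : ‖u‖ = ‖w‖ := hiso _ _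
      have h3 : ‖w - u‖ < ‖u‖ := by
        calc ‖w - u‖ = ‖(τ b - 1) u‖ := by simp [hbu]
          _ ≤ ‖τ b - 1‖ * ‖u‖ := ContinuousLinearMap.le_opNorm _ _
          _ < 1 * ‖u‖ := mul_lt_mul_of_pos_right hb (by rw [hnorm]; exact norm_pos_iff.2 hw0)
          _ = ‖u‖ := one_mul _
      have h4 : inner ℂ w u = 0 := inner_eq_zero_symm.1 horth
      have h5 := norm_sub_sq (𝕜 := ℂ) w u
      rw [h4] at h5
      simp at h5
      nlinarith [norm_nonneg u, norm_nonneg (w - u), norm_nonneg w]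
    | zero => simp
    | add v w _ _ hv hw => simp [hv, hw]
  have he : a = b * a * b⁻¹ := hinj key
  show a * b = b * a
  nth_rw 1 [he]
  group

omit [FiniteDimensional ℂ E] in
theorem norm_tau_le (g : G) : ‖τ g‖ ≤ 1 :=
  ContinuousLinearMap.opNorm_le_bound _ zero_le_one fun v => by simp [hiso]

omit [FiniteDimensional ℂ E] in
theorem norm_comm_le (a b : G) (c : ℂ) :
    ‖τ (a * b * a⁻¹ * b⁻¹) - 1‖ ≤ 2 * ‖τ a - c • 1‖ * ‖τ b - 1‖ := by
  have e : τ (a * b * a⁻¹ * b⁻¹) - 1 =
      ((τ a - c • 1) * (τ b - 1) - (τ b - 1) * (τ a - c • 1)) * τ (a⁻¹ * b⁻¹) := by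
    have h1 : (τ a - c • 1) * (τ b - 1) - (τ b - 1) * (τ a - c • 1) = τ (a * b) - τ (b * a) := by
      simp only [map_mul, sub_mul, mul_sub, smul_mul_assoc, mul_smul_comm, one_mul, mul_one,
        smul_sub]
      abel
    rw [h1, sub_mul, ← map_mul, ← map_mul]
    have e1 : a * b * (a⁻¹ * b⁻¹) = a * b * a⁻¹ * b⁻¹ := by group
    have e2 : b * a * (a⁻¹ * b⁻¹) = 1 := by group
    rw [e1, e2, map_one]
  rw [e]
  calc _ ≤ ‖(τ a - c • 1) * (τ b - 1) - (τ b - 1) * (τ a - c • 1)‖ * ‖τ (a⁻¹ * b⁻¹)‖ :=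
        norm_mul_le _ _
    _ ≤ (‖τ a - c • 1‖ * ‖τ b - 1‖ + ‖τ b - 1‖ * ‖τ a - c • 1‖) * 1 := by
        gcongr
        · exact le_trans (norm_sub_le _ _) (add_le_add (norm_mul_le _ _) (norm_mul_le _ _))
        · exact norm_tau_le τ hiso _
    _ = _ := by ring

/-- two elements, one near a scalar and one near `1`, commute -/
theorem commute_of_near (hinj : Function.Injective τ) {a b : G} {c : ℂ}
    (ha : ‖τ a - c • 1‖ < 1 / 2) (hb : ‖τ b - 1‖ < 1) : Commute a b := by
  let F : G → G := fun x => a * x * a⁻¹ * x⁻¹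
  set ρ := 2 * ‖τ a - c • 1‖ with hρ
  have hρ1 : ρ < 1 := by linarith
  have hρ0 : 0 ≤ ρ := by positivity
  have hit : ∀ x k, ‖τ (F^[k] x) - 1‖ ≤ ρ ^ k * ‖τ x - 1‖ := by
    intro x k
    induction k with
    | zero => simp
    | succ k ih =>
      rw [Function.iterate_succ_apply', pow_succ, mul_comm (ρ ^ k), mul_assoc]
      exact le_trans (norm_comm_le τ hiso a _ c) (mul_le_mul_of_nonneg_left ih hρ0)
  have hone : ∃ k, F^[k] b = 1 := by
    obtain ⟨i, j, hij, he⟩ := Finite.exists_ne_map_eq_of_infinite (fun k : ℕ => F^[k] b)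
    wlog hlt : i < j generalizing i j
    · exact this j i hij.symm he.symm (by omega)
    refine ⟨i, hinj ?_⟩
    have h := hit (F^[i] b) (j - i)
    rw [← Function.iterate_add_apply, Nat.sub_add_cancel hlt.le, ← he] at h
    have hp : ρ ^ (j - i) < 1 := pow_lt_one₀ hρ0 hρ1 (by omega)
    have : ‖τ (F^[i] b) - 1‖ = 0 := le_antisymm
      (by nlinarith [norm_nonneg (τ (F^[i] b) - 1)]) (norm_nonneg _)
    rw [map_one]
    exact sub_eq_zero.1 (norm_eq_zero.1 this)
  obtain ⟨k, hk⟩ := hone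
  clear_value ρ
  induction k generalizing b with
  | zero => simp at hk; subst hk; exact Commute.one_right a
  | succ k ih =>
    rw [Function.iterate_succ_apply] at hk
    have hFb : ‖τ (F b) - 1‖ < 1 := by
      refine lt_of_le_of_lt (by simpa using hit b 1) ?_
      nlinarith [norm_nonneg (τ b - 1)]
    have hc := ih hFb hk
    refine commute_of_commute_conj τ hiso hinj hb ?_
    have : b * a * b⁻¹ = (F b)⁻¹ * a := by simp [F, mul_assoc]
    rw [this]
    exact hc.inv_right.mul_right (Commute.refl a)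

omit hiso in
/-- the arc bin of a point on the circle -/
def arcBin (z : ℂ) : Fin 12 :=
  ⟨⌈(z.arg + Real.pi) / (Real.pi / 6)⌉₊ - 1, by
    have h : (z.arg + Real.pi) / (Real.pi / 6) ≤ ((12 : ℕ) : ℝ) := by
      rw [div_le_iff₀ (by positivity)]
      have := z.arg_le_pi
      push_cast; linarith
    have := Nat.ceil_le.2 h
    omega⟩

omit hiso in
theorem arc_close {z w : ℂ} (hz : ‖z‖ = 1) (hw : ‖w‖ = 1) (h : arcBin z = arcBin w) :
    ‖w / z - 1‖ < 1 ∧ ‖w / z - (Real.sqrt 3 / 2 : ℝ)‖ < 1 / 2 := by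
  set d := w.arg - z.arg with hd
  have hpi := Real.pi_pos
  have hd' : |d| < Real.pi / 6 := by
    simp only [arcBin, Fin.mk.injEq] at h
    set s := (z.arg + Real.pi) / (Real.pi / 6) with hs
    set t := (w.arg + Real.pi) / (Real.pi / 6) with ht
    have hs0 : 0 < s := by
      have := z.neg_pi_lt_arg
      rw [hs]; exact div_pos (by linarith) (by positivity)
    have ht0 : 0 < t := by
      have := w.neg_pi_lt_arg
      rw [ht]; exact div_pos (by linarith) (by positivity)
    have hceil : ⌈s⌉₊ = ⌈t⌉₊ := by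
      have := Nat.ceil_pos.2 hs0
      have := Nat.ceil_pos.2 ht0
      omega
    have a1 := Nat.le_ceil s
    have a2 := Nat.ceil_lt_add_one hs0.le
    have a3 := Nat.le_ceil t
    have a4 := Nat.ceil_lt_add_one ht0.le
    rw [hceil] at a1 a2
    have : |t - s| < 1 := abs_lt.2 ⟨by linarith, by linarith⟩
    have e : d = (t - s) * (Real.pi / 6) := by
      rw [hd, hs, ht]; field_simp; ring
    rw [e, abs_mul, abs_of_pos (show (0 : ℝ) < Real.pi / 6 by positivity)]
    exact mul_lt_of_lt_one_left (by positivity) this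
  have hq : w / z = Complex.exp (d * Complex.I) := by
    have e1 := Complex.norm_mul_exp_arg_mul_I z
    have e2 := Complex.norm_mul_exp_arg_mul_I w
    rw [hz, Complex.ofReal_one, one_mul] at e1
    rw [hw, Complex.ofReal_one, one_mul] at e2
    conv_lhs => rw [← e1, ← e2]
    rw [← Complex.exp_sub, hd]
    push_cast; ring_nf
  have hcos : Real.sqrt 3 / 2 < Real.cos d := by
    rw [← Real.cos_abs d, ← Real.cos_pi_div_six]
    exact Real.cos_lt_cos_of_nonneg_of_le_pi (abs_nonneg d) (by linarith) hd'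
  have hs3 : Real.sqrt 3 * Real.sqrt 3 = 3 := Real.mul_self_sqrt (by norm_num)
  have hs1 : 1 < Real.sqrt 3 := by nlinarith [Real.sqrt_nonneg (3 : ℝ)]
  have hsc := Real.sin_sq_add_cos_sq d
  have key : ∀ r : ℝ, ‖w / z - r‖ ^ 2 = 1 - 2 * r * Real.cos d + r ^ 2 := by
    intro r
    rw [Complex.sq_norm, Complex.normSq_apply, hq]
    simp [Complex.exp_ofReal_mul_I_re, Complex.exp_ofReal_mul_I_im]
    nlinarith
  constructor
  · have h1 := key 1
    rw [Complex.ofReal_one] at h1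
    exact lt_of_pow_lt_pow_left₀ 2 zero_le_one (by nlinarith)
  · exact lt_of_pow_lt_pow_left₀ 2 (by norm_num) (by rw [key]; nlinarith)

omit hiso in
/-- the elements near the identity -/
def nearSet : Set G :=
  {g | ‖τ g - 1‖ < 1 ∧ ‖τ g - ((Real.sqrt 3 / 2 : ℝ) : ℂ) • 1‖ < 1 / 2}

omit [FiniteDimensional ℂ E] in
theorem norm_conj_le (x : G) (T : E →L[ℂ] E) : ‖τ x * T * τ x⁻¹‖ ≤ ‖T‖ :=
  calc ‖τ x * T * τ x⁻¹‖ ≤ ‖τ x‖ * ‖T‖ * ‖τ x⁻¹‖ :=
        le_trans (norm_mul_le _ _) (mul_le_mul_of_nonneg_right (norm_mul_le _ _) (norm_nonneg _))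
    _ ≤ 1 * ‖T‖ * 1 := by
        gcongr <;> exact norm_tau_le τ hiso _
    _ = ‖T‖ := by ring

omit [FiniteDimensional ℂ E] in
theorem conj_mem_nearSet {g : G} (hg : g ∈ nearSet τ) (x : G) : x * g * x⁻¹ ∈ nearSet τ := by
  have e : ∀ c : ℂ, τ (x * g * x⁻¹) - c • 1 = τ x * (τ g - c • 1) * τ x⁻¹ := by
    intro c
    simp only [map_mul, mul_sub, sub_mul, mul_smul_comm, smul_mul_assoc, mul_one]
    rw [← map_mul τ x x⁻¹, mul_inv_cancel, map_one]
  refine ⟨?_, ?_⟩
  · have h1 := e 1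
    rw [one_smul] at h1
    rw [h1]
    exact lt_of_le_of_lt (norm_conj_le τ hiso x _) hg.1
  · rw [e]
    exact lt_of_le_of_lt (norm_conj_le τ hiso x _) hg.2

theorem inv_mul_mem_nearSet (H : Subgroup G) (hH : ∀ x ∈ H, ∀ y ∈ H, x * y = y * x) (g h : H)
    (hgh : ∀ χ, weightSpace τ H χ ≠ ⊥ → arcBin (χ g) = arcBin (χ h)) :
    ((g⁻¹ * h : H) : G) ∈ nearSet τ := by
  classical
  let W : Finset (H → ℂ) := (((indep_weightSpace τ H hH).fintypeNeBotOfFiniteDimensional).elems).map
    (Function.Embedding.subtype _)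
  have hW : ∀ χ, χ ∈ W ↔ weightSpace τ H χ ≠ ⊥ := by
    intro χ
    constructor
    · intro hχ
      obtain ⟨p, -, rfl⟩ := Finset.mem_map.1 hχ
      exact p.2
    · intro hχ
      exact Finset.mem_map.2 ⟨⟨χ, hχ⟩,
        ((indep_weightSpace τ H hH).fintypeNeBotOfFiniteDimensional).complete _, rfl⟩
  have hact : ∀ χ, weightSpace τ H χ ≠ ⊥ →
      (‖χ h / χ g - 1‖ < 1 ∧ ‖χ h / χ g - (Real.sqrt 3 / 2 : ℝ)‖ < 1 / 2) ∧
      ∀ v ∈ weightSpace τ H χ, τ ((g⁻¹ * h : H) : G) v = (χ h / χ g) • v := by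
    intro χ hχ
    obtain ⟨v₀, hv₀, hne⟩ := (Submodule.ne_bot_iff _).1 hχ
    have n1 := eigen_norm τ hiso hne ((mem_weightSpace τ).1 hv₀ g)
    have n2 := eigen_norm τ hiso hne ((mem_weightSpace τ).1 hv₀ h)
    refine ⟨arc_close n1 n2 (hgh χ hχ), fun v hv => ?_⟩
    have hg0 : χ g ≠ 0 := norm_ne_zero_iff.1 (by rw [n1]; exact one_ne_zero)
    have e1 := (mem_weightSpace τ).1 hv g
    have e2 := (mem_weightSpace τ).1 hv h
    have e3 : τ ((g : G)⁻¹) v = (χ g)⁻¹ • v := by
      have h0 := congrArg (τ ((g : G)⁻¹)) e1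
      rw [← tau_mul, inv_mul_cancel, map_one, map_smul] at h0
      rw [eq_inv_smul_iff₀ hg0]
      exact h0.symm
    rw [Subgroup.coe_mul, Subgroup.coe_inv, tau_mul, e2, map_smul, e3, smul_smul, div_eq_mul_inv]
  have bound : ∀ (c : ℂ) (R : ℝ), 0 < R →
      (∀ χ, weightSpace τ H χ ≠ ⊥ → ‖χ h / χ g - c‖ < R) →
      ‖τ ((g⁻¹ * h : H) : G) - c • 1‖ < R := by
    intro c R hR hlt
    let r : ℝ≥0 := W.sup fun χ => ‖χ h / χ g - c‖₊
    have hr : r < ⟨R, hR.le⟩ :=
      (Finset.sup_lt_iff (show (⊥ : ℝ≥0) < ⟨R, hR.le⟩ from hR)).2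
        fun χ hχ => hlt χ ((hW χ).1 hχ)
    refine lt_of_le_of_lt (norm_le_of_weights τ hiso H hH _ (r : ℝ) r.2 fun χ hχ =>
      ⟨χ h / χ g - c, ?_, fun v hv => ?_⟩) hr
    · exact_mod_cast Finset.le_sup (f := fun χ => ‖χ h / χ g - c‖₊) ((hW χ).2 hχ)
    · rw [sub_smul, ← (hact χ hχ).2 v hv]
      rfl
  refine ⟨?_, bound _ _ (by norm_num) fun χ hχ => (hact χ hχ).1.2⟩
  have h1 := bound 1 1 one_pos fun χ hχ => (hact χ hχ).1.1
  rwa [one_smul] at h1

theorem exists_abelian_normal (hinj : Function.Injective τ) :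
    ∃ A : Subgroup G, A.Normal ∧ (∀ x ∈ A, ∀ y ∈ A, x * y = y * x) ∧
      ∀ H : Subgroup G, (∀ x ∈ H, ∀ y ∈ H, x * y = y * x) →
        (A.subgroupOf H).index ≤ 12 ^ finrank ℂ E := by
  classical
  refine ⟨Subgroup.closure (nearSet τ), ?_, ?_, ?_⟩
  · refine ⟨fun g hg x => ?_⟩
    induction hg using Subgroup.closure_induction with
    | mem y hy => exact Subgroup.subset_closure (conj_mem_nearSet τ hiso hy x)
    | one => simp
    | mul y z _ _ hy hz =>
      have : x * (y * z) * x⁻¹ = x * y * x⁻¹ * (x * z * x⁻¹) := by group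
      rw [this]; exact Subgroup.mul_mem _ hy hz
    | inv y _ hy =>
      have : x * y⁻¹ * x⁻¹ = (x * y * x⁻¹)⁻¹ := by group
      rw [this]; exact Subgroup.inv_mem _ hy
  · intro x hx y hy
    have hcomm : IsMulCommutative (Subgroup.closure (nearSet τ)) :=
      Subgroup.isMulCommutative_closure fun p hp q hq =>
        (commute_of_near τ hiso hinj hp.2 hq.1).eq
    exact congrArg Subtype.val (hcomm.is_comm.comm ⟨x, hx⟩ ⟨y, hy⟩)
  · intro H hH
    let K := (Subgroup.closure (nearSet τ)).subgroupOf H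
    haveI := (indep_weightSpace τ H hH).fintypeNeBotOfFiniteDimensional
    let f : H ⧸ K → ({χ : H → ℂ // weightSpace τ H χ ≠ ⊥} → Fin 12) :=
      fun q p => arcBin (p.1 q.out)
    have hf : Function.Injective f := by
      intro q q' he
      rw [← QuotientGroup.out_eq' q, ← QuotientGroup.out_eq' q', QuotientGroup.eq]
      exact Subgroup.mem_subgroupOf.2 (Subgroup.subset_closure
        (inv_mul_mem_nearSet τ hiso H hH _ _ fun χ hχ => congrFun he ⟨χ, hχ⟩))
    calc K.index = Nat.card (H ⧸ K) := rfl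
      _ ≤ Nat.card ({χ : H → ℂ // weightSpace τ H χ ≠ ⊥} → Fin 12) :=
          Nat.card_le_card_of_injective f hf
      _ = 12 ^ Fintype.card {χ : H → ℂ // weightSpace τ H χ ≠ ⊥} := by simp
      _ ≤ 12 ^ finrank ℂ E :=
          Nat.pow_le_pow_right (by norm_num) (indep_weightSpace τ H hH).subtype_ne_bot_le_finrank

omit hiso

/-- transport of the bound along an embedding into an inner product space -/
theorem exists_abelian_normal_of_embedding {V : Type*} [AddCommGroup V] [Module ℂ V]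
    [FiniteDimensional ℂ V] {F : Type*} [NormedAddCommGroup F] [InnerProductSpace ℂ F]
    (ρ : Representation ℂ G V) (hinj : Function.Injective ρ) (ι : V →ₗ[ℂ] F)
    (hι : Function.Injective ι) (hn : ∀ g v, ‖ι (ρ g v)‖ = ‖ι v‖) :
    ∃ A : Subgroup G, A.Normal ∧ (∀ x ∈ A, ∀ y ∈ A, x * y = y * x) ∧
      ∀ H : Subgroup G, (∀ x ∈ H, ∀ y ∈ H, x * y = y * x) →
        (A.subgroupOf H).index ≤ 12 ^ finrank ℂ V := by
  let e := LinearEquiv.ofInjective ι hι
  haveI : FiniteDimensional ℂ (LinearMap.range ι) := e.finiteDimensional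
  let τ : G →* (LinearMap.range ι →L[ℂ] LinearMap.range ι) :=
    { toFun := fun g => LinearMap.toContinuousLinearMap (e.conj (ρ g))
      map_one' := by ext x; simp [LinearEquiv.conj_apply]
      map_mul' := fun g h => by ext x; simp [LinearEquiv.conj_apply] }
  have hiso : ∀ g v, ‖τ g v‖ = ‖v‖ := by
    intro g v
    obtain ⟨x, rfl⟩ := e.surjective v
    have h1 : τ g (e x) = e (ρ g x) := by simp [τ, LinearEquiv.conj_apply]
    rw [h1]
    exact hn g x
  have hinjτ : Function.Injective τ := fun g h hgh =>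
    hinj (e.conj.injective (LinearMap.toContinuousLinearMap.injective hgh))
  obtain ⟨A, h1, h2, h3⟩ := exists_abelian_normal τ hiso hinjτ
  exact ⟨A, h1, h2, fun H hH => by rw [e.finrank_eq]; exact h3 H hH⟩

/-- the embedding defining the averaged norm -/
def orbitEmb [Fintype G] {n : ℕ} (ρ : Representation ℂ G (Fin n → ℂ)) :
    (Fin n → ℂ) →ₗ[ℂ] PiLp 2 (fun _ : G => EuclideanSpace ℂ (Fin n)) :=
  (WithLp.linearEquiv 2 ℂ (G → EuclideanSpace ℂ (Fin n))).symm.toLinearMap.comp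
    (LinearMap.pi fun g => (WithLp.linearEquiv 2 ℂ (Fin n → ℂ)).symm.toLinearMap.comp (ρ g))

omit [Finite G] in
theorem orbitEmb_apply [Fintype G] {n : ℕ} (ρ : Representation ℂ G (Fin n → ℂ)) (v : Fin n → ℂ)
    (g : G) : WithLp.ofLp (orbitEmb ρ v) g = WithLp.toLp 2 (ρ g v) := rfl

/-- every complex representation of a finite group preserves a norm from an inner product -/
theorem exists_abelian_normal_of_rep (n : ℕ) (ρ : Representation ℂ G (Fin n → ℂ))
    (hinj : Function.Injective ρ) :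
    ∃ A : Subgroup G, A.Normal ∧ (∀ x ∈ A, ∀ y ∈ A, x * y = y * x) ∧
      ∀ H : Subgroup G, (∀ x ∈ H, ∀ y ∈ H, x * y = y * x) →
        (A.subgroupOf H).index ≤ 12 ^ n := by
  cases nonempty_fintype G
  have hι : Function.Injective (orbitEmb ρ) := by
    intro v w h
    have h1 := orbitEmb_apply ρ v 1
    rw [h, orbitEmb_apply ρ w 1] at h1
    simpa using (congrArg WithLp.ofLp h1).symm
  have hn : ∀ g v, ‖orbitEmb ρ (ρ g v)‖ = ‖orbitEmb ρ v‖ := by
    intro g v
    rw [← sq_eq_sq₀ (norm_nonneg _) (norm_nonneg _), PiLp.norm_sq_eq_of_L2, PiLp.norm_sq_eq_of_L2]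
    refine Fintype.sum_equiv (Equiv.mulRight g) _ _ fun k => ?_
    rw [orbitEmb_apply, orbitEmb_apply, Equiv.coe_mulRight, map_mul]
    rfl
  simpa using exists_abelian_normal_of_embedding ρ hinj (orbitEmb ρ) hι hn

end Cfsg.Agent.FrobBound
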