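import Cfsg.Agent.Lib.Char.FullyRamifiedSylow
import Mathlib.GroupTheory.SchurZassenhaus
import Mathlib.GroupTheory.GroupAction.Transitive
import Cfsg.Agent.Lib.Solvable.Basic

/-!
Complements of Sylow subgroups above a fully ramified character.
-/

set_option linter.style.haveILetI false
set_option linter.unusedSectionVars false
set_option autoImplicit false

namespace Cfsg.Agent.Char.FullRam

open Cfsg.Agent.Char
open scoped ComplexConjugate

universe u

variable {G : Type u} [Group G] [Fintype G] {Z : Subgroup G} [Fintype Z]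
  {χ : Cfsg.IrrCharacter G} {θ : Cfsg.IrrCharacter Z} {K : Subgroup G}

theorem card_eq_relIndex_mul {A B : Subgroup G} (h : A ≤ B) :
    Nat.card B = Nat.card A * A.relIndex B := by
  rw [← Subgroup.relIndex_bot_left A, Subgroup.relIndex_mul_relIndex _ _ _ bot_le h,
    Subgroup.relIndex_bot_left]

/-- The preimage of a Sylow subgroup, and the normalizer of its intersection with `K`. -/
theorem exists_preimage (D : Setup χ θ K) [Z.Normal] [K.Normal] (p : ℕ) [hp : Fact p.Prime] :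
    ∃ S : Subgroup G, ∃ _ : Z ≤ S, Z.relIndex S = p ^ (2 * D.e.factorization p) ∧
      (∃ m, (S ⊓ K).relIndex S = p ^ m ∧ m = K.index.factorization p) ∧
      ¬ p ∣ (S ⊓ K).relIndex K ∧
      ∀ g : G, ∃ k ∈ K, ∀ x : G, x ∈ S ⊓ K ↔ (k * g) * x * (k * g)⁻¹ ∈ S ⊓ K := by
  classical
  let f := QuotientGroup.mk' Z
  have hf : Function.Surjective f := QuotientGroup.mk'_surjective Z
  obtain ⟨P⟩ : Nonempty (Sylow p (G ⧸ Z)) := inferInstance
  let S : Subgroup G := (P : Subgroup (G ⧸ Z)).comap f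
  have hZS : Z ≤ S := fun z hz => by
    show f z ∈ (P : Subgroup (G ⧸ Z))
    rw [show f z = 1 from (QuotientGroup.eq_one_iff z).2 hz]
    exact one_mem _
  have hSidx : S.index = (P : Subgroup (G ⧸ Z)).index := Subgroup.index_comap_of_surjective _ hf
  have hidx : Z.relIndex S = p ^ (2 * D.e.factorization p) := by
    have h1 := Subgroup.relIndex_mul_index hZS
    have h2 := (P : Subgroup (G ⧸ Z)).card_mul_index
    rw [hSidx] at h1
    have h3 : Nat.card (P : Subgroup (G ⧸ Z)) = p ^ (2 * D.e.factorization p) := by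
      rw [P.card_eq_multiplicity, ← Subgroup.index, ← D.he, Nat.factorization_pow,
        Finsupp.smul_apply, smul_eq_mul]
    refine Nat.eq_of_mul_eq_mul_right (Nat.pos_of_ne_zero
      (Subgroup.index_ne_zero_of_finite (H := (P : Subgroup (G ⧸ Z))))) ?_
    rw [h1, ← h3, h2]; rfl
  have hnS : ¬ p ∣ S.index := hSidx ▸ P.not_dvd_index
  -- the product formula
  have hprod : Nat.card (S ⊔ K : Subgroup G) * Nat.card (S ⊓ K : Subgroup G) =
      Nat.card S * Nat.card K := by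
    have := Cfsg.Agent.SolvBasic.card_sup_mul_card_inf (N := K) (H := S) Subgroup.le_normalizer_of_normal
    rwa [sup_comm, inf_comm, mul_comm (Nat.card K)] at this
  have h1 := card_eq_relIndex_mul (G := G) (A := S ⊓ K) (B := S) inf_le_left
  have h2 := card_eq_relIndex_mul (G := G) (A := S ⊓ K) (B := K) inf_le_right
  have h3 := card_eq_relIndex_mul (G := G) (A := S) (B := S ⊔ K) le_sup_left
  have hrel : S.relIndex (S ⊔ K) = (S ⊓ K).relIndex K := by
    rw [h3, h2] at hprod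
    refine Nat.eq_of_mul_eq_mul_left (Nat.mul_pos (Nat.card_pos (α := S))
      (Nat.card_pos (α := (S ⊓ K : Subgroup G)))) ?_
    linarith
  have hnK : ¬ p ∣ (S ⊓ K).relIndex K := fun h => hnS <| by
    rw [← Subgroup.relIndex_mul_index (le_sup_left : S ≤ S ⊔ K), hrel]
    exact Dvd.dvd.mul_right h _
  have hm : (S ⊓ K).relIndex S = p ^ K.index.factorization p := by
    have hd : (S ⊓ K).relIndex S ∣ p ^ (2 * D.e.factorization p) := by
      rw [← hidx, ← Subgroup.relIndex_mul_relIndex Z (S ⊓ K) S (le_inf hZS D.hZK) inf_le_left]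
      exact dvd_mul_left _ _
    obtain ⟨m, -, hm⟩ := (Nat.dvd_prime_pow hp.out).1 hd
    rw [hm]
    congr 1
    have e : (S ⊓ K).relIndex S * S.index = (S ⊓ K).relIndex K * K.index := by
      rw [Subgroup.relIndex_mul_index inf_le_left, Subgroup.relIndex_mul_index inf_le_right]
    have := congrArg (fun x : ℕ => x.factorization p) e
    simp only [hm, Nat.factorization_mul (pow_ne_zero _ hp.out.ne_zero)
      Subgroup.index_ne_zero_of_finite, Nat.factorization_mul (show (S ⊓ K).relIndex K ≠ 0 from Subgroup.index_ne_zero_of_finite)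
      (Subgroup.index_ne_zero_of_finite (H := K)), Finsupp.add_apply, hp.out.factorization_pow,
      Finsupp.single_eq_same, Nat.factorization_eq_zero_of_not_dvd hnS,
      Nat.factorization_eq_zero_of_not_dvd hnK, add_zero, zero_add] at this
    exact this
  refine ⟨S, hZS, hidx, ⟨_, hm, rfl⟩, hnK, fun g => ?_⟩
  -- Frattini
  let Kq : Subgroup (G ⧸ Z) := K.map f
  haveI : Kq.Normal := (inferInstance : K.Normal).map f hf
  have hKq : Kq.comap f = K := Subgroup.comap_map_eq_self (by rw [QuotientGroup.ker_mk']; exact D.hZK)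
  let R : Subgroup (G ⧸ Z) := (P : Subgroup (G ⧸ Z)) ⊓ Kq
  have hRp : IsPGroup p R := P.isPGroup'.to_le inf_le_left
  have hRcomap : R.comap f = S ⊓ K := by rw [Subgroup.comap_inf, hKq]
  have hR' : IsPGroup p (R.subgroupOf Kq) :=
    hRp.of_equiv (Subgroup.subgroupOfEquivOfLe inf_le_right).symm
  have hRidx : ¬ p ∣ (R.subgroupOf Kq).index := by
    intro h
    refine hnK ?_
    rw [← hRcomap, ← hKq, Subgroup.relIndex_comap,
      Subgroup.map_comap_eq_self_of_surjective hf]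
    exact h
  let Q : Sylow p Kq := hR'.toSylow hRidx
  have htop := Sylow.normalizer_sup_eq_top Q
  have hQ : (Q : Subgroup Kq).map Kq.subtype = R := by
    show (R.subgroupOf Kq).map Kq.subtype = R
    rw [Subgroup.subgroupOf_map_subtype, inf_eq_left.2 inf_le_right]
  rw [hQ] at htop
  have hg : f g ∈ Kq ⊔ Subgroup.normalizer (R : Set (G ⧸ Z)) := by
    rw [sup_comm, htop]; trivial
  obtain ⟨a, ha, b, hb, hab⟩ := Subgroup.mem_sup_of_normal_left.1 hg
  obtain ⟨k₀, hk₀, rfl⟩ := Subgroup.mem_map.1 ha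
  refine ⟨k₀⁻¹, K.inv_mem hk₀, fun x => ?_⟩
  have hfk : f (k₀⁻¹ * g) = b := by rw [map_mul, map_inv, ← hab, inv_mul_cancel_left]
  rw [← hRcomap, Subgroup.mem_comap, Subgroup.mem_comap, map_mul, map_mul, map_inv, hfk]
  exact Subgroup.mem_normalizer_iff.1 hb _

/-- A `p`-complement above a fully ramified character. -/
theorem exists_complement (D : Setup χ θ K) [Z.Normal] [K.Normal] (p : ℕ) [hp : Fact p.Prime]
    (hf : ∀ (S : Subgroup G) (hZS : Z ≤ S) (ζ : Cfsg.IrrCharacter (S ⊓ K : Subgroup G))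
      (f k o m : ℕ), (S ⊓ K).relIndex S = p ^ m → m = K.index.factorization p →
      resInner (le_inf hZS D.hZK) (ζ : (S ⊓ K : Subgroup G) → ℂ) (θ : Z → ℂ) = k →
      (ζ : (S ⊓ K : Subgroup G) → ℂ) 1 = (k : ℂ) * (θ : Z → ℂ) 1 →
      (∀ ζ' : Cfsg.IrrCharacter (S ⊓ K : Subgroup G),
        resInner (le_inf hZS D.hZK) (ζ' : (S ⊓ K : Subgroup G) → ℂ) (θ : Z → ℂ) ≠ 0 →
        (ζ' : (S ⊓ K : Subgroup G) → ℂ) 1 = (ζ : (S ⊓ K : Subgroup G) → ℂ) 1) →
      f * o * k = p ^ D.e.factorization p → f ^ 2 * o = (S ⊓ K).relIndex S →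
      (IsCyclic (S.map (QuotientGroup.mk' K)) → f = 1) → f = 1) :
    ∃ M : Subgroup (G ⧸ K), M.index = p ^ (Nat.card (G ⧸ K)).factorization p := by
  classical
  obtain ⟨S, hZS, hidx, ⟨m, hm, hmK⟩, hnK, hfr⟩ := exists_preimage D p
  obtain ⟨ζ, f, k, hk, hζ1, hk0, V, hVS, hRV, hVmem, hdeg, hnorm, htrans, hcyc⟩ :=
    orbit_data D hZS hp.out hidx rfl
  haveI : Fintype (S ⊓ K : Subgroup G) := Fintype.ofFinite _
  have hdegree : ∀ ζ' : Cfsg.IrrCharacter (S ⊓ K : Subgroup G),
      resInner (le_inf hZS D.hZK) (ζ' : (S ⊓ K : Subgroup G) → ℂ) (θ : Z → ℂ) ≠ 0 →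
      (ζ' : (S ⊓ K : Subgroup G) → ℂ) 1 = (ζ : (S ⊓ K : Subgroup G) → ℂ) 1 := fun ζ' h => by
    obtain ⟨s, hs, hval⟩ := htrans ζ' h
    exact hval 1 1 (by simp)
  have hf1 : f = 1 := hf S hZS ζ f k _ m hm hmK hk hζ1 hdegree hdeg hnorm hcyc
  rw [hf1, one_pow, one_mul, hm] at hnorm
  -- the normalizer
  let N : Subgroup G := Subgroup.normalizer ((S ⊓ K : Subgroup G) : Set G)
  have hSN : S ≤ N := fun s hs => by
    rw [Subgroup.mem_normalizer_iff]
    intro x
    have hc : ∀ y : G, ∀ t ∈ S, y ∈ S ⊓ K → t * y * t⁻¹ ∈ S ⊓ K := fun y t ht hy =>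
      ⟨S.mul_mem (S.mul_mem ht hy.1) (S.inv_mem ht),
        (inferInstance : K.Normal).conj_mem _ hy.2 _⟩
    refine ⟨hc x s hs, fun h => ?_⟩
    simpa [mul_assoc] using hc _ s⁻¹ (S.inv_mem hs) h
  let cj : N → (S ⊓ K : Subgroup G) →* (S ⊓ K : Subgroup G) := fun g =>
    { toFun := fun r => ⟨(g : G) * r * (g : G)⁻¹, (Subgroup.mem_normalizer_iff.1 g.2 _).1 r.2⟩
      map_one' := Subtype.ext (by simp)
      map_mul' := fun a b => Subtype.ext (by simp [mul_assoc]) }
  have hcj : ∀ g, Function.Surjective (cj g) := fun g r => ⟨cj g⁻¹ r, Subtype.ext (by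
    simp [cj, mul_assoc])⟩
  have hover : ∀ (g : N) (ψ : Cfsg.IrrCharacter (S ⊓ K : Subgroup G)),
      resInner (le_inf hZS D.hZK) (fun r => (ψ : (S ⊓ K : Subgroup G) → ℂ) (cj g r)) (θ : Z → ℂ) =
        resInner (le_inf hZS D.hZK) (ψ : (S ⊓ K : Subgroup G) → ℂ) (θ : Z → ℂ) := fun g ψ => by
    unfold resInner Cfsg.classInner
    congr 1
    refine Fintype.sum_equiv (MulAut.conjNormal (g : G) : Z ≃* Z).toEquiv _ _ fun z => ?_
    have h1 : (θ : Z → ℂ) (MulAut.conjNormal (g : G) z) = (θ : Z → ℂ) z := by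
      rw [← theta_inv χ θ D.he D.hres (g : G) z]
      exact congrArg (θ : Z → ℂ) (Subtype.ext (MulAut.conjNormal_apply (g : G) z))
    show _ = (ψ : (S ⊓ K : Subgroup G) → ℂ)
        (Subgroup.inclusion (le_inf hZS D.hZK) (MulAut.conjNormal (g : G) z)) *
      conj ((θ : Z → ℂ) (MulAut.conjNormal (g : G) z))
    rw [h1]
    congr 1
  let X := {ψ : Cfsg.IrrCharacter (S ⊓ K : Subgroup G) //
    resInner (le_inf hZS D.hZK) (ψ : (S ⊓ K : Subgroup G) → ℂ) (θ : Z → ℂ) ≠ 0}
  letI : MulAction N X :=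
    { smul := fun g ψ => ⟨⟨_, IsIrrCharacter.comp ψ.1.2 (cj g⁻¹) (hcj g⁻¹)⟩, by
        rw [hover]; exact ψ.2⟩
      one_smul := fun ψ => Subtype.ext (Subtype.ext (funext fun r => by
        show (ψ.1 : (S ⊓ K : Subgroup G) → ℂ) (cj 1⁻¹ r) = _
        exact congrArg (ψ.1 : (S ⊓ K : Subgroup G) → ℂ) (Subtype.ext
          (show (((1 : N)⁻¹ : N) : G) * r * ((((1 : N)⁻¹ : N)) : G)⁻¹ = r by simp))))
      mul_smul := fun g h ψ => Subtype.ext (Subtype.ext (funext fun r => by
        show (ψ.1 : (S ⊓ K : Subgroup G) → ℂ) (cj (g * h)⁻¹ r) = (ψ.1 : (S ⊓ K : Subgroup G) → ℂ) (cj h⁻¹ (cj g⁻¹ r))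
        exact congrArg (ψ.1 : (S ⊓ K : Subgroup G) → ℂ) (Subtype.ext
          (show (((g * h)⁻¹ : N) : G) * r * (((g * h)⁻¹ : N) : G)⁻¹ =
            ((h⁻¹ : N) : G) * (((g⁻¹ : N) : G) * r * ((g⁻¹ : N) : G)⁻¹) * ((h⁻¹ : N) : G)⁻¹ by
            simp [mul_assoc])))) }
  have hsmul : ∀ (g : N) (ψ : X) (r : (S ⊓ K : Subgroup G)),
      ((g • ψ).1 : (S ⊓ K : Subgroup G) → ℂ) r =
        (ψ.1 : (S ⊓ K : Subgroup G) → ℂ) (cj g⁻¹ r) := fun g ψ r => rfl
  let x₀ : X := ⟨ζ, by rw [hk]; exact Nat.cast_ne_zero.2 hk0⟩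
  let U := MulAction.stabilizer N x₀
  haveI hpre : MulAction.IsPretransitive N X := by
    refine (MulAction.isPretransitive_iff_orbit_eq_univ x₀).2 (Set.eq_univ_of_forall fun ψ => ?_)
    obtain ⟨s, hs, hval⟩ := htrans ψ.1 ψ.2
    refine ⟨⟨s⁻¹, N.inv_mem (hSN hs)⟩, Subtype.ext (Subtype.ext (funext fun r => ?_))⟩
    exact (hval r _ (by simp [cj])).symm
  have hX : Nat.card X = p ^ m := by
    rw [← hnorm]
    -- orbit of `S`
    haveI : Fintype S := Fintype.ofFinite S
    letI : MulAction S X := MulAction.compHom X (Subgroup.inclusion hSN)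
    haveI : MulAction.IsPretransitive S X := by
      refine (MulAction.isPretransitive_iff_orbit_eq_univ x₀).2 (Set.eq_univ_of_forall fun ψ => ?_)
      obtain ⟨s, hs, hval⟩ := htrans ψ.1 ψ.2
      refine ⟨⟨s⁻¹, S.inv_mem hs⟩, Subtype.ext (Subtype.ext (funext fun r => ?_))⟩
      exact (hval r _ (by simp [cj])).symm
    rw [← MulAction.index_stabilizer_of_transitive S x₀, Subgroup.relIndex]
    congr 1
    ext s
    rw [MulAction.mem_stabilizer_iff, Subgroup.mem_subgroupOf, hVmem]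
    constructor
    · intro h
      refine ⟨s.2, fun r r' e => ?_⟩
      have h' := congrFun (congrArg (fun ψ : X => (ψ.1 : (S ⊓ K : Subgroup G) → ℂ)) h) r'
      refine h'.symm.trans ?_
      refine congrArg (ζ : (S ⊓ K : Subgroup G) → ℂ) (Subtype.ext ?_)
      show ((Subgroup.inclusion hSN s)⁻¹ : N) * (r' : G) * (((Subgroup.inclusion hSN s)⁻¹ : N) : G)⁻¹ = _
      rw [e]; simp [mul_assoc]
    · rintro ⟨-, h⟩
      refine Subtype.ext (Subtype.ext (funext fun r => ?_))
      exact (h _ r (by simp [cj, mul_assoc])).symm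
  have hU : U.index = p ^ m := by rw [MulAction.index_stabilizer_of_transitive, hX]
  -- elements of `K` fix everything
  let F : N →* G ⧸ K := (QuotientGroup.mk' K).comp N.subtype
  have hFs : Function.Surjective F := by
    intro q
    obtain ⟨g, rfl⟩ := QuotientGroup.mk_surjective q
    obtain ⟨k, hkK, hk'⟩ := hfr g
    refine ⟨⟨k * g, Subgroup.mem_normalizer_iff.2 hk'⟩, ?_⟩
    show ((k * g : G) : G ⧸ K) = (g : G ⧸ K)
    rw [QuotientGroup.mk_mul, (QuotientGroup.eq_one_iff k).2 hkK, one_mul]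
  have hker : F.ker ≤ U := by
    have hmemker : ∀ x : N, x ∈ F.ker ↔ (x : G) ∈ K := fun x => QuotientGroup.eq_one_iff _
    let R' : Subgroup N := (S ⊓ K).subgroupOf N
    have hR'U : R' ≤ U := fun r hr => by
      refine Subtype.ext (Subtype.ext (funext fun a => ?_))
      rw [hsmul]
      exact IsCharacter.isClassFunction (IsIrrCharacter.isCharacter ζ.2) a ⟨((r⁻¹ : N) : G),
        (S ⊓ K).inv_mem hr⟩ |>.symm.trans rfl |> fun e => by
          refine Eq.trans ?_ e.symm
          exact congrArg (ζ : (S ⊓ K : Subgroup G) → ℂ) (Subtype.ext rfl)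
    have hR'L : R' ≤ F.ker := fun r hr => (hmemker r).2 hr.2
    have e1 := Cfsg.Agent.SolvBasic.card_sup_mul_card_inf (N := F.ker) (H := U)
      Subgroup.le_normalizer_of_normal
    rw [sup_comm, inf_comm] at e1
    have hdiv1 : U.relIndex (U ⊔ F.ker) ∣ p ^ m := by
      rw [← hU, ← Subgroup.relIndex_mul_index (le_sup_left : U ≤ U ⊔ F.ker)]
      exact dvd_mul_right _ _
    have hdiv2 : (U ⊓ F.ker).relIndex F.ker ∣ (S ⊓ K).relIndex K := by
      have a1 : R'.relIndex F.ker = (S ⊓ K).relIndex (N ⊓ K) := by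
        have hFk : F.ker.map N.subtype = N ⊓ K := by
          rw [show F.ker = K.subgroupOf N from Subgroup.ext fun x => hmemker x,
            Subgroup.subgroupOf_map_subtype, inf_comm]
        rw [← hFk]
        exact Subgroup.relIndex_comap _ _ _
      have a2 : (S ⊓ K).relIndex (N ⊓ K) ∣ (S ⊓ K).relIndex K := by
        rw [← Subgroup.relIndex_mul_relIndex (S ⊓ K) (N ⊓ K) K
          (le_inf (fun x hx => hSN hx.1) inf_le_right) inf_le_right]
        exact dvd_mul_right _ _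
      have hR'le : R' ≤ U ⊓ F.ker := le_inf hR'U hR'L
      refine (Subgroup.relIndex_dvd_of_le_left F.ker hR'le).trans ?_
      rw [a1]
      exact a2
    have hcopr : Nat.Coprime (p ^ m) ((S ⊓ K).relIndex K) :=
      (hp.out.coprime_iff_not_dvd.2 hnK).pow_left m
    have c2 := card_eq_relIndex_mul (G := N) (A := U) (B := U ⊔ F.ker) le_sup_left
    have c3 := card_eq_relIndex_mul (G := N) (A := U ⊓ F.ker) (B := F.ker) inf_le_right
    rw [c2, c3] at e1
    have heq : U.relIndex (U ⊔ F.ker) = (U ⊓ F.ker).relIndex F.ker :=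
      Nat.eq_of_mul_eq_mul_left (Nat.mul_pos (Nat.card_pos (α := U))
        (Nat.card_pos (α := (U ⊓ F.ker : Subgroup N)))) (by linarith)
    have h1 : U.relIndex (U ⊔ F.ker) = 1 :=
      Nat.eq_one_of_dvd_coprimes hcopr hdiv1 (heq ▸ hdiv2)
    exact le_trans le_sup_right (Subgroup.relIndex_eq_one.1 h1)
  refine ⟨U.map F, ?_⟩
  rw [Subgroup.index_map_eq _ hFs hker, hU, hmK]
  rfl

end Cfsg.Agent.Char.FullRam
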