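/-
Fully ramified characters under a cyclic group acting without fixed points.
-/
import Cfsg.Agent.Lib.Char.CoprimeDegree
import Cfsg.Agent.Lib.Char.Clifford
import Cfsg.Agent.Lib.Char.Extension
import Cfsg.Agent.Lib.Char.Induction
import Mathlib.Analysis.Complex.Polynomial.Basic
import Mathlib.Algebra.Order.Chebyshev
import Mathlib.RingTheory.RootsOfUnity.Complex
import Mathlib.RingTheory.RootsOfUnity.EnoughRootsOfUnity

set_option linter.unusedSectionVars false
set_option linter.style.haveILetI false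

namespace Cfsg.Agent.Char.FrobRam

open Cfsg Cfsg.Agent.Char
open scoped ComplexConjugate

universe u

/-- A vector with variance one over `m` points is a constant with one entry moved by one. -/
theorem dvd_sub_or_add {ι : Type*} [Fintype ι] (hm : 2 ≤ Fintype.card ι) (a : ι → ℤ)
    (h : (Fintype.card ι : ℤ) * ∑ i, a i ^ 2 = (∑ i, a i) ^ 2 + ((Fintype.card ι : ℤ) - 1)) :
    (Fintype.card ι : ℤ) ∣ (∑ i, a i) - 1 ∨ (Fintype.card ι : ℤ) ∣ (∑ i, a i) + 1 := by
  classical
  set m : ℕ := Fintype.card ι with hm'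
  haveI : Nonempty ι := Fintype.card_pos_iff.1 (by omega)
  obtain ⟨i₀, -, hi₀⟩ := Finset.exists_min_image Finset.univ a Finset.univ_nonempty
  set b : ι → ℤ := fun i => a i - a i₀ with hb
  have hb0 : ∀ i, 0 ≤ b i := fun i => sub_nonneg.2 (hi₀ i (Finset.mem_univ i))
  have hsum : ∑ i, a i = ∑ i, b i + (m : ℤ) * a i₀ := by
    simp [hb, Finset.sum_sub_distrib, hm']
  have hsq : ∑ i, a i ^ 2 = ∑ i, b i ^ 2 + 2 * a i₀ * ∑ i, b i + (m : ℤ) * a i₀ ^ 2 := by
    rw [Finset.mul_sum, hm', ← Finset.card_univ, ← nsmul_eq_mul, ← Finset.sum_const,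
      ← Finset.sum_add_distrib, ← Finset.sum_add_distrib]
    exact Finset.sum_congr rfl fun i _ => by simp only [hb]; ring
  have hb2 : (m : ℤ) * ∑ i, b i ^ 2 = (∑ i, b i) ^ 2 + ((m : ℤ) - 1) := by
    rw [hsum, hsq] at h; linarith
  set s : Finset ι := Finset.univ.filter (fun i => b i ≠ 0) with hs
  have e1 : ∑ i, b i = ∑ i ∈ s, b i := (Finset.sum_filter_ne_zero _).symm
  have e2 : ∑ i, b i ^ 2 = ∑ i ∈ s, b i ^ 2 := by
    refine (Finset.sum_subset (Finset.subset_univ s) fun i _ hi => ?_).symm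
    simp only [hs, Finset.mem_filter, Finset.mem_univ, true_and, not_not] at hi
    rw [hi]; norm_num
  have hk : s.card < m := by
    rw [hm', ← Finset.card_univ]
    exact Finset.card_lt_card (Finset.ssubset_univ_iff.2 fun hu => by
      have := hu ▸ Finset.mem_univ i₀
      simp [hs, hb] at this)
  have hcs : (∑ i ∈ s, b i) ^ 2 ≤ (s.card : ℤ) * ∑ i ∈ s, b i ^ 2 := sq_sum_le_card_mul_sum_sq
  have hge : (s.card : ℤ) ≤ ∑ i ∈ s, b i ^ 2 := by
    rw [← mul_one (s.card : ℤ), ← nsmul_eq_mul, ← Finset.sum_const]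
    refine Finset.sum_le_sum fun i hi => ?_
    have : 0 < b i := lt_of_le_of_ne (hb0 i) (Ne.symm (Finset.mem_filter.1 hi).2)
    nlinarith
  rw [e1, e2] at hb2
  have hk0 : 0 < s.card := by
    rcases Nat.eq_zero_or_pos s.card with h0 | h0
    · rw [Finset.card_eq_zero] at h0
      rw [h0] at hb2
      simp at hb2
      omega
    · exact h0
  have hk1 : ((s.card : ℤ) - 1) * ((m : ℤ) - 1 - s.card) ≤ 0 := by
    have h1 : ((m : ℤ) - s.card) * ∑ i ∈ s, b i ^ 2 ≤ (m : ℤ) - 1 := by nlinarith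
    have h2 : ((m : ℤ) - s.card) * (s.card : ℤ) ≤ ((m : ℤ) - s.card) * ∑ i ∈ s, b i ^ 2 :=
      mul_le_mul_of_nonneg_left hge (by have := hk; omega)
    nlinarith
  rcases Nat.eq_or_lt_of_le hk0 with h1 | h1
  · obtain ⟨j, hj⟩ := Finset.card_eq_one.1 h1.symm
    rw [hj, Finset.sum_singleton, Finset.sum_singleton] at hb2
    have hbj : b j ^ 2 = 1 := by
      have : ((m : ℤ) - 1) * (b j ^ 2 - 1) = 0 := by linarith
      rcases mul_eq_zero.1 this with h2 | h2
      · omega
      · linarith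
    have hbj1 : b j = 1 := by
      rcases sq_eq_one_iff.1 hbj with h2 | h2
      · exact h2
      · have := hb0 j; omega
    left
    refine ⟨a i₀, ?_⟩
    rw [hsum, e1, hj, Finset.sum_singleton, hbj1]
    ring
  · have hkm : (s.card : ℤ) = (m : ℤ) - 1 := by
      have h3 : (0 : ℤ) < (s.card : ℤ) - 1 := by omega
      have h4 : (m : ℤ) - 1 - s.card ≤ 0 := nonpos_of_mul_nonpos_right hk1 h3
      omega
    have hone : ∀ i ∈ s, b i = 1 := by
      have h2 : ∑ i ∈ s, b i ^ 2 ≤ (m : ℤ) - 1 := by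
        rw [hkm] at hcs
        nlinarith
      have h5 : ∑ i ∈ s, (b i ^ 2 - 1) = 0 := by
        rw [Finset.sum_sub_distrib, Finset.sum_const, nsmul_eq_mul, mul_one]
        linarith
      intro i hi
      have h6 : ∀ j ∈ s, 0 ≤ b j ^ 2 - 1 := fun j hj => by
        have : 0 < b j := lt_of_le_of_ne (hb0 j) (Ne.symm (Finset.mem_filter.1 hj).2)
        nlinarith
      have h7 := (Finset.sum_eq_zero_iff_of_nonneg h6).1 h5 i hi
      rcases sq_eq_one_iff.1 (sub_eq_zero.1 h7) with h2 | h2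
      · exact h2
      · have := hb0 i; omega
    right
    refine ⟨a i₀ + 1, ?_⟩
    rw [hsum, e1, Finset.sum_congr rfl hone, Finset.sum_const, nsmul_eq_mul, mul_one, hkm]
    ring

theorem classInner_self_eq {X : Type u} [Group X] [Fintype X] (f : X → ℂ) :
    classInner f f = (Nat.card X : ℂ)⁻¹ * ∑ x : X, (Complex.normSq (f x) : ℂ) := by
  rw [classInner]
  exact congrArg _ (Finset.sum_congr rfl fun x _ => Complex.mul_conj _)

theorem index_dvd_e_sub_or_add {Γ : Type u} [Group Γ] [Fintype Γ] (G N : Subgroup Γ) [G.Normal]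
    [N.Normal] [Fintype G] [Fintype N] (hNG : N ≤ G) (hGlt : G ≠ ⊤) (hcyc : IsCyclic (Γ ⧸ G))
    (hfrob : ∀ x : Γ, x ∉ G → ∀ g : Γ, g ∈ G → x * g * x⁻¹ * g⁻¹ ∈ N → g ∈ N)
    (θ : IrrCharacter N)
    (hinv : ∀ (x : Γ) (n : N),
      (θ : N → ℂ) ⟨x * n * x⁻¹, (inferInstance : N.Normal).conj_mem n n.2 x⟩ = (θ : N → ℂ) n)
    (χ : IrrCharacter G) (e : ℕ)
    (hram : indFun (N.subgroupOf G) (fun n : N.subgroupOf G => (θ : N → ℂ) ⟨(n : G), n.2⟩) =
      fun g => (e : ℂ) * (χ : G → ℂ) g) :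
    (G.index : ℤ) ∣ (e : ℤ) - 1 ∨ (G.index : ℤ) ∣ (e : ℤ) + 1 := by
  classical
  set m := G.index with hm
  have hm2 : 2 ≤ m := by
    have h0 : m ≠ 0 := Subgroup.index_ne_zero_of_finite
    have h1 : m ≠ 1 := fun h => hGlt (Subgroup.index_eq_one.1 h)
    omega
  -- the subgroup `N` inside `G`
  set N' : Subgroup G := N.subgroupOf G with hN'
  haveI : Fintype N' := Fintype.ofFinite N'
  let θ' : N' → ℂ := fun n => (θ : N → ℂ) ⟨(n : G), n.2⟩
  have hθ' : IsIrrCharacter N' θ' := IsIrrCharacter.comp θ.2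
    (Subgroup.subgroupOfEquivOfLe hNG).toMonoidHom (Subgroup.subgroupOfEquivOfLe hNG).surjective
  have hθinv : ∀ g : G, conjChar N' g θ' = θ' := fun g => funext fun n => hinv (g : Γ) ⟨_, n.2⟩
  have hχG : IsClassFunction G (χ : G → ℂ) :=
    IsCharacter.isClassFunction (IsIrrCharacter.isCharacter χ.2)
  have he0 : (e : ℂ) ≠ 0 := by
    intro h
    have h1 := congrFun hram 1
    rw [indFun_one_apply, h, zero_mul] at h1
    exact mul_ne_zero (Nat.cast_ne_zero.2 Subgroup.index_ne_zero_of_finite)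
      (IsIrrCharacter.one_ne_zero hθ') h1
  have hres : classInner (fun n : N' => (χ : G → ℂ) n) θ' = (e : ℂ) := by
    rw [← classInner_indFun_right N' θ' hχG, show indFun N' θ' = (e : ℂ) • (χ : G → ℂ) from
      hram.trans (funext fun g => rfl), classInner_smul_right, classInner_self_irr χ.2,
      Complex.conj_natCast, mul_one]
  have hχN : ∀ n : N', (χ : G → ℂ) n = (e : ℂ) * θ' n := by
    intro n
    have h1 := congrFun (clifford N' χ.2 hθ' (by rw [hres]; exact he0)) n
    rw [show conjOrbit N' θ' = {θ'} from ?_, Finset.sum_singleton, hres] at h1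
    · exact h1
    · ext φ
      rw [mem_conjOrbit, Finset.mem_singleton]
      exact ⟨fun ⟨g, hg⟩ => hg.trans (hθinv g), fun h => ⟨1, h.trans (hθinv 1).symm⟩⟩
  have hχinv : ∀ x : Γ, conjChar G x (χ : G → ℂ) = (χ : G → ℂ) := by
    intro x
    funext g
    have h1 : indFun N' θ' ⟨x * g * x⁻¹, (inferInstance : G.Normal).conj_mem g g.2 x⟩ =
        indFun N' θ' g := by
      unfold indFun
      congr 1
      let c : G ≃ G :=
        { toFun := fun y => ⟨x * y * x⁻¹, (inferInstance : G.Normal).conj_mem y y.2 x⟩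
          invFun := fun y => ⟨x⁻¹ * y * x, by
            simpa using (inferInstance : G.Normal).conj_mem y y.2 x⁻¹⟩
          left_inv := fun y => Subtype.ext (by simp [mul_assoc])
          right_inv := fun y => Subtype.ext (by simp [mul_assoc]) }
      refine (Fintype.sum_equiv c _ _ fun y => ?_).symm
      simp only [extendByZero]
      have hval : (((c y)⁻¹ * ⟨x * g * x⁻¹, (inferInstance : G.Normal).conj_mem g g.2 x⟩ * c y
          : G) : Γ) = x * ((y⁻¹ * g * y : G) : Γ) * x⁻¹ := by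
        simp [c, mul_assoc]
      by_cases hy : y⁻¹ * g * y ∈ N'
      · have hy' : ((y⁻¹ * g * y : G) : Γ) ∈ N := hy
        have hmem : (c y)⁻¹ * ⟨x * g * x⁻¹, (inferInstance : G.Normal).conj_mem g g.2 x⟩ * c y ∈
            N' := Subgroup.mem_subgroupOf.2
          (hval ▸ (inferInstance : N.Normal).conj_mem _ hy' x)
        refine (Subtype.val_injective.extend_apply θ' 0 ⟨_, hy⟩).trans ?_
        refine Eq.trans ?_ (Subtype.val_injective.extend_apply θ' 0 ⟨_, hmem⟩).symm
        refine (hinv x ⟨_, hy'⟩).symm.trans ?_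
        exact congrArg (θ : N → ℂ) (Subtype.ext hval.symm)
      · rw [Function.extend_apply' _ _ _ (fun ⟨a, ha⟩ => hy (ha ▸ a.2)),
          Function.extend_apply']
        · rfl
        rintro ⟨⟨a, hc⟩, rfl : a = _⟩
        refine hy (Subgroup.mem_subgroupOf.2 ?_)
        have hc' := Subgroup.mem_subgroupOf.1 hc
        rw [hval] at hc'
        simpa [mul_assoc] using (inferInstance : N.Normal).conj_mem _ hc' x⁻¹
    have h2 : ∀ z : G, indFun N' θ' z = (e : ℂ) * (χ : G → ℂ) z := fun z => congrFun hram z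
    rw [h2, h2] at h1
    exact mul_left_cancel₀ he0 h1
  -- extend to the whole group
  obtain ⟨d, ρ, hρ, hρχ⟩ := χ.2
  haveI := hρ
  obtain ⟨η, hη⟩ := Cfsg.Agent.CharExtend.exists_extension_of_cyclic (σ := ρ)
    (fun g => by rw [hρχ]; exact hχinv g) hcyc
  haveI := Cfsg.Agent.CharExtend.isIrreducible_of_restrict (σ := ρ) η hη
  set ψ := η.character with hψ
  have hψirr : IsIrrCharacter Γ ψ := isIrrCharacter_of_rep η
  have hψG : ∀ g : G, ψ g = (χ : G → ℂ) g := fun g => by
    rw [← hρχ, hψ]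
    simp only [Representation.character, hη g]
  have hψcl : ∀ g c : Γ, ψ (c * g * c⁻¹) = ψ g := fun g c => Representation.char_conj η g c
  -- the subgroup generated by `N` and a generator of the quotient
  obtain ⟨q, hq⟩ := hcyc.exists_generator
  obtain ⟨x, rfl⟩ := QuotientGroup.mk_surjective q
  set H : Subgroup Γ := (Subgroup.zpowers (x : Γ ⧸ N)).comap (QuotientGroup.mk' N) with hH
  haveI : Fintype H := Fintype.ofFinite H
  have hNH : N ≤ H := fun n hn => by
    rw [hH, Subgroup.mem_comap, QuotientGroup.mk'_apply, (QuotientGroup.eq_one_iff n).2 hn]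
    exact one_mem _
  have hxm : ∀ i : ℤ, x ^ i ∈ G → x ^ i ∈ N := by
    intro i hi
    have hx : x ∉ G := fun hxG => hGlt (eq_top_iff.2 fun y _ => by
      obtain ⟨k, hk⟩ := hq (y : Γ ⧸ G)
      have hx1 : ((x : Γ) : Γ ⧸ G) = 1 := (QuotientGroup.eq_one_iff x).2 hxG
      rw [hx1] at hk
      simp only [one_zpow] at hk
      exact (QuotientGroup.eq_one_iff y).1 hk.symm)
    refine hfrob x hx _ hi ?_
    rw [show x * x ^ i * x⁻¹ * (x ^ i)⁻¹ = 1 by group]
    exact one_mem N
  set N'' : Subgroup H := N.subgroupOf H with hN''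
  haveI : Fintype N'' := Fintype.ofFinite N''
  have hHG : ∀ h : H, (h : Γ) ∈ G → (h : Γ) ∈ N := by
    intro h hhG
    obtain ⟨i, hi⟩ := Subgroup.mem_comap.1 (show (h : Γ) ∈ H from h.2)
    simp only [QuotientGroup.mk'_apply, ← QuotientGroup.mk_zpow] at hi
    have h1 : (x ^ i)⁻¹ * (h : Γ) ∈ N := QuotientGroup.eq.1 hi
    have h2 : x ^ i ∈ G := by
      have := G.mul_mem hhG (G.inv_mem (hNG h1))
      simpa [mul_assoc] using this
    simpa using N.mul_mem (hxm i h2) h1
  let π : H →* Γ ⧸ G := (QuotientGroup.mk' G).comp H.subtype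
  have hπs : Function.Surjective π := by
    intro y
    obtain ⟨i, hi⟩ := hq y
    have hxH : x ∈ H := by rw [hH, Subgroup.mem_comap]; exact Subgroup.mem_zpowers _
    exact ⟨(⟨x, hxH⟩ : H) ^ i, by rw [← hi]; simp [π]⟩
  have hπk : π.ker = N'' := by
    ext h
    simp only [π, MonoidHom.mem_ker, MonoidHom.comp_apply, QuotientGroup.mk'_apply,
      Subgroup.coe_subtype, QuotientGroup.eq_one_iff, hN'', Subgroup.mem_subgroupOf]
    exact ⟨hHG h, fun h' => hNG h'⟩
  have hidx : N''.index = m := by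
    rw [← hπk, Subgroup.index_ker, MonoidHom.range_eq_top.2 hπs, Subgroup.card_top]
    rfl
  let θ'' : N'' → ℂ := fun n => (θ : N → ℂ) ⟨(n : H), n.2⟩
  have hθ'' : IsIrrCharacter N'' θ'' := IsIrrCharacter.comp θ.2
    (Subgroup.subgroupOfEquivOfLe hNH).toMonoidHom (Subgroup.subgroupOfEquivOfLe hNH).surjective
  haveI hcycH : IsCyclic (H ⧸ N'') := isCyclic_of_surjective
    ((QuotientGroup.quotientKerEquivOfSurjective π hπs).symm.trans
      (QuotientGroup.quotientMulEquivOfEq hπk)).toMonoidHom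
    (MulEquiv.surjective _)
  obtain ⟨d', σ, hσ, hσθ⟩ := hθ''
  have hθ'' : IsIrrCharacter N'' θ'' := ⟨d', σ, hσ, hσθ⟩
  haveI := hσ
  obtain ⟨η', hη'⟩ := Cfsg.Agent.CharExtend.exists_extension_of_cyclic (σ := σ)
    (fun g => by rw [hσθ]; exact funext fun n => hinv ((g : H) : Γ) ⟨_, n.2⟩) inferInstance
  haveI := Cfsg.Agent.CharExtend.isIrreducible_of_restrict (σ := σ) η' hη'
  set t := η'.character with ht
  have htirr : IsIrrCharacter H t := isIrrCharacter_of_rep η'
  have htN : ∀ n : N'', t n = θ'' n := fun n => by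
    rw [← hσθ, ht]; simp only [Representation.character, hη' n]
  have hnat : Nat.card N'' = Nat.card N :=
    Nat.card_congr (Subgroup.subgroupOfEquivOfLe hNH).toEquiv
  -- linear characters of the quotient
  haveI : HasEnoughRootsOfUnity ℂ (Monoid.exponent (Γ ⧸ G)) := inferInstance
  obtain ⟨Λ, hΛ⟩ : ∃ Λ : (Γ ⧸ G) →* ℂˣ, Function.Injective Λ := by
    obtain ⟨ζ, hζ⟩ : ∃ ζ : ℂ, IsPrimitiveRoot ζ m :=
      ⟨_, Complex.isPrimitiveRoot_exp m (by omega)⟩
    haveI : NeZero m := ⟨by omega⟩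
    have hc : Nat.card (Γ ⧸ G) = Nat.card (rootsOfUnity m ℂ) := by
      rw [Complex.card_rootsOfUnity]
      rfl
    haveI := rootsOfUnity.isCyclic ℂ m
    let f := mulEquivOfCyclicCardEq hc
    exact ⟨(rootsOfUnity m ℂ).subtype.comp f.toMonoidHom,
      (Subgroup.subtype_injective _).comp f.injective⟩
  let μ : H →* ℂˣ := Λ.comp π
  let β : Fin m → IrrCharacter H := fun s =>
    ⟨fun h => ((μ ^ (s : ℕ)) h : ℂ), isIrrCharacter_linear _⟩
  have hβN : ∀ s, ∀ n : N'', (β s : H → ℂ) n = (β s : H → ℂ) 1 := by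
    intro s n
    have : π (n : H) = 1 := by rw [← MonoidHom.mem_ker, hπk]; exact n.2
    simp [β, μ, this]
  obtain ⟨hξirr, hξinj, -⟩ := gallagher_one N'' (IsIrrCharacter.isCharacter htirr)
    (show IsIrrCharacter N'' (fun n : N'' => t n) by rw [funext htN]; exact hθ'')
  let ξ : Fin m → IrrCharacter H := fun s => ⟨_, hξirr (β s) (hβN s)⟩
  have hgen : ∀ s s' : Fin m, (μ ^ (s : ℕ)) = μ ^ (s' : ℕ) → s = s' := by
    intro s s' h
    obtain ⟨g, hg⟩ := hπs (x : Γ ⧸ G)
    have h1 : Λ ((x : Γ ⧸ G) ^ (s : ℕ)) = Λ ((x : Γ ⧸ G) ^ (s' : ℕ)) := by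
      rw [map_pow, map_pow, ← hg]
      exact DFunLike.congr_fun h g
    have h2 := hΛ h1
    have hord : orderOf (x : Γ ⧸ G) = m := orderOf_eq_card_of_forall_mem_zpowers hq
    exact Fin.ext (pow_injOn_Iio_orderOf (by rw [hord]; exact s.2) (by rw [hord]; exact s'.2) h2)
  have hξi : Function.Injective ξ := by
    intro s s' h
    refine hgen s s' (MonoidHom.ext fun g => Units.ext ?_)
    have h1 := hξinj (β s) (β s') (hβN s) (hβN s') (congrArg Subtype.val h)
    exact congrFun (congrArg Subtype.val h1) g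
  -- multiplicities
  have hψH : IsCharacter H (fun h : H => ψ h) :=
    IsCharacter.restrict (IsIrrCharacter.isCharacter hψirr) H
  obtain ⟨k, hk⟩ := IsCharacter.exists_decomp hψH
  have hkv : ∀ τ : IrrCharacter H, classInner (fun h : H => ψ h) (τ : H → ℂ) = (k τ : ℂ) :=
    fun τ => by rw [hk, classInner_combination]
  have hψN : ∀ n : N'', ψ ((n : H) : Γ) = (e : ℂ) * θ'' n := fun n =>
    (hψG ⟨_, hNG n.2⟩).trans (hχN ⟨⟨_, hNG n.2⟩, n.2⟩)
  have hθnorm : ∑ n : N'', θ'' n * conj (θ'' n) = (Nat.card N'' : ℂ) := by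
    have h1 := classInner_self_irr hθ''
    rw [classInner, inv_mul_eq_iff_eq_mul₀ (Nat.cast_ne_zero.2 Nat.card_pos.ne'), mul_one] at h1
    exact h1
  have hgeom : ∀ h : H, ∑ s : Fin m, conj ((β s : H → ℂ) h) =
      if h ∈ N'' then (m : ℂ) else 0 := by
    intro h
    split_ifs with hh
    · have : π h = 1 := by rw [← MonoidHom.mem_ker, hπk]; exact hh
      simp [β, μ, this]
    · set z : ℂ := conj ((μ h : ℂˣ) : ℂ) with hz
      have hz1 : z ≠ 1 := by
        intro hz1
        have h1 : ((μ h : ℂˣ) : ℂ) = 1 := by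
          rw [hz] at hz1
          simpa using congrArg conj hz1
        exact hh (hπk ▸ MonoidHom.mem_ker.2 (hΛ ((Units.ext h1 : Λ (π h) = 1).trans (map_one Λ).symm)))
      have hzm : z ^ m = 1 := by
        have h2 : (π h) ^ m = 1 := by
          rw [hm, Subgroup.index]; exact pow_card_eq_one'
        rw [hz, ← map_pow, ← Units.val_pow_eq_pow_val,
          show (μ h) ^ m = Λ (π h ^ m) from (map_pow Λ _ _).symm, h2]
        simp
      rw [Finset.sum_congr rfl fun (s : Fin m) _ => show conj ((β s : H → ℂ) h) = z ^ (s : ℕ) by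
        simp [β, hz], Fin.sum_univ_eq_sum_range (fun i => z ^ i), geom_sum_eq hz1, hzm, sub_self,
        zero_div]
  have hcardH : Nat.card H = m * Nat.card N'' := by rw [← hidx, mul_comm, Subgroup.card_mul_index]
  have hsum : ∑ s : Fin m, (k (ξ s) : ℂ) = (e : ℂ) := by
    simp only [← hkv, classInner, ← Finset.mul_sum]
    rw [Finset.sum_comm]
    have h1 : ∀ h : H, ∑ s : Fin m, ψ h * conj ((ξ s : H → ℂ) h) =
        if h ∈ N'' then ψ h * conj (t h) * (m : ℂ) else 0 := by
      intro h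
      rw [Finset.sum_congr rfl fun s _ => show ψ h * conj ((ξ s : H → ℂ) h) =
        ψ h * conj (t h) * conj ((β s : H → ℂ) h) by simp [ξ]; ring, ← Finset.mul_sum, hgeom,
        mul_ite, mul_zero]
    rw [Finset.sum_congr rfl fun h _ => h1 h, ← Finset.sum_filter,
      Finset.sum_subtype (p := (· ∈ N'')) _ (fun h => by simp)]
    rw [Finset.sum_congr rfl fun (n : N'') _ => show ψ ((n : H) : Γ) * conj (t n) * (m : ℂ) =
      (e : ℂ) * (m : ℂ) * (θ'' n * conj (θ'' n)) by rw [hψN, htN]; ring, ← Finset.mul_sum,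
      hθnorm, hcardH]
    push_cast
    field_simp [(Nat.cast_ne_zero.2 (by omega) : (m : ℂ) ≠ 0),
      (Nat.cast_ne_zero.2 Nat.card_pos.ne' : (Nat.card N'' : ℂ) ≠ 0)]
  have hrest : ∀ τ : IrrCharacter H, τ ∉ Finset.univ.image ξ → k τ = 0 := by
    intro τ hτ
    have h1 := congrFun hk 1
    simp only [Finset.sum_apply, Pi.smul_apply, smul_eq_mul] at h1
    have hd : (1 : ℂ) * t 1 = (t 1 : ℂ) := one_mul _
    have hψ1 : ψ ((1 : H) : Γ) = (e : ℂ) * t 1 := by
      have := hψN 1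
      rw [← htN, Subgroup.coe_one] at this
      exact this
    rw [hψ1, ← Finset.sum_add_sum_compl (Finset.univ.image ξ),
      Finset.sum_image (fun a _ b _ h => hξi h)] at h1
    rw [Finset.sum_congr rfl fun s _ => show (k (ξ s) : ℂ) * (ξ s : H → ℂ) 1 =
      (k (ξ s) : ℂ) * t 1 by simp [ξ, β], ← Finset.sum_mul, hsum, left_eq_add] at h1
    have h2 : ∑ φ ∈ (Finset.univ.image ξ)ᶜ, ((k φ * charDegree (φ : H → ℂ) : ℕ) : ℂ) = 0 := by
      rw [← h1]
      exact Finset.sum_congr rfl fun φ _ => by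
        rw [Nat.cast_mul, Cfsg.Agent.CharX.irr_deg]
    rw [← Nat.cast_sum, Nat.cast_eq_zero, Finset.sum_eq_zero_iff] at h2
    rcases Nat.mul_eq_zero.1 (h2 τ (Finset.mem_compl.2 hτ)) with h3 | h3
    · exact h3
    · exact absurd h3 (Cfsg.Agent.CharX.irr_deg_pos τ).ne'
  have hnorm : classInner (fun h : H => ψ h) (fun h : H => ψ h) =
      ∑ s : Fin m, (k (ξ s) : ℂ) ^ 2 := by
    conv_lhs => arg 2; rw [hk]
    rw [classInner_sum_right]
    simp only [classInner_smul_right, hkv, Complex.conj_natCast, ← pow_two]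
    refine (Finset.sum_subset (Finset.subset_univ (Finset.univ.image ξ)) fun τ _ hτ => by
      simp [hrest τ hτ]).symm.trans ?_
    exact Finset.sum_image (fun a _ b _ h => hξi h)
  -- the norm outside `N`
  let A : Finset H := Finset.univ.filter (fun h : H => h ∉ N'')
  let Φ : G × H → Γ := fun w => (w.1 : Γ) * (w.2 : Γ) * (w.1 : Γ)⁻¹
  let D : Finset (G × H) := Finset.univ ×ˢ A
  let E : Finset Γ := Finset.univ.filter (fun y : Γ => y ∉ G)
  have hΦ : ∀ w ∈ D, Φ w ∈ E := by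
    intro w hw
    simp only [E, Finset.mem_filter, Finset.mem_univ, true_and, Φ]
    intro hc
    have h1 : (w.2 : Γ) ∈ G := by
      have := G.mul_mem (G.mul_mem (G.inv_mem w.1.2) hc) w.1.2
      simpa [mul_assoc] using this
    exact (Finset.mem_filter.1 (Finset.mem_product.1 hw).2).2 (hHG _ h1)
  have hfib : ∀ w₀ ∈ D, (D.filter fun w => Φ w = Φ w₀).card = Nat.card N := by
    intro w₀ hw₀
    have hout : (w₀.2 : Γ) ∉ G := fun hc =>
      (Finset.mem_filter.1 (Finset.mem_product.1 hw₀).2).2 (hHG _ hc)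
    have hnc : ∀ n : N, (n : Γ)⁻¹ * (w₀.2 : Γ) * (n : Γ) ∈ H := fun n =>
      H.mul_mem (H.mul_mem (H.inv_mem (hNH n.2)) w₀.2.2) (hNH n.2)
    rw [Nat.card_eq_fintype_card, ← Finset.card_univ]
    refine (Finset.card_bij (fun (n : N) _ =>
      ((⟨(w₀.1 : Γ) * n, G.mul_mem w₀.1.2 (hNG n.2)⟩ : G), (⟨_, hnc n⟩ : H))) ?_ ?_ ?_).symm
    · intro n _
      simp only [D, A, Finset.mem_filter, Finset.mem_product, Finset.mem_univ, true_and, Φ]
      refine ⟨fun hc => hout ?_, by group⟩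
      have h1 : (n : Γ)⁻¹ * (w₀.2 : Γ) * (n : Γ) ∈ G := hNG hc
      have := G.mul_mem (G.mul_mem (hNG n.2) h1) (G.inv_mem (hNG n.2))
      simpa [mul_assoc] using this
    · intro a _ b _ hab
      exact Subtype.ext (mul_left_cancel (congrArg Subtype.val (congrArg Prod.fst hab)))
    · intro w hw
      obtain ⟨hw1, hw2⟩ := Finset.mem_filter.1 hw
      simp only [Φ] at hw2
      set g : Γ := (w₀.1 : Γ)⁻¹ * (w.1 : Γ) with hg
      have hgG : g ∈ G := G.mul_mem (G.inv_mem w₀.1.2) w.1.2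
      have h2 : (w₀.2 : Γ) = g * (w.2 : Γ) * g⁻¹ := by
        rw [hg, show (w₀.1 : Γ)⁻¹ * (w.1 : Γ) * (w.2 : Γ) * ((w₀.1 : Γ)⁻¹ * (w.1 : Γ))⁻¹ =
          (w₀.1 : Γ)⁻¹ * ((w.1 : Γ) * (w.2 : Γ) * (w.1 : Γ)⁻¹) * (w₀.1 : Γ) by group, hw2]
        group
      have hwout : (w.2 : Γ) ∉ G := fun hc =>
        (Finset.mem_filter.1 (Finset.mem_product.1 hw1).2).2 (hHG _ hc)
      have h3 : (w₀.2 : Γ) * (w.2 : Γ)⁻¹ ∈ N := by
        have h4 : (w₀.2 : Γ) * (w.2 : Γ)⁻¹ ∈ G := by
          rw [h2, show g * (w.2 : Γ) * g⁻¹ * (w.2 : Γ)⁻¹ =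
            g * ((w.2 : Γ) * g⁻¹ * (w.2 : Γ)⁻¹) by group]
          exact G.mul_mem hgG ((inferInstance : G.Normal).conj_mem _ (G.inv_mem hgG) _)
        exact hHG ⟨_, H.mul_mem w₀.2.2 (H.inv_mem w.2.2)⟩ h4
      have hgN : g ∈ N := by
        refine hfrob (w.2 : Γ) hwout g hgG ?_
        have h5 := N.inv_mem h3
        rw [h2] at h5
        simpa [mul_assoc] using h5
      refine ⟨⟨g, hgN⟩, Finset.mem_univ _, Prod.ext (Subtype.ext ?_) (Subtype.ext ?_)⟩
      · show (w₀.1 : Γ) * g = (w.1 : Γ)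
        rw [hg]; group
      · show g⁻¹ * (w₀.2 : Γ) * g = (w.2 : Γ)
        rw [h2]; group
  have hcardA : A.card = (m - 1) * Nat.card N := by
    have h1 := Finset.card_filter_add_card_filter_not (s := (Finset.univ : Finset H))
      (fun h : H => h ∈ N'')
    rw [Finset.card_univ, ← Nat.card_eq_fintype_card, hcardH, ← Fintype.card_subtype,
      ← Nat.card_eq_fintype_card, hnat] at h1
    have h2 : m * Nat.card N = Nat.card N + (m - 1) * Nat.card N := by
      conv_lhs => rw [show m = 1 + (m - 1) by omega, add_mul, one_mul]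
    have h3 : A.card = (Finset.univ.filter (fun h : H => ¬ h ∈ N'')).card := rfl
    omega
  have hcardE : E.card = (m - 1) * Nat.card G := by
    have h1 := Finset.card_filter_add_card_filter_not (s := (Finset.univ : Finset Γ))
      (fun y : Γ => y ∈ G)
    rw [Finset.card_univ, ← Nat.card_eq_fintype_card, ← G.card_mul_index, ← hm,
      ← Fintype.card_subtype, ← Nat.card_eq_fintype_card] at h1
    have h2 : Nat.card G * m = Nat.card G + (m - 1) * Nat.card G := by
      conv_lhs => rw [show m = 1 + (m - 1) by omega, mul_comm, add_mul, one_mul]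
    have h3 : E.card = (Finset.univ.filter (fun y : Γ => ¬ y ∈ G)).card := rfl
    omega
  have hfull : D.image Φ = E := by
    refine Finset.eq_of_subset_of_card_le (Finset.image_subset_iff.2 hΦ) ?_
    have h1 := Finset.card_eq_sum_card_image Φ D
    have h2 : ∀ y ∈ D.image Φ, (D.filter fun w => Φ w = y).card = Nat.card N := by
      intro y hy
      obtain ⟨w₀, hw₀, rfl⟩ := Finset.mem_image.1 hy
      exact hfib w₀ hw₀
    rw [Finset.sum_congr rfl h2, Finset.sum_const, smul_eq_mul, Finset.card_product,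
      Finset.card_univ, ← Nat.card_eq_fintype_card, hcardA, ← mul_assoc,
      mul_comm (Nat.card G), ← hcardE] at h1
    exact (Nat.eq_of_mul_eq_mul_right Nat.card_pos h1).le
  let F : Γ → ℂ := fun y => (Complex.normSq (ψ y) : ℂ)
  have hEsum : ∑ y ∈ E, F y = (Nat.card Γ : ℂ) - Nat.card G := by
    have h1 := classInner_self_irr hψirr
    rw [classInner_self_eq, inv_mul_eq_iff_eq_mul₀ (Nat.cast_ne_zero.2 Nat.card_pos.ne'),
      mul_one, ← Finset.sum_filter_add_sum_filter_not Finset.univ (fun y : Γ => y ∈ G)] at h1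
    have h2 := classInner_self_irr χ.2
    rw [classInner_self_eq, inv_mul_eq_iff_eq_mul₀ (Nat.cast_ne_zero.2 Nat.card_pos.ne'),
      mul_one] at h2
    have h3 : ∑ y ∈ Finset.univ.filter (fun y : Γ => y ∈ G), F y = (Nat.card G : ℂ) := by
      rw [Finset.sum_subtype (p := (· ∈ G)) _ (fun y => by simp), ← h2]
      exact Finset.sum_congr rfl fun g _ => by simp only [F, hψG]
    rw [h3] at h1
    rw [← h1]
    simp [E, F]
  have hAsum : (Nat.card G : ℂ) * ∑ h ∈ A, F h = (Nat.card N : ℂ) * ∑ y ∈ E, F y := by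
    have h1 : ∑ w ∈ D, F (Φ w) = ∑ y ∈ E, ∑ w ∈ D.filter (fun w => Φ w = y), F y := by
      rw [← Finset.sum_fiberwise_of_maps_to hΦ]
      exact Finset.sum_congr rfl fun y _ => Finset.sum_congr rfl fun w hw => by
        rw [(Finset.mem_filter.1 hw).2]
    have h2 : ∀ y ∈ E, ∑ w ∈ D.filter (fun w => Φ w = y), F y = (Nat.card N : ℂ) * F y := by
      intro y hy
      rw [← hfull] at hy
      obtain ⟨w₀, hw₀, rfl⟩ := Finset.mem_image.1 hy
      rw [Finset.sum_const, hfib w₀ hw₀, nsmul_eq_mul]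
    rw [Finset.sum_congr rfl h2, ← Finset.mul_sum, Finset.sum_product] at h1
    rw [← h1, Finset.sum_congr rfl fun (g : G) _ => Finset.sum_congr rfl fun (h : H) _ =>
      show F (Φ (g, h)) = F h by simp only [F, Φ, hψcl], Finset.sum_const, Finset.card_univ,
      nsmul_eq_mul, Nat.card_eq_fintype_card]
  have hHsum : ∑ h : H, F h = ((e : ℂ) ^ 2 + ((m : ℂ) - 1)) * Nat.card N := by
    rw [← Finset.sum_filter_add_sum_filter_not Finset.univ (fun h : H => h ∈ N'')]
    have h1 : ∑ h ∈ Finset.univ.filter (fun h : H => h ∈ N''), F h =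
        (e : ℂ) ^ 2 * Nat.card N := by
      rw [Finset.sum_subtype (p := (· ∈ N'')) _ (fun h => by simp), ← hnat, ← hθnorm,
        Finset.mul_sum]
      refine Finset.sum_congr rfl fun n _ => ?_
      simp only [F]
      rw [← Complex.mul_conj, hψN, map_mul, Complex.conj_natCast]
      ring
    have h2 : ∑ h ∈ A, F h = ((m : ℂ) - 1) * Nat.card N := by
      have hG0 : (Nat.card G : ℂ) ≠ 0 := Nat.cast_ne_zero.2 Nat.card_pos.ne'
      refine mul_left_cancel₀ hG0 ?_
      rw [hAsum, hEsum, ← G.card_mul_index, ← hm]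
      push_cast
      ring
    rw [h1, show ∑ h ∈ Finset.univ.filter (fun h : H => ¬ h ∈ N''), F h = ∑ h ∈ A, F h from rfl,
      h2]
    ring
  have hmain : (m : ℂ) * ∑ s : Fin m, (k (ξ s) : ℂ) ^ 2 = (e : ℂ) ^ 2 + ((m : ℂ) - 1) := by
    rw [← hnorm, classInner_self_eq, hHsum, hcardH, hnat]
    push_cast
    field_simp [(Nat.cast_ne_zero.2 (by omega) : (m : ℂ) ≠ 0),
      (Nat.cast_ne_zero.2 Nat.card_pos.ne' : (Nat.card N : ℂ) ≠ 0)]
  have hsumZ : ∑ s : Fin m, (k (ξ s) : ℤ) = (e : ℤ) := by exact_mod_cast hsum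
  have hmainZ : (m : ℤ) * ∑ s : Fin m, (k (ξ s) : ℤ) ^ 2 =
      (∑ s : Fin m, (k (ξ s) : ℤ)) ^ 2 + ((m : ℤ) - 1) := by
    rw [hsumZ]; exact_mod_cast hmain
  have := dvd_sub_or_add (ι := Fin m) (by simpa using hm2) (fun s => (k (ξ s) : ℤ))
    (by simpa using hmainZ)
  simpa [hsumZ] using this

end Cfsg.Agent.Char.FrobRam
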