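import Cfsg.Agent.Lib.Char.Clifford
import Cfsg.Agent.Lib.Char.ExtensionChar
import Cfsg.Agent.Lib.Char.CoprimeConstituent

/-!
A character fully ramified over a normal subgroup, restricted to the preimages of Sylow subgroups,
and the resulting complements.
-/

set_option linter.style.haveILetI false
set_option linter.unusedSectionVars false
set_option autoImplicit false

namespace Cfsg.Agent.Char.FullRam

open Cfsg.Agent.Char
open scoped ComplexConjugate

universe u

variable {G : Type u} [Group G] [Fintype G] {Z : Subgroup G} [Fintype Z]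

/-- The multiplicity of a function on the small subgroup in a function on a bigger one. -/
noncomputable def resInner {S : Subgroup G} (hZS : Z ≤ S) (η : S → ℂ) (θ : Z → ℂ) : ℂ :=
  Cfsg.classInner (fun z : Z => η (Subgroup.inclusion hZS z)) θ

theorem isCharacter_res {S : Subgroup G} (hZS : Z ≤ S) {η : S → ℂ} (hη : Cfsg.IsCharacter S η) :
    Cfsg.IsCharacter Z (fun z : Z => η (Subgroup.inclusion hZS z)) :=
  IsCharacter.comp hη (Subgroup.inclusion hZS)

theorem resInner_one_le {S : Subgroup G} (hZS : Z ≤ S) {η : S → ℂ} (hη : Cfsg.IsCharacter S η)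
    (θ : Cfsg.IrrCharacter Z) {k : ℕ} (hk : resInner hZS η (θ : Z → ℂ) = k) {a b : ℕ}
    (ha : η 1 = a) (hb : (θ : Z → ℂ) 1 = b) : k * b ≤ a := by
  classical
  choose d hd using fun χ : Cfsg.IrrCharacter Z =>
    IsCharacter.exists_degree (IsIrrCharacter.isCharacter χ.2)
  have h := sum_constituents_le (isCharacter_res hZS hη) {θ} (fun _ => k)
    (fun ψ hψ => by rw [Finset.mem_singleton] at hψ; subst hψ; exact hk) d hd a (by simpa using ha)
  rw [Finset.sum_singleton] at h
  rwa [show d θ = b from Nat.cast_injective ((hd θ).symm.trans hb)] at h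

open scoped Classical in
theorem sum_sub_sq {S : Subgroup G} (hZS : Z ≤ S) [Fintype S] (F : S → ℂ) :
    (∑ z : Z, F (Subgroup.inclusion hZS z)) +
      ∑ s ∈ (Finset.univ.filter fun s : S => (s : G) ∉ Z), F s = ∑ s : S, F s := by
  classical
  rw [← Finset.sum_filter_add_sum_filter_not Finset.univ (fun s : S => (s : G) ∈ Z)]
  congr 1
  refine Finset.sum_nbij' (fun z => Subgroup.inclusion hZS z)
    (fun s => if h : (s : G) ∈ Z then (⟨s, h⟩ : Z) else 1) (fun z _ => ?_)
    (fun _ _ => Finset.mem_univ _) (fun z _ => ?_) (fun s hs => ?_) fun z _ => rfl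
  · exact Finset.mem_filter.2 ⟨Finset.mem_univ _, z.2⟩
  · simp
  · simp [(Finset.mem_filter.1 hs).2, Subgroup.inclusion]

section Ramified

variable (χ : Cfsg.IrrCharacter G) (θ : Cfsg.IrrCharacter Z) {e : ℕ}
  (he : e ^ 2 = Z.index) (hres : ∀ z : Z, (χ : G → ℂ) z = (e : ℂ) * (θ : Z → ℂ) z)

theorem sum_theta : ∑ z : Z, (θ : Z → ℂ) z * conj ((θ : Z → ℂ) z) = (Nat.card Z : ℂ) := by
  have := classInner_self_irr θ.2
  rwa [Cfsg.classInner, inv_mul_eq_one₀ (Nat.cast_ne_zero.2 Nat.card_pos.ne'), eq_comm] at this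

include he hres

theorem vanish_off {g : G} (hg : g ∉ Z) : (χ : G → ℂ) g = 0 := by
  classical
  have h1 := classInner_self_irr χ.2
  rw [Cfsg.classInner, inv_mul_eq_one₀ (Nat.cast_ne_zero.2 Nat.card_pos.ne'), eq_comm,
    ← Finset.sum_filter_add_sum_filter_not Finset.univ (· ∈ Z)] at h1
  have h2 : ∑ g ∈ Finset.univ.filter (· ∈ Z), (χ : G → ℂ) g * conj ((χ : G → ℂ) g) =
      (Nat.card G : ℂ) := by
    rw [Finset.sum_subtype (p := (· ∈ Z)) _ (fun h => by simp), ← Z.card_mul_index, ← he]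
    push_cast
    rw [← sum_theta θ, Finset.sum_mul]
    exact Fintype.sum_congr _ _ fun z => by rw [hres z, map_mul, map_natCast]; ring
  rw [h2, add_eq_left] at h1
  have h3 : ∑ g ∈ Finset.univ.filter (· ∉ Z), Complex.normSq ((χ : G → ℂ) g) = 0 := by
    simp only [Complex.mul_conj] at h1
    exact_mod_cast h1
  exact Complex.normSq_eq_zero.1
    ((Finset.sum_eq_zero_iff_of_nonneg fun _ _ => Complex.normSq_nonneg _).1 h3 g
      (Finset.mem_filter.2 ⟨Finset.mem_univ _, hg⟩))

theorem e_ne_zero : e ≠ 0 := fun h =>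
  Subgroup.index_ne_zero_of_finite (H := Z) (by rw [← he, h]; rfl)

theorem theta_inv [hZn : Z.Normal] (g : G) (z : Z) :
    (θ : Z → ℂ) ⟨g * z * g⁻¹, hZn.conj_mem z z.2 g⟩ = (θ : Z → ℂ) z := by
  refine mul_left_cancel₀ (Nat.cast_ne_zero.2 (e_ne_zero χ θ he hres) : (e : ℂ) ≠ 0) ?_
  rw [← hres, ← hres]
  exact IsCharacter.isClassFunction (IsIrrCharacter.isCharacter χ.2) _ g

/-- The inner product with the restriction to an intermediate subgroup. -/
theorem inner_restrict {S : Subgroup G} [Fintype S] (hZS : Z ≤ S) (η : S → ℂ) :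
    Cfsg.classInner η (fun s : S => (χ : G → ℂ) s) * (Z.relIndex S : ℂ) =
      (e : ℂ) * resInner hZS η (θ : Z → ℂ) := by
  classical
  unfold resInner Cfsg.classInner
  rw [← sum_sub_sq hZS, Finset.sum_eq_zero (s := Finset.univ.filter fun s : S => (s : G) ∉ Z)
    (fun s hs => by
      beta_reduce
      rw [vanish_off χ θ he hres (Finset.mem_filter.1 hs).2, map_zero, mul_zero]),
    add_zero]
  have hcard : (Nat.card S : ℂ) = (Z.relIndex S : ℂ) * (Nat.card Z : ℂ) := by
    rw [← Nat.cast_mul, Nat.cast_inj, mul_comm, ← Subgroup.relIndex_bot_left Z,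
      Subgroup.relIndex_mul_relIndex _ _ _ bot_le hZS, Subgroup.relIndex_bot_left]
  rw [Finset.sum_congr rfl (g := fun z : Z => (e : ℂ) *
    (η (Subgroup.inclusion hZS z) * conj ((θ : Z → ℂ) z))) (fun z _ => by
      beta_reduce
      rw [Subgroup.coe_inclusion, hres, map_mul, map_natCast]; ring), ← Finset.mul_sum, hcard]
  have : (Z.relIndex S : ℂ) ≠ 0 := Nat.cast_ne_zero.2 Subgroup.index_ne_zero_of_finite
  have : (Nat.card Z : ℂ) ≠ 0 := Nat.cast_ne_zero.2 Nat.card_pos.ne'
  field_simp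

theorem sylow_structure {S : Subgroup G} [Fintype S] (hZS : Z ≤ S) {p c : ℕ} (hp : p.Prime)
    (hidx : Z.relIndex S = p ^ (2 * c)) (hc : e.factorization p = c) {η : Cfsg.IrrCharacter S}
    (hη : resInner hZS (η : S → ℂ) (θ : Z → ℂ) ≠ 0) :
    resInner hZS (η : S → ℂ) (θ : Z → ℂ) = ((p ^ c : ℕ) : ℂ) ∧
      (∀ s : S, (s : G) ∉ Z → (η : S → ℂ) s = 0) ∧
      ∀ z : Z, (η : S → ℂ) (Subgroup.inclusion hZS z) = ((p ^ c : ℕ) : ℂ) * (θ : Z → ℂ) z := by
  classical
  obtain ⟨k, hk⟩ := IsCharacter.exists_classInner_nat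
    (isCharacter_res hZS (IsIrrCharacter.isCharacter η.2)) (IsIrrCharacter.isCharacter θ.2)
  change resInner hZS _ _ = _ at hk
  rw [hk, Nat.cast_ne_zero] at hη
  obtain ⟨t, ht⟩ := IsCharacter.exists_classInner_nat (IsIrrCharacter.isCharacter η.2)
    (IsCharacter.restrict (IsIrrCharacter.isCharacter χ.2) S)
  have hek := inner_restrict χ θ he hres hZS (η : S → ℂ)
  rw [hk, ht, hidx, ← Nat.cast_mul, ← Nat.cast_mul, Nat.cast_inj] at hek
  have he0 := e_ne_zero χ θ he hres
  -- the multiplicity is a multiple of `p ^ c`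
  have hdvd : p ^ c ∣ k := by
    have h1 : p ^ (2 * c) ∣ e * k := ⟨t, by rw [← hek, mul_comm]⟩
    rw [hp.pow_dvd_iff_le_factorization (mul_ne_zero he0 hη),
      Nat.factorization_mul he0 hη, Finsupp.add_apply, hc] at h1
    exact (pow_dvd_pow p (by omega)).trans (Nat.ordProj_dvd k p)
  -- and its square is at most the index
  obtain ⟨F, hF⟩ : ∃ F : Z → ℂ, F = fun z => (η : S → ℂ) (Subgroup.inclusion hZS z) := ⟨_, rfl⟩
  have h1 := classInner_self_irr η.2
  rw [Cfsg.classInner, inv_mul_eq_one₀ (Nat.cast_ne_zero.2 Nat.card_pos.ne'), eq_comm,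
    ← sum_sub_sq hZS] at h1
  have hdiff : ∑ z : Z, (F z - (k : ℂ) * (θ : Z → ℂ) z) * conj (F z - (k : ℂ) * (θ : Z → ℂ) z) =
      (∑ z : Z, F z * conj (F z)) - (k : ℂ) ^ 2 * (Nat.card Z : ℂ) := by
    have ha : ∑ z : Z, F z * conj ((θ : Z → ℂ) z) = (k : ℂ) * (Nat.card Z : ℂ) := by
      have := hk
      rw [resInner, Cfsg.classInner, inv_mul_eq_iff_eq_mul₀
        (Nat.cast_ne_zero.2 Nat.card_pos.ne')] at this
      rw [hF, this, mul_comm]
    have hb : ∑ z : Z, (θ : Z → ℂ) z * conj (F z) = (k : ℂ) * (Nat.card Z : ℂ) := by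
      have := congrArg (starRingEnd ℂ) ha
      rw [map_sum, map_mul, map_natCast, map_natCast] at this
      rw [← this]
      exact Fintype.sum_congr _ _ fun z => by rw [map_mul, Complex.conj_conj]; ring
    calc ∑ z : Z, (F z - (k : ℂ) * (θ : Z → ℂ) z) * conj (F z - (k : ℂ) * (θ : Z → ℂ) z)
        = ∑ z : Z, (F z * conj (F z) - (k : ℂ) * (F z * conj ((θ : Z → ℂ) z)) -
            (k : ℂ) * ((θ : Z → ℂ) z * conj (F z)) +
            (k : ℂ) ^ 2 * ((θ : Z → ℂ) z * conj ((θ : Z → ℂ) z))) :=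
          Fintype.sum_congr _ _ fun z => by rw [map_sub, map_mul, map_natCast]; ring
      _ = _ := by
          rw [Finset.sum_add_distrib, Finset.sum_sub_distrib, Finset.sum_sub_distrib,
            ← Finset.mul_sum, ← Finset.mul_sum, ← Finset.mul_sum, ha, hb, sum_theta θ]
          ring
  have hS : (Nat.card S : ℂ) = (((p ^ c : ℕ) : ℂ)) ^ 2 * (Nat.card Z : ℂ) := by
    rw [← Nat.cast_pow, ← Nat.cast_mul, Nat.cast_inj, ← pow_mul, mul_comm c 2, ← hidx, mul_comm,
      ← Subgroup.relIndex_bot_left Z, Subgroup.relIndex_mul_relIndex _ _ _ bot_le hZS,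
      Subgroup.relIndex_bot_left]
  have hsplit : (k : ℂ) ^ 2 * (Nat.card Z : ℂ) +
      ((∑ z : Z, (F z - (k : ℂ) * (θ : Z → ℂ) z) * conj (F z - (k : ℂ) * (θ : Z → ℂ) z)) +
        ∑ s ∈ (Finset.univ.filter fun s : S => (s : G) ∉ Z),
          (η : S → ℂ) s * conj ((η : S → ℂ) s)) =
      (((p ^ c : ℕ) : ℂ)) ^ 2 * (Nat.card Z : ℂ) := by
    rw [hdiff, ← hS, ← h1, hF]; ring
  simp only [Complex.mul_conj] at hsplit
  have hreal : (k : ℝ) ^ 2 * (Nat.card Z : ℝ) +
      ((∑ z : Z, Complex.normSq (F z - (k : ℂ) * (θ : Z → ℂ) z)) +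
        ∑ s ∈ (Finset.univ.filter fun s : S => (s : G) ∉ Z), Complex.normSq ((η : S → ℂ) s)) =
      ((p ^ c : ℕ) : ℝ) ^ 2 * (Nat.card Z : ℝ) := by exact_mod_cast hsplit
  have hle : p ^ c ≤ k := Nat.le_of_dvd (Nat.pos_of_ne_zero hη) hdvd
  have hn1 : 0 ≤ ∑ z : Z, Complex.normSq (F z - (k : ℂ) * (θ : Z → ℂ) z) :=
    Finset.sum_nonneg fun _ _ => Complex.normSq_nonneg _
  have hn2 : 0 ≤ ∑ s ∈ (Finset.univ.filter fun s : S => (s : G) ∉ Z),
      Complex.normSq ((η : S → ℂ) s) := Finset.sum_nonneg fun _ _ => Complex.normSq_nonneg _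
  have hkeq : k = p ^ c := by
    refine le_antisymm ?_ hle
    have h2 : (k : ℝ) ^ 2 * (Nat.card Z : ℝ) ≤ ((p ^ c : ℕ) : ℝ) ^ 2 * (Nat.card Z : ℝ) := by
      linarith
    have h3 := le_of_mul_le_mul_right h2 (Nat.cast_pos.2 Nat.card_pos)
    exact_mod_cast (pow_le_pow_iff_left₀ (Nat.cast_nonneg k) (Nat.cast_nonneg _) two_ne_zero).1 h3
  subst hkeq
  refine ⟨hk, fun s hs => ?_, fun z => ?_⟩
  · exact Complex.normSq_eq_zero.1 ((Finset.sum_eq_zero_iff_of_nonneg
      fun _ _ => Complex.normSq_nonneg _).1 (by linarith) s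
      (Finset.mem_filter.2 ⟨Finset.mem_univ _, hs⟩))
  · have := Complex.normSq_eq_zero.1 ((Finset.sum_eq_zero_iff_of_nonneg
      fun _ _ => Complex.normSq_nonneg _).1 (show ∑ z : Z, Complex.normSq
        (F z - ((p ^ c : ℕ) : ℂ) * (θ : Z → ℂ) z) = 0 by linarith) z (Finset.mem_univ _))
    rw [hF] at this
    exact sub_eq_zero.1 this

theorem over_unique {S : Subgroup G} [Fintype S] (hZS : Z ≤ S) {p c : ℕ} (hp : p.Prime)
    (hidx : Z.relIndex S = p ^ (2 * c)) (hc : e.factorization p = c) {η η' : Cfsg.IrrCharacter S}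
    (hη : resInner hZS (η : S → ℂ) (θ : Z → ℂ) ≠ 0)
    (hη' : resInner hZS (η' : S → ℂ) (θ : Z → ℂ) ≠ 0) : η' = η := by
  obtain ⟨-, h1, h2⟩ := sylow_structure χ θ he hres hZS hp hidx hc hη
  obtain ⟨-, h3, h4⟩ := sylow_structure χ θ he hres hZS hp hidx hc hη'
  refine Subtype.ext (funext fun s => ?_)
  by_cases hs : (s : G) ∈ Z
  · have e1 : Subgroup.inclusion hZS ⟨s, hs⟩ = s := Subtype.ext rfl
    rw [← e1, h2, h4]
  · rw [h1 s hs, h3 s hs]

theorem exists_over {S : Subgroup G} [Fintype S] (hZS : Z ≤ S) :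
    ∃ η : Cfsg.IrrCharacter S, resInner hZS (η : S → ℂ) (θ : Z → ℂ) ≠ 0 := by
  obtain ⟨η, hη⟩ := exists_restrict_constituent χ.2 S
  refine ⟨η, fun h => hη ?_⟩
  have hi := inner_restrict χ θ he hres hZS (η : S → ℂ)
  rw [h, mul_zero] at hi
  rw [← classInner_conj_symm, (mul_eq_zero.1 hi).resolve_right
    (Nat.cast_ne_zero.2 Subgroup.index_ne_zero_of_finite), map_zero]

end Ramified

/-- A multiplicity on the small subgroup comes from the constituents on the middle one. -/
theorem resInner_trans {R S : Subgroup G} [Fintype R] (hZR : Z ≤ R) (hRS : R ≤ S) {η : S → ℂ}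
    (hη : Cfsg.IsCharacter S η) (θ : Z → ℂ) :
    resInner (hZR.trans hRS) η θ = ∑ ζ : Cfsg.IrrCharacter R,
      Cfsg.classInner (fun r : R => η (Subgroup.inclusion hRS r)) (ζ : R → ℂ) *
        resInner hZR (ζ : R → ℂ) θ := by
  classical
  have h := IsCharacter.eq_sum (IsCharacter.comp hη (Subgroup.inclusion hRS))
  have e : (fun z : Z => η (Subgroup.inclusion (hZR.trans hRS) z)) =
      ∑ ζ : Cfsg.IrrCharacter R,
        Cfsg.classInner (fun r : R => η (Subgroup.inclusion hRS r)) (ζ : R → ℂ) •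
          fun z : Z => (ζ : R → ℂ) (Subgroup.inclusion hZR z) := by
    funext z
    have := congrFun h (Subgroup.inclusion hZR z)
    simp only [Finset.sum_apply, Pi.smul_apply] at this ⊢
    exact this
  unfold resInner
  rw [e, classInner_sum_left]
  exact Finset.sum_congr rfl fun ζ _ => classInner_smul_left _ _ _

theorem resInner_ne_zero_of_constituent {R S : Subgroup G} [Fintype R] (hZR : Z ≤ R) (hRS : R ≤ S)
    {η : S → ℂ} (hη : Cfsg.IsCharacter S η) (θ : Cfsg.IrrCharacter Z) (ζ : Cfsg.IrrCharacter R)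
    (h1 : Cfsg.classInner (fun r : R => η (Subgroup.inclusion hRS r)) (ζ : R → ℂ) ≠ 0)
    (h2 : resInner hZR (ζ : R → ℂ) (θ : Z → ℂ) ≠ 0) :
    resInner (hZR.trans hRS) η (θ : Z → ℂ) ≠ 0 := by
  classical
  rw [resInner_trans hZR hRS hη]
  choose a ha using fun ψ : Cfsg.IrrCharacter R => IsCharacter.exists_classInner_nat
    (IsCharacter.comp hη (Subgroup.inclusion hRS)) (IsIrrCharacter.isCharacter ψ.2)
  choose b hb using fun ψ : Cfsg.IrrCharacter R => IsCharacter.exists_classInner_nat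
    (isCharacter_res hZR (IsIrrCharacter.isCharacter ψ.2)) (IsIrrCharacter.isCharacter θ.2)
  simp only [resInner] at h2 ⊢
  rw [ha, Nat.cast_ne_zero] at h1
  rw [hb, Nat.cast_ne_zero] at h2
  simp only [ha, hb, ← Nat.cast_mul, ← Nat.cast_sum, Nat.cast_ne_zero]
  exact fun h0 => mul_ne_zero h1 h2 (Finset.sum_eq_zero_iff.1 h0 ζ (Finset.mem_univ _))

/-- The `p`-elementary data attached to the two normal subgroups. -/
structure Setup (χ : Cfsg.IrrCharacter G) (θ : Cfsg.IrrCharacter Z) (K : Subgroup G) where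
  e : ℕ
  he : e ^ 2 = Z.index
  hres : ∀ z : Z, (χ : G → ℂ) z = (e : ℂ) * (θ : Z → ℂ) z
  hZK : Z ≤ K

variable {χ : Cfsg.IrrCharacter G} {θ : Cfsg.IrrCharacter Z} {K : Subgroup G}

/-- The numerology inside the preimage of a Sylow subgroup. -/
theorem orbit_data (D : Setup χ θ K) [Z.Normal] [K.Normal] {S : Subgroup G} (hZS : Z ≤ S) {p c : ℕ}
    (hp : p.Prime) (hidx : Z.relIndex S = p ^ (2 * c)) (hc : D.e.factorization p = c) :
    ∃ (ζ : Cfsg.IrrCharacter (S ⊓ K : Subgroup G)) (f k : ℕ),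
      resInner (le_inf hZS D.hZK) (ζ : (S ⊓ K : Subgroup G) → ℂ) (θ : Z → ℂ) = k ∧
      (ζ : (S ⊓ K : Subgroup G) → ℂ) 1 = (k : ℂ) * (θ : Z → ℂ) 1 ∧ k ≠ 0 ∧
      ∃ U : Subgroup G, U ≤ S ∧ S ⊓ K ≤ U ∧
        (∀ s : G, s ∈ U ↔ s ∈ S ∧ ∀ r r' : (S ⊓ K : Subgroup G), (r' : G) = s * r * s⁻¹ →
          (ζ : (S ⊓ K : Subgroup G) → ℂ) r' = (ζ : (S ⊓ K : Subgroup G) → ℂ) r) ∧
        f * U.relIndex S * k = p ^ c ∧ f ^ 2 * U.relIndex S = (S ⊓ K).relIndex S ∧
        (∀ ζ' : Cfsg.IrrCharacter (S ⊓ K : Subgroup G),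
          resInner (le_inf hZS D.hZK) (ζ' : (S ⊓ K : Subgroup G) → ℂ) (θ : Z → ℂ) ≠ 0 →
          ∃ s ∈ S, ∀ r r' : (S ⊓ K : Subgroup G), (r' : G) = s * r * s⁻¹ →
            (ζ' : (S ⊓ K : Subgroup G) → ℂ) r = (ζ : (S ⊓ K : Subgroup G) → ℂ) r') ∧
        (IsCyclic (S.map (QuotientGroup.mk' K)) → f = 1) := by
  classical
  haveI : Fintype S := Fintype.ofFinite S
  set R : Subgroup G := S ⊓ K with hR
  haveI : Fintype R := Fintype.ofFinite R
  have hRS : R ≤ S := inf_le_left
  have hZR : Z ≤ R := le_inf hZS D.hZK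
  let R' : Subgroup S := R.subgroupOf S
  haveI : Fintype R' := Fintype.ofFinite R'
  haveI hR'n : R'.Normal := ⟨fun r hr s => by
    refine ⟨S.mul_mem (S.mul_mem s.2 r.2) (S.inv_mem s.2), ?_⟩
    exact (inferInstance : K.Normal).conj_mem _ hr.2 _⟩
  let eR : R' ≃* R := Subgroup.subgroupOfEquivOfLe hRS
  obtain ⟨η, hη⟩ := exists_over χ θ D.he D.hres hZS
  obtain ⟨hη1, hηv, hηz⟩ := sylow_structure χ θ D.he D.hres hZS hp hidx hc hη
  have hηc := IsIrrCharacter.isCharacter η.2
  -- a constituent over `θ`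
  have hne : resInner (hZR.trans hRS) (η : S → ℂ) (θ : Z → ℂ) ≠ 0 := hη
  rw [resInner_trans hZR hRS hηc] at hne
  obtain ⟨ζ, -, hζ⟩ := Finset.exists_ne_zero_of_sum_ne_zero hne
  obtain ⟨hζη, hζθ⟩ := mul_ne_zero_iff.1 hζ
  obtain ⟨k, hk⟩ := IsCharacter.exists_classInner_nat
    (isCharacter_res hZR (IsIrrCharacter.isCharacter ζ.2)) (IsIrrCharacter.isCharacter θ.2)
  change resInner hZR _ _ = _ at hk
  have hk0 : k ≠ 0 := fun h => hζθ (by rw [hk, h, Nat.cast_zero])
  obtain ⟨f, hf⟩ := IsCharacter.exists_classInner_nat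
    (IsCharacter.comp hηc (Subgroup.inclusion hRS)) (IsIrrCharacter.isCharacter ζ.2)
  have hf0 : f ≠ 0 := fun h => hζη (by rw [hf, h, Nat.cast_zero])
  let ζ' : R' → ℂ := fun r => (ζ : R → ℂ) (eR r)
  have hζ' : Cfsg.IsIrrCharacter R' ζ' := IsIrrCharacter.comp ζ.2 eR.toMonoidHom eR.surjective
  have hinner : ∀ ψ : R → ℂ, Cfsg.classInner (fun r : R' => (η : S → ℂ) r) (fun r => ψ (eR r)) =
      Cfsg.classInner (fun r : R => (η : S → ℂ) (Subgroup.inclusion hRS r)) ψ := fun ψ => by
    unfold Cfsg.classInner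
    rw [Nat.card_congr eR.toEquiv]
    congr 1
    exact Fintype.sum_equiv eR.toEquiv _ _ fun r => rfl
  have hζ'η : Cfsg.classInner (fun r : R' => (η : S → ℂ) r) ζ' ≠ 0 := by rwa [hinner]
  have hcl := clifford R' η.2 hζ' hζ'η
  rw [hinner, hf] at hcl
  -- the inertia group
  let U : Subgroup G := (inertia R' ζ').map S.subtype
  have hUS : U ≤ S := Subgroup.map_subtype_le _
  have hUmem : ∀ s : G, s ∈ U ↔ s ∈ S ∧ ∀ r r' : R, (r' : G) = s * r * s⁻¹ →
      (ζ : R → ℂ) r' = (ζ : R → ℂ) r := by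
    intro s
    constructor
    · rintro ⟨t, ht, rfl⟩
      refine ⟨t.2, fun r r' e => ?_⟩
      have := (mem_inertia_iff R').1 ht (eR.symm r)
      refine Eq.trans ?_ (this.trans (congrArg (ζ : R → ℂ) (eR.apply_symm_apply r)))
      exact congrArg (ζ : R → ℂ) (Subtype.ext e)
    · rintro ⟨hs, h⟩
      refine ⟨⟨s, hs⟩, (mem_inertia_iff R').2 fun r => ?_, rfl⟩
      exact h (eR r) _ rfl
  have hRU : R ≤ U := fun r hr => (hUmem r).2 ⟨hRS hr, fun a b e => by
    rw [← IsCharacter.isClassFunction (IsIrrCharacter.isCharacter ζ.2) a ⟨r, hr⟩]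
    exact congrArg (ζ : R → ℂ) (Subtype.ext e)⟩
  have hUidx : U.relIndex S = (inertia R' ζ').index := by
    rw [Subgroup.relIndex, Subgroup.subgroupOf,
      Subgroup.comap_map_eq_self_of_injective S.subtype_injective]
  obtain ⟨o, ho⟩ : ∃ o, o = (inertia R' ζ').index := ⟨_, rfl⟩
  -- restrict to `Z`
  have hZeq : ∀ g : S, resInner hZR (fun r : R => (conjChar R' g ζ') (eR.symm r)) (θ : Z → ℂ) =
      resInner hZR (ζ : R → ℂ) (θ : Z → ℂ) := by
    intro g
    unfold resInner Cfsg.classInner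
    congr 1
    refine Fintype.sum_equiv (MulAut.conjNormal (g : G) : Z ≃* Z).toEquiv _ _ fun z => ?_
    have h1 : (θ : Z → ℂ) (MulAut.conjNormal (g : G) z) = (θ : Z → ℂ) z := by
      rw [← theta_inv χ θ D.he D.hres (g : G) z]
      exact congrArg (θ : Z → ℂ) (Subtype.ext (MulAut.conjNormal_apply (g : G) z))
    show _ = (ζ : R → ℂ) (Subgroup.inclusion hZR (MulAut.conjNormal (g : G) z)) *
      conj ((θ : Z → ℂ) (MulAut.conjNormal (g : G) z))
    rw [h1]
    congr 1
  have hdeg : f * o * k = p ^ c := by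
    rw [← Nat.cast_inj (R := ℂ), ← hη1]
    have e : (fun z : Z => (η : S → ℂ) (Subgroup.inclusion hZS z)) = fun z : Z =>
        (f : ℂ) * ∑ φ ∈ conjOrbit R' ζ', φ (eR.symm (Subgroup.inclusion hZR z)) := by
      funext z
      have := congrFun hcl (eR.symm (Subgroup.inclusion hZR z))
      simp only [Pi.smul_apply, Finset.sum_apply, smul_eq_mul] at this
      exact this
    unfold resInner
    rw [e]
    have e2 : (fun z : Z => (f : ℂ) * ∑ φ ∈ conjOrbit R' ζ', φ (eR.symm (Subgroup.inclusion hZR z))) =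
        (f : ℂ) • ∑ φ ∈ conjOrbit R' ζ', fun z : Z => φ (eR.symm (Subgroup.inclusion hZR z)) := by
      funext z; simp
    rw [e2, classInner_smul_left, classInner_sum_left,
      Finset.sum_congr rfl (g := fun _ => (k : ℂ)) (fun φ hφ => by
        obtain ⟨g, rfl⟩ := (mem_conjOrbit R').1 hφ
        exact (hZeq g).trans hk), Finset.sum_const, card_conjOrbit, ← ho, nsmul_eq_mul]
    push_cast; ring
  have hζ1 : (ζ : R → ℂ) 1 = (k : ℂ) * (θ : Z → ℂ) 1 := by
    have h := clifford_degree R' η.2 hζ' hζ'η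
    rw [hinner, hf, ← ho] at h
    have h2 := hηz 1
    rw [map_one, h, ← hdeg] at h2
    push_cast at h2
    have : (f : ℂ) * (o : ℂ) ≠ 0 := mul_ne_zero (Nat.cast_ne_zero.2 hf0)
      (Nat.cast_ne_zero.2 (ho ▸ Subgroup.index_ne_zero_of_finite))
    refine mul_left_cancel₀ this ?_
    rw [show ζ' 1 = (ζ : R → ℂ) 1 from congrArg (ζ : R → ℂ) (map_one eR)] at h2
    linear_combination h2
  -- norms
  have hnorm : f ^ 2 * o = R.relIndex S := by
    have hcard : (Nat.card S : ℂ) = (R.relIndex S : ℂ) * (Nat.card R' : ℂ) := by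
      rw [← Nat.cast_mul, Nat.cast_inj, Subgroup.relIndex, mul_comm, Subgroup.card_mul_index]
    have hη11 := classInner_self_irr η.2
    rw [Cfsg.classInner, inv_mul_eq_one₀ (Nat.cast_ne_zero.2 Nat.card_pos.ne'), eq_comm] at hη11
    have h1 : Cfsg.classInner (fun r : R' => (η : S → ℂ) r) (fun r : R' => (η : S → ℂ) r) =
        (R.relIndex S : ℂ) := by
      rw [Cfsg.classInner]
      have e : ∑ r : R', (η : S → ℂ) r * conj ((η : S → ℂ) r) = (Nat.card S : ℂ) := by
        rw [← hη11, ← Finset.sum_subset (Finset.subset_univ (Finset.univ.filter (· ∈ R')))]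
        · exact (Finset.sum_subtype (p := (· ∈ R')) (Finset.univ.filter (· ∈ R')) (fun s => by simp)
            (fun s : S => (η : S → ℂ) s * conj ((η : S → ℂ) s))).symm
        · intro s _ hs
          rw [hηv s fun hz => hs (Finset.mem_filter.2 ⟨Finset.mem_univ _, hZR hz⟩), zero_mul]
      rw [e, hcard, mul_comm (R.relIndex S : ℂ), inv_mul_cancel_left₀]
      exact Nat.cast_ne_zero.2 Nat.card_pos.ne'
    rw [← Nat.cast_inj (R := ℂ), ← h1, hcl, classInner_smul_left, classInner_smul_right,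
      map_natCast, classInner_sum_left, Finset.sum_congr rfl (g := fun _ => (1 : ℂ)) (fun φ hφ => by
        have hirr : ∀ ψ ∈ conjOrbit R' ζ', Cfsg.IsIrrCharacter R' ψ := fun ψ hψ => by
          obtain ⟨g, rfl⟩ := (mem_conjOrbit R').1 hψ
          exact isIrrCharacter_conjChar R' hζ' g
        rw [classInner_sum_right, Finset.sum_congr rfl fun ψ hψ =>
          classInner_irr (hirr φ hφ) (hirr ψ hψ), Finset.sum_ite_eq, if_pos hφ]),
      Finset.sum_const, card_conjOrbit, ← ho, nsmul_eq_mul, mul_one]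
    push_cast; ring
  refine ⟨ζ, f, k, hk, hζ1, hk0, U, hUS, hRU, hUmem, by rw [hUidx, ← ho, hdeg],
    by rw [hUidx, ← ho, hnorm], fun ψ hψ => ?_, fun hcyc => ?_⟩
  · -- every character over `θ` is conjugate to `ζ`
    let ψ' : R' → ℂ := fun r => (ψ : R → ℂ) (eR r)
    have hψ' : Cfsg.IsIrrCharacter R' ψ' := IsIrrCharacter.comp ψ.2 eR.toMonoidHom eR.surjective
    obtain ⟨χ', hχ'⟩ := IsCharacter.exists_constituent
      (isCharacter_indFun R' (IsIrrCharacter.isCharacter hψ')) fun h => by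
        have h1 : Cfsg.indFun R' ψ' 1 = 0 := by rw [h]; rfl
        rw [indFun_one_apply] at h1
        exact mul_ne_zero (Nat.cast_ne_zero.2 Subgroup.index_ne_zero_of_finite)
          (IsIrrCharacter.one_ne_zero hψ') h1
    rw [classInner_indFun_left R' ψ' (IsCharacter.isClassFunction (IsIrrCharacter.isCharacter χ'.2)),
      ← classInner_conj_symm, ne_eq, map_eq_zero] at hχ'
    have hψη : Cfsg.classInner (fun r : R' => (χ' : S → ℂ) r) ψ' ≠ 0 := hχ'
    have hover : resInner (hZR.trans hRS) (χ' : S → ℂ) (θ : Z → ℂ) ≠ 0 := by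
      refine resInner_ne_zero_of_constituent hZR hRS (IsIrrCharacter.isCharacter χ'.2) θ ψ ?_ hψ
      intro h0
      refine hψη ?_
      rw [← h0]
      unfold Cfsg.classInner
      rw [Nat.card_congr eR.toEquiv]
      congr 1
      exact Fintype.sum_equiv eR.toEquiv _ _ fun r => rfl
    rw [over_unique χ θ D.he D.hres hZS hp hidx hc hη hover] at hψη
    obtain ⟨g, hg⟩ := (mem_conjOrbit R').1 (restrict_constituent_conj R' η.2 hζ' hψ' hζ'η hψη)
    refine ⟨g, g.2, fun r r' e => ?_⟩
    have := congrFun hg (eR.symm r)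
    refine (congrArg (ψ : R → ℂ) (eR.apply_symm_apply r).symm).trans (this.trans ?_)
    exact congrArg (ζ : R → ℂ) (Subtype.ext e.symm)
  · -- the cyclic case: extensions to the inertia group
    let T : Subgroup S := inertia R' ζ'
    have hR'T : R' ≤ T := le_inertia R' (IsCharacter.isClassFunction (IsIrrCharacter.isCharacter hζ'))
    haveI : Fintype T := Fintype.ofFinite T
    let N : Subgroup T := R'.subgroupOf T
    haveI : Fintype N := Fintype.ofFinite N
    let eN : N ≃* R' := Subgroup.subgroupOfEquivOfLe hR'T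
    let π₀ : T →* G ⧸ K := (QuotientGroup.mk' K).comp (S.subtype.comp T.subtype)
    haveI := hcyc
    haveI : IsCyclic π₀.range :=
      isCyclic_of_injective (Subgroup.inclusion (show π₀.range ≤ S.map (QuotientGroup.mk' K) by
        rintro _ ⟨t, rfl⟩; exact ⟨((t : S) : G), (t : S).2, rfl⟩)) (Subgroup.inclusion_injective _)
    let π : T →* π₀.range := π₀.rangeRestrict
    have hπ : Function.Surjective π := π₀.rangeRestrict_surjective
    letI : CommGroup π₀.range := IsCyclic.commGroup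
    have hker : π.ker = N := by
      ext t
      rw [MonoidHom.ker_rangeRestrict, MonoidHom.mem_ker, Subgroup.mem_subgroupOf]
      show ((((t : S) : G)) : G ⧸ K) = 1 ↔ ((t : S) : G) ∈ R
      rw [QuotientGroup.eq_one_iff]
      exact ⟨fun h => ⟨(t : S).2, h⟩, fun h => h.2⟩
    have hcycN : IsCyclic (T ⧸ N) :=
      isCyclic_of_surjective ((QuotientGroup.quotientMulEquivOfEq hker.symm).trans
        (QuotientGroup.quotientKerEquivOfSurjective π hπ)).symm
        ((QuotientGroup.quotientMulEquivOfEq hker.symm).trans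
        (QuotientGroup.quotientKerEquivOfSurjective π hπ)).symm.surjective
    have hζN : Cfsg.IsIrrCharacter N (fun n => ζ' (eN n)) :=
      IsIrrCharacter.comp hζ' eN.toMonoidHom eN.surjective
    obtain ⟨d, σ, hσ, hσc⟩ := hζN
    haveI := hσ
    have hinv : ∀ g : T, Cfsg.Agent.Char.conjChar N g σ.character = σ.character := by
      intro g
      rw [hσc]
      funext n
      exact (mem_inertia_iff R').1 g.2 (eN n)
    obtain ⟨ρ, hρ⟩ := Cfsg.Agent.CharExtend.exists_extension_of_cyclic σ hinv hcycN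
    obtain ⟨hψ, hψres⟩ := Cfsg.Agent.CharExtend.exists_char_of_rep hρ
    haveI : Fintype (π₀.range →* ℂˣ) := Fintype.ofFinite _
    let lam : (π₀.range →* ℂˣ) → T → ℂ := fun l t => (l (π t) : ℂ) * ρ.character t
    have hlam : ∀ l, Cfsg.IsCharacter T (lam l) := fun l =>
      IsCharacter.mul (IsIrrCharacter.isCharacter (isIrrCharacter_linear (l.comp π)))
        (IsIrrCharacter.isCharacter hψ)
    choose m hm using fun l => IsCharacter.exists_classInner_nat
      (IsCharacter.restrict hηc T) (hlam l)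
    -- each twist occurs
    have hpos : ∀ l, m l ≠ 0 := by
      intro l h0
      obtain ⟨χ', hχ'⟩ := IsCharacter.exists_constituent (isCharacter_indFun T (hlam l)) fun h => by
        have h1 : Cfsg.indFun T (lam l) 1 = 0 := by rw [h]; rfl
        rw [indFun_one_apply] at h1
        simp only [lam, map_one, Units.val_one, one_mul] at h1
        exact mul_ne_zero (Nat.cast_ne_zero.2 Subgroup.index_ne_zero_of_finite)
          (IsIrrCharacter.one_ne_zero hψ) h1
      rw [classInner_indFun_left T (lam l)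
        (IsCharacter.isClassFunction (IsIrrCharacter.isCharacter χ'.2)), ← classInner_conj_symm,
        ne_eq, map_eq_zero] at hχ'
      have hlamres : ∀ n : N, lam l (n : T) = ζ' (eN n) := fun n => by
        have hn : π (n : T) = 1 := by
          rw [← MonoidHom.mem_ker, hker]; exact n.2
        simp only [lam, hn, map_one, Units.val_one, one_mul]
        rw [hψres, hσc]
      have hover : resInner (hZR.trans hRS) (χ' : S → ℂ) (θ : Z → ℂ) ≠ 0 := by
        refine resInner_ne_zero_of_constituent hZR hRS (IsIrrCharacter.isCharacter χ'.2) θ ζ ?_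
          (by rw [hk]; exact Nat.cast_ne_zero.2 hk0)
        obtain ⟨ψ₁, hψ₁⟩ : ∃ ψ₁ : Cfsg.IrrCharacter T, Cfsg.classInner
            (fun t : T => (χ' : S → ℂ) t) ψ₁ ≠ 0 ∧ Cfsg.classInner (lam l) ψ₁ ≠ 0 := by
          by_contra hnone
          push Not at hnone
          refine hχ' ?_
          rw [IsCharacter.eq_sum (IsCharacter.restrict (IsIrrCharacter.isCharacter χ'.2) T),
            classInner_sum_left]
          refine Finset.sum_eq_zero fun ψ₁ _ => ?_
          rw [classInner_smul_left]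
          by_cases h : Cfsg.classInner (fun t : T => (χ' : S → ℂ) t) ψ₁ = 0
          · rw [h, zero_mul]
          · have e0 : Cfsg.classInner (ψ₁ : T → ℂ) (lam l) = 0 := by
              rw [← classInner_conj_symm, hnone ψ₁ h, map_zero]
            rw [e0, mul_zero]
        -- restrict the common constituent
        have hne2 : Cfsg.classInner (fun n : N => (χ' : S → ℂ) (n : T)) (fun n => ζ' (eN n)) ≠ 0 := by
          refine classInner_ne_zero_of_common
            (IsCharacter.restrict (IsCharacter.restrict (IsIrrCharacter.isCharacter χ'.2) T) N)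
            (IsIrrCharacter.isCharacter (IsIrrCharacter.comp hζ' eN.toMonoidHom eN.surjective))
            ⟨_, IsIrrCharacter.comp hζ' eN.toMonoidHom eN.surjective⟩ ?_
            (ne_of_eq_of_ne
              (classInner_self_irr (IsIrrCharacter.comp hζ' eN.toMonoidHom eN.surjective)) one_ne_zero)
          have hsum := IsCharacter.eq_sum (IsCharacter.restrict (IsIrrCharacter.isCharacter χ'.2) T)
          choose a ha using fun φ : Cfsg.IrrCharacter T => IsCharacter.exists_classInner_nat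
            (IsCharacter.restrict (IsIrrCharacter.isCharacter χ'.2) T) (IsIrrCharacter.isCharacter φ.2)
          choose b hb using fun φ : Cfsg.IrrCharacter T => IsCharacter.exists_classInner_nat
            (IsCharacter.restrict (IsIrrCharacter.isCharacter φ.2) N)
            (IsIrrCharacter.isCharacter (IsIrrCharacter.comp hζ' eN.toMonoidHom eN.surjective))
          have e : (fun n : N => (χ' : S → ℂ) (n : T)) = ∑ φ : Cfsg.IrrCharacter T,
              (a φ : ℂ) • fun n : N => (φ : T → ℂ) n := by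
            funext n
            have := congrFun hsum (n : T)
            simp only [Finset.sum_apply, Pi.smul_apply, ha] at this ⊢
            exact this
          rw [e, classInner_sum_left]
          simp only [classInner_smul_left]
          simp only [hb, ← Nat.cast_mul, ← Nat.cast_sum, Nat.cast_ne_zero]
          intro h00
          obtain ⟨h1, h2⟩ := hψ₁
          rw [ha, Nat.cast_ne_zero] at h1
          refine mul_ne_zero h1 ?_ (Finset.sum_eq_zero_iff.1 h00 ψ₁ (Finset.mem_univ _))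
          intro hb0
          -- `ψ₁` is the twist
          have hirrl : Cfsg.IsIrrCharacter T (lam l) := by
            refine IsCharacter.isIrr_of_norm_one (hlam l) ?_
            refine Eq.trans ?_ (classInner_self_irr hψ)
            unfold Cfsg.classInner
            congr 1
            refine Fintype.sum_congr _ _ fun t => ?_
            simp only [lam, map_mul]
            rw [mul_mul_mul_comm, Complex.mul_conj' (l (π t) : ℂ), norm_eq_one_of_pow
              (m := Nat.card π₀.range) Nat.card_pos.ne' (by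
                rw [← Units.val_pow_eq_pow_val, ← map_pow, pow_card_eq_one', map_one, Units.val_one])]
            norm_num
          have e1 : lam l = (ψ₁ : T → ℂ) := by
            by_contra hne'
            exact h2 (classInner_irr_of_ne hirrl ψ₁.2 hne')
          have := hb ψ₁
          rw [hb0, Nat.cast_zero, ← e1, show (fun n : N => lam l n) = fun n => ζ' (eN n) from
            funext hlamres] at this
          exact one_ne_zero ((classInner_self_irr
            (IsIrrCharacter.comp hζ' eN.toMonoidHom eN.surjective)).symm.trans this)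
        intro h0
        refine hne2 ?_
        rw [← h0]
        unfold Cfsg.classInner
        rw [Nat.card_congr (eN.trans eR).toEquiv]
        congr 1
        exact Fintype.sum_equiv (eN.trans eR).toEquiv _ _ fun n => rfl
      have := over_unique χ θ D.he D.hres hZS hp hidx hc hη hover
      rw [this, hm, h0, Nat.cast_zero] at hχ'
      exact hχ' rfl
    -- their multiplicities add up to `f`
    have hsum : ∑ l, m l = f := by
      rw [← Nat.cast_inj (R := ℂ), Nat.cast_sum, ← hf]
      simp only [← hm, Cfsg.classInner, lam, map_mul, mul_left_comm _ (conj ((_ : ℂˣ) : ℂ))]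
      rw [← Finset.mul_sum, Finset.sum_comm]
      have e : ∀ t : T, ∑ l : π₀.range →* ℂˣ,
          conj (l (π t) : ℂ) * ((η : S → ℂ) t * conj (ρ.character t)) =
          if t ∈ N then (Nat.card π₀.range : ℂ) * ((η : S → ℂ) t * conj (ρ.character t)) else 0 :=
        fun t => by
        rw [← Finset.sum_mul, ← map_sum, Cfsg.Agent.CoprimeConst.sum_hom_apply]
        by_cases ht : t ∈ N
        · rw [if_pos ht, if_pos (by rw [← MonoidHom.mem_ker, hker]; exact ht), map_natCast]
        · rw [if_neg ht, if_neg (by rw [← MonoidHom.mem_ker, hker]; exact ht), map_zero, zero_mul]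
      rw [Fintype.sum_congr _ _ e, ← Finset.sum_filter, Finset.sum_subtype (p := (· ∈ N)) _
        (fun t => by simp), ← Finset.mul_sum]
      have hcard : (Nat.card T : ℂ) = (Nat.card π₀.range : ℂ) * (Nat.card R : ℂ) := by
        rw [← Nat.cast_mul, Nat.cast_inj, ← N.card_mul_index, ← hker, Subgroup.index_ker,
          MonoidHom.range_eq_top.2 hπ, Subgroup.card_top, hker, Nat.card_congr (eN.trans eR).toEquiv,
          mul_comm]
      rw [hcard, ← mul_assoc, mul_inv, mul_right_comm (Nat.card π₀.range : ℂ)⁻¹,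
        inv_mul_cancel₀ (Nat.cast_ne_zero.2 Nat.card_pos.ne'), one_mul]
      congr 1
      refine Fintype.sum_equiv (eN.trans eR).toEquiv _ _ fun n => ?_
      rw [hψres, hσc]
      rfl
    have hcardl : Fintype.card (π₀.range →* ℂˣ) = f ^ 2 := by
      haveI : NeZero (Monoid.exponent π₀.range : ℂ) :=
        ⟨Nat.cast_ne_zero.2 Monoid.exponent_ne_zero_of_finite⟩
      rw [← Nat.card_eq_fintype_card, CommGroup.card_monoidHom_of_hasEnoughRootsOfUnity]
      have h1 : N.index = Nat.card π₀.range := by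
        rw [← hker, Subgroup.index_ker, MonoidHom.range_eq_top.2 hπ, Subgroup.card_top]
      rw [← h1]
      have h2 := Subgroup.relIndex_mul_index hR'T
      rw [← ho, show R'.index = R.relIndex S from rfl, ← hnorm] at h2
      exact Nat.eq_of_mul_eq_mul_right
        (Nat.pos_of_ne_zero (ho ▸ Subgroup.index_ne_zero_of_finite)) h2
    have hle : f ^ 2 ≤ f := by
      rw [← hcardl, ← Finset.card_univ, Finset.card_eq_sum_ones]
      exact le_of_le_of_eq (Finset.sum_le_sum fun l _ => Nat.pos_of_ne_zero (hpos l)) hsum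
    have : f ≤ 1 := by nlinarith
    omega

end Cfsg.Agent.Char.FullRam
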