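import Cfsg.Agent.Lib.Char.Degree
import Cfsg.Agent.Lib.Char.DegreeCenter
import Cfsg.Agent.Lib.Char.Orbit
import Cfsg.Agent.Lib.Char.Galois
import Cfsg.Agent.Lib.Solvable.Structure
import Cfsg.Agent.Lib.FGStruct.SubgroupCount

/-!
# `p`-groups whose non-linear characters of equal degree are Galois conjugate
-/

set_option linter.style.haveILetI false
set_option autoImplicit false

namespace Cfsg.Agent.GalPG

open Cfsg.Agent.Char Cfsg.Agent.CharX
open scoped ComplexConjugate Pointwise commutatorElement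

universe u

variable {G : Type u} [Group G]

/-! ## Commutators with central values -/

theorem comm_pow_left {a b : G} (h : ⁅a, b⁆ ∈ Subgroup.center G) (i : ℕ) :
    ⁅a ^ i, b⁆ = ⁅a, b⁆ ^ i := by
  induction i with
  | zero => simp
  | succ i ih =>
    have hc := Subgroup.mem_center_iff.mp h
    calc ⁅a ^ (i + 1), b⁆ = a ^ i * ⁅a, b⁆ * (a ^ i)⁻¹ * ⁅a ^ i, b⁆ := by
          rw [pow_succ, commutatorElement_def, commutatorElement_def, commutatorElement_def]
          group
      _ = ⁅a, b⁆ ^ (i + 1) := by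
          rw [hc (a ^ i), mul_inv_cancel_right, ih, ← pow_succ']

theorem comm_pow_right {a b : G} (h : ⁅a, b⁆ ∈ Subgroup.center G) (i : ℕ) :
    ⁅a, b ^ i⁆ = ⁅a, b⁆ ^ i := by
  have h' : ⁅b, a⁆ ∈ Subgroup.center G := by
    rw [← commutatorElement_inv]; exact inv_mem h
  rw [← commutatorElement_inv, comm_pow_left h', ← inv_pow, commutatorElement_inv]

theorem comm_mul_left {a b c : G} (h : ⁅b, c⁆ ∈ Subgroup.center G) :
    ⁅a * b, c⁆ = ⁅a, c⁆ * ⁅b, c⁆ := by
  have hc := Subgroup.mem_center_iff.mp h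
  calc ⁅a * b, c⁆ = a * ⁅b, c⁆ * a⁻¹ * ⁅a, c⁆ := by
        rw [commutatorElement_def, commutatorElement_def, commutatorElement_def]; group
    _ = ⁅a, c⁆ * ⁅b, c⁆ := by rw [hc a, mul_inv_cancel_right, hc]

theorem mem_commutator (a b : G) : ⁅a, b⁆ ∈ commutator G :=
  Subgroup.commutator_mem_commutator (Subgroup.mem_top a) (Subgroup.mem_top b)

/-- Elements which commute with everything modulo `N`. -/
def centerMod (N : Subgroup G) [N.Normal] : Subgroup G :=
  (Subgroup.center (G ⧸ N)).comap (QuotientGroup.mk' N)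

theorem mk_comm_eq_one {N : Subgroup G} [N.Normal] {a b : G} :
    ⁅a, b⁆ ∈ N ↔ (a : G ⧸ N) * b = b * a := by
  rw [← QuotientGroup.eq_one_iff, ← commutatorElement_eq_one_iff_mul_comm]
  exact Iff.of_eq rfl

theorem mem_centerMod {N : Subgroup G} [N.Normal] {x : G} :
    x ∈ centerMod N ↔ ∀ y : G, ⁅y, x⁆ ∈ N := by
  simp only [centerMod, Subgroup.mem_comap, QuotientGroup.mk'_apply, Subgroup.mem_center_iff,
    mk_comm_eq_one]
  exact ⟨fun h y => h _, fun h q => QuotientGroup.induction_on q h⟩

theorem card_centerMod [Finite G] (N : Subgroup G) [N.Normal] :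
    Nat.card (centerMod N) = Nat.card N * Nat.card (Subgroup.center (G ⧸ N)) := by
  have e := Nat.card_congr ((QuotientGroup.preimageMkEquivSubgroupProdSet N
    (Subgroup.center (G ⧸ N) : Set (G ⧸ N))))
  rw [Nat.card_prod] at e
  exact e

/-! ## Characters -/

section Chars

variable [Finite G]

theorem exists_nonlinear (hna : ∃ a b : G, a * b ≠ b * a) :
    ∃ χ : Cfsg.IrrCharacter G, Cfsg.charDegree (χ : G → ℂ) ≠ 1 := by
  by_contra hall
  push Not at hall
  haveI := Fintype.ofFinite G
  obtain ⟨a, b, hab⟩ := hna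
  apply hab
  have hconj : IsConj ⁅a, b⁆ 1 := by
    rw [isConj_iff_forall_irr]
    intro χ
    have h1 : (χ : G → ℂ) 1 = 1 := by rw [irr_deg, hall χ, Nat.cast_one]
    obtain ⟨f, hf⟩ := exists_hom_of_degree_one (IsIrrCharacter.isCharacter χ.2) h1
    rw [h1, hf]
    simp only [map_commutatorElement, commutatorElement_eq_one_iff_mul_comm.mpr (mul_comm (f a) (f b))]
    simp
  rwa [isConj_one_left, commutatorElement_eq_one_iff_mul_comm] at hconj

/-- A non-linear character is non-trivial on some commutator. -/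
theorem exists_comm_ne {χ : Cfsg.IrrCharacter G} (hχ : Cfsg.charDegree (χ : G → ℂ) ≠ 1) :
    ∃ a b : G, (χ : G → ℂ) ⁅a, b⁆ ≠ (χ : G → ℂ) 1 := by
  by_contra hall
  push Not at hall
  haveI := Fintype.ofFinite G
  apply hχ
  have h1 := degree_one_of_commutators χ.2 fun a b => hall a b
  rw [irr_deg] at h1
  exact_mod_cast h1

/-- If a character vanishes off a central subgroup `Z`, then `d² |Z| = |G|`. -/
theorem sq_mul_card_of_vanish (χ : Cfsg.IrrCharacter G) (Z : Subgroup G)
    (hZ : Z ≤ Subgroup.center G) (hv : ∀ x, x ∉ Z → (χ : G → ℂ) x = 0) :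
    Cfsg.charDegree (χ : G → ℂ) ^ 2 * Nat.card Z = Nat.card G := by
  classical
  haveI := Fintype.ofFinite G
  have h1 := classInner_self_irr χ.2
  rw [Cfsg.classInner, inv_mul_eq_one₀ (Nat.cast_ne_zero.mpr Nat.card_pos.ne')] at h1
  rw [← Finset.sum_subset (Finset.subset_univ (Finset.univ.filter fun x => x ∈ Z))
    (fun x _ hx => by rw [hv x (by simpa using hx), zero_mul])] at h1
  have hval : ∀ x ∈ Finset.univ.filter (fun x => x ∈ Z),
      (χ : G → ℂ) x * conj ((χ : G → ℂ) x) = (Cfsg.charDegree (χ : G → ℂ) : ℂ) ^ 2 := by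
    intro x hx
    obtain ⟨c, hc1, hc, -⟩ := IsIrrCharacter.exists_central_scalar χ.2 (hZ (Finset.mem_filter.mp hx).2)
    have hx1 := hc 1
    rw [mul_one] at hx1
    rw [hx1, irr_deg, Complex.mul_conj, Complex.normSq_eq_norm_sq, norm_mul, hc1, one_mul,
      Complex.norm_natCast, Complex.ofReal_pow, Complex.ofReal_natCast]
  rw [Finset.sum_congr rfl hval, Finset.sum_const, nsmul_eq_mul, ← Fintype.card_subtype,
    ← Nat.card_eq_fintype_card] at h1
  rw [mul_comm]
  exact_mod_cast h1.symm

/-- The square of a degree is at most the index of the centre. -/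
theorem sq_mul_card_center_le (χ : Cfsg.IrrCharacter G) :
    Cfsg.charDegree (χ : G → ℂ) ^ 2 * Nat.card (Subgroup.center G) ≤ Nat.card G := by
  classical
  haveI := Fintype.ofFinite G
  have h1 := classInner_self_irr χ.2
  rw [Cfsg.classInner, inv_mul_eq_one₀ (Nat.cast_ne_zero.mpr Nat.card_pos.ne')] at h1
  simp only [Complex.mul_conj] at h1
  rw [← Complex.ofReal_sum, ← Complex.ofReal_natCast, Complex.ofReal_inj] at h1
  set S := Finset.univ.filter fun x => x ∈ Subgroup.center G with hS
  have h2 : ∑ x ∈ S, Complex.normSq ((χ : G → ℂ) x) ≤ ∑ x : G, Complex.normSq ((χ : G → ℂ) x) :=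
    Finset.sum_le_sum_of_subset_of_nonneg (Finset.subset_univ _) fun _ _ _ => Complex.normSq_nonneg _
  rw [← h1] at h2
  have hval : ∀ x ∈ S, Complex.normSq ((χ : G → ℂ) x) = (Cfsg.charDegree (χ : G → ℂ) : ℝ) ^ 2 := by
    intro x hx
    obtain ⟨c, hc1, hc, -⟩ := IsIrrCharacter.exists_central_scalar χ.2 (Finset.mem_filter.mp hx).2
    have hx1 := hc 1
    rw [mul_one] at hx1
    rw [hx1, irr_deg, Complex.normSq_eq_norm_sq, norm_mul, hc1, one_mul, Complex.norm_natCast]
  rw [Finset.sum_congr rfl hval, Finset.sum_const, nsmul_eq_mul, hS, ← Fintype.card_subtype,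
    ← Nat.card_eq_fintype_card] at h2
  rw [mul_comm]
  exact_mod_cast h2

variable {p : ℕ} [Fact p.Prime]

/-- A central subgroup of prime order is generated by each of its non-trivial elements. -/
theorem zpowers_eq_of_card {N : Subgroup G} (hN : Nat.card N = p) {w : G} (hw : w ∈ N)
    (hw1 : w ≠ 1) : Subgroup.zpowers w = N := by
  have hle : Subgroup.zpowers w ≤ N := Subgroup.zpowers_le.mpr hw
  refine Subgroup.eq_of_le_of_card_ge hle ?_
  rcases (Fact.out : p.Prime).eq_one_or_self_of_dvd _ (hN ▸ Subgroup.card_dvd_of_le hle) with h | h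
  · exact absurd (Subgroup.zpowers_eq_bot.mp (Subgroup.card_eq_one.mp h)) hw1
  · rw [h, hN]

omit [Finite G] [Fact p.Prime] in
theorem pow_eq_one_of_mem {N : Subgroup G} (hN : Nat.card N = p) {w : G} (hw : w ∈ N) :
    w ^ p = 1 := by
  have := congrArg Subtype.val (pow_card_eq_one' (x := (⟨w, hw⟩ : N)))
  rwa [hN] at this

theorem comm_le_center (hP : IsPGroup p G) (h : Nat.card (commutator G) = p) :
    commutator G ≤ Subgroup.center G := by
  haveI := hP.isNilpotent
  have hne : commutator G ≠ ⊥ := fun e => by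
    rw [e, Subgroup.card_bot] at h
    exact (Fact.out : p.Prime).one_lt.ne h
  obtain ⟨⟨w, hw⟩, hw0⟩ := Subgroup.ne_bot_iff_exists_ne_one.mp (SolvStruct.inf_center_ne_bot hne)
  have hw1 : w ≠ 1 := fun e => hw0 (Subtype.ext e)
  rw [← zpowers_eq_of_card h hw.1 hw1]
  exact Subgroup.zpowers_le.mpr hw.2

/-- In a group with derived subgroup of order `p`, a non-linear character vanishes off the centre. -/
theorem vanish_off_center (hP : IsPGroup p G) (h : Nat.card (commutator G) = p)
    {χ : Cfsg.IrrCharacter G} (hχ : Cfsg.charDegree (χ : G → ℂ) ≠ 1) {x : G}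
    (hx : x ∉ Subgroup.center G) : (χ : G → ℂ) x = 0 := by
  rw [Subgroup.mem_center_iff] at hx
  push Not at hx
  obtain ⟨y, hy⟩ := hx
  have hw1 : ⁅y, x⁆ ≠ 1 := fun e => hy (commutatorElement_eq_one_iff_mul_comm.mp e)
  have hwz := comm_le_center hP h (mem_commutator y x)
  obtain ⟨c, -, hc, hc1⟩ := IsIrrCharacter.exists_central_scalar χ.2 hwz
  by_contra h0
  haveI := Fintype.ofFinite G
  have hconj := IsCharacter.isClassFunction (IsIrrCharacter.isCharacter χ.2) x y
  rw [show y * x * y⁻¹ = ⁅y, x⁆ * x by rw [commutatorElement_def]; group, hc] at hconj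
  have hc' : c = 1 := (mul_eq_right₀ h0).mp hconj
  obtain ⟨K, hK, hmem, -⟩ := exists_ker χ
  obtain ⟨a, b, hab⟩ := exists_comm_ne hχ
  refine hab ((hmem _).mp ?_)
  have hle : Subgroup.zpowers ⁅y, x⁆ ≤ K := Subgroup.zpowers_le.mpr ((hmem _).mpr (hc1.mp hc'))
  rw [zpowers_eq_of_card h (mem_commutator y x) hw1] at hle
  exact hle (mem_commutator a b)

theorem sq_mul_card_center (hP : IsPGroup p G) (h : Nat.card (commutator G) = p)
    {χ : Cfsg.IrrCharacter G} (hχ : Cfsg.charDegree (χ : G → ℂ) ≠ 1) :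
    Cfsg.charDegree (χ : G → ℂ) ^ 2 * Nat.card (Subgroup.center G) = Nat.card G :=
  sq_mul_card_of_vanish χ _ le_rfl fun _ hx => vanish_off_center hP h hχ hx

/-- Inflation keeps the degree. -/
theorem deg_infl (N : Subgroup G) [N.Normal] (χ : Cfsg.IrrCharacter (G ⧸ N)) :
    Cfsg.charDegree (infl N χ : G → ℂ) = Cfsg.charDegree (χ : G ⧸ N → ℂ) := by
  have h1 := irr_deg (infl N χ)
  rw [infl_apply, QuotientGroup.mk_one, irr_deg] at h1
  exact_mod_cast h1.symm

theorem exists_nonlinear_trivialOn (N : Subgroup G) [N.Normal] {a b : G} (hab : ⁅a, b⁆ ∉ N) :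
    ∃ χ : Cfsg.IrrCharacter G, Cfsg.charDegree (χ : G → ℂ) ≠ 1 ∧
      ∀ x ∈ N, (χ : G → ℂ) x = (χ : G → ℂ) 1 := by
  obtain ⟨χ, hχ⟩ := exists_nonlinear (G := G ⧸ N) ⟨(a : G ⧸ N), (b : G ⧸ N), fun e => hab (by
    exact mk_comm_eq_one.mpr e)⟩
  exact ⟨infl N χ, by rwa [deg_infl], infl_trivialOn N χ⟩

end Chars

/-! ## The hypothesis on kernels -/

/-- Non-linear characters of equal degree have equal kernels. -/
def SameKer (G : Type u) [Group G] : Prop :=
  ∀ χ ψ : Cfsg.IrrCharacter G, Cfsg.charDegree (χ : G → ℂ) ≠ 1 →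
    Cfsg.charDegree (χ : G → ℂ) = Cfsg.charDegree (ψ : G → ℂ) →
    ∀ g, (χ : G → ℂ) g = (χ : G → ℂ) 1 → (ψ : G → ℂ) g = (ψ : G → ℂ) 1

theorem SameKer.quotient [Finite G] (h : SameKer G) (N : Subgroup G) [N.Normal] :
    SameKer (G ⧸ N) := by
  intro χ ψ h1 h2 g hg
  obtain ⟨g, rfl⟩ := QuotientGroup.mk_surjective g
  exact h (infl N χ) (infl N ψ) (by rwa [deg_infl]) (by rw [deg_infl, deg_infl, h2]) g hg

variable [Finite G] {p : ℕ} [Fact p.Prime]

/-- The case of a derived subgroup of order `p`. -/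
theorem isCyclic_center (hP : IsPGroup p G) (hH : SameKer G)
    (h : Nat.card (commutator G) = p) : IsCyclic (Subgroup.center G) := by
  classical
  have hp : p.Prime := Fact.out
  by_contra hcyc
  have hbig : ¬ Nat.card {x : Subgroup.center G // x ^ p = 1} ≤ p := fun hle =>
    hcyc (SubgroupCount.isCyclic_of_card_le hp (hP.to_subgroup _)
      (fun a b => Subtype.ext (Subgroup.mem_center_iff.mp b.2 a)) hle)
  obtain ⟨e, heZ, hep, heD⟩ : ∃ e ∈ Subgroup.center G, e ^ p = 1 ∧ e ∉ commutator G := by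
    by_contra hno
    push Not at hno
    apply hbig
    conv_rhs => rw [← h]
    refine Nat.card_le_card_of_injective
      (fun x : {x : Subgroup.center G // x ^ p = 1} =>
        (⟨(x.1 : G), hno _ x.1.2 ?_⟩ : commutator G)) ?_
    · simpa using congrArg Subtype.val x.2
    · intro x y hxy
      exact Subtype.ext (Subtype.ext (congrArg Subtype.val hxy :))
  obtain ⟨a, b, hab⟩ : ∃ a b : G, ⁅a, b⁆ ≠ 1 := by
    by_contra hno
    push Not at hno
    have hbot : commutator G = ⊥ := by
      rw [eq_bot_iff, commutator_def, Subgroup.commutator_le]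
      exact fun a _ b _ => Subgroup.mem_bot.mpr (hno a b)
    rw [hbot, Subgroup.card_bot] at h
    exact hp.one_lt.ne h
  set w := ⁅a, b⁆ with hw
  have hwD : w ∈ commutator G := mem_commutator a b
  have hwZ : w ∈ Subgroup.center G := comm_le_center hP h hwD
  have hewD : e * w ∉ commutator G := fun hm => heD (by simpa using mul_mem hm (inv_mem hwD))
  have key : ∀ f : G, f ∈ Subgroup.center G → f ^ p = 1 → f ∉ commutator G →
      w ∉ Subgroup.zpowers f := by
    intro f _ hfp hfD hmem
    have hf1 : f ≠ 1 := fun e => hfD (e ▸ one_mem _)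
    have hcard : Nat.card (Subgroup.zpowers f) = p := by
      rw [Nat.card_zpowers, orderOf_eq_prime hfp hf1]
    have := zpowers_eq_of_card hcard hmem hab
    refine hfD ((Subgroup.zpowers_le.mpr hwD) ?_)
    rw [this]
    exact Subgroup.mem_zpowers f
  have hex : ∀ f : G, f ∈ Subgroup.center G → w ∉ Subgroup.zpowers f →
      ∃ χ : Cfsg.IrrCharacter G, Cfsg.charDegree (χ : G → ℂ) ≠ 1 ∧
        (χ : G → ℂ) f = (χ : G → ℂ) 1 := by
    intro f hf hwf
    haveI : (Subgroup.zpowers f).Normal := ⟨fun n hn g => by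
      have hnZ : n ∈ Subgroup.center G := Subgroup.zpowers_le.mpr hf hn
      rw [Subgroup.mem_center_iff.mp hnZ g, mul_inv_cancel_right]
      exact hn⟩
    obtain ⟨χ, h1, h2⟩ := exists_nonlinear_trivialOn (Subgroup.zpowers f) (a := a) (b := b) hwf
    exact ⟨χ, h1, h2 f (Subgroup.mem_zpowers f)⟩
  have hwp : w ^ p = 1 := pow_eq_one_of_mem h hwD
  obtain ⟨χ, hχ, hχe⟩ := hex e heZ (key e heZ hep heD)
  obtain ⟨ψ, hψ, hψe⟩ := hex (e * w) (mul_mem heZ hwZ) (key _ (mul_mem heZ hwZ)
    (by rw [(show Commute e w from (Subgroup.mem_center_iff.mp hwZ e)).mul_pow, hep, hwp, one_mul])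
    hewD)
  have hdeg : Cfsg.charDegree (χ : G → ℂ) = Cfsg.charDegree (ψ : G → ℂ) :=
    Nat.pow_left_injective two_ne_zero (Nat.eq_of_mul_eq_mul_right Nat.card_pos
      ((sq_mul_card_center hP h hχ).trans (sq_mul_card_center hP h hψ).symm))
  have hew := hH ψ χ hψ hdeg.symm _ hψe
  obtain ⟨K, hK, hmem, -⟩ := exists_ker χ
  obtain ⟨x, y, hxy⟩ := exists_comm_ne hχ
  refine hxy ((hmem _).mp ?_)
  have hwK : w ∈ K := by
    simpa using mul_mem (inv_mem ((hmem e).mpr hχe)) ((hmem (e * w)).mpr hew)
  have := Subgroup.zpowers_le.mpr hwK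
  rw [zpowers_eq_of_card h hwD hab] at this
  exact this (mem_commutator x y)

theorem commutator_quotient (N : Subgroup G) [N.Normal] :
    commutator (G ⧸ N) = (commutator G).map (QuotientGroup.mk' N) := by
  rw [commutator_def, commutator_def, Subgroup.map_commutator,
    Subgroup.map_top_of_surjective _ (QuotientGroup.mk'_surjective N)]

theorem card_commutator_eq (N : Subgroup G) [N.Normal] (hN : N ≤ commutator G) :
    Nat.card (commutator G) = Nat.card N * Nat.card (commutator (G ⧸ N)) := by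
  rw [commutator_quotient]
  have e := Nat.card_congr (QuotientGroup.preimageMkEquivSubgroupProdSet N
    (((commutator G).map (QuotientGroup.mk' N) : Subgroup (G ⧸ N)) : Set (G ⧸ N)))
  rw [Nat.card_prod] at e
  refine Eq.trans ?_ e
  change _ = Nat.card ↥(((commutator G).map (QuotientGroup.mk' N)).comap (QuotientGroup.mk' N))
  rw [Subgroup.comap_map_eq, QuotientGroup.ker_mk', sup_eq_left.mpr hN]

/-- A central quotient with abelian subgroup of index dividing `p` is small. -/
theorem card_le_cube {Q : Type u} [Group Q] [Finite Q] (hP : IsPGroup p Q)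
    (hD : Nat.card (commutator Q) = p) (hZ : Nat.card (Subgroup.center Q) = p) (A : Subgroup Q)
    (hAi : A.index ∣ p) (hA : ∀ x ∈ A, ∀ y ∈ A, x * y = y * x) : Nat.card Q ≤ p ^ 3 := by
  have hp : p.Prime := Fact.out
  have hne : A.index ≠ 1 := by
    intro h1
    rw [Subgroup.index_eq_one] at h1
    have hbot : commutator Q = ⊥ := by
      rw [eq_bot_iff, commutator_def, Subgroup.commutator_le]
      exact fun a _ b _ => Subgroup.mem_bot.mpr (commutatorElement_eq_one_iff_mul_comm.mpr
        (hA a (h1 ▸ Subgroup.mem_top a) b (h1 ▸ Subgroup.mem_top b)))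
    rw [hbot, Subgroup.card_bot] at hD
    exact hp.one_lt.ne hD
  have hAp : A.index = p := (hp.eq_one_or_self_of_dvd _ hAi).resolve_left hne
  obtain ⟨t, ht⟩ : ∃ t, t ∉ A := by
    by_contra hno
    push Not at hno
    exact hne (Subgroup.index_eq_one.mpr (eq_top_iff.mpr fun x _ => hno x))
  let φ : A →* commutator Q :=
    MonoidHom.mk' (fun a => ⟨⁅(a : Q), t⁆, mem_commutator _ _⟩) fun a b =>
      Subtype.ext (comm_mul_left (comm_le_center hP hD (mem_commutator _ _)))
  have hker : φ.ker.map A.subtype ≤ Subgroup.center Q := by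
    rintro _ ⟨a, ha, rfl⟩
    have hat : (a : Q) * t = t * a :=
      commutatorElement_eq_one_iff_mul_comm.mp (congrArg Subtype.val (MonoidHom.mem_ker.mp ha))
    have htop : Subgroup.centralizer ({(a : Q)} : Set Q) = ⊤ := by
      have hle : A ≤ Subgroup.centralizer ({(a : Q)} : Set Q) := fun x hx =>
        Subgroup.mem_centralizer_singleton_iff.mpr (hA x hx a a.2)
      have hd := Subgroup.index_dvd_of_le hle
      rw [hAp] at hd
      rcases hp.eq_one_or_self_of_dvd _ hd with h | h
      · exact Subgroup.index_eq_one.mp h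
      · exfalso
        have he : A = Subgroup.centralizer ({(a : Q)} : Set Q) := Subgroup.eq_of_le_of_card_ge hle (by
          have h1 := A.card_mul_index
          have h2 := (Subgroup.centralizer ({(a : Q)} : Set Q)).card_mul_index
          rw [hAp] at h1
          rw [h, ← h1] at h2
          exact (Nat.eq_of_mul_eq_mul_right hp.pos h2).le)
        exact ht (he ▸ Subgroup.mem_centralizer_singleton_iff.mpr hat.symm)
    rw [Subgroup.mem_center_iff]
    intro g
    have hg : g ∈ Subgroup.centralizer ({(a : Q)} : Set Q) := htop ▸ Subgroup.mem_top g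
    exact Subgroup.mem_centralizer_singleton_iff.mp hg
  have hk : Nat.card φ.ker ≤ p := by
    rw [Nat.card_congr (φ.ker.equivMapOfInjective A.subtype A.subtype_injective).toEquiv, ← hZ]
    exact Nat.le_of_dvd Nat.card_pos (Subgroup.card_dvd_of_le hker)
  have hr : Nat.card φ.range ≤ p := hD ▸ Nat.le_of_dvd Nat.card_pos φ.range.card_subgroup_dvd_card
  have hA2 : Nat.card A ≤ p * p := by
    rw [← φ.ker.card_mul_index, Subgroup.index_ker]
    exact Nat.mul_le_mul hk hr
  rw [← A.card_mul_index, hAp, show p ^ 3 = p * p * p by ring]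
  exact Nat.mul_le_mul_right _ hA2

/-- The case of a derived subgroup of order larger than `p` does not occur. -/
theorem card_commutator_eq_p_aux (hP : IsPGroup p G) (hH : SameKer G)
    (hne : commutator G ≠ ⊥)
    (IH : ∀ (N : Subgroup G) [N.Normal], N ≠ ⊥ → (commutator (G ⧸ N) ≠ ⊥) →
      IsCyclic (Subgroup.center (G ⧸ N)) ∧ Nat.card (commutator (G ⧸ N)) = p) :
    Nat.card (commutator G) = p := by
  classical
  have hp : p.Prime := Fact.out
  haveI := hP.isNilpotent
  by_contra hDp
  -- facts about each central subgroup of order `p` inside the derived subgroup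
  have hnorm : ∀ N : Subgroup G, N ≤ Subgroup.center G → N.Normal := fun N hN => ⟨fun n hn g => by
    rw [Subgroup.mem_center_iff.mp (hN hn) g, mul_inv_cancel_right]; exact hn⟩
  have hfacts : ∀ (N : Subgroup G) [N.Normal], N ≤ Subgroup.center G → N ≤ commutator G →
      Nat.card N = p → Nat.card (commutator G) = p * p ∧
      (∀ a ∈ commutator G, a ^ p ∈ N) ∧ commutator G ≤ centerMod N ∧
      ∃ z ∈ centerMod N, z ^ p ∈ Subgroup.center G ∧
        (∀ x ∈ centerMod N, ∃ i : ℕ, ∃ n ∈ N, x = z ^ i * n) ∧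
        (orderOf (z : G ⧸ N) = Nat.card (Subgroup.center (G ⧸ N))) ∧
        (∀ χ : Cfsg.IrrCharacter (G ⧸ N), Cfsg.charDegree (χ : G ⧸ N → ℂ) ≠ 1 →
          Cfsg.charDegree (χ : G ⧸ N → ℂ) ^ 2 * Nat.card (centerMod N) = Nat.card G) := by
    intro N _ hNZ hND hNc
    have hNbot : N ≠ ⊥ := fun e => by
      rw [e, Subgroup.card_bot] at hNc; exact hp.one_lt.ne hNc
    have hQne : commutator (G ⧸ N) ≠ ⊥ := fun e => by
      have := card_commutator_eq N hND
      rw [e, Subgroup.card_bot, mul_one, hNc] at this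
      exact hDp this
    obtain ⟨hcyc, hQD⟩ := IH N hNbot hQne
    have hQP := hP.to_quotient N
    have hcard : Nat.card (commutator G) = p * p := by rw [card_commutator_eq N hND, hNc, hQD]
    have hmk : ∀ a ∈ commutator G, (a : G ⧸ N) ∈ commutator (G ⧸ N) := fun a ha => by
      rw [commutator_quotient]; exact Subgroup.mem_map_of_mem _ ha
    refine ⟨hcard, fun a ha => ?_, fun a ha => ?_, ?_⟩
    · rw [← QuotientGroup.eq_one_iff, QuotientGroup.mk_pow]
      exact pow_eq_one_of_mem hQD (hmk a ha)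
    · exact Subgroup.mem_comap.mpr (comm_le_center hQP hQD (hmk a ha))
    obtain ⟨⟨zq, hzq⟩, hzgen⟩ := hcyc.exists_generator
    obtain ⟨z, rfl⟩ := QuotientGroup.mk_surjective zq
    have hzM : z ∈ centerMod N := Subgroup.mem_comap.mpr hzq
    refine ⟨z, hzM, ?_, ?_, ?_, ?_⟩
    · rw [Subgroup.mem_center_iff]
      intro y
      have hw := mem_centerMod.mp hzM y
      have hwp : ⁅y, z ^ p⁆ = 1 := by
        rw [comm_pow_right (hNZ hw)]
        exact pow_eq_one_of_mem hNc hw
      exact commutatorElement_eq_one_iff_mul_comm.mp hwp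
    · intro x hx
      obtain ⟨i, hi⟩ := mem_powers_iff_mem_zpowers.mpr (hzgen ⟨(x : G ⧸ N), Subgroup.mem_comap.mp hx⟩)
      refine ⟨i, (z ^ i)⁻¹ * x, ?_, by group⟩
      rw [← QuotientGroup.eq, QuotientGroup.mk_pow]
      exact congrArg Subtype.val hi
    · rw [← orderOf_eq_card_of_forall_mem_zpowers hzgen, Subgroup.orderOf_mk]
    · intro χ hχ
      have := sq_mul_card_center hQP hQD hχ
      rw [card_centerMod, mul_left_comm, this, mul_comm, ← Subgroup.card_eq_card_quotient_mul_card_subgroup]
  -- a first such subgroup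
  obtain ⟨N, hNZ, hND, hNc⟩ : ∃ N : Subgroup G, N ≤ Subgroup.center G ∧ N ≤ commutator G ∧
      Nat.card N = p := by
    obtain ⟨x, hx⟩ := exists_prime_orderOf_dvd_card' (G := (commutator G ⊓ Subgroup.center G : Subgroup G)) p (by
      obtain ⟨m, hm⟩ := IsPGroup.iff_card.mp (hP.to_subgroup (commutator G ⊓ Subgroup.center G))
      rw [hm]
      refine dvd_pow_self p fun e => SolvStruct.inf_center_ne_bot hne ?_
      rw [e, pow_zero] at hm
      exact Subgroup.card_eq_one.mp hm)
    refine ⟨Subgroup.zpowers (x : G), Subgroup.zpowers_le.mpr x.2.2,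
      Subgroup.zpowers_le.mpr x.2.1, ?_⟩
    rw [Nat.card_zpowers, Subgroup.orderOf_coe, hx]
  haveI hNn := hnorm N hNZ
  obtain ⟨hcard, hpow, hDM, z, hzM, hzp, hzgen, hzord, hdegN⟩ := hfacts N hNZ hND hNc
  -- `p ∤ i` when `z ^ i * n` is not central
  have hndvd : ∀ i : ℕ, ∀ n ∈ N, z ^ i * n ∉ Subgroup.center G → ¬ p ∣ i := by
    rintro i n hn hnc ⟨j, rfl⟩
    exact hnc (mul_mem (by rw [pow_mul]; exact pow_mem hzp j) (hNZ hn))
  by_cases hcl : commutator G ≤ Subgroup.center G
  · -- class two
    by_cases hexp : ∀ a b : G, ⁅a, b⁆ ^ p = 1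
    · -- elementary derived subgroup
      have hexp' : ∀ c ∈ commutator G, c ^ p = 1 := by
        intro c hc
        have hle : commutator G ≤
            { carrier := {c | c ∈ Subgroup.center G ∧ c ^ p = 1}
              one_mem' := ⟨one_mem _, one_pow p⟩
              mul_mem' := fun {c d} hc hd => ⟨mul_mem hc.1 hd.1, by
                rw [(show Commute c d from (Subgroup.mem_center_iff.mp hd.1 c)).mul_pow, hc.2, hd.2,
                  one_mul]⟩
              inv_mem' := fun {c} hc => ⟨inv_mem hc.1, by rw [inv_pow, hc.2, inv_one]⟩ : Subgroup G } := by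
          rw [commutator_def, Subgroup.commutator_le]
          exact fun a _ b _ => ⟨hcl (mem_commutator a b), hexp a b⟩
        exact (hle hc).2
      obtain ⟨b, hbD, hbN⟩ : ∃ b ∈ commutator G, b ∉ N := by
        by_contra hno
        push Not at hno
        have := Subgroup.card_dvd_of_le (show commutator G ≤ N from hno)
        rw [hcard, hNc] at this
        have := Nat.le_of_dvd hp.pos this
        nlinarith [hp.two_le]
      set M := Subgroup.zpowers b with hM
      have hMc : Nat.card M = p := by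
        rw [hM, Nat.card_zpowers, orderOf_eq_prime (hexp' b hbD) fun e => hbN (e ▸ one_mem _)]
      have hMZ : M ≤ Subgroup.center G := Subgroup.zpowers_le.mpr (hcl hbD)
      have hMD : M ≤ commutator G := Subgroup.zpowers_le.mpr hbD
      haveI hMn := hnorm M hMZ
      obtain ⟨-, -, -, y, hyM, hyp, hygen, -, hdegM⟩ := hfacts M hMZ hMD hMc
      obtain ⟨c, hc⟩ := IsPGroup.iff_card.mp (hP.to_subgroup (Subgroup.center G))
      -- the two relevant orders
      have hbound : ∀ (L : Subgroup G) [L.Normal], L ≤ Subgroup.center G → ∀ w, w ^ p ∈ Subgroup.center G →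
          (∀ x ∈ centerMod L, ∃ i : ℕ, ∃ n ∈ L, x = w ^ i * n) →
          ∃ δ ≤ 1, Nat.card (centerMod L) = p ^ (c + δ) := by
        intro L _ hL w hw hgen
        obtain ⟨e, he⟩ := IsPGroup.iff_card.mp (hP.to_subgroup (centerMod L))
        have hle : Subgroup.center G ≤ centerMod L := fun x hx => mem_centerMod.mpr fun y => by
          rw [commutatorElement_eq_one_iff_mul_comm.mpr (Subgroup.mem_center_iff.mp hx y)]
          exact one_mem L
        have h1 : p ^ c ∣ p ^ e := hc ▸ he ▸ Subgroup.card_dvd_of_le hle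
        have hce : c ≤ e := (Nat.pow_dvd_pow_iff_le_right hp.one_lt).mp h1
        have h2 : Nat.card (centerMod L) ≤ p * p ^ c := by
          rw [← hc, ← Nat.card_fin p, ← Nat.card_prod]
          have hmem : ∀ q : Fin p × Subgroup.center G, w ^ (q.1 : ℕ) * (q.2 : G) ∈ (Set.univ : Set G) :=
            fun _ => Set.mem_univ _
          refine le_trans (Nat.card_le_card_of_injective
            (fun x : centerMod L => (⟨(x : G), ?_⟩ : Set.range
              (fun q : Fin p × Subgroup.center G => w ^ (q.1 : ℕ) * (q.2 : G))))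
            (fun a b hab => Subtype.ext (congrArg Subtype.val hab :))) (Finite.card_range_le _)
          obtain ⟨i, n, hn, hxe⟩ := hgen x x.2
          refine ⟨(⟨i % p, Nat.mod_lt _ hp.pos⟩, ⟨(w ^ p) ^ (i / p) * n,
            mul_mem (pow_mem hw _) (hL hn)⟩), ?_⟩
          show w ^ (i % p) * ((w ^ p) ^ (i / p) * n) = x
          rw [← mul_assoc, ← pow_mul, ← pow_add, Nat.mod_add_div, hxe]
        rw [he, ← pow_succ'] at h2
        have hec : e ≤ c + 1 := (Nat.pow_le_pow_iff_right hp.one_lt).mp h2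
        exact ⟨e - c, by omega, by rw [he, Nat.add_sub_cancel' hce]⟩
      obtain ⟨g₁, g₂, hg⟩ : ∃ a b : G, ⁅a, b⁆ ∉ N := by
        by_contra hno
        push Not at hno
        refine hbN ((show commutator G ≤ N from ?_) hbD)
        rw [commutator_def, Subgroup.commutator_le]
        exact fun a _ b _ => hno a b
      obtain ⟨k₁, k₂, hk⟩ : ∃ a b : G, ⁅a, b⁆ ∉ M := by
        by_contra hno
        push Not at hno
        have hle : commutator G ≤ M := by
          rw [commutator_def, Subgroup.commutator_le]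
          exact fun a _ b _ => hno a b
        have := Subgroup.card_dvd_of_le hle
        rw [hcard, hMc] at this
        have := Nat.le_of_dvd hp.pos this
        nlinarith [hp.two_le]
      obtain ⟨χ, hχ⟩ := exists_nonlinear (G := G ⧸ N) ⟨(g₁ : G ⧸ N), (g₂ : G ⧸ N), fun e => hg (by
        exact mk_comm_eq_one.mpr e)⟩
      obtain ⟨ψ, hψ⟩ := exists_nonlinear (G := G ⧸ M) ⟨(k₁ : G ⧸ M), (k₂ : G ⧸ M), fun e => hk (by
        exact mk_comm_eq_one.mpr e)⟩
      have h1 := hdegN χ hχ
      have h2 := hdegM ψ hψ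
      obtain ⟨δ₁, hδ₁, e1⟩ := hbound N hNZ z hzp hzgen
      obtain ⟨δ₂, hδ₂, e2⟩ := hbound M hMZ y hyp hygen
      obtain ⟨m, hm⟩ := IsPGroup.iff_card.mp hP
      obtain ⟨a₁, -, ha₁⟩ := (Nat.dvd_prime_pow hp).mp (hm ▸ (deg_infl N χ ▸ irr_deg_dvd_card (infl N χ)))
      obtain ⟨a₂, -, ha₂⟩ := (Nat.dvd_prime_pow hp).mp (hm ▸ (deg_infl M ψ ▸ irr_deg_dvd_card (infl M ψ)))
      rw [ha₁, e1, hm, ← pow_mul, ← pow_add] at h1
      rw [ha₂, e2, hm, ← pow_mul, ← pow_add] at h2
      have h1' := Nat.pow_right_injective hp.two_le h1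
      have h2' := Nat.pow_right_injective hp.two_le h2
      have hdeq : Cfsg.charDegree (infl N χ : G → ℂ) = Cfsg.charDegree (infl M ψ : G → ℂ) := by
        rw [deg_infl, deg_infl, ha₁, ha₂, show a₁ = a₂ by omega]
      obtain ⟨K, hK, hmemK, -⟩ := exists_ker (infl N χ)
      obtain ⟨u, v, huv⟩ := exists_comm_ne (χ := infl N χ) (by rwa [deg_infl])
      refine huv ((hmemK _).mp ?_)
      have hMK : M ≤ K := fun x hx => (hmemK x).mpr
        (hH (infl M ψ) (infl N χ) (by rwa [deg_infl]) hdeq.symm x (infl_trivialOn M ψ x hx))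
      have hNK : N ≤ K := fun x hx => (hmemK x).mpr (infl_trivialOn N χ x hx)
      have hsup : N ⊔ M = commutator G := by
        refine Subgroup.eq_of_le_of_card_ge (sup_le hND hMD) ?_
        have hle : N ⊔ M ≤ commutator G := sup_le hND hMD
        obtain ⟨e, he⟩ := IsPGroup.iff_card.mp (hP.to_subgroup (N ⊔ M))
        have hlt : Nat.card N < Nat.card ↥(N ⊔ M) := by
          refine lt_of_le_of_ne (Subgroup.card_le_of_le le_sup_left) fun heq => ?_
          exact hbN ((Subgroup.eq_of_le_of_card_ge le_sup_left heq.ge).symm ▸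
            (le_sup_right : M ≤ N ⊔ M) (Subgroup.mem_zpowers b))
        rw [hNc, he] at hlt
        rw [hcard, he, ← sq]
        refine Nat.pow_le_pow_right hp.pos ?_
        by_contra hlt2
        exact (hlt.trans_le (Nat.pow_le_pow_right hp.pos (show e ≤ 1 by omega))).ne' (pow_one p)
      exact (sup_le hNK hMK) (hsup ▸ mem_commutator u v)
    · -- cyclic derived subgroup
      push Not at hexp
      obtain ⟨x, y, hxy⟩ := hexp
      have hwZ := hcl (mem_commutator x y)
      have hxM : x ^ p ∈ centerMod N := mem_centerMod.mpr fun g => by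
        rw [comm_pow_right (hcl (mem_commutator g x))]
        exact hpow _ (mem_commutator g x)
      have hyM : y ^ p ∈ centerMod N := mem_centerMod.mpr fun g => by
        rw [comm_pow_right (hcl (mem_commutator g y))]
        exact hpow _ (mem_commutator g y)
      obtain ⟨i, n, hn, hxe⟩ := hzgen _ hxM
      obtain ⟨j, m, hm, hye⟩ := hzgen _ hyM
      have hxy1 : ⁅x ^ p, y⁆ ≠ 1 := by rwa [comm_pow_left hwZ]
      have hi : ¬ p ∣ i := hndvd i n hn fun hc => hxy1 (by
        rw [hxe]
        exact commutatorElement_eq_one_iff_mul_comm.mpr (Subgroup.mem_center_iff.mp hc y).symm)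
      have hzx : ⁅x, z⁆ ∈ N := mem_centerMod.mp hzM x
      have hn1 : ∀ g : G, ∀ n ∈ N, ⁅n, g⁆ = 1 := fun g n hn =>
        commutatorElement_eq_one_iff_mul_comm.mpr (Subgroup.mem_center_iff.mp (hNZ hn) g).symm
      have hzx1 : ⁅z, x⁆ = 1 := by
        have h0 : ⁅x ^ p, x⁆ = 1 :=
          commutatorElement_eq_one_iff_mul_comm.mpr (Commute.self_pow x p).symm
        rw [hxe, comm_mul_left (by rw [hn1 x n hn]; exact one_mem _), hn1 x n hn, mul_one,
          comm_pow_left (hcl (mem_commutator z x))] at h0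
        have hzN : ⁅z, x⁆ ∈ N := by rw [← commutatorElement_inv]; exact inv_mem hzx
        have h1 := pow_eq_one_of_mem hNc hzN
        have hcop : Nat.Coprime i p := ((Nat.Prime.coprime_iff_not_dvd hp).mpr hi).symm
        have h3 := Nat.dvd_gcd (orderOf_dvd_of_pow_eq_one h0) (orderOf_dvd_of_pow_eq_one h1)
        rw [hcop, Nat.dvd_one, orderOf_eq_one_iff] at h3
        exact h3
      apply hxy
      have hxym : ⁅x, y ^ p⁆ = ⁅x, y⁆ ^ p := comm_pow_right hwZ p
      rw [← hxym, hye]
      have : ⁅z ^ j * m, x⁆ = 1 := by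
        rw [comm_mul_left (by rw [hn1 x m hm]; exact one_mem _), hn1 x m hm, mul_one,
          comm_pow_left (hcl (mem_commutator z x)), hzx1, one_pow]
      rw [← commutatorElement_inv, this, inv_one]
  · -- class three
    obtain ⟨c, hcD, hcZ⟩ := SetLike.not_le_iff_exists.mp hcl
    obtain ⟨i, n, hn, hce⟩ := hzgen c (hDM hcD)
    have hi : ¬ p ∣ i := hndvd i n hn (hce ▸ hcZ)
    have hcN : c ∉ N := fun h => hcZ (hNZ h)
    -- the centre of the quotient has order `p`
    have hzb1 : (z : G ⧸ N) ≠ 1 := by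
      intro e
      apply hcN
      rw [hce, ← QuotientGroup.eq_one_iff, QuotientGroup.mk_mul, QuotientGroup.mk_pow, e, one_pow,
        one_mul, QuotientGroup.eq_one_iff]
      exact hn
    have hQZ : Nat.card (Subgroup.center (G ⧸ N)) = p := by
      rw [← hzord]
      refine orderOf_eq_prime ?_ hzb1
      have h1 : ((z : G ⧸ N) ^ p) ^ i = 1 := by
        have h2 : (c : G ⧸ N) ^ p = 1 := by
          rw [← QuotientGroup.mk_pow, QuotientGroup.eq_one_iff]; exact hpow c hcD
        rw [hce, QuotientGroup.mk_mul, (QuotientGroup.eq_one_iff n).mpr hn, mul_one,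
          QuotientGroup.mk_pow] at h2
        rw [← pow_mul, mul_comm, pow_mul, h2]
      obtain ⟨k, hk⟩ := IsPGroup.iff_orderOf.mp (hP.to_quotient N) ((z : G ⧸ N) ^ p)
      have hdvd := orderOf_dvd_of_pow_eq_one h1
      rw [hk] at hdvd
      rcases k with _ | k
      · rwa [pow_zero, orderOf_eq_one_iff] at hk
      · exact absurd (dvd_trans (dvd_pow_self p k.succ_ne_zero) hdvd) hi
    have hMcard : Nat.card (centerMod N) = p * p := by rw [card_centerMod, hNc, hQZ]
    have hDeq : commutator G = centerMod N :=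
      Subgroup.eq_of_le_of_card_ge hDM (by rw [hcard, hMcard])
    have hZN : Subgroup.center G ≤ N := by
      intro x hx
      have hxD : x ∈ commutator G := hDeq ▸ mem_centerMod.mpr fun y => by
        rw [commutatorElement_eq_one_iff_mul_comm.mpr (Subgroup.mem_center_iff.mp hx y)]
        exact one_mem N
      have hd : Nat.card ↥(commutator G ⊓ Subgroup.center G) ∣ p ^ 2 := by
        rw [sq, ← hcard]; exact Subgroup.card_dvd_of_le inf_le_left
      obtain ⟨e, he2, he⟩ := (Nat.dvd_prime_pow hp).mp hd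
      have hne2 : e ≠ 2 := by
        rintro rfl
        have heq : commutator G ⊓ Subgroup.center G = commutator G :=
          Subgroup.eq_of_le_of_card_ge inf_le_left (by rw [he, hcard, sq])
        exact hcl (heq ▸ inf_le_right)
      have heq : N = commutator G ⊓ Subgroup.center G :=
        Subgroup.eq_of_le_of_card_ge (le_inf hND hNZ) (by
          rw [he, hNc]
          exact (Nat.pow_le_pow_right hp.pos (show e ≤ 1 by omega)).trans_eq (pow_one p))
      rw [heq]
      exact ⟨hxD, hx⟩
    -- the centralizer of the derived subgroup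
    set C := Subgroup.centralizer (commutator G : Set G) with hC
    have hcomm : ∀ g : G, ⁅g, c⁆ ∈ N := mem_centerMod.mp (hDM hcD)
    let φ : G →* N := MonoidHom.mk' (fun g => ⟨⁅g, c⁆, hcomm g⟩) fun a b =>
      Subtype.ext (comm_mul_left (hNZ (hcomm b)))
    have hDsup : commutator G = N ⊔ Subgroup.zpowers c := by
      refine (Subgroup.eq_of_le_of_card_ge (sup_le hND (Subgroup.zpowers_le.mpr hcD)) ?_).symm
      obtain ⟨e, he⟩ := IsPGroup.iff_card.mp (hP.to_subgroup (N ⊔ Subgroup.zpowers c))
      have hlt : Nat.card N < Nat.card ↥(N ⊔ Subgroup.zpowers c) := by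
        refine lt_of_le_of_ne (Subgroup.card_le_of_le le_sup_left) fun heq => ?_
        exact hcN ((Subgroup.eq_of_le_of_card_ge le_sup_left heq.ge).symm ▸
          (le_sup_right : Subgroup.zpowers c ≤ N ⊔ Subgroup.zpowers c) (Subgroup.mem_zpowers c))
      rw [hNc, he] at hlt
      rw [hcard, he, ← sq]
      refine Nat.pow_le_pow_right hp.pos ?_
      by_contra hlt2
      exact (hlt.trans_le (Nat.pow_le_pow_right hp.pos (show e ≤ 1 by omega))).ne' (pow_one p)
    have hker : φ.ker ≤ C := by
      intro g hg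
      have hgc : g * c = c * g :=
        commutatorElement_eq_one_iff_mul_comm.mp (congrArg Subtype.val (MonoidHom.mem_ker.mp hg))
      rw [hC, Subgroup.mem_centralizer_iff]
      have hle : commutator G ≤ Subgroup.centralizer ({g} : Set G) := by
        rw [hDsup, sup_le_iff, Subgroup.zpowers_le]
        exact ⟨fun x hx => Subgroup.mem_centralizer_singleton_iff.mpr
          (Subgroup.mem_center_iff.mp (hNZ hx) g).symm,
          Subgroup.mem_centralizer_singleton_iff.mpr hgc.symm⟩
      exact fun x hx => Subgroup.mem_centralizer_singleton_iff.mp (hle hx)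
    have hCi : C.index ∣ p := by
      refine (Subgroup.index_dvd_of_le hker).trans ?_
      rw [Subgroup.index_ker, ← hNc]
      exact φ.range.card_subgroup_dvd_card
    have hCC : ⁅C, C⁆ ≤ N := by
      have h0 : ⁅commutator G, C⁆ = ⊥ := by
        rw [Subgroup.commutator_eq_bot_iff_le_centralizer]
        exact fun x hx => Subgroup.mem_centralizer_iff.mpr fun y hy =>
          ((Subgroup.mem_centralizer_iff.mp hy) x hx).symm
      have h1 : ⁅⁅C, (⊤ : Subgroup G)⁆, C⁆ = ⊥ := by
        rw [eq_bot_iff, ← h0, commutator_def]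
        exact Subgroup.commutator_mono (Subgroup.commutator_mono le_top le_rfl) le_rfl
      have h2 : ⁅⁅(⊤ : Subgroup G), C⁆, C⁆ = ⊥ := by
        rw [Subgroup.commutator_comm (⊤ : Subgroup G) C, h1]
      have h3 := Subgroup.commutator_commutator_eq_bot_of_rotate h1 h2
      rw [Subgroup.commutator_eq_bot_iff_le_centralizer] at h3
      refine le_trans (fun x hx => ?_) hZN
      rw [Subgroup.mem_center_iff]
      exact fun g => Subgroup.mem_centralizer_iff.mp (h3 hx) g (Subgroup.mem_top g)
    have hQc : Nat.card (G ⧸ N) ≤ p ^ 3 := by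
      refine card_le_cube (hP.to_quotient N) ?_ hQZ (C.map (QuotientGroup.mk' N)) ?_ ?_
      · have := card_commutator_eq N hND
        rw [hcard, hNc] at this
        exact (Nat.eq_of_mul_eq_mul_left hp.pos this).symm
      · exact (C.index_map_dvd (QuotientGroup.mk'_surjective N)).trans hCi
      · rintro _ ⟨a, ha, rfl⟩ _ ⟨b, hb, rfl⟩
        rw [← commutatorElement_eq_one_iff_mul_comm, ← map_commutatorElement, QuotientGroup.mk'_apply,
          QuotientGroup.eq_one_iff]
        exact hCC (Subgroup.commutator_mem_commutator ha hb)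
    -- the two kinds of characters
    have hGc : Nat.card G ≤ p ^ 4 := by
      rw [Subgroup.card_eq_card_quotient_mul_card_subgroup N, hNc, pow_succ]
      exact Nat.mul_le_mul_right p hQc
    obtain ⟨e, he⟩ := IsPGroup.iff_card.mp hP
    have hsmall : ∀ χ : Cfsg.IrrCharacter G, Cfsg.charDegree (χ : G → ℂ) ≠ 1 →
        Cfsg.charDegree (χ : G → ℂ) = p := by
      intro χ hχ
      obtain ⟨k, -, hk⟩ := (Nat.dvd_prime_pow hp).mp (he ▸ irr_deg_dvd_card χ)
      have h1 := sq_mul_card_center_le χ
      have hZ2 : p ≤ Nat.card (Subgroup.center G) := hNc ▸ Subgroup.card_le_of_le hNZ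
      have h2 : (p ^ k) ^ 2 * p ≤ p ^ 4 := by
        rw [← hk]
        exact ((Nat.mul_le_mul_left _ hZ2).trans h1).trans hGc
      rw [← pow_mul, ← pow_succ] at h2
      have h3 := (Nat.pow_le_pow_iff_right hp.one_lt).mp h2
      have hk0 : k ≠ 0 := fun h => hχ (by rw [hk, h, pow_zero])
      rw [hk, show k = 1 by omega, pow_one]
    obtain ⟨u, v, huv⟩ : ∃ a b : G, ⁅a, b⁆ ∉ N := by
      by_contra hno
      push Not at hno
      refine hcN ((show commutator G ≤ N from ?_) hcD)
      rw [commutator_def, Subgroup.commutator_le]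
      exact fun a _ b _ => hno a b
    obtain ⟨χ, hχ, hχN⟩ := exists_nonlinear_trivialOn N huv
    obtain ⟨w, hw, hw1⟩ : ∃ w ∈ N, w ≠ 1 := by
      by_contra hno
      push Not at hno
      have : N = ⊥ := eq_bot_iff.mpr fun x hx => Subgroup.mem_bot.mpr (hno x hx)
      rw [this, Subgroup.card_bot] at hNc
      exact hp.one_lt.ne hNc
    obtain ⟨ψ, hψw⟩ : ∃ ψ : Cfsg.IrrCharacter G, (ψ : G → ℂ) w ≠ (ψ : G → ℂ) 1 := by
      by_contra hno
      push Not at hno
      haveI := Fintype.ofFinite G
      exact hw1 (isConj_one_left.mp ((isConj_iff_forall_irr w 1).mpr hno))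
    have hψ : Cfsg.charDegree (ψ : G → ℂ) ≠ 1 := by
      intro h1
      apply hψw
      obtain ⟨f, hf⟩ := exists_hom_of_degree_one (IsIrrCharacter.isCharacter ψ.2)
        (by rw [irr_deg, h1, Nat.cast_one])
      have : w ∈ f.ker := Abelianization.commutator_subset_ker f (hND hw)
      rw [hf]
      simp [MonoidHom.mem_ker.mp this]
    exact hψw (hH χ ψ hχ ((hsmall χ hχ).trans (hsmall ψ hψ).symm) w (hχN w hw))

/-- The forward direction of the characterisation. -/
theorem cyclic_center_and_card_commutator {p : ℕ} [Fact p.Prime] :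
    ∀ (n : ℕ) (G : Type u) [Group G] [Finite G], Nat.card G = n → IsPGroup p G → SameKer G →
      commutator G ≠ ⊥ → IsCyclic (Subgroup.center G) ∧ Nat.card (commutator G) = p := by
  intro n
  induction n using Nat.strong_induction_on with
  | _ n ih =>
    intro G _ _ hn hP hH hne
    have hD : Nat.card (commutator G) = p := card_commutator_eq_p_aux hP hH hne fun N _ hN hQ => by
      refine ih (Nat.card (G ⧸ N)) ?_ (G ⧸ N) rfl (hP.to_quotient N) (hH.quotient N) hQ
      rw [← hn, Subgroup.card_eq_card_quotient_mul_card_subgroup N]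
      refine lt_mul_of_one_lt_right Nat.card_pos ?_
      by_contra hle
      exact hN (Subgroup.card_eq_one.mp (by have := Nat.card_pos (α := N); omega))
    exact ⟨isCyclic_center hP hH hD, hD⟩

theorem commutator_ne_bot (hna : ¬ IsMulCommutative G) : commutator G ≠ ⊥ := by
  intro h
  exact hna ⟨⟨fun a b => commutatorElement_eq_one_iff_mul_comm.mp
    (Subgroup.mem_bot.mp (h ▸ mem_commutator a b))⟩⟩

/-- With cyclic centre and derived subgroup of order `p`, non-linear characters are faithful. -/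
theorem faithful (hP : IsPGroup p G) (h : Nat.card (commutator G) = p)
    (hcyc : IsCyclic (Subgroup.center G)) {χ : Cfsg.IrrCharacter G}
    (hχ : Cfsg.charDegree (χ : G → ℂ) ≠ 1) {g : G} (hg : (χ : G → ℂ) g = (χ : G → ℂ) 1) :
    g = 1 := by
  classical
  have hp : p.Prime := Fact.out
  haveI := hP.isNilpotent
  obtain ⟨K, hK, hmem, -⟩ := exists_ker χ
  by_contra hg1
  have hKne : K ≠ ⊥ := fun e => hg1 (Subgroup.mem_bot.mp (e ▸ (hmem g).mpr hg))
  obtain ⟨x, hx⟩ := exists_prime_orderOf_dvd_card' (G := (K ⊓ Subgroup.center G : Subgroup G)) p (by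
    obtain ⟨m, hm⟩ := IsPGroup.iff_card.mp (hP.to_subgroup (K ⊓ Subgroup.center G))
    rw [hm]
    refine dvd_pow_self p fun e => SolvStruct.inf_center_ne_bot hKne ?_
    rw [e, pow_zero] at hm
    exact Subgroup.card_eq_one.mp hm)
  haveI := hcyc
  have hDZ := comm_le_center hP h
  have hDK : commutator G ≤ K := by
    intro y hy
    have hy' : (⟨y, hDZ hy⟩ : Subgroup.center G) ∈
        Subgroup.zpowers (⟨(x : G), x.2.2⟩ : Subgroup.center G) := by
      haveI : Fintype (Subgroup.center G) := Fintype.ofFinite _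
      set x' : Subgroup.center G := ⟨(x : G), x.2.2⟩ with hx'
      have hox : orderOf x' = p := by rw [hx', Subgroup.orderOf_mk, Subgroup.orderOf_coe, hx]
      have hle : (Finset.univ.filter fun w : Subgroup.center G => w ∈ Subgroup.zpowers x') ⊆
          Finset.univ.filter fun w : Subgroup.center G => w ^ p = 1 := by
        intro w hw
        rw [Finset.mem_filter] at hw ⊢
        refine ⟨hw.1, ?_⟩
        exact pow_eq_one_of_mem (by rw [Nat.card_zpowers, hox]) hw.2
      have heq := Finset.eq_of_subset_of_card_le hle (le_trans (IsCyclic.card_pow_eq_one_le hp.pos)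
        (by rw [← Fintype.card_subtype, ← Nat.card_eq_fintype_card, Nat.card_zpowers, hox]))
      have : (⟨y, hDZ hy⟩ : Subgroup.center G) ∈
          Finset.univ.filter fun w : Subgroup.center G => w ^ p = 1 :=
        Finset.mem_filter.mpr ⟨Finset.mem_univ _, Subtype.ext (pow_eq_one_of_mem h hy)⟩
      rw [← heq] at this
      exact (Finset.mem_filter.mp this).2
    obtain ⟨k, hk⟩ := hy'
    have : (x : G) ^ k = y := congrArg Subtype.val hk
    exact this ▸ zpow_mem (show (x : G) ∈ K from x.2.1) k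
  obtain ⟨a, b, hab⟩ := exists_comm_ne hχ
  exact hab ((hmem _).mp (hDK (mem_commutator a b)))

end Cfsg.Agent.GalPG
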