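/-
Cyclic coprime action in which all non-identity elements have the same fixed points.
-/
import Cfsg.Agent.Lib.Char.GlaubermanCyclic

set_option linter.unusedSectionVars false
set_option linter.style.haveILetI false

namespace Cfsg.Agent.GlaubCyc

open Cfsg Cfsg.Agent.Char
open scoped ComplexConjugate Pointwise

universe u

/-- A combination of linear characters of a cyclic group with all values off `1` in `{0, 1, -1}`. -/
theorem pm_lemma {S : Type u} [CommGroup S] [Fintype S] [Fintype (S →* ℂˣ)] [Nontrivial S]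
    [IsCyclic S]
    (a : (S →* ℂˣ) → ℤ)
    (hv : ∀ x : S, x ≠ 1 → ∃ v : ℤ, (v = 0 ∨ v = 1 ∨ v = -1) ∧
      ∑ l : S →* ℂˣ, (a l : ℂ) * (l x : ℂ) = (v : ℂ)) :
    ∃ c : ℤ, (∀ l, a l = c) ∨ ∃ (μ : S →* ℂˣ) (ε : ℤ), (ε = 1 ∨ ε = -1) ∧
      (∀ x, ((μ x : ℂˣ) : ℂ) * (μ x : ℂ) = 1) ∧ a μ = c + ε ∧ ∀ l, l ≠ μ → a l = c := by
  classical
  haveI : NeZero (Monoid.exponent S : ℂ) :=
    ⟨Nat.cast_ne_zero.mpr Monoid.exponent_ne_zero_of_finite⟩
  let F : S → ℂ := fun x => ∑ l : S →* ℂˣ, (a l : ℂ) * (l x : ℂ)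
  set m := Nat.card S with hm
  have hm0 : (m : ℂ) ≠ 0 := Nat.cast_ne_zero.2 Nat.card_pos.ne'
  have hroot : ∀ (l : S →* ℂˣ) (x : S), ((l x : ℂˣ) : ℂ) ^ m = 1 := fun l x => by
    rw [← Units.val_pow_eq_pow_val, ← map_pow, hm, pow_card_eq_one', map_one, Units.val_one]
  have hconj : ∀ (l : S →* ℂˣ) (x : S), conj ((l x : ℂˣ) : ℂ) = (l x⁻¹ : ℂ) := fun l x =>
    (IsCharacter.inv (IsIrrCharacter.isCharacter (isIrrCharacter_linear l)) x).symm
  have hort : ∀ l₀ l : S →* ℂˣ, ∑ x : S, ((l x : ℂˣ) : ℂ) * conj ((l₀ x : ℂˣ) : ℂ) =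
      if l = l₀ then (m : ℂ) else 0 := fun l₀ l => by
    have := classInner_irr (isIrrCharacter_linear l) (isIrrCharacter_linear l₀)
    have e : ((fun x => ((l x : ℂˣ) : ℂ)) = fun x => ((l₀ x : ℂˣ) : ℂ)) ↔ l = l₀ :=
      ⟨CharExtend.detHom_unique, fun h => by rw [h]⟩
    rw [classInner, inv_mul_eq_iff_eq_mul₀ hm0] at this
    rw [this]
    by_cases h : l = l₀
    · rw [if_pos h, if_pos (e.2 h), mul_one]
    · rw [if_neg h, if_neg (mt e.1 h), mul_zero]
  have hfour : ∀ l₀ : S →* ℂˣ, ∑ x : S, F x * conj ((l₀ x : ℂˣ) : ℂ) = (m : ℂ) * (a l₀ : ℂ) := by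
    intro l₀
    simp only [F, Finset.sum_mul]
    rw [Finset.sum_comm, Finset.sum_eq_single l₀]
    · rw [Finset.sum_congr rfl fun x _ => mul_assoc _ _ _, ← Finset.mul_sum, hort, if_pos rfl,
        mul_comm]
    · intro l _ hl
      rw [Finset.sum_congr rfl fun x _ => mul_assoc _ _ _, ← Finset.mul_sum, hort, if_neg hl,
        mul_zero]
    · exact fun h => absurd (Finset.mem_univ _) h
  -- coprime powers do not change the values
  have hgal : ∀ (x : S) (k : ℕ), x ≠ 1 → k.Coprime m → F (x ^ k) = F x := by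
    intro x k hx hk
    obtain ⟨σ, hσ⟩ := CharGalois.exists_galoisAut (Nat.card_pos (α := S)).ne' hk
    obtain ⟨v, -, hv⟩ := hv x hx
    have h1 : σ (F x) = F (x ^ k) := by
      simp only [F, map_sum, map_mul, map_intCast]
      refine Finset.sum_congr rfl fun l _ => ?_
      rw [map_pow l, Units.val_pow_eq_pow_val, hσ _ (hroot l x)]
    rw [← h1, show F x = (v : ℂ) from hv, map_intCast]
  -- an element of prime order
  have hex : ∃ (q : ℕ) (z : S), q.Prime ∧ orderOf z = q ∧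
      ∀ x : S, x ∉ Subgroup.zpowers z → F (x * z) = F x := by
    by_cases hodd : ∃ q : ℕ, q.Prime ∧ q ∣ m ∧ q ≠ 2
    · obtain ⟨q, hq, hqm, hq2⟩ := hodd
      haveI := Fact.mk hq
      obtain ⟨z, hz⟩ := exists_prime_orderOf_dvd_card' q hqm
      obtain ⟨M, hM⟩ := GlaubermanMod.exists_isPModular q
      haveI := Blocks.IsPModular.isPrime hM
      haveI := Blocks.resField_charP hM
      refine ⟨q, z, hq, hz, fun x hx => ?_⟩
      have hx1 : x ≠ 1 := fun h => hx (h ▸ one_mem _)
      have hxz : x * z ≠ 1 := fun h => hx (by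
        rw [eq_inv_of_mul_eq_one_left h]; exact inv_mem (Subgroup.mem_zpowers z))
      obtain ⟨v, hv1, hv2⟩ := hv x hx1
      obtain ⟨w, hw1, hw2⟩ := hv (x * z) hxz
      have hint : ∀ (l : S →* ℂˣ) (y : S), IsIntegral ℤ ((l y : ℂˣ) : ℂ) := fun l y =>
        isIntegral_of_pow_eq_one Nat.card_pos (hroot l y)
      let L : (S →* ℂˣ) → S → AlgInt := fun l y => ⟨_, hint l y⟩
      let E : AlgInt := ∑ l : S →* ℂˣ, (a l : AlgInt) * L l x * (L l z - 1)
      have hE : E ∈ M := by
        refine M.sum_mem fun l _ => M.mul_mem_left _ ?_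
        refine Blocks.sub_one_mem_of_pow_eq_one hM (k := 1) (Subtype.ext ?_)
        show ((l z : ℂˣ) : ℂ) ^ q ^ 1 = 1
        rw [pow_one, ← Units.val_pow_eq_pow_val, ← map_pow, ← hz, pow_orderOf_eq_one, map_one,
          Units.val_one]
      have hEv : E = ((w - v : ℤ) : AlgInt) := by
        refine Subtype.ext ?_
        push_cast [E, L]
        rw [show (w : ℂ) - (v : ℂ) = F (x * z) - F x by rw [← hv2, ← hw2]]
        simp only [F]
        rw [← Finset.sum_sub_distrib]
        refine Finset.sum_congr rfl fun l _ => ?_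
        rw [map_mul, Units.val_mul]
        ring
      have hd : (q : ℤ) ∣ w - v := by
        rw [hEv] at hE
        rw [Int.natCast_dvd]
        rcases Int.natAbs_eq (w - v) with e | e
        · rw [e, Int.cast_natCast] at hE
          exact (Blocks.IsPModular.natCast_mem_iff hM _).1 hE
        · rw [e, Int.cast_neg, Int.cast_natCast, M.neg_mem_iff] at hE
          exact (Blocks.IsPModular.natCast_mem_iff hM _).1 hE
      have : w = v := by
        obtain ⟨j, hj⟩ := hd
        have h3 : (3 : ℤ) ≤ q := by have := hq.two_le; omega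
        rcases hv1 with e | e | e <;> rcases hw1 with e' | e' | e' <;> subst e e' <;>
          first
            | rfl
            | (exfalso
               rcases lt_trichotomy j 0 with h | h | h
               · nlinarith
               · subst h; omega
               · nlinarith)
      show F (x * z) = F x
      rw [show F (x * z) = (w : ℂ) from hw2, show F x = (v : ℂ) from hv2, this]
    · -- `m` is a power of two
      push Not at hodd
      haveI := Fact.mk Nat.prime_two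
      have hm1 : m ≠ 1 := (Finite.one_lt_card (α := S)).ne'
      obtain ⟨q, hq, hqm⟩ := Nat.exists_prime_and_dvd hm1
      obtain rfl : q = 2 := hodd q hq hqm
      obtain ⟨z, hz⟩ := exists_prime_orderOf_dvd_card' 2 hqm
      have hmpow : m = 2 ^ m.primeFactorsList.length :=
        Nat.eq_prime_pow_of_unique_prime_dvd (Nat.card_pos (α := S)).ne'
          (fun {d} hd hdm => hodd d hd hdm)
      refine ⟨2, z, Nat.prime_two, hz, fun x hx => ?_⟩
      obtain ⟨i, -, hi⟩ := (Nat.dvd_prime_pow Nat.prime_two).1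
        (show orderOf x ∣ 2 ^ m.primeFactorsList.length by rw [← hmpow]; exact orderOf_dvd_natCard x)
      have hz2 : ∀ w : S, w ^ 2 = 1 → w = 1 ∨ w = z := by
        intro w hw
        by_contra hne
        push Not at hne
        have hle := IsCyclic.card_pow_eq_one_le (α := S) (n := 2) (by norm_num)
        have hzne : z ≠ 1 := fun h => by rw [h, orderOf_one] at hz; omega
        have hsub : ({1, z, w} : Finset S) ⊆ Finset.univ.filter fun b : S => b ^ 2 = 1 := by
          intro b hb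
          simp only [Finset.mem_insert, Finset.mem_singleton] at hb
          refine Finset.mem_filter.2 ⟨Finset.mem_univ _, ?_⟩
          rcases hb with rfl | rfl | rfl
          · exact one_pow _
          · rw [← hz]; exact pow_orderOf_eq_one b
          · exact hw
        have h3 : ({1, z, w} : Finset S).card = 3 :=
          Finset.card_eq_three.2 ⟨1, z, w, hzne.symm, hne.1.symm, hne.2.symm, rfl⟩
        have := Finset.card_le_card hsub
        omega
      have hx1 : x ≠ 1 := fun h => hx (h ▸ one_mem _)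
      have hi2 : 2 ≤ i := by
        by_contra h
        push Not at h
        have hx2 : x ^ 2 = 1 := by
          refine orderOf_dvd_iff_pow_eq_one.1 ?_
          rw [hi]
          exact (pow_dvd_pow 2 (Nat.lt_succ_iff.1 h)).trans (by norm_num)
        rcases hz2 x hx2 with e | e
        · exact hx1 e
        · exact hx (e ▸ Subgroup.mem_zpowers x)
      have hw : x ^ 2 ^ (i - 1) = z := by
        refine (hz2 _ ?_).resolve_left fun h => ?_
        · rw [← pow_mul, ← pow_succ, Nat.sub_add_cancel (by omega), ← hi, pow_orderOf_eq_one]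
        · have h1 := hi ▸ orderOf_dvd_of_pow_eq_one h
          have h2 := (Nat.pow_dvd_pow_iff_le_right (by norm_num : 1 < 2)).1 h1
          omega
      rw [← hw, ← pow_succ']
      refine hgal x _ hx1 ?_
      rw [hmpow]
      refine Nat.Coprime.pow_right _ (Nat.coprime_two_right.2 (Even.add_one ?_))
      exact (Nat.even_pow' (by omega)).2 even_two
  obtain ⟨q, z, hq, hz, hshift⟩ := hex
  have hz1 : z ≠ 1 := fun h => hq.ne_one (by rw [← hz, h, orderOf_one])
  obtain ⟨g, hg, hgz⟩ := hv z hz1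
  -- all the elements of the subgroup generated by `z` other than `1` take one value
  have hsub : ∀ x ∈ Subgroup.zpowers z, x ≠ 1 → F x = (g : ℂ) := by
    intro x hx hx1
    obtain ⟨j, rfl⟩ := mem_powers_iff_mem_zpowers.2 hx
    have hj : j.Coprime q := ((hq.coprime_iff_not_dvd).2 fun hd => hx1
      (orderOf_dvd_iff_pow_eq_one.1 (hz.symm ▸ hd))).symm
    have hqm : q ∣ m := hz ▸ orderOf_dvd_natCard z
    obtain ⟨k, hk, hkm⟩ : ∃ k : ℕ, k ≡ j [MOD q] ∧ k.Coprime m := by
      set e := m.factorization q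
      have hm00 : m ≠ 0 := (Nat.card_pos (α := S)).ne'
      have hco : (q ^ e).Coprime (m / q ^ e) :=
        Nat.Coprime.pow_left _ (hq.coprime_iff_not_dvd.2 (Nat.not_dvd_ordCompl hq hm00))
      obtain ⟨k, hk1, hk2⟩ := Nat.chineseRemainder hco j 1
      have he : q ∣ q ^ e := dvd_pow_self q (by
        exact (hq.factorization_pos_of_dvd hm00 hqm).ne')
      refine ⟨k, hk1.of_dvd he, ?_⟩
      rw [← Nat.ordProj_mul_ordCompl_eq_self m q]
      refine Nat.Coprime.mul_right (Nat.Coprime.pow_right _ ?_) ?_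
      · rw [Nat.Coprime, (hk1.of_dvd he).gcd_eq]; exact hj
      · rw [Nat.Coprime, hk2.gcd_eq, Nat.gcd_one_left]
    show F (z ^ j) = _
    rw [← (show z ^ k = z ^ j from pow_eq_pow_iff_modEq.2 (hz.symm ▸ hk)), hgal z k hz1 hkm]
    exact hgz
  let d : ℂ := F 1
  have hkey : ∀ l₀ : S →* ℂˣ, (m : ℂ) * (a l₀ : ℂ) * (1 - (l₀ z : ℂ)) =
      (d - g) * (1 - (l₀ z : ℂ)) := by
    intro l₀
    have hsh : ∑ x : S, F (x * z) * conj ((l₀ x : ℂˣ) : ℂ) =
        (m : ℂ) * (a l₀ : ℂ) * (l₀ z : ℂ) := by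
      rw [← hfour, Finset.sum_mul]
      refine (Fintype.sum_equiv (Equiv.mulRight z⁻¹) _ _ fun y => ?_).symm
      show _ = F (y * z⁻¹ * z) * conj ((l₀ (y * z⁻¹) : ℂˣ) : ℂ)
      rw [inv_mul_cancel_right, map_mul, Units.val_mul, map_mul (starRingEnd ℂ), hconj l₀ z⁻¹,
        inv_inv, mul_assoc]
    have hdiff : ∑ x : S, (F x - F (x * z)) * conj ((l₀ x : ℂˣ) : ℂ) =
        (m : ℂ) * (a l₀ : ℂ) * (1 - (l₀ z : ℂ)) := by
      simp only [sub_mul]
      rw [Finset.sum_sub_distrib, hfour, hsh]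
      ring
    rw [← hdiff, Finset.sum_eq_add 1 z⁻¹ (inv_ne_one.2 hz1).symm]
    · rw [one_mul, map_one, Units.val_one, map_one, mul_one, hsub z (Subgroup.mem_zpowers z) hz1,
        inv_mul_cancel, hsub z⁻¹ (inv_mem (Subgroup.mem_zpowers z)) (inv_ne_one.2 hz1), hconj,
        inv_inv]
      simp only [d]
      ring
    · intro x _ hne
      rw [mul_eq_zero]
      left
      rw [sub_eq_zero]
      by_cases hx : x ∈ Subgroup.zpowers z
      · rw [hsub x hx hne.1, hsub _ (mul_mem hx (Subgroup.mem_zpowers z))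
          fun h => hne.2 (eq_inv_of_mul_eq_one_left h)]
      · exact (hshift x hx).symm
    · exact fun h => absurd (Finset.mem_univ _) h
    · exact fun h => absurd (Finset.mem_univ _) h
  obtain ⟨l₁, hl₁⟩ := CommGroup.exists_apply_ne_one_of_hasEnoughRootsOfUnity S ℂ hz1
  have hdc : d - g = (m : ℂ) * (a l₁ : ℂ) := by
    have h1 : (1 : ℂ) - (l₁ z : ℂ) ≠ 0 := sub_ne_zero.2 fun h => hl₁ (Units.ext h.symm)
    exact (mul_right_cancel₀ h1 (hkey l₁)).symm
  set c := a l₁
  refine ⟨c, ?_⟩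
  let b : (S →* ℂˣ) → ℤ := fun l => a l - c
  let F' : S → ℂ := fun x => ∑ l : S →* ℂˣ, (b l : ℂ) * (l x : ℂ)
  have hsum1 : ∀ x : S, ∑ l : S →* ℂˣ, ((l x : ℂˣ) : ℂ) = if x = 1 then (m : ℂ) else 0 :=
    fun x => CoprimeConst.sum_hom_apply x
  have hF' : ∀ x, ∃ v : ℤ, (v = 0 ∨ v = 1 ∨ v = -1) ∧ F' x = (v : ℂ) := by
    intro x
    have e : F' x = F x - (c : ℂ) * ∑ l : S →* ℂˣ, ((l x : ℂˣ) : ℂ) := by
      simp only [F', F, b, Int.cast_sub, sub_mul, Finset.sum_sub_distrib, Finset.mul_sum]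
    rw [e, hsum1]
    by_cases hx : x = 1
    · subst hx
      refine ⟨g, hg, ?_⟩
      rw [if_pos rfl]
      show d - _ = _
      linear_combination hdc
    · obtain ⟨v, hv1, hv2⟩ := hv x hx
      exact ⟨v, hv1, by rw [if_neg hx, mul_zero, sub_zero]; exact hv2⟩
  choose v hv1 hv2 using hF'
  have hpar : ∑ x : S, F' x * conj (F' x) = (m : ℂ) * ∑ l, (b l : ℂ) * (b l : ℂ) := by
    simp only [F', map_sum, map_mul, map_intCast, Finset.sum_mul, Finset.mul_sum]
    rw [Finset.sum_comm]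
    refine Finset.sum_congr rfl fun l _ => ?_
    rw [Finset.sum_comm]
    have e : ∀ l l' : S →* ℂˣ, ∑ x : S, (b l : ℂ) * (l x : ℂ) *
        ((b l' : ℂ) * conj ((l' x : ℂˣ) : ℂ)) =
        (b l : ℂ) * (b l' : ℂ) * if l = l' then (m : ℂ) else 0 := fun l l' => by
      rw [← hort, Finset.mul_sum]
      exact Finset.sum_congr rfl fun x _ => by ring
    rw [Finset.sum_eq_single l]
    · rw [e, if_pos rfl]; ring
    · intro l' _ hne
      rw [e, if_neg hne, mul_zero]
    · exact fun h => absurd (Finset.mem_univ _) h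
  have hle : ∑ l, b l * b l ≤ 1 := by
    have h1 : ∑ x : S, v x * v x = (m : ℤ) * ∑ l, b l * b l := by
      simp only [hv2, map_intCast] at hpar
      exact_mod_cast hpar
    have h2 : ∑ x : S, v x * v x ≤ ∑ _x : S, (1 : ℤ) := Finset.sum_le_sum fun x _ => by
      rcases hv1 x with e | e | e <;> rw [e] <;> norm_num
    rw [Finset.sum_const, Finset.card_univ, ← Nat.card_eq_fintype_card, nsmul_eq_mul, mul_one,
      h1] at h2
    have hm' : (0 : ℤ) < m := by exact_mod_cast (Nat.card_pos (α := S))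
    nlinarith
  by_cases h0 : ∀ l, b l = 0
  · exact Or.inl fun l => sub_eq_zero.1 (h0 l)
  push Not at h0
  obtain ⟨μ, hμ⟩ := h0
  right
  rw [← Finset.add_sum_erase _ _ (Finset.mem_univ μ)] at hle
  have hnn : 0 ≤ ∑ l ∈ Finset.univ.erase μ, b l * b l :=
    Finset.sum_nonneg fun l _ => mul_self_nonneg _
  have hpos : 0 < b μ * b μ := mul_self_pos.2 hμ
  have hμ1 : b μ * b μ = 1 := by omega
  have hrest : ∀ l, l ≠ μ → b l = 0 := fun l hl => mul_self_eq_zero.1
    ((Finset.sum_eq_zero_iff_of_nonneg fun l _ => mul_self_nonneg (b l)).1 (by omega) l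
      (Finset.mem_erase.2 ⟨hl, Finset.mem_univ _⟩))
  refine ⟨μ, b μ, mul_self_eq_one_iff.1 hμ1, fun x => ?_, by simp [b],
    fun l hl => sub_eq_zero.1 (hrest l hl)⟩
  have hx : F' x = (b μ : ℂ) * (μ x : ℂ) :=
    Finset.sum_eq_single μ (fun l _ hl => by rw [hrest l hl, Int.cast_zero, zero_mul])
      (fun h => absurd (Finset.mem_univ _) h)
  rw [hv2] at hx
  have e2 : ((b μ : ℂ) * (μ x : ℂ)) * ((b μ : ℂ) * (μ x : ℂ)) = ((v x * v x : ℤ) : ℂ) := by
    rw [← hx]; push_cast; ring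
  rw [mul_mul_mul_comm, show (b μ : ℂ) * (b μ : ℂ) = 1 by exact_mod_cast hμ1, one_mul] at e2
  rcases hv1 x with e | e | e
  · rw [e] at e2; simp at e2
  · rw [e2, e]; norm_num
  · rw [e2, e]; norm_num

section Fpf

variable {Γ : Type u} [Group Γ] [Fintype Γ] {G S C : Subgroup Γ} [hG : G.Normal]

theorem fpf_statement (D : Data G S C) [Fintype C] [Fintype G] (χ : IrrCharacter G) {χh : Γ → ℂ}
    (h : IsCanon S χh) (he : ∀ g : G, χh g = (χ : G → ℂ) g)
    (hfix : ∀ x ∈ S, x ≠ 1 → ∀ w ∈ G, w * x * w⁻¹ = x → w ∈ C)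
    (β : IrrCharacter C) (ε₀ : ℤ) (hε₀ : ε₀ = 1 ∨ ε₀ = -1)
    (hβ : ∀ c : C, ∀ s : Γ, Subgroup.zpowers s = S → χh ((c : Γ) * s) = (ε₀ : ℂ) * (β : C → ℂ) c) :
    ∃ ε : ℤ, (ε = 1 ∨ ε = -1) ∧ (∃ μ : S → ℂ, IsCharacter S μ ∧ μ 1 = 1 ∧
        (∀ x : S, μ x * μ x = 1) ∧ ∀ c : C, ∀ x : S, x ≠ 1 →
          χh ((c : Γ) * x) = (ε : ℂ) * (β : C → ℂ) c * μ x) ∧
      (∃ ϑ : C → ℂ, IsCharacter C ϑ ∧ ∀ c : C,
        χh c = (Nat.card S : ℂ) * ϑ c + (ε : ℂ) * (β : C → ℂ) c) := by
  classical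
  have hχc := IsIrrCharacter.isCharacter h.1
  obtain ⟨s, hs⟩ := exists_generator D
  have hsS : s ∈ S := hs ▸ Subgroup.mem_zpowers s
  rcases subsingleton_or_nontrivial S with hS1 | hS1
  · have hs1 : s = 1 := congrArg Subtype.val (Subsingleton.elim (⟨s, hsS⟩ : S) 1)
    refine ⟨ε₀, hε₀, ⟨fun _ => 1, isCharacter_one, rfl, fun _ => one_mul _, fun c x hx =>
      absurd (Subsingleton.elim x 1) hx⟩, ⟨0, isCharacter_zero, fun c => ?_⟩⟩
    rw [Pi.zero_apply, mul_zero, zero_add, ← hβ c s hs, hs1, mul_one]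
  haveI := D.hcyc
  letI : CommGroup S := IsCyclic.commGroup
  haveI : Fintype S := Fintype.ofFinite _
  haveI : Finite (S →* ℂˣ) := Finite.of_injective (β := IrrCharacter S)
    (fun f => ⟨_, isIrrCharacter_linear f⟩)
    fun _ _ e => CharExtend.detHom_unique (congrArg Subtype.val e)
  haveI : Fintype (S →* ℂˣ) := Fintype.ofFinite _
  choose a ha using fun γ : IrrCharacter C => exists_slice_mult D hχc γ
  have hval : ∀ (γ : IrrCharacter C) (x : S), x ≠ 1 → ∃ v : ℤ, (v = 0 ∨ v = 1 ∨ v = -1) ∧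
      ∑ l : S →* ℂˣ, ((a γ l : ℤ) : ℂ) * (l x : ℂ) = (v : ℂ) := by
    intro γ x hx
    obtain ⟨β', ε', hε', hβ'⟩ := exists_correspondent_at D χ h he x.2
      (hfix x x.2 fun h' => hx (Subtype.ext h'))
    have e : classInner (slice (C := C) χh (x : Γ)) (γ : C → ℂ) =
        if γ = β' then (ε' : ℂ) else 0 := by
      rw [show slice (C := C) χh (x : Γ) = (ε' : ℂ) • (β' : C → ℂ) from funext hβ',
        classInner_smul_left, classInner_irr β'.2 γ.2]
      split_ifs with h1 h2 h2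
      · rw [mul_one]
      · exact absurd (Subtype.ext h1.symm) h2
      · exact absurd (by rw [h2]) h1
      · rw [mul_zero]
    simp only [Int.cast_natCast]
    rw [← ha γ x, e]
    by_cases hg : γ = β'
    · exact ⟨ε', Or.inr hε', by rw [if_pos hg]⟩
    · exact ⟨0, Or.inl rfl, by rw [if_neg hg, Int.cast_zero]⟩
  choose c hc using fun γ => pm_lemma (fun l => (a γ l : ℤ)) (hval γ)
  have hsum1 : ∀ x : S, ∑ l : S →* ℂˣ, ((l x : ℂˣ) : ℂ) = if x = 1 then (Nat.card S : ℂ) else 0 :=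
    fun x => CoprimeConst.sum_hom_apply x
  obtain ⟨μ, ε, hε, hμ2, haμ, haother⟩ : ∃ (μ : S →* ℂˣ) (ε : ℤ), (ε = 1 ∨ ε = -1) ∧
      (∀ x, ((μ x : ℂˣ) : ℂ) * (μ x : ℂ) = 1) ∧ (a β μ : ℤ) = c β + ε ∧
      ∀ l, l ≠ μ → (a β l : ℤ) = c β := by
    refine (hc β).resolve_left fun hall => ?_
    have hs1 : (⟨s, hsS⟩ : S) ≠ 1 := fun h1 => by
      have h2 : s = 1 := congrArg Subtype.val h1
      obtain ⟨y, hy⟩ := exists_ne (1 : S)
      apply hy
      have hb : S = ⊥ := by rw [← hs, h2, Subgroup.zpowers_one_eq_bot]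
      exact Subtype.ext (Subgroup.mem_bot.1 (hb.le y.2))
    have e1 := ha β ⟨s, hsS⟩
    rw [show slice (C := C) χh s = (ε₀ : ℂ) • (β : C → ℂ) from funext fun c => hβ c s hs,
      classInner_smul_left, classInner_self_irr β.2, mul_one,
      Finset.sum_congr rfl fun l _ => by rw [← Int.cast_natCast, hall l], ← Finset.mul_sum, hsum1,
      if_neg hs1, mul_zero, Int.cast_eq_zero] at e1
    omega
  have hcoef : ∀ (x : S), classInner (slice (C := C) χh (x : Γ)) (β : C → ℂ) =
      (ε : ℂ) * (μ x : ℂ) + (c β : ℂ) * if x = 1 then (Nat.card S : ℂ) else 0 := by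
    intro x
    rw [ha β x, ← hsum1, Finset.mul_sum]
    rw [← Finset.add_sum_erase _ _ (Finset.mem_univ μ), ← Finset.add_sum_erase _ _ (Finset.mem_univ μ)]
    rw [← Int.cast_natCast (a β μ), haμ, Finset.sum_congr rfl fun l hl => by
      rw [← Int.cast_natCast, haother l (Finset.ne_of_mem_erase hl)]]
    push_cast
    ring
  have hnz : ∀ x : S, x ≠ 1 → ∀ cc : C,
      χh ((cc : Γ) * x) = (ε : ℂ) * (β : C → ℂ) cc * (μ x : ℂ) := by
    intro x hx
    obtain ⟨β', ε', hε', hβ'⟩ := exists_correspondent_at D χ h he x.2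
      (hfix x x.2 fun h' => hx (Subtype.ext h'))
    have e1 := hcoef x
    rw [if_neg hx, mul_zero, add_zero, show slice (C := C) χh (x : Γ) = (ε' : ℂ) • (β' : C → ℂ)
      from funext hβ', classInner_smul_left, classInner_irr β'.2 β.2] at e1
    by_cases hb : (β' : C → ℂ) = (β : C → ℂ)
    · rw [if_pos hb, mul_one] at e1
      intro cc
      rw [hβ', hb, e1]; ring
    · rw [if_neg hb, mul_zero] at e1
      exact absurd e1.symm (mul_ne_zero (by rcases hε with e | e <;> rw [e] <;> norm_num)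
        (μ x).ne_zero)
  refine ⟨ε, hε, ⟨fun x => (μ x : ℂ), IsIrrCharacter.isCharacter (isIrrCharacter_linear μ),
    by simp, hμ2, fun cc x hx => hnz x hx cc⟩, ?_⟩
  -- the restriction to `C`
  have hcnat : ∀ γ, ∃ n : ℕ, (c γ : ℂ) = (n : ℂ) ∧
      classInner (fun cc : C => χh cc) (γ : C → ℂ) =
        (Nat.card S : ℂ) * n + if γ = β then (ε : ℂ) else 0 := by
    intro γ
    have e1 : classInner (fun cc : C => χh cc) (γ : C → ℂ) = ∑ l : S →* ℂˣ, (a γ l : ℂ) := by
      have := ha γ 1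
      rw [show slice (C := C) χh ((1 : S) : Γ) = fun cc : C => χh cc from funext fun cc => by
        show χh ((cc : Γ) * ((1 : S) : Γ)) = _
        rw [OneMemClass.coe_one, mul_one]] at this
      rw [this]
      simp
    by_cases hg : γ = β
    · subst hg
      obtain ⟨x0, hx0⟩ := exists_ne (1 : S)
      haveI : NeZero (Monoid.exponent S : ℂ) :=
        ⟨Nat.cast_ne_zero.mpr Monoid.exponent_ne_zero_of_finite⟩
      obtain ⟨l0, hl0⟩ := CommGroup.exists_apply_ne_one_of_hasEnoughRootsOfUnity S ℂ hx0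
      haveI : Nontrivial (S →* ℂˣ) := ⟨⟨l0, 1, fun e => hl0 (by rw [e]; rfl)⟩⟩
      obtain ⟨l, hl⟩ := exists_ne μ
      have hn := haother l hl
      refine ⟨a γ l, by rw [← hn]; norm_cast, ?_⟩
      have := hcoef 1
      rw [map_one, Units.val_one, mul_one, if_pos rfl] at this
      rw [if_pos rfl, show (fun cc : C => χh cc) = slice (C := C) χh ((1 : S) : Γ) from
        funext fun cc => by
          show χh _ = χh ((cc : Γ) * ((1 : S) : Γ))
          rw [OneMemClass.coe_one, mul_one], this, ← hn]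
      push_cast
      ring
    · have hall : ∀ l, (a γ l : ℤ) = c γ := by
        rcases hc γ with hall | ⟨μ', ε', hε', -, h1, h2⟩
        · exact hall
        exfalso
        obtain ⟨x, hx⟩ := exists_ne (1 : S)
        have e2 := ha γ x
        rw [show slice (C := C) χh (x : Γ) = ((ε : ℂ) * (μ x : ℂ)) • (β : C → ℂ) from
          funext fun cc => by
            show χh ((cc : Γ) * x) = (ε : ℂ) * (μ x : ℂ) * (β : C → ℂ) cc
            rw [hnz x hx cc]; ring,
          classInner_smul_left, classInner_irr_of_ne β.2 γ.2 (fun e => hg (Subtype.ext e.symm)),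
          mul_zero] at e2
        have hs1 := hsum1 x
        rw [if_neg hx, ← Finset.add_sum_erase _ _ (Finset.mem_univ μ')] at hs1
        rw [← Finset.add_sum_erase _ _ (Finset.mem_univ μ'), ← Int.cast_natCast (a γ μ'), h1,
          Finset.sum_congr rfl fun l hl => by
            rw [← Int.cast_natCast, h2 l (Finset.ne_of_mem_erase hl)],
          ← Finset.mul_sum] at e2
        push_cast at e2
        have e3 : (ε' : ℂ) * (μ' x : ℂ) = 0 := by linear_combination -e2 - (c γ : ℂ) * hs1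
        exact mul_ne_zero (by rcases hε' with e | e <;> rw [e] <;> norm_num) (μ' x).ne_zero e3
      refine ⟨a γ 1, by rw [← hall 1]; norm_cast, ?_⟩
      rw [if_neg hg, add_zero, e1, Finset.sum_congr rfl fun l _ => show (a γ l : ℂ) = (a γ 1 : ℂ) by
        exact_mod_cast (hall l).trans (hall 1).symm, Finset.sum_const, Finset.card_univ,
        nsmul_eq_mul, ← Nat.card_eq_fintype_card]
      haveI : NeZero (Monoid.exponent S : ℂ) :=
        ⟨Nat.cast_ne_zero.mpr Monoid.exponent_ne_zero_of_finite⟩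
      rw [CommGroup.card_monoidHom_of_hasEnoughRootsOfUnity]
  choose n hn1 hn2 using hcnat
  refine ⟨∑ γ : IrrCharacter C, (n γ : ℂ) • (γ : C → ℂ), isCharacter_sum _ fun γ _ =>
    IsCharacter.nsmul (IsIrrCharacter.isCharacter γ.2) _, fun cc => ?_⟩
  have := congrFun (IsCharacter.eq_sum (IsCharacter.restrict hχc C)) cc
  rw [this]
  simp only [Finset.sum_apply, Pi.smul_apply, smul_eq_mul, hn2, add_mul, ite_mul, zero_mul,
    Finset.sum_add_distrib, Finset.sum_ite_eq', Finset.mem_univ, if_true, Finset.mul_sum, mul_assoc]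

end Fpf

end Cfsg.Agent.GlaubCyc

namespace Cfsg.Agent.GlaubCyc

open Cfsg Cfsg.Agent.Char

universe u

variable {Γ : Type u} [Group Γ] [Fintype Γ] {G S : Subgroup Γ}

theorem normal_of_norm (hnorm : ∀ s ∈ S, ∀ g ∈ G, s * g * s⁻¹ ∈ G) (htop : G ⊔ S = ⊤) :
    G.Normal := by
  refine Subgroup.normalizer_eq_top_iff.1 (eq_top_iff.2 (htop ▸ sup_le Subgroup.le_normalizer ?_))
  intro s hs
  refine Subgroup.mem_normalizer_iff.2 fun g => ⟨hnorm s hs g, fun h => ?_⟩
  simpa [mul_assoc] using hnorm s⁻¹ (S.inv_mem hs) _ h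

theorem inv_iff [hG : G.Normal] [Fintype G] (htop : G ⊔ S = ⊤) (χ : IrrCharacter G) :
    (∀ s ∈ S, ∀ g g' : G, (g' : Γ) = s * g * s⁻¹ → (χ : G → ℂ) g' = (χ : G → ℂ) g) ↔
      ∀ x : Γ, conjChar G x (χ : G → ℂ) = χ := by
  rw [← CoprimeDegree.isInv_iff G S htop χ.2]
  refine ⟨fun h u g => h u u.2 g _ rfl, fun h s hs g g' he => ?_⟩
  rw [show g' = CoprimeDegree.actOn G S ⟨s, hs⟩ g from Subtype.ext he]
  exact h _ _

end Cfsg.Agent.GlaubCyc
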