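import Cfsg.Agent.Lib.Char.Invariants
import Cfsg.Agent.Lib.Char.Complete
import Mathlib.LinearAlgebra.Matrix.StdBasis
import Mathlib.LinearAlgebra.Matrix.Determinant.Basic

/-!
# The Frobenius–Schur indicator
-/

set_option linter.style.haveILetI false
set_option linter.unusedSectionVars false

namespace Cfsg.Agent.Char

open scoped ComplexConjugate Matrix
open Module

universe u

variable {G : Type u} [Group G]
variable {n : ℕ}

/-- Transposition on matrices. -/
noncomputable def matT (n : ℕ) : Matrix (Fin n) (Fin n) ℂ →ₗ[ℂ] Matrix (Fin n) (Fin n) ℂ :=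
  (Matrix.transposeLinearEquiv (Fin n) (Fin n) ℂ ℂ).toLinearMap

@[simp] theorem matT_apply (A : Matrix (Fin n) (Fin n) ℂ) : matT n A = Aᵀ := rfl

/-- The congruence action on matrices. -/
noncomputable def congRep (ρ : Representation ℂ G (Fin n → ℂ)) :
    Representation ℂ G (Matrix (Fin n) (Fin n) ℂ) where
  toFun s :=
    { toFun := fun A => LinearMap.toMatrix' (ρ s) * A * (LinearMap.toMatrix' (ρ s))ᵀ
      map_add' := fun A B => by rw [mul_add, add_mul]
      map_smul' := fun c A => by simp }
  map_one' := by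
    ext1 A
    simp [Module.End.one_eq_id]
  map_mul' s t := by
    ext1 A
    simp [Module.End.mul_eq_comp, LinearMap.toMatrix'_comp, Matrix.transpose_mul, Matrix.mul_assoc]

theorem congRep_apply (ρ : Representation ℂ G (Fin n → ℂ)) (s : G)
    (A : Matrix (Fin n) (Fin n) ℂ) :
    congRep ρ s A = LinearMap.toMatrix' (ρ s) * A * (LinearMap.toMatrix' (ρ s))ᵀ := rfl

theorem char_eq_trace (ρ : Representation ℂ G (Fin n → ℂ)) (s : G) :
    ρ.character s = (LinearMap.toMatrix' (ρ s)).trace := by
  rw [Representation.character, LinearMap.trace_eq_matrix_trace ℂ (Pi.basisFun ℂ (Fin n)),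
    LinearMap.toMatrix_eq_toMatrix']

theorem trace_congRep (ρ : Representation ℂ G (Fin n → ℂ)) (s : G) :
    (congRep ρ).character s = ρ.character s * ρ.character s := by
  classical
  rw [Representation.character, LinearMap.trace_eq_matrix_trace ℂ (Matrix.stdBasis ℂ (Fin n) (Fin n)),
    char_eq_trace, Matrix.trace, Matrix.trace, Finset.sum_mul_sum, Fintype.sum_prod_type]
  refine Finset.sum_congr rfl fun i _ => Finset.sum_congr rfl fun j _ => ?_
  simp only [Matrix.diag_apply, LinearMap.toMatrix_apply, Matrix.stdBasis_eq_single, congRep_apply]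
  simp [Matrix.stdBasis, Matrix.mul_apply, Matrix.single_apply, ite_and]

theorem trace_matT_congRep (ρ : Representation ℂ G (Fin n → ℂ)) (s : G) :
    LinearMap.trace ℂ _ (matT n ∘ₗ congRep ρ s) = ρ.character (s * s) := by
  classical
  rw [LinearMap.trace_eq_matrix_trace ℂ (Matrix.stdBasis ℂ (Fin n) (Fin n)), char_eq_trace,
    map_mul, Module.End.mul_eq_comp, LinearMap.toMatrix'_comp, Matrix.trace, Matrix.trace,
    Fintype.sum_prod_type]
  refine Finset.sum_congr rfl fun i _ => ?_
  rw [Matrix.diag_apply, Matrix.mul_apply]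
  refine Finset.sum_congr rfl fun j _ => ?_
  simp only [Matrix.diag_apply, LinearMap.toMatrix_apply, Matrix.stdBasis_eq_single,
    LinearMap.comp_apply, congRep_apply, matT_apply]
  simp [Matrix.stdBasis, Matrix.mul_apply, Matrix.single_apply, ite_and, mul_comm]

/-- The indicator is `0`, `1` or `-1`, with `1` or `-1` exactly for real characters, and a
nonzero value comes with an invariant bilinear form of that symmetry. -/
theorem indicator_cases [Fintype G] (ρ : Representation ℂ G (Fin n → ℂ)) [ρ.IsIrreducible] :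
    ((∀ s, conj (ρ.character s) = ρ.character s) →
      ∃ c : ℂ, (c = 1 ∨ c = -1) ∧ (Nat.card G : ℂ)⁻¹ * ∑ s : G, ρ.character (s * s) = c ∧
        ∃ w : Matrix (Fin n) (Fin n) ℂ, w ≠ 0 ∧ wᵀ = c • w ∧ ∀ s, congRep ρ s w = w) ∧
    (¬ (∀ s, conj (ρ.character s) = ρ.character s) →
      (Nat.card G : ℂ)⁻¹ * ∑ s : G, ρ.character (s * s) = 0) := by
  classical
  have hχ := isIrrCharacter_of_rep ρ
  have hχ' := IsIrrCharacter.conj hχ
  have hfin : (finrank ℂ (congRep ρ).invariants : ℂ) =
      Cfsg.classInner ρ.character (fun g => conj (ρ.character g)) := by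
    rw [← sum_char_eq_finrank_invariants, Cfsg.classInner]
    simp [trace_congRep]
  have hν : (Nat.card G : ℂ)⁻¹ * ∑ s : G, ρ.character (s * s) =
      LinearMap.trace ℂ _ (matT n ∘ₗ avgMap (congRep ρ)) := by
    rw [avgMap, LinearMap.comp_smul, map_smul, smul_eq_mul, ← Module.End.mul_eq_comp]
    congr 1
    rw [Finset.mul_sum, map_sum]
    simp [Module.End.mul_eq_comp, trace_matT_congRep]
  constructor
  · intro hreal
    rw [show (fun g => conj (ρ.character g)) = ρ.character from funext hreal,
      classInner_self_irr hχ] at hfin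
    obtain ⟨⟨w, hw⟩, hw0, hspan⟩ := finrank_eq_one_iff'.mp (show finrank ℂ (congRep ρ).invariants = 1 by
      exact_mod_cast hfin)
    rw [Representation.mem_invariants] at hw
    have hTw : wᵀ ∈ (congRep ρ).invariants := by
      rw [Representation.mem_invariants]
      intro s
      conv_rhs => rw [← hw s]
      simp [congRep_apply, Matrix.transpose_mul, Matrix.mul_assoc]
    obtain ⟨c, hc⟩ := hspan ⟨wᵀ, hTw⟩
    have hc' : wᵀ = c • w := (congrArg Subtype.val hc).symm
    have hw0' : w ≠ 0 := fun h => hw0 (Subtype.ext h)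
    have hcc : c * c = 1 := by
      have h2 : (wᵀ)ᵀ = (c * c) • w := by rw [hc', Matrix.transpose_smul, hc', smul_smul]
      rw [Matrix.transpose_transpose] at h2
      exact (smul_left_injective ℂ hw0') (by simpa using h2.symm)
    refine ⟨c, mul_self_eq_one_iff.mp hcc, ?_, w, hw0', hc', hw⟩
    have hTP : matT n ∘ₗ avgMap (congRep ρ) = c • avgMap (congRep ρ) := by
      refine LinearMap.ext fun A => ?_
      obtain ⟨t, ht⟩ := hspan ⟨avgMap (congRep ρ) A, (isProj_avgMap _).map_mem A⟩
      have ht' : avgMap (congRep ρ) A = t • w := (congrArg Subtype.val ht).symm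
      rw [LinearMap.comp_apply, LinearMap.smul_apply, ht', matT_apply, Matrix.transpose_smul, hc',
        smul_comm]
    rw [hν, hTP, map_smul, (isProj_avgMap _).trace, hfin, smul_eq_mul, mul_one]
  · intro hreal
    rw [classInner_irr_of_ne hχ hχ' (fun h => hreal fun s => (congrFun h s).symm),
      Nat.cast_eq_zero] at hfin
    have hP : avgMap (congRep ρ) = 0 := LinearMap.ext fun A => by
      have := (isProj_avgMap (congRep ρ)).map_mem A
      rw [Submodule.finrank_eq_zero.mp hfin, Submodule.mem_bot] at this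
      exact this
    rw [hν, hP, LinearMap.comp_zero, map_zero]

/-- A real character of odd degree has indicator one. -/
theorem indicator_one_of_odd [Fintype G] (ρ : Representation ℂ G (Fin n → ℂ)) [ρ.IsIrreducible]
    (hreal : ∀ s, conj (ρ.character s) = ρ.character s) (hodd : Odd n) :
    (Nat.card G : ℂ)⁻¹ * ∑ s : G, ρ.character (s * s) = 1 := by
  classical
  obtain ⟨c, hc, hν, w, hw0, hwT, hw⟩ := (indicator_cases ρ).1 hreal
  rcases hc with rfl | rfl
  · exact hν
  exfalso
  have hcomm : ∀ s, LinearMap.toMatrix' (ρ s) * w = w * (LinearMap.toMatrix' (ρ s⁻¹))ᵀ := by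
    intro s
    conv_rhs => rw [← hw s, congRep_apply]
    rw [Matrix.mul_assoc _ _ (LinearMap.toMatrix' (ρ s⁻¹))ᵀ, ← Matrix.transpose_mul,
      ← LinearMap.toMatrix'_comp, ← Module.End.mul_eq_comp, ← map_mul, inv_mul_cancel, map_one,
      Module.End.one_eq_id, LinearMap.toMatrix'_id, Matrix.transpose_one, Matrix.mul_one]
  let W : Subrepresentation ρ := ⟨LinearMap.range w.mulVecLin, by
    rintro s _ ⟨y, rfl⟩
    refine ⟨(LinearMap.toMatrix' (ρ s⁻¹))ᵀ *ᵥ y, ?_⟩
    rw [Matrix.mulVecLin_apply, Matrix.mulVecLin_apply, Matrix.mulVec_mulVec, ← hcomm,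
      ← Matrix.mulVec_mulVec]
    exact LinearMap.toMatrix'_mulVec (ρ s) _⟩
  haveI : IsSimpleOrder (Subrepresentation ρ) := ‹ρ.IsIrreducible›
  have htop : LinearMap.range w.mulVecLin = ⊤ := by
    rcases eq_bot_or_eq_top W with h | h
    · have h' : LinearMap.range w.mulVecLin = ⊥ := congrArg Subrepresentation.toSubmodule h
      refine absurd (Matrix.ext_iff_mulVec.mpr fun y => ?_) hw0
      rw [Matrix.zero_mulVec]
      exact LinearMap.congr_fun (LinearMap.range_eq_bot.mp h') y
    · exact congrArg Subrepresentation.toSubmodule h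
  have hdet : w.det ≠ 0 := by
    have hsurj : Function.Surjective w.mulVecLin := LinearMap.range_eq_top.mp htop
    have := Matrix.mulVec_surjective_iff_isUnit.mp hsurj
    exact (Matrix.isUnit_iff_isUnit_det w).mp this |>.ne_zero
  apply hdet
  have h2 := congrArg Matrix.det hwT
  rw [Matrix.det_transpose, Matrix.det_smul, Fintype.card_fin, hodd.neg_one_pow, neg_one_mul] at h2
  linear_combination (1 / 2 : ℂ) * h2

end Cfsg.Agent.Char
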