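/-
An invariant character of a normal subgroup lies under an invariant character of a larger normal
subgroup, when the outer quotient is solvable and the two indices are coprime.
-/
import Cfsg.Agent.Lib.Char.CoprimeConstituent
import Cfsg.Agent.Lib.Char.Extension

set_option linter.unusedSectionVars false
set_option linter.style.haveILetI false

namespace Cfsg.Agent.InvariantOver

open Cfsg Cfsg.Agent.Char
open Cfsg.Agent.GlaubermanMod (IsInv)

universe u

theorem exists_central_char (E : Type u) [Group E] [Finite E] (Gb Z : Subgroup E) [hGn : Gb.Normal]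
    (hZG : Z ≤ Gb) (hZc : Z ≤ Subgroup.center E)
    (hcop : Gb.index.Coprime (Z.relIndex Gb))
    (hsolv : Group.IsSolvable (E ⧸ Gb) ∨
      ∀ (Y : Subgroup E) (_ : Y ≤ Gb) [(Z.subgroupOf Y).Normal],
        Group.IsSolvable (Y ⧸ Z.subgroupOf Y)) (l : Z →* ℂˣ) :
    ∃ β : IrrCharacter Gb,
      (∀ (e : E) (x x' : Gb), (x' : E) = e * x * e⁻¹ → (β : Gb → ℂ) x' = (β : Gb → ℂ) x) ∧
      ∀ (z : Gb) (hz : (z : E) ∈ Z), (β : Gb → ℂ) z = (β : Gb → ℂ) 1 * (l ⟨z, hz⟩ : ℂ) := by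
  classical
  haveI : Fintype Gb := Fintype.ofFinite _
  letI : CommGroup Z := { (inferInstance : Group Z) with
    mul_comm := fun a b => Subtype.ext (Subgroup.mem_center_iff.1 (hZc b.2) a) }
  let Z' := Z.subgroupOf Gb
  have hc' : ∀ (w : Gb), w ∈ Z' → ∀ g : Gb, g * w = w * g := fun w hw g =>
    Subtype.ext (Subgroup.mem_center_iff.1 (hZc hw) (g : E))
  set a := Z.relIndex Gb with ha
  have haZ : Z'.index = a := rfl
  let e0 : Z' ≃* Z := Subgroup.subgroupOfEquivOfLe hZG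
  let h0 : Gb →* Z := MonoidHom.transfer e0.toMonoidHom
  haveI : Z'.FiniteIndex := inferInstance
  have hh0 : ∀ g : Gb, ((h0 g : Z) : E) = (g : E) ^ a := fun g => by
    have key : ∀ (k : ℕ) (g₀ : Gb), g₀⁻¹ * g ^ k * g₀ ∈ Z' → g₀⁻¹ * g ^ k * g₀ = g ^ k := by
      intro k g₀ hw
      have := hc' _ hw g₀
      rw [← mul_assoc, ← mul_assoc, mul_inv_cancel, one_mul] at this
      exact mul_right_cancel this.symm
    show ((MonoidHom.transfer e0.toMonoidHom g : Z) : E) = _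
    rw [MonoidHom.transfer_eq_pow _ g key]
    show ((g ^ Z'.index : Gb) : E) = _
    rw [haZ, SubgroupClass.coe_pow]
  set m := Gb.index with hm
  set t := (Nat.card Z).gcd (m ^ Nat.card Z) with ht
  have htZ : t ∣ Nat.card Z := Nat.gcd_dvd_left _ _
  obtain ⟨z', hz'⟩ := htZ
  have ht0 : 0 < t := Nat.gcd_pos_of_pos_left _ Nat.card_pos
  have hprime_t : ∀ q : ℕ, q.Prime → q ∣ t → q ∣ m := fun q hq h =>
    hq.dvd_of_dvd_pow (h.trans (Nat.gcd_dvd_right _ _))
  have hz'm : ∀ q : ℕ, q.Prime → q ∣ m → ¬ q ∣ z' := by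
    intro q hq hqm hqz
    haveI := Fact.mk hq
    have hN0 : Nat.card Z ≠ 0 := Nat.card_pos.ne'
    set v := (Nat.card Z).factorization q
    have h1 : q ^ v ∣ t := Nat.dvd_gcd (Nat.ordProj_dvd _ _)
      ((pow_dvd_pow q ((Nat.lt_pow_self hq.one_lt).le.trans
        (Nat.le_of_dvd Nat.card_pos (Nat.ordProj_dvd _ _)))).trans (pow_dvd_pow_of_dvd hqm _))
    have h2 : q ^ (v + 1) ∣ Nat.card Z := by
      rw [hz', pow_succ]; exact Nat.mul_dvd_mul h1 hqz
    exact Nat.not_succ_le_self v ((hq.pow_dvd_iff_le_factorization hN0).1 h2)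
  have hco : (a * z').Coprime t := by
    refine Nat.coprime_of_dvd fun q hq h1 h2 => ?_
    have hqm := hprime_t q hq h2
    rcases (Nat.Prime.dvd_mul hq).1 h1 with h | h
    · exact Nat.not_coprime_of_dvd_of_dvd hq.one_lt hqm h hcop
    · exact hz'm q hq hqm h
  obtain ⟨k, hk⟩ : ∃ k : ℕ, a * z' * k ≡ 1 [MOD t] := by
    rcases Nat.lt_or_ge 1 t with h | h
    · obtain ⟨k, -, hk⟩ := Nat.exists_mul_mod_eq_one_of_coprime hco h
      exact ⟨k, by rw [Nat.ModEq, hk, Nat.mod_eq_of_lt h]⟩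
    · exact ⟨0, by rw [show t = 1 by omega]; exact Nat.modEq_one⟩
  let ρ : Gb →* Z := (powMonoidHom (z' * k)).comp h0
  have hρ : ∀ g, ρ g = h0 g ^ (z' * k) := fun g => rfl
  have hρt : ∀ g, ρ g ^ t = 1 := fun g => by
    rw [hρ, ← pow_mul, show z' * k * t = Nat.card Z * k by rw [hz']; ring, pow_mul,
      pow_card_eq_one', one_pow]
  have hρZ : ∀ (z : Gb) (hz : (z : E) ∈ Z), ρ z = (⟨z, hz⟩ : Z) ^ (a * z' * k) := fun z hz => by
    rw [hρ, show h0 z = (⟨z, hz⟩ : Z) ^ a from Subtype.ext (by rw [hh0]; rfl), ← pow_mul,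
      mul_assoc]
  let Y0 := ρ.ker
  let up : Z →* Gb := Subgroup.inclusion hZG
  have hρρ : ∀ g, ρ (up (ρ g)) = ρ g := fun g => by
    rw [hρZ (up (ρ g)) (ρ g).2]
    show ρ g ^ (a * z' * k) = ρ g
    conv_rhs => rw [← pow_one (ρ g)]
    exact pow_eq_pow_iff_modEq.2 (hk.of_dvd (orderOf_dvd_of_pow_eq_one (hρt g)))
  -- the order of the kernel
  have hYcop : ∀ q : ℕ, q.Prime → q ∣ m → ¬ q ∣ Nat.card Y0 := by
    intro q hq hqm hqY
    haveI := Fact.mk hq
    obtain ⟨y, hy⟩ := exists_prime_orderOf_dvd_card' q hqY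
    have hyo : orderOf ((y : Gb) : E) = q := by
      rw [Subgroup.orderOf_coe, Subgroup.orderOf_coe]; exact hy
    have hya : ((y : Gb) : E) ^ a ∈ Z := hh0 (y : Gb) ▸ (h0 (y : Gb)).2
    have hqa : q.Coprime a := hcop.coprime_dvd_left hqm
    have hyZ : ((y : Gb) : E) ∈ Z := by
      obtain ⟨s, hs⟩ := exists_pow_eq_self_of_coprime (x := ((y : Gb) : E)) (n := a)
        (by rw [hyo]; exact hqa.symm)
      exact hs ▸ Z.pow_mem hya s
    have h1 : (⟨_, hyZ⟩ : Z) ^ (a * z' * k) = 1 := (hρZ (y : Gb) hyZ).symm.trans y.2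
    have hoz : orderOf (⟨_, hyZ⟩ : Z) = q := by rw [← Subgroup.orderOf_coe]; exact hyo
    have hdz : q ∣ a * z' * k := hoz ▸ orderOf_dvd_of_pow_eq_one h1
    have hqt : q ∣ t := by
      have h2 : q ∣ Nat.card Z := hoz ▸ orderOf_dvd_natCard _
      rw [hz'] at h2
      exact ((Nat.Prime.dvd_mul hq).1 h2).resolve_right (hz'm q hq hqm)
    have h3 := (hk.of_dvd hqt)
    rw [Nat.ModEq, Nat.eq_zero_of_dvd_of_lt (Nat.dvd_mod_iff dvd_rfl |>.2 hdz) (Nat.mod_lt _ hq.pos),
      Nat.mod_eq_of_lt hq.one_lt] at h3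
    exact zero_ne_one h3
  have hYt : (Nat.card Y0).Coprime t := Nat.coprime_of_dvd fun q hq h1 h2 =>
    hYcop q hq (hprime_t q hq h2) h1
  have hYmem : ∀ x : Gb, ρ x = 1 ↔ x ^ Nat.card Y0 = 1 := fun x => by
    refine ⟨fun h => congrArg Subtype.val (pow_card_eq_one' (x := (⟨x, h⟩ : Y0))), fun h => ?_⟩
    have h1 : ρ x ^ Nat.card Y0 = 1 := by rw [← map_pow, h, map_one]
    have h2 := (pow_gcd_eq_one (m := Nat.card Y0) (n := t) (a := ρ x)).mpr ⟨h1, hρt x⟩
    rwa [hYt.gcd_eq_one, pow_one] at h2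
  -- the kernel as a normal subgroup of `E`
  let Y : Subgroup E := Y0.map Gb.subtype
  have hYG : Y ≤ Gb := Subgroup.map_subtype_le _
  have hYmem' : ∀ x : Gb, (x : E) ∈ Y ↔ ρ x = 1 := fun x => by
    rw [Subgroup.mem_map]
    exact ⟨fun ⟨y, hy, h⟩ => Subtype.ext h ▸ hy, fun h => ⟨x, h, rfl⟩⟩
  have hcY : Nat.card Y = Nat.card Y0 := Subgroup.card_map_of_injective Gb.subtype_injective
  haveI hYn : Y.Normal := ⟨fun y hy e => by
    have hy' : ρ ⟨y, hYG hy⟩ = 1 := (hYmem' ⟨y, hYG hy⟩).1 hy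
    have := congrArg Subtype.val ((hYmem _).1 hy')
    rw [SubgroupClass.coe_pow, OneMemClass.coe_one] at this
    refine (hYmem' ⟨_, hGn.conj_mem y (hYG hy) e⟩).2 ((hYmem _).2 (Subtype.ext ?_))
    rw [SubgroupClass.coe_pow, conj_pow, this, mul_one, mul_inv_cancel, OneMemClass.coe_one]⟩
  let π : Gb →* Y :=
    { toFun := fun x => ⟨(x : E) * ((ρ x : Z) : E)⁻¹, (hYmem' (x * (up (ρ x))⁻¹)).2 (by
        rw [map_mul, map_inv, hρρ, mul_inv_cancel])⟩
      map_one' := Subtype.ext (by simp)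
      map_mul' := fun x y => Subtype.ext (by
        show (x : E) * y * ((ρ (x * y) : Z) : E)⁻¹ =
          (x : E) * ((ρ x : Z) : E)⁻¹ * ((y : E) * ((ρ y : Z) : E)⁻¹)
        have hc : ∀ w : E, w * ((ρ x : Z) : E)⁻¹ = ((ρ x : Z) : E)⁻¹ * w :=
          Subgroup.mem_center_iff.1 (hZc (Z.inv_mem (ρ x).2))
        rw [map_mul, mul_comm (ρ x) (ρ y), Subgroup.coe_mul, mul_inv_rev, mul_assoc (x : E),
          mul_assoc (x : E)]
        congr 1
        rw [← mul_assoc (y : E), hc (y : E), mul_assoc]) }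
  have hπs : Function.Surjective π := fun y => ⟨⟨y, hYG y.2⟩, Subtype.ext (by
    show (y : E) * ((ρ ⟨y, hYG y.2⟩ : Z) : E)⁻¹ = y
    rw [(hYmem' ⟨y, hYG y.2⟩).1 y.2, OneMemClass.coe_one, inv_one, mul_one])⟩
  -- a complement
  have hYidx : (Nat.card Y).Coprime Y.index := by
    refine Nat.coprime_of_dvd fun q hq h1 h2 => ?_
    rw [hcY] at h1
    rw [← Subgroup.relIndex_mul_index hYG] at h2
    refine hYcop q hq ?_ h1
    rcases (Nat.Prime.dvd_mul hq).1 h2 with h | h
    · have hrel : Y.relIndex Gb = Y0.index := by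
        show (Y.subgroupOf Gb).index = _
        rw [show Y.subgroupOf Gb = Y0 from Subgroup.comap_map_eq_self_of_injective
          Gb.subtype_injective Y0]
      rw [hrel, Subgroup.index_ker] at h
      haveI := Fact.mk hq
      obtain ⟨z, hz⟩ := exists_prime_orderOf_dvd_card' q h
      obtain ⟨g, hg⟩ := z.2
      refine hprime_t q hq (hz ▸ orderOf_dvd_of_pow_eq_one (Subtype.ext ?_))
      rw [SubgroupClass.coe_pow, ← hg, hρt, OneMemClass.coe_one]
    · exact h
  obtain ⟨S, hS⟩ := Subgroup.exists_left_complement'_of_coprime hYidx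
  have hSdisj : ∀ x : S, (x : E) ∈ Y → x = 1 := fun x hx =>
    Subtype.ext (Subgroup.mem_bot.1 (hS.disjoint.le_bot (Subgroup.mem_inf.2 ⟨x.2, hx⟩)))
  have hSsolv : Group.IsSolvable (E ⧸ Gb) → Group.IsSolvable S := by
    intro hsolv
    let f : S →* E ⧸ Gb := (QuotientGroup.mk' Gb).comp S.subtype
    haveI := hsolv
    haveI : Group.IsSolvable f.ker := Group.isSolvable_of_comm fun x y => by
      have hx : ((x : S) : E) ∈ Gb := (QuotientGroup.eq_one_iff _).1 x.2
      have hy : ((y : S) : E) ∈ Gb := (QuotientGroup.eq_one_iff _).1 y.2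
      have h1 : ρ (⟨_, hx⟩ * ⟨_, hy⟩ * (⟨_, hx⟩ : Gb)⁻¹ * (⟨_, hy⟩ : Gb)⁻¹) = 1 := by
        rw [map_mul, map_mul, map_mul, map_inv, map_inv, mul_comm (ρ ⟨_, hx⟩) (ρ ⟨_, hy⟩)]
        group
      have h2 := hSdisj ((x : S) * y * (x : S)⁻¹ * (y : S)⁻¹) ((hYmem' _).2 h1)
      exact Subtype.ext (mul_inv_eq_iff_eq_mul.1 (mul_inv_eq_one.1 h2))
    exact Group.isSolvable_of_ker_le_range f.ker.subtype f (by rw [Subgroup.range_subtype])
  haveI : Fintype Y := Fintype.ofFinite _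
  let Q : Subgroup Y := Z.subgroupOf Y
  haveI : Fintype Q := Fintype.ofFinite _
  haveI : Q.Normal := ⟨fun q hq y => by
    have hq' : (q : E) ∈ Z := hq
    show (y : E) * q * (y : E)⁻¹ ∈ Z
    rwa [Subgroup.mem_center_iff.1 (hZc hq') (y : E), mul_inv_cancel_right]⟩
  have hQc : ∀ (q : E), q ∈ Z → ∀ e : E, e * q * e⁻¹ = q := fun q hq e => by
    rw [Subgroup.mem_center_iff.1 (hZc hq) e, mul_inv_cancel_right]
  let φ := CoprimeConst.actConj Y S fun s _ y hy => hYn.conj_mem y hy s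
  have hQi : ∀ u, ∀ q ∈ Q, φ u q ∈ Q := fun u q hq => by
    show (u : E) * q * (u : E)⁻¹ ∈ Z
    rw [hQc _ (show (q : E) ∈ Z from hq)]; exact hq
  let lq : Q →* ℂˣ :=
    { toFun := fun q => l ⟨((q : Y) : E), q.2⟩
      map_one' := map_one l
      map_mul' := fun a b => map_mul l ⟨_, a.2⟩ ⟨_, b.2⟩ }
  have hlq : GlaubermanMod.IsInv (CoprimeConst.actSub φ Q hQi) (fun q : Q => (lq q : ℂ)) :=
    fun u q => by
      show (lq _ : ℂ) = (lq q : ℂ)
      congr 2
      exact Subtype.ext (Subtype.ext (hQc _ q.2 u))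
  have hcopYS : (Nat.card Y).Coprime (Nat.card S) := by rwa [← hS.index_eq_card]
  obtain ⟨η, hη, hηl⟩ : ∃ η : IrrCharacter Y, GlaubermanMod.IsInv φ (η : Y → ℂ) ∧
      classInner (fun q : Q => (η : Y → ℂ) q) (fun q : Q => (lq q : ℂ)) ≠ 0 := by
    rcases hsolv with h | h
    · exact CoprimeConst.exists_inv_over_coprime _ Y S φ Q hQi rfl (hSsolv h) hcopYS
        ⟨_, isIrrCharacter_linear lq⟩ fun u q => hlq u q
    · exact CoprimeConst.exists_inv_over_solvable _ Y φ Q hQi rfl (h Y hYG)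
        (hcopYS.symm.coprime_dvd_right (Subgroup.index_dvd_card Q))
        ⟨_, isIrrCharacter_linear lq⟩ fun u q => hlq u q
  have hηc := IsCharacter.isClassFunction (IsIrrCharacter.isCharacter η.2)
  have hηE : ∀ (e : E) (y y' : Y), (y' : E) = e * y * e⁻¹ → (η : Y → ℂ) y' = (η : Y → ℂ) y := by
    intro e y y' he
    obtain ⟨⟨s, w⟩, hsw⟩ := hS.2 e
    dsimp only at hsw
    have h1 : (η : Y → ℂ) (φ s (w * y * w⁻¹)) = (η : Y → ℂ) y := by rw [hη s, hηc]
    rw [← h1]
    refine congrArg (η : Y → ℂ) (Subtype.ext ?_)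
    rw [he, CoprimeConst.actConj_coe, ← hsw]
    simp [mul_assoc]
  have hηQ : ∀ (q : Y) (hq : (q : E) ∈ Z),
      (η : Y → ℂ) q = (η : Y → ℂ) 1 * (l ⟨q, hq⟩ : ℂ) := by
    have hcl := clifford Q η.2 (isIrrCharacter_linear lq) hηl
    have horb : conjOrbit Q (fun q : Q => (lq q : ℂ)) = {fun q : Q => (lq q : ℂ)} := by
      ext f
      rw [mem_conjOrbit, Finset.mem_singleton]
      have hc : ∀ g : Y, conjChar Q g (fun q : Q => (lq q : ℂ)) = fun q : Q => (lq q : ℂ) :=
        fun g => funext fun q => by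
          show (lq _ : ℂ) = (lq q : ℂ)
          congr 2
          exact Subtype.ext (Subtype.ext (hQc _ q.2 _))
      exact ⟨fun ⟨g, hg⟩ => hg.trans (hc g), fun hf => ⟨1, hf.trans (hc 1).symm⟩⟩
    rw [horb, Finset.sum_singleton] at hcl
    intro q hq
    have h1 := congrFun hcl ⟨q, hq⟩
    have h2 := congrFun hcl 1
    simp only [Pi.smul_apply, smul_eq_mul, map_one, Units.val_one, mul_one,
      OneMemClass.coe_one] at h1 h2
    rw [h2]; exact h1
  have hβ := ChiefRestrict.isIrr_mul_linear (IsIrrCharacter.comp η.2 π hπs) (l.comp ρ)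
  refine ⟨⟨_, hβ⟩, fun e x x' he => ?_, fun z hz => ?_⟩
  · have hρx : ρ x' = ρ x := by
      have hy : ρ ⟨e * (π x : E) * e⁻¹, hGn.conj_mem _ (hYG (π x).2) e⟩ = 1 :=
        (hYmem' ⟨_, hGn.conj_mem _ (hYG (π x).2) e⟩).1 (hYn.conj_mem _ (π x).2 e)
      have : x' = ⟨e * (π x : E) * e⁻¹, hGn.conj_mem _ (hYG (π x).2) e⟩ * up (ρ x) := by
        refine Subtype.ext ?_
        show (x' : E) = e * ((x : E) * ((ρ x : Z) : E)⁻¹) * e⁻¹ * ((ρ x : Z) : E)
        have hz := Subgroup.mem_center_iff.1 (hZc (ρ x).2)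
        rw [he, mul_assoc (e * _), hz e⁻¹]
        group
      rw [this, map_mul, hy, hρρ, one_mul]
    show (l (ρ x') : ℂ) * (η : Y → ℂ) (π x') = (l (ρ x) : ℂ) * (η : Y → ℂ) (π x)
    rw [hρx, hηE e (π x) (π x')]
    show (x' : E) * ((ρ x' : Z) : E)⁻¹ = e * ((x : E) * ((ρ x : Z) : E)⁻¹) * e⁻¹
    rw [hρx, he]
    have hz := Subgroup.mem_center_iff.1 (hZc (Z.inv_mem (ρ x).2))
    rw [mul_assoc (e * _), hz e⁻¹]
    group
  · show (l (ρ z) : ℂ) * (η : Y → ℂ) (π z) =
      (l (ρ 1) : ℂ) * (η : Y → ℂ) (π 1) * (l ⟨z, hz⟩ : ℂ)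
    have hπz : ((π z : Y) : E) ∈ Z := Z.mul_mem hz (Z.inv_mem (ρ z).2)
    rw [hηQ (π z) hπz, map_one, map_one, map_one, Units.val_one, one_mul, mul_left_comm]
    congr 1
    rw [← Units.val_mul, ← map_mul]
    congr 2
    exact Subtype.ext (by
      show ((ρ z : Z) : E) * ((z : E) * ((ρ z : Z) : E)⁻¹) = z
      rw [← mul_assoc, ← Subgroup.mem_center_iff.1 (hZc (ρ z).2) (z : E), mul_inv_cancel_right])

set_option maxHeartbeats 2000000 in
/-- An invariant character has an invariant character above it. -/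
theorem exists_invariant_over {Γ : Type u} [Group Γ] [Fintype Γ] (G N : Subgroup Γ) [hG : G.Normal]
    [hN : N.Normal] [Fintype G] [Fintype N] (hNG : N ≤ G)
    (hcop : G.index.Coprime (N.relIndex G))
    (hsolv : Group.IsSolvable (Γ ⧸ G) ∨ Group.IsSolvable (G ⧸ N.subgroupOf G))
    (θ : IrrCharacter N) (hinv : ∀ (x : Γ), conjChar N x (θ : N → ℂ) = θ) :
    ∃ χ : IrrCharacter G, classInner (fun n : N => (χ : G → ℂ) ⟨n, hNG n.2⟩) (θ : N → ℂ) ≠ 0 ∧
      ∀ (x : Γ) (g : G), (χ : G → ℂ) ⟨x * g * x⁻¹, hG.conj_mem g g.2 x⟩ = (χ : G → ℂ) g := by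
  classical
  obtain ⟨d, σ, hσ, hσθ⟩ := θ.2
  haveI := hσ
  haveI := nontrivial_of_irreducible σ
  have hinv' : ∀ x : Γ, conjChar N x σ.character = σ.character := by rw [hσθ]; exact hinv
  let E := CharExtend.interGroup σ
  let dt : E →* ℂˣ := (Units.map LinearMap.det).comp (CharExtend.op σ)
  let L := Nat.card N
  let E1 : Subgroup E := ((powMonoidHom L).comp dt).ker
  have hL : L ≠ 0 := Nat.card_pos.ne'
  have hdt : ∀ z : ℂˣ, dt (CharExtend.scal σ z) = z ^ d := fun z => by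
    apply Units.ext
    show LinearMap.det ((CharExtend.op σ (CharExtend.scal σ z) : (Module.End ℂ (Fin d → ℂ))ˣ) :
      Module.End ℂ (Fin d → ℂ)) = _
    rw [CharExtend.op_scal, CharExtend.scalarUnit_val, LinearMap.det_smul, LinearMap.det_id,
      mul_one, Module.finrank_fin_fun, Units.val_pow_eq_pow_val]
  have hd : d ≠ 0 := by
    rintro rfl
    exact IsIrrCharacter.one_ne_zero θ.2 (by rw [← hσθ]; simp)
  have hembE : ∀ n, CharExtend.emb σ n ∈ E1 := fun n => by
    rw [MonoidHom.mem_ker]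
    show dt (CharExtend.emb σ n) ^ L = 1
    rw [← map_pow, ← map_pow, pow_card_eq_one', map_one, map_one]
  let pr : E1 →* Γ := (CharExtend.proj σ).comp E1.subtype
  have hprs : Function.Surjective pr := by
    intro g
    obtain ⟨e, he⟩ := CharExtend.proj_surjective σ hinv' g
    obtain ⟨z, hz⟩ := IsAlgClosed.exists_pow_nat_eq ((dt e : ℂ)⁻¹) (Nat.pos_of_ne_zero hd)
    have hz0 : z ≠ 0 := by rintro rfl; rw [zero_pow hd] at hz; exact inv_ne_zero (dt e).ne_zero hz.symm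
    refine ⟨⟨e * CharExtend.scal σ (Units.mk0 z hz0), ?_⟩, ?_⟩
    · rw [MonoidHom.mem_ker]
      show dt (e * CharExtend.scal σ (Units.mk0 z hz0)) ^ L = 1
      rw [map_mul, hdt, show dt e * Units.mk0 z hz0 ^ d = 1 from Units.ext (by
        simp [hz]), one_pow]
    · show CharExtend.proj σ (e * CharExtend.scal σ (Units.mk0 z hz0)) = g
      rw [map_mul, he, CharExtend.proj_scal, mul_one]
  haveI : Finite pr.ker := by
    haveI : NeZero (d * L) := ⟨mul_ne_zero hd hL⟩
    haveI : Finite (rootsOfUnity (d * L) ℂ) := inferInstance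
    have hex : ∀ e : pr.ker, ∃ w : rootsOfUnity (d * L) ℂ,
        CharExtend.scal σ (w : ℂˣ) = ((e : E1) : E) := by
      intro e
      obtain ⟨z, hz⟩ := CharExtend.exists_scal_of_proj_eq_one σ ((e : E1) : E) e.2
      refine ⟨⟨z, ?_⟩, hz⟩
      rw [mem_rootsOfUnity, pow_mul, ← hdt, hz]
      exact (e : E1).2
    choose w hw using hex
    exact Finite.of_injective w fun a b h => Subtype.ext (Subtype.ext (by rw [← hw a, ← hw b, h]))
  haveI : Finite (E1 ⧸ pr.ker) :=
    Finite.of_equiv _ (QuotientGroup.quotientKerEquivOfSurjective pr hprs).symm.toEquiv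
  haveI : Finite E1 := Finite.of_subgroup_quotient pr.ker
  let G1 : Subgroup E1 := G.comap pr
  let ι : N →* G1 := ((CharExtend.emb σ).codRestrict E1 hembE).codRestrict G1 fun n => hNG n.2
  let M : Subgroup E1 := ((CharExtend.emb σ).codRestrict E1 hembE).range
  haveI : M.Normal := ⟨by
    rintro _ ⟨n, rfl⟩ e
    exact ⟨conjHom N (pr e) n, Subtype.ext (CharExtend.conj_emb σ (e : E) n).symm⟩⟩
  let qm := QuotientGroup.mk' M
  let Gb : Subgroup (E1 ⧸ M) := G1.map qm
  haveI : G1.Normal := by show (G.comap pr).Normal; infer_instance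
  haveI : Gb.Normal := Subgroup.Normal.map inferInstance qm (QuotientGroup.mk'_surjective M)
  let Z : Subgroup (E1 ⧸ M) := pr.ker.map qm
  have hMG : M ≤ G1 := by rintro _ ⟨n, rfl⟩; exact hNG n.2
  have hZc : Z ≤ Subgroup.center (E1 ⧸ M) := by
    rintro _ ⟨e, he, rfl⟩
    rw [Subgroup.mem_center_iff]
    intro q
    obtain ⟨q, rfl⟩ := QuotientGroup.mk'_surjective M q
    obtain ⟨z, hz⟩ := CharExtend.exists_scal_of_proj_eq_one σ (e : E) he
    rw [← map_mul, ← map_mul]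
    refine congrArg qm (Subtype.ext ?_)
    show (q : E) * e = e * q
    rw [← hz, CharExtend.scal_comm]
  have hkerG : pr.ker ≤ G1 := fun e he => by
    show pr e ∈ G
    rw [MonoidHom.mem_ker.1 he]; exact G.one_mem
  have hidx1 : Gb.index = G.index := by
    rw [← Subgroup.index_comap_of_surjective (H := Gb) (QuotientGroup.mk'_surjective M),
      Subgroup.comap_map_eq, QuotientGroup.ker_mk', sup_eq_left.2 hMG,
      Subgroup.index_comap_of_surjective _ hprs]
  have hrel : Z.relIndex Gb = N.relIndex G := by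
    have hNc : N.comap pr = M ⊔ pr.ker := by
      refine le_antisymm (fun e he => ?_) (sup_le ?_ fun e he => ?_)
      · have hdec : e = ((CharExtend.emb σ).codRestrict E1 hembE) ⟨pr e, he⟩ *
            ((((CharExtend.emb σ).codRestrict E1 hembE) ⟨pr e, he⟩)⁻¹ * e) :=
          (mul_inv_cancel_left _ e).symm
        rw [hdec]
        refine Subgroup.mul_mem_sup ⟨_, rfl⟩ ?_
        rw [MonoidHom.mem_ker, map_mul, map_inv]
        exact inv_mul_cancel _
      · rintro _ ⟨n, rfl⟩; exact n.2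
      · show pr e ∈ N
        rw [MonoidHom.mem_ker.1 he]; exact N.one_mem
    have h1 : (N.comap pr).map qm = Z := by
      rw [hNc, Subgroup.map_sup, QuotientGroup.map_mk'_self, bot_sup_eq]
    rw [← h1, ← Subgroup.relIndex_comap, Subgroup.comap_map_eq, QuotientGroup.ker_mk',
      sup_eq_left.2 (hNc ▸ le_sup_left), Subgroup.relIndex_comap,
      Subgroup.map_comap_eq_self_of_surjective hprs]
  have hsolv' : Group.IsSolvable ((E1 ⧸ M) ⧸ Gb) ∨
      ∀ (Y : Subgroup (E1 ⧸ M)) (_ : Y ≤ Gb) [(Z.subgroupOf Y).Normal],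
        Group.IsSolvable (Y ⧸ Z.subgroupOf Y) := by
    rcases hsolv with hsolv | hsolv
    swap
    · right
      intro Y hY _
      let prb : E1 ⧸ M →* Γ ⧸ N := QuotientGroup.map M N pr (by rintro _ ⟨n, rfl⟩; exact n.2)
      haveI := hsolv
      let i : G ⧸ N.subgroupOf G →* Γ ⧸ N := QuotientGroup.map _ N G.subtype fun x hx => hx
      haveI : Group.IsSolvable i.range :=
        Group.isSolvable_of_surjective (MonoidHom.rangeRestrict_surjective i)
      let j : Y →* i.range := (prb.comp Y.subtype).codRestrict i.range fun y => by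
        obtain ⟨e, he, hey⟩ := hY y.2
        exact ⟨((⟨pr e, he⟩ : G) : G ⧸ N.subgroupOf G), (congrArg prb hey : _)⟩
      have hj : Z.subgroupOf Y ≤ j.ker := by
        intro y hy
        obtain ⟨e, he, hey⟩ := (show (y : E1 ⧸ M) ∈ Z from hy)
        refine Subtype.ext ?_
        show prb (y : E1 ⧸ M) = 1
        rw [← hey]
        exact (QuotientGroup.eq_one_iff _).2 (by rw [MonoidHom.mem_ker.1 he]; exact N.one_mem)
      refine Group.isSolvable_of_isSolvable_injective (f := QuotientGroup.lift _ j hj) ?_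
      rw [injective_iff_map_eq_one]
      intro x hx
      obtain ⟨y, rfl⟩ := QuotientGroup.mk_surjective x
      refine (QuotientGroup.eq_one_iff _).2 ?_
      obtain ⟨e, he, hey⟩ := hY y.2
      have hn : pr e ∈ N := (QuotientGroup.eq_one_iff _).1
        ((congrArg prb hey).trans (congrArg Subtype.val hx))
      show (y : E1 ⧸ M) ∈ Z
      rw [← hey]
      refine ⟨(((CharExtend.emb σ).codRestrict E1 hembE) ⟨pr e, hn⟩)⁻¹ * e, ?_, ?_⟩
      · show _ ∈ pr.ker
        rw [MonoidHom.mem_ker, map_mul, map_inv]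
        exact inv_mul_cancel _
      · rw [map_mul, map_inv, show qm (((CharExtend.emb σ).codRestrict E1 hembE) ⟨pr e, hn⟩) = 1
          from (QuotientGroup.eq_one_iff _).2 ⟨_, rfl⟩, inv_one, one_mul]
    left
    haveI : Group.IsSolvable (E1 ⧸ G1) := Group.isSolvable_of_isSolvable_injective
      (f := QuotientGroup.map G1 G pr le_rfl) fun a b hab => by
        obtain ⟨a, rfl⟩ := QuotientGroup.mk_surjective a
        obtain ⟨b, rfl⟩ := QuotientGroup.mk_surjective b
        refine QuotientGroup.eq.2 ?_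
        have := QuotientGroup.eq.1 hab
        rwa [← map_inv, ← map_mul] at this
    refine Group.isSolvable_of_surjective
      (f := QuotientGroup.map G1 Gb qm (fun e he => ⟨e, he, rfl⟩)) fun x => ?_
    obtain ⟨x, rfl⟩ := QuotientGroup.mk_surjective x
    obtain ⟨x, rfl⟩ := QuotientGroup.mk'_surjective M x
    exact ⟨(x : E1 ⧸ G1), rfl⟩
  -- the scalar character of `Z`
  have hMker : ∀ e ∈ M, pr e = 1 → e = 1 := by
    rintro _ ⟨n, rfl⟩ hn
    have : n = 1 := Subtype.ext hn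
    rw [this, map_one]
  have hex : ∀ q : Z, ∃ z : ℂˣ, ∃ e : E1, qm e = q ∧ CharExtend.scal σ z = (e : E) := by
    rintro ⟨_, e, he, rfl⟩
    obtain ⟨z, hz⟩ := CharExtend.exists_scal_of_proj_eq_one σ (e : E) he
    exact ⟨z, e, rfl, hz⟩
  have hscal_inj : Function.Injective (CharExtend.scal σ) := fun a b h =>
    CharExtend.scalarUnit_injective (V := Fin d → ℂ)
      (by rw [← CharExtend.op_scal σ a, ← CharExtend.op_scal σ b, h])
  have huniq : ∀ {z z' : ℂˣ} {e e' : E1}, qm e = qm e' → CharExtend.scal σ z = (e : E) →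
      CharExtend.scal σ z' = (e' : E) → z = z' := by
    intro z z' e e' h h1 h2
    have hm := hMker _ (QuotientGroup.eq.1 h) (by
      rw [map_mul, map_inv]
      show (CharExtend.proj σ (e : E))⁻¹ * CharExtend.proj σ (e' : E) = 1
      rw [← h1, ← h2, CharExtend.proj_scal, CharExtend.proj_scal, inv_one, one_mul])
    exact hscal_inj (h1.trans ((congrArg Subtype.val (inv_mul_eq_one.1 hm)).trans h2.symm))
  choose lz le hle1 hle2 using hex
  let l : Z →* ℂˣ :=
    { toFun := fun q => (lz q)⁻¹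
      map_one' := inv_eq_one.2 (huniq (e' := 1) (by rw [hle1, map_one]; rfl) (hle2 1)
        (by rw [map_one]; rfl))
      map_mul' := fun a b => by
        rw [← mul_inv]
        congr 1
        refine huniq (e' := le a * le b) ?_ (hle2 _) (by rw [map_mul, hle2, hle2]; rfl)
        rw [hle1, map_mul, hle1, hle1]; rfl }
  obtain ⟨β, hβinv, hβZ⟩ := exists_central_char (E1 ⧸ M) Gb Z (Subgroup.map_mono hkerG) hZc
    (by rw [hidx1, hrel]; exact hcop) hsolv' l
  -- the character of `G1`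
  haveI : Fintype G1 := Fintype.ofFinite _
  let qG : G1 →* Gb := (qm.comp G1.subtype).codRestrict Gb fun e => ⟨e, e.2, rfl⟩
  have hqGs : Function.Surjective qG := by
    rintro ⟨_, e, he, rfl⟩
    exact ⟨⟨e, he⟩, rfl⟩
  let ρ1 : Representation ℂ G1 (Fin d → ℂ) :=
    (Units.coeHom _).comp (((CharExtend.op σ).comp E1.subtype).comp G1.subtype)
  let M1 := ι.range
  haveI : M1.Normal := ⟨by
    rintro _ ⟨n, rfl⟩ e
    exact ⟨conjHom N (pr (e : E1)) n,
      Subtype.ext (Subtype.ext (CharExtend.conj_emb σ ((e : E1) : E) n).symm)⟩⟩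
  haveI : Fintype M1 := Fintype.ofFinite _
  have hιi : Function.Injective ι := fun a b h =>
    Subtype.ext (congrArg (fun e : G1 => pr (e : E1)) h)
  let eN : N ≃* M1 := MonoidHom.ofInjective hιi
  have hM1 : ∀ n : N, ρ1.character ((eN n : M1) : G1) = (θ : N → ℂ) n := fun n => by
    rw [← hσθ]; rfl
  have hrest : IsIrrCharacter M1 (fun x : M1 => ρ1.character x) := by
    rw [show (fun x : M1 => ρ1.character x) = fun x => (θ : N → ℂ) (eN.symm x) from funext fun x => by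
      rw [← hM1, MulEquiv.apply_symm_apply]]
    exact IsIrrCharacter.comp θ.2 eN.symm.toMonoidHom eN.symm.surjective
  let β1 : IrrCharacter G1 := ⟨_, IsIrrCharacter.comp β.2 qG hqGs⟩
  have hβ1M : ∀ x : M1, (β1 : G1 → ℂ) x = (β1 : G1 → ℂ) 1 := fun x => by
    show (β : Gb → ℂ) (qG x) = (β : Gb → ℂ) (qG 1)
    rw [map_one]
    obtain ⟨n, hn⟩ := x.2
    refine congrArg (β : Gb → ℂ) ?_
    refine Subtype.ext ?_
    show qm ((x : G1) : E1) = 1
    exact (QuotientGroup.eq_one_iff _).2 ⟨n, congrArg Subtype.val hn⟩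
  have hρc : IsCharacter G1 ρ1.character := ⟨d, ρ1, rfl⟩
  have hχ1 := (gallagher_one M1 hρc hrest).1 β1 hβ1M
  let pG : G1 →* G := (pr.comp G1.subtype).codRestrict G fun e => e.2
  have hpGs : Function.Surjective pG := fun g => by
    obtain ⟨e, he⟩ := hprs g
    exact ⟨⟨e, show pr e ∈ G by rw [he]; exact g.2⟩, Subtype.ext he⟩
  obtain ⟨χ, hχ⟩ := RelGlauberman.exists_factor pG hpGs ⟨_, hχ1⟩ (by
    intro x hx
    have hx' : (x : E1) ∈ pr.ker := congrArg Subtype.val hx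
    obtain ⟨z, hz⟩ := CharExtend.exists_scal_of_proj_eq_one σ ((x : E1) : E) hx'
    have hZmem : ((qG x : Gb) : E1 ⧸ M) ∈ Z := ⟨(x : E1), hx', rfl⟩
    have hl : l ⟨_, hZmem⟩ = z⁻¹ := congrArg (·⁻¹) (huniq (e := le ⟨_, hZmem⟩) (e' := (x : E1))
      (hle1 _) (hle2 _) hz)
    show (β : Gb → ℂ) (qG x) * ρ1.character x = (β : Gb → ℂ) (qG 1) * ρ1.character 1
    rw [hβZ _ hZmem, hl, map_one, Units.val_inv_eq_inv_val, mul_assoc]
    congr 1
    rw [Representation.char_one]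
    show (z : ℂ)⁻¹ * LinearMap.trace ℂ _ ((CharExtend.op σ ((x : E1) : E) :
      (Module.End ℂ (Fin d → ℂ))ˣ) : Module.End ℂ (Fin d → ℂ)) = _
    rw [← hz, CharExtend.op_scal, CharExtend.scalarUnit_val, map_smul, LinearMap.trace_id,
      smul_eq_mul, inv_mul_cancel_left₀ z.ne_zero])
  refine ⟨χ, ?_, fun x g => ?_⟩
  · have hn : (fun n : N => (χ : G → ℂ) ⟨n, hNG n.2⟩) =
        (β1 : G1 → ℂ) 1 • (θ : N → ℂ) := by
      funext n
      have h1 := hχ ((eN n : M1) : G1)
      rw [show pG ((eN n : M1) : G1) = ⟨n, hNG n.2⟩ from Subtype.ext rfl] at h1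
      rw [h1, Pi.smul_apply, smul_eq_mul]
      show (β1 : G1 → ℂ) _ * ρ1.character _ = _
      rw [hβ1M, hM1]
    rw [hn, classInner_smul_left, classInner_self_irr θ.2, mul_one]
    exact IsIrrCharacter.one_ne_zero β1.2
  · obtain ⟨e, he⟩ := hprs x
    obtain ⟨w, rfl⟩ := hpGs g
    let w' : G1 := ⟨e * w * e⁻¹, (inferInstance : G1.Normal).conj_mem _ w.2 e⟩
    rw [show (⟨x * (pG w : Γ) * x⁻¹, hG.conj_mem _ (pG w).2 x⟩ : G) = pG w' from Subtype.ext (by
      show x * pr (w : E1) * x⁻¹ = pr (e * w * e⁻¹)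
      rw [map_mul, map_mul, map_inv, he]), hχ, hχ]
    show (β : Gb → ℂ) (qG w') * ρ1.character w' = (β : Gb → ℂ) (qG w) * ρ1.character w
    rw [hβinv (qm e) (qG w) (qG w') (by
      show qm (e * w * e⁻¹) = qm e * qm w * (qm e)⁻¹
      rw [map_mul, map_mul, map_inv])]
    congr 1
    show LinearMap.trace ℂ _ ((CharExtend.op σ ((e : E) * ((w : E1) : E) * (e : E)⁻¹) :
      (Module.End ℂ (Fin d → ℂ))ˣ) : Module.End ℂ (Fin d → ℂ)) = LinearMap.trace ℂ _ _
    rw [map_mul, map_mul, map_inv, Units.val_mul, Units.val_mul]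
    exact LinearMap.trace_conj ℂ _ (CharExtend.op σ (e : E))

end Cfsg.Agent.InvariantOver
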