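import Cfsg.Agent.Lib.Char.Monomial
import Cfsg.Agent.Lib.Char.Blichfeldt
import Cfsg.Agent.Lib.Char.FrobeniusBound
import Cfsg.Agent.Lib.Blocks.BlichfeldtHall
import Mathlib.Data.Nat.Factorial.BigOperators
import Mathlib.NumberTheory.PrimeCounting

/-!
# The explicit Jordan bound of Blichfeldt and Frobenius

A `p`-subgroup of a linear group of degree `n` is monomial, so it has an abelian subgroup of index
dividing `n!`.  Together with the abelian normal subgroup `A` meeting every abelian subgroup in
index at most `12 ^ n` and the abelian Hall subgroup for the primes above `n + 1`, this bounds the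
index of `A` by `n! * 12 ^ (n * (π (n + 1) + 1))`.
-/

set_option linter.style.haveILetI false

namespace Cfsg.Agent.JordanBound

open Cfsg Cfsg.Agent.Char

universe u

variable {G : Type u} [Group G]

/-- A nilpotent linear group of degree `n` has an abelian subgroup of index dividing `n!`. -/
theorem exists_abelian_of_nilpotent [Fintype G] [Group.IsNilpotent G] {n : ℕ}
    (ρ : Representation ℂ G (Fin n → ℂ)) (hρ : Function.Injective ρ) :
    ∃ B : Subgroup G, (∀ a ∈ B, ∀ b ∈ B, a * b = b * a) ∧ B.index ∣ n.factorial := by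
  classical
  obtain ⟨m, hm⟩ := IsCharacter.exists_decomp (χ := ρ.character) ⟨n, ρ, rfl⟩
  choose H lam hlam using fun ψ : IrrCharacter G =>
    exists_monomial_of_nilpotent (Nat.card G) G rfl (ψ : G → ℂ) ψ.2
  let s := Finset.univ.filter fun ψ : IrrCharacter G => m ψ ≠ 0
  have hdeg : ∑ ψ ∈ s, (H ψ).index ≤ n := by
    have h1 := congrFun hm 1
    rw [Representation.char_one, Module.finrank_fin_fun] at h1
    simp only [Finset.sum_apply, Pi.smul_apply, smul_eq_mul] at h1
    have h2 : ∀ ψ : IrrCharacter G, (ψ : G → ℂ) 1 = ((H ψ).index : ℂ) := fun ψ => by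
      rw [hlam ψ, indFun_one_apply, map_one, Units.val_one, mul_one]
    simp only [h2] at h1
    have h3 : n = ∑ ψ, m ψ * (H ψ).index := by exact_mod_cast h1
    rw [h3, ← Finset.sum_filter_add_sum_filter_not Finset.univ fun ψ => m ψ ≠ 0]
    refine le_add_right (Finset.sum_le_sum fun ψ hψ => Nat.le_mul_of_pos_left _ ?_)
    exact Nat.pos_of_ne_zero (Finset.mem_filter.1 hψ).2
  let f : G →* ((ψ : s) → Equiv.Perm (G ⧸ H ψ.1)) :=
    MonoidHom.pi fun ψ => MulAction.toPermHom G (G ⧸ H ψ.1)
  refine ⟨f.ker, ?_, ?_⟩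
  · intro a ha b hb
    let σ : Representation ℂ f.ker (Fin n → ℂ) := MonoidHom.comp ρ f.ker.subtype
    haveI : Fintype f.ker := Fintype.ofFinite _
    obtain ⟨m', hm'⟩ := IsCharacter.exists_decomp (χ := σ.character) ⟨n, σ, rfl⟩
    have h := Blich.comm_of_linear σ m' hm' ?_ ⟨a, ha⟩ ⟨b, hb⟩
    · exact hρ h
    intro θ hθ
    by_contra hne
    refine hθ (Nat.cast_eq_zero (R := ℂ).1 ?_)
    rw [← classInner_combination (fun θ => (m' θ : ℂ)) θ, ← hm']
    have hres : σ.character = ∑ ψ, (m ψ : ℂ) • fun k : f.ker => (ψ : G → ℂ) k := by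
      funext k
      show ρ.character k = _
      rw [hm]
      simp
    rw [hres, classInner_sum_left]
    refine Finset.sum_eq_zero fun ψ _ => ?_
    rw [classInner_smul_left]
    by_cases hψ : m ψ = 0
    · rw [hψ, Nat.cast_zero, zero_mul]
    have hmem : ∀ (k : f.ker) (x : G), x⁻¹ * (k : G) * x ∈ H ψ := by
      intro k x
      have hk : f k = 1 := k.2
      have h1 := congrFun (congrArg DFunLike.coe
        (congrFun hk ⟨ψ, Finset.mem_filter.2 ⟨Finset.mem_univ _, hψ⟩⟩)) (x : G ⧸ H ψ)
      simp only [f,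
        Pi.one_apply, Equiv.Perm.coe_one, id_eq] at h1
      have h2 : (((k : G) * x : G) : G ⧸ H ψ) = ((x : G) : G ⧸ H ψ) := h1
      rw [QuotientGroup.eq] at h2
      have := inv_mem h2
      simpa [mul_assoc] using this
    let μ : G → (f.ker →* ℂˣ) := fun x =>
      { toFun := fun k => lam ψ ⟨_, hmem k x⟩
        map_one' := by
          rw [← map_one (lam ψ)]
          congr 1
          exact Subtype.ext (by simp)
        map_mul' := fun k l => by
          rw [← map_mul]
          congr 1
          exact Subtype.ext (by simp [mul_assoc]) }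
    have hψres : (fun k : f.ker => (ψ : G → ℂ) k) =
        (Nat.card (H ψ) : ℂ)⁻¹ • ∑ x : G, fun k : f.ker => (μ x k : ℂ) := by
      funext k
      rw [hlam ψ, indFun_apply, Pi.smul_apply, Finset.sum_apply, smul_eq_mul]
      congr 1
      refine Finset.sum_congr rfl fun x _ => ?_
      rw [extendByZero_mem _ _ (hmem k x)]
      rfl
    rw [hψres, classInner_smul_left, classInner_sum_left, Finset.sum_eq_zero fun x _ => ?_,
      mul_zero, mul_zero]
    refine classInner_irr_of_ne (isIrrCharacter_linear (μ x)) θ.2 fun e => hne ?_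
    rw [← e]
    simp
  · rw [Subgroup.index_ker]
    refine (Subgroup.card_subgroup_dvd_card f.range).trans ?_
    rw [Nat.card_pi]
    have h1 : ∀ ψ : s, Nat.card (Equiv.Perm (G ⧸ H ψ.1)) = (H ψ.1).index.factorial := fun ψ => by
      rw [Nat.card_perm, Subgroup.index_eq_card]
    simp only [h1]
    rw [Finset.univ_eq_attach, Finset.prod_attach s fun ψ => (H ψ).index.factorial]
    exact (Nat.prod_factorial_dvd_factorial_sum s fun ψ => (H ψ).index).trans
      (Nat.factorial_dvd_factorial hdeg)

/-- The Sylow contribution. -/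
theorem prime_part_le [Finite G] {n : ℕ} (ρ : Representation ℂ G (Fin n → ℂ))
    (hρ : Function.Injective ρ) (A : Subgroup G)
    (hA : ∀ H : Subgroup G, (∀ x ∈ H, ∀ y ∈ H, x * y = y * x) →
      (A.subgroupOf H).index ≤ 12 ^ n) (p : ℕ) [hp : Fact p.Prime] :
    p ^ A.index.factorization p ≤ p ^ n.factorial.factorization p * 12 ^ n := by
  classical
  obtain ⟨P⟩ : Nonempty (Sylow p G) := inferInstance
  haveI : Fintype (P : Subgroup G) := Fintype.ofFinite _
  haveI : Group.IsNilpotent (P : Subgroup G) := P.isPGroup'.isNilpotent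
  let σ : Representation ℂ (P : Subgroup G) (Fin n → ℂ) :=
    MonoidHom.comp ρ (P : Subgroup G).subtype
  obtain ⟨B0, hB0, hB0i⟩ := exists_abelian_of_nilpotent σ (hρ.comp Subtype.val_injective)
  set B := B0.map (P : Subgroup G).subtype with hB
  have hBP : B ≤ P := Subgroup.map_subtype_le B0
  have h12 : A.relIndex B ≤ 12 ^ n := hA B (by
    rintro _ ⟨x, hx, rfl⟩ _ ⟨y, hy, rfl⟩
    rw [← map_mul, ← map_mul, hB0 x hx y hy])
  have hBi : B.relIndex P = B0.index := by
    rw [Subgroup.relIndex, hB, Subgroup.subgroupOf,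
      Subgroup.comap_map_eq_self_of_injective Subtype.val_injective]
  have hAP : A.relIndex (P : Subgroup G) ≤ A.relIndex B * B.relIndex P := by
    have h1 : (A ⊓ B).relIndex (P : Subgroup G) = A.relIndex B * B.relIndex P := by
      rw [← Subgroup.relIndex_mul_relIndex (A ⊓ B) B P inf_le_right hBP,
        Subgroup.inf_relIndex_right]
    rw [← h1]
    exact Subgroup.relIndex_le_of_le_left inf_le_left (by
      exact Subgroup.index_ne_zero_of_finite)
  have hlow : p ^ A.index.factorization p ≤ A.relIndex (P : Subgroup G) := by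
    have h1 : Nat.card ((A ⊓ P : Subgroup G)) * A.relIndex (P : Subgroup G) =
        p ^ (Nat.card G).factorization p := by
      rw [← P.card_eq_multiplicity, ← Subgroup.inf_relIndex_right A P,
        ← Subgroup.relIndex_bot_left (A ⊓ P), ← Subgroup.relIndex_bot_left (P : Subgroup G)]
      exact Subgroup.relIndex_mul_relIndex ⊥ (A ⊓ P) P bot_le inf_le_right
    have h2 : Nat.card ((A ⊓ P : Subgroup G)) ≤ p ^ (Nat.card A).factorization p := by
      obtain ⟨k, hk⟩ := (P.isPGroup'.to_le (inf_le_right : A ⊓ (P : Subgroup G) ≤ P)).exists_card_eq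
      have hdvd := Subgroup.card_dvd_of_le (inf_le_left : A ⊓ (P : Subgroup G) ≤ A)
      rw [hk] at hdvd ⊢
      exact Nat.pow_le_pow_right hp.out.pos
        ((hp.out.pow_dvd_iff_le_factorization Nat.card_pos.ne').1 hdvd)
    rw [← A.card_mul_index, Nat.factorization_mul Nat.card_pos.ne'
      Subgroup.index_ne_zero_of_finite, Finsupp.add_apply, pow_add] at h1
    refine Nat.le_of_mul_le_mul_left ?_ (pow_pos hp.out.pos ((Nat.card A).factorization p))
    rw [← h1]
    exact Nat.mul_le_mul_right _ h2
  refine hlow.trans (hAP.trans ?_)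
  rw [mul_comm, hBi]
  refine Nat.mul_le_mul ?_ h12
  obtain ⟨k, hk⟩ := P.isPGroup'.exists_card_eq
  have hdvd : B0.index ∣ p ^ k := hk ▸ B0.index_dvd_card
  obtain ⟨i, -, hi⟩ := (Nat.dvd_prime_pow hp.out).1 hdvd
  rw [hi] at hB0i ⊢
  exact Nat.pow_le_pow_right hp.out.pos
    ((hp.out.pow_dvd_iff_le_factorization (Nat.factorial_ne_zero n)).1 hB0i)

/-- The bound. -/
theorem bound [Finite G] {χ : G → ℂ} (hχ : IsCharacter G χ)
    (hfaith : ∀ g : G, χ g = χ 1 → g = 1) (n : ℕ) (hn : charDegree χ = n) :
    ∃ A : Subgroup G, A.Normal ∧ (∀ x ∈ A, ∀ y ∈ A, x * y = y * x) ∧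
      A.index ≤ n.factorial * 12 ^ (n * (Nat.primeCounting (n + 1) + 1)) := by
  classical
  haveI := Fintype.ofFinite G
  have hχ' := hχ
  obtain ⟨d, ρ, rfl⟩ := hχ'
  have hd1 : ρ.character 1 = (d : ℂ) := by rw [Representation.char_one, Module.finrank_fin_fun]
  obtain rfl : d = n := by rw [← hn]; simp [Cfsg.charDegree, hd1]
  have hinj : Function.Injective ρ := by
    intro g h he
    have h1 : ρ (h⁻¹ * g) = 1 := by rw [map_mul, he, ← map_mul, inv_mul_cancel, map_one]
    have h2 := hfaith (h⁻¹ * g) (by simp [Representation.character, h1])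
    exact (inv_mul_eq_one.1 h2).symm
  obtain ⟨A, hAn, hAc, hA⟩ := FrobBound.exists_abelian_normal_of_rep d ρ hinj
  obtain ⟨K, hK, -, hKi⟩ :=
    BlichHall.good (Nat.card G) G rfl ρ.character hχ hfaith d hd1 (d + 1) le_rfl
  refine ⟨A, hAn, hAc, ?_⟩
  haveI := hAn
  set M := (A ⊔ K).index with hM
  have hidx : A.index = A.relIndex K * M := by
    rw [← Subgroup.relIndex_sup_right K A, sup_comm K A, hM,
      Subgroup.relIndex_mul_index le_sup_left]
  have hM0 : M ≠ 0 := Subgroup.index_ne_zero_of_finite
  have hsub : M.primeFactors ⊆ (Finset.range (d + 2)).filter Nat.Prime := by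
    intro q hq
    obtain ⟨hqp, hqd, -⟩ := Nat.mem_primeFactors.1 hq
    exact Finset.mem_filter.2 ⟨Finset.mem_range.2 (by
      have := hKi q hqp (hqd.trans (Subgroup.index_dvd_of_le le_sup_right))
      omega), hqp⟩
  have hcard : M.primeFactors.card ≤ Nat.primeCounting (d + 1) := by
    refine (Finset.card_le_card hsub).trans ?_
    rw [Nat.primeCounting, Nat.primeCounting', Nat.count_eq_card_filter_range]
  have hMle : M ≤ d.factorial * 12 ^ (d * Nat.primeCounting (d + 1)) := by
    conv_lhs => rw [← Nat.prod_factorization_pow_eq_self hM0]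
    rw [Finsupp.prod, Nat.support_factorization]
    refine (Finset.prod_le_prod' (g := fun q => q ^ d.factorial.factorization q * 12 ^ d)
      fun q hq => ?_).trans ?_
    · obtain ⟨hqp, -, -⟩ := Nat.mem_primeFactors.1 hq
      haveI : Fact q.Prime := ⟨hqp⟩
      refine le_trans (Nat.pow_le_pow_right hqp.pos ?_) (prime_part_le ρ hinj A hA q)
      have h1 : q ^ M.factorization q ∣ A.index :=
        (Nat.ordProj_dvd M q).trans (hidx ▸ dvd_mul_left M _)
      exact (hqp.pow_dvd_iff_le_factorization Subgroup.index_ne_zero_of_finite).1 h1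
    · rw [Finset.prod_mul_distrib, Finset.prod_const, ← pow_mul]
      refine Nat.mul_le_mul ?_ (Nat.pow_le_pow_right (by norm_num)
        (Nat.mul_le_mul_left d hcard))
      refine Nat.le_of_dvd (Nat.factorial_pos d) ?_
      refine (Finset.prod_dvd_prod_of_subset _ _ _
        (Finset.subset_union_left (s₂ := d.factorial.primeFactors))).trans ?_
      rw [← Finset.prod_subset (Finset.subset_union_right (s₁ := M.primeFactors))]
      · conv_rhs => rw [← Nat.prod_factorization_pow_eq_self (Nat.factorial_ne_zero d)]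
        rw [Finsupp.prod, Nat.support_factorization]
      · intro q _ hq
        rw [← Nat.support_factorization, Finsupp.notMem_support_iff] at hq
        rw [hq, pow_zero]
  rw [hidx]
  refine (Nat.mul_le_mul (hA K hK) hMle).trans (le_of_eq ?_)
  rw [mul_add, mul_one, pow_add]
  ring

end Cfsg.Agent.JordanBound
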