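import Cfsg.Agent.Lib.Char.Gallagher
import Cfsg.Agent.Lib.Char.FrobeniusSchur
import Cfsg.Agent.Lib.Char.Degree
import Cfsg.Agent.Lib.Char.Complete

/-!
# Induced representations and twists by linear characters
-/

set_option linter.style.haveILetI false
set_option linter.unusedSectionVars false

namespace Cfsg.Agent.LinearTwist

open Cfsg Cfsg.Agent.Char Cfsg.Agent.CharX
open scoped ComplexConjugate Classical Matrix

universe u

variable {G : Type u} [Group G] [Fintype G] {I : Subgroup G} [Fintype I] {m : ℕ}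
  (σ : Representation ℂ I (Fin m → ℂ))

/-- A representative of a left coset. -/
noncomputable def rep (c : G ⧸ I) : G := c.out

/-- The element of `I` attached to `g` and a coset. -/
noncomputable def cocycle (g : G) (d : G ⧸ I) : I :=
  ⟨(rep (g • d))⁻¹ * g * rep d, by
    have h : ((g * rep d : G) : G ⧸ I) = ((rep (g • d) : G) : G ⧸ I) := by
      simp only [rep, QuotientGroup.out_eq']
      conv_rhs => rw [← QuotientGroup.out_eq' d]
      rfl
    have := QuotientGroup.eq.1 h.symm
    rwa [← mul_assoc] at this⟩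

/-- The matrix of the induced representation. -/
noncomputable def indMat (g : G) : Matrix ((G ⧸ I) × Fin m) ((G ⧸ I) × Fin m) ℂ :=
  fun a b => if g • b.1 = a.1 then FSchur.repMat σ (cocycle g b.1) a.2 b.2 else 0

theorem indMat_one : indMat σ (1 : G) = 1 := by
  funext a b
  simp only [indMat, one_smul]
  have e : cocycle (1 : G) b.1 = 1 := Subtype.ext (by simp [cocycle])
  rw [e, FSchur.repMat_one, Matrix.one_apply, Matrix.one_apply]
  rcases a with ⟨c, i⟩; rcases b with ⟨d, j⟩
  by_cases h : d = c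
  · subst h; simp
  · simp [h, Ne.symm h]

theorem indMat_mul (g h : G) : indMat σ (g * h) = indMat σ g * indMat σ h := by
  funext a b
  rw [Matrix.mul_apply, Fintype.sum_prod_type, Finset.sum_eq_single (h • b.1)]
  · simp only [indMat, if_pos, mul_smul]
    have e : cocycle (g * h) b.1 = cocycle g (h • b.1) * cocycle h b.1 := Subtype.ext (by
      simp only [cocycle, Subgroup.coe_mul, mul_smul]; group)
    by_cases hg : g • h • b.1 = a.1
    · simp only [hg, if_true]
      rw [e, FSchur.repMat_mul, Matrix.mul_apply]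
    · simp [hg]
  · intro c _ hc
    refine Finset.sum_eq_zero fun j _ => ?_
    simp [indMat, Ne.symm hc]
  · exact fun hh => absurd (Finset.mem_univ _) hh

theorem trace_indMat (g : G) : (indMat σ g).trace = Cfsg.indFun I σ.character g := by
  have hI : (Nat.card I : ℂ) ≠ 0 := Nat.cast_ne_zero.2 Nat.card_pos.ne'
  rw [indFun_apply, ← Finset.sum_fiberwise Finset.univ (fun x : G => (x : G ⧸ I)), Finset.mul_sum,
    Matrix.trace, Fintype.sum_prod_type]
  refine Finset.sum_congr rfl fun d _ => ?_
  have hfib : ∑ x ∈ Finset.univ.filter (fun x : G => (x : G ⧸ I) = d),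
      Cfsg.extendByZero I σ.character (x⁻¹ * g * x) =
        (Nat.card I : ℂ) * Cfsg.extendByZero I σ.character ((rep d)⁻¹ * g * rep d) := by
    have hcard : (Finset.univ.filter fun x : G => (x : G ⧸ I) = d).card = Nat.card I := by
      rw [← Fintype.card_subtype, ← Nat.card_eq_fintype_card]
      refine Nat.card_congr
        { toFun := fun x => ⟨(rep d)⁻¹ * x.1, QuotientGroup.eq.1 (by
            rw [x.2]; simp [rep])⟩
          invFun := fun i => ⟨rep d * i, by
            rw [QuotientGroup.mk_mul_of_mem _ i.2]; simp [rep]⟩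
          left_inv := fun x => by simp
          right_inv := fun i => by simp }
    rw [← hcard, ← nsmul_eq_mul, ← Finset.sum_const]
    refine Finset.sum_congr rfl fun x hx => ?_
    obtain ⟨i, hi, rfl⟩ : ∃ i ∈ I, x = rep d * i := ⟨(rep d)⁻¹ * x, QuotientGroup.eq.1 (by
      rw [(Finset.mem_filter.1 hx).2]; simp [rep]), by group⟩
    rw [show (rep d * i)⁻¹ * g * (rep d * i) = i⁻¹ * ((rep d)⁻¹ * g * rep d) * i by group]
    set y := (rep d)⁻¹ * g * rep d with hy
    by_cases hyI : y ∈ I
    · rw [extendByZero_mem I _ hyI,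
        extendByZero_mem I _ (I.mul_mem (I.mul_mem (I.inv_mem hi) hyI) hi)]
      rw [show (⟨i⁻¹ * y * i, I.mul_mem (I.mul_mem (I.inv_mem hi) hyI) hi⟩ : I) =
        (⟨i, hi⟩ : I)⁻¹ * ⟨y, hyI⟩ * (⟨i, hi⟩ : I)⁻¹⁻¹ from Subtype.ext (by simp)]
      exact σ.char_conj _ _
    · rw [extendByZero_not_mem I _ hyI, extendByZero_not_mem I _ fun h => hyI ?_]
      have := I.mul_mem (I.mul_mem hi h) (I.inv_mem hi)
      convert this using 1; group
  rw [hfib, ← mul_assoc, inv_mul_cancel₀ hI, one_mul]
  by_cases hd : g • d = d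
  · have hmem : (rep d)⁻¹ * g * rep d ∈ I := by
      have := (cocycle g d).2
      simpa [cocycle, hd] using this
    rw [extendByZero_mem I _ hmem, ← FSchur.trace_repMat, Matrix.trace]
    refine Finset.sum_congr rfl fun i _ => ?_
    simp only [Matrix.diag, indMat, hd, if_true]
    exact congrArg (fun t => FSchur.repMat σ t i i) (Subtype.ext (by simp [cocycle, hd]))
  · rw [extendByZero_not_mem I _ fun hmem => hd ?_]
    · refine Finset.sum_eq_zero fun i _ => ?_
      simp [Matrix.diag, indMat, hd]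
    · conv_lhs => rw [← QuotientGroup.out_eq' d]
      conv_rhs => rw [← QuotientGroup.out_eq' d]
      refine QuotientGroup.eq.2 ?_
      have := I.inv_mem hmem
      convert this using 1
      simp [rep, mul_assoc]

/-- An induced irreducible character of an orthogonal representation has indicator one. -/
theorem indicator_indFun {ψ : I → ℂ} (hψ : Cfsg.IsIrrCharacter I ψ)
    (hν : (Nat.card I : ℂ)⁻¹ * ∑ h : I, ψ (h * h) = 1)
    (hirr : Cfsg.IsIrrCharacter G (Cfsg.indFun I ψ)) :
    (Nat.card G : ℂ)⁻¹ * ∑ g : G, Cfsg.indFun I ψ (g * g) = 1 := by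
  obtain ⟨m, σ, hσ, rfl⟩ := hψ
  have hreal : ∀ h, conj (σ.character h) = σ.character h := by
    by_contra hno
    rw [FSchur.indicator_eq_zero_of_not_real σ hσ hno] at hν
    exact zero_ne_one hν
  obtain ⟨N, hN, hN0⟩ := FSchur.exists_invForm σ hσ hreal
  have hNT : Nᵀ = N := by rw [FSchur.transpose_invForm σ hσ hreal hN, hν, one_smul]
  let e := Fintype.equivFin ((G ⧸ I) × Fin m)
  set n := Fintype.card ((G ⧸ I) × Fin m)
  let B : Matrix ((G ⧸ I) × Fin m) ((G ⧸ I) × Fin m) ℂ :=
    fun a b => if a.1 = b.1 then N a.2 b.2 else 0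
  let ρ : Representation ℂ G (Fin n → ℂ) :=
    { toFun := fun g => Matrix.toLin' ((indMat σ g).submatrix e.symm e.symm)
      map_one' := by
        rw [indMat_one, Matrix.submatrix_one_equiv, Matrix.toLin'_one]; rfl
      map_mul' := fun g h => by
        rw [indMat_mul, ← Matrix.submatrix_mul_equiv _ _ _ e.symm, Matrix.toLin'_mul]; rfl }
  have hrep : ∀ g, FSchur.repMat ρ g = (indMat σ g).submatrix e.symm e.symm := fun g =>
    LinearMap.toMatrix'_toLin' _
  have hch : ρ.character = Cfsg.indFun I σ.character := by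
    funext g
    rw [← FSchur.trace_repMat, hrep, ← trace_indMat, Matrix.trace, Matrix.trace]
    exact Fintype.sum_equiv e.symm _ _ fun i => rfl
  have hρ : ρ.IsIrreducible := isIrreducible_of_norm_one ρ (by rw [hch]; exact classInner_self_irr hirr)
  have hB : ∀ g, (indMat σ g)ᵀ * B * indMat σ g = B := by
    intro g
    funext a b
    have e1 : ∀ c : (G ⧸ I) × Fin m, ((indMat σ g)ᵀ * B) a c =
        if g • a.1 = c.1 then ((FSchur.repMat σ (cocycle g a.1))ᵀ * N) a.2 c.2 else 0 := by
      intro c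
      rw [Matrix.mul_apply, Fintype.sum_prod_type, Finset.sum_eq_single (g • a.1)]
      · by_cases h : g • a.1 = c.1
        · simp [B, indMat, h, Matrix.mul_apply]
        · simp [B, h]
      · intro x _ hx
        refine Finset.sum_eq_zero fun j _ => ?_
        simp [indMat, Ne.symm hx]
      · exact fun hh => absurd (Finset.mem_univ _) hh
    rw [Matrix.mul_apply, Fintype.sum_prod_type, Finset.sum_eq_single (g • b.1)]
    · by_cases h : a.1 = b.1
      · have := congrFun (congrFun (hN (cocycle g a.1)) a.2) b.2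
        simp only [B, h, if_true] at this ⊢
        rw [← this, Matrix.mul_apply]
        refine Finset.sum_congr rfl fun j _ => ?_
        rw [e1]
        simp [indMat, h]
      · simp only [B, h, if_false]
        refine Finset.sum_eq_zero fun j _ => ?_
        rw [e1, if_neg fun hh => h (MulAction.injective g hh)]
        simp
    · intro x _ hx
      refine Finset.sum_eq_zero fun j _ => ?_
      simp [indMat, Ne.symm hx]
    · exact fun hh => absurd (Finset.mem_univ _) hh
  have hB' : FSchur.IsInvForm ρ (B.submatrix e.symm e.symm) := fun g => by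
    rw [hrep, Matrix.transpose_submatrix, Matrix.submatrix_mul_equiv, Matrix.submatrix_mul_equiv, hB]
  have hB0 : B.submatrix e.symm e.symm ≠ 0 := by
    intro h
    refine hN0 (Matrix.ext fun i j => ?_)
    have := congrFun (congrFun h (e (((1 : G) : G ⧸ I), i))) (e (((1 : G) : G ⧸ I), j))
    change (if (e.symm (e (((1 : G) : G ⧸ I), i))).1 = (e.symm (e (((1 : G) : G ⧸ I), j))).1
      then N (e.symm (e (((1 : G) : G ⧸ I), i))).2 (e.symm (e (((1 : G) : G ⧸ I), j))).2 else 0) = 0 at this
    rwa [Equiv.symm_apply_apply, Equiv.symm_apply_apply, if_pos rfl] at this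
  have hBT : (B.submatrix e.symm e.symm)ᵀ = B.submatrix e.symm e.symm := by
    funext i j
    show (if (e.symm j).1 = (e.symm i).1 then N (e.symm j).2 (e.symm i).2 else 0) =
      if (e.symm i).1 = (e.symm j).1 then N (e.symm i).2 (e.symm j).2 else 0
    by_cases h : (e.symm i).1 = (e.symm j).1
    · rw [if_pos h, if_pos h.symm]
      exact congrFun (congrFun hNT (e.symm i).2) (e.symm j).2
    · rw [if_neg h, if_neg (Ne.symm h)]
  have hrl : ∀ g, conj (ρ.character g) = ρ.character g := by
    by_contra hno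
    have h0 := FSchur.indicator_eq_zero_of_not_real σ
    rw [hch] at hno
    refine hno fun g => ?_
    rw [indFun_apply, map_mul, map_inv₀, map_natCast, map_sum]
    refine congrArg _ (Finset.sum_congr rfl fun x _ => ?_)
    by_cases hx : x⁻¹ * g * x ∈ I
    · rw [extendByZero_mem I _ hx, hreal]
    · rw [extendByZero_not_mem I _ hx, map_zero]
  have h := FSchur.transpose_invForm ρ hρ hrl hB'
  rw [hBT] at h
  obtain ⟨i, j, hij⟩ : ∃ i j, B.submatrix e.symm e.symm i j ≠ 0 := by
    by_contra hh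
    push Not at hh
    exact hB0 (Matrix.ext hh)
  have h' := congrFun (congrFun h i) j
  rw [Matrix.smul_apply, smul_eq_mul] at h'
  have := (mul_eq_right₀ hij).1 h'.symm
  rw [hch] at this
  exact this

variable {N : Subgroup G} [N.Normal] [Fintype N]

/-- The twisting argument. -/
theorem card_linear_le (hperf : ∀ lam : IrrCharacter G, (lam : G → ℂ) 1 = 1 →
      ∀ n : N, (lam : G → ℂ) n = 1)
    {φ : N → ℂ} (hφ : Cfsg.IsIrrCharacter N φ) (hI : I = inertia N φ) (hNI : N ≤ I) {ψ : I → ℂ}
    (hψ : Cfsg.IsIrrCharacter I ψ) (hext : ∀ n : N, ψ ⟨n, hNI n.2⟩ = φ n)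
    (Q : IrrCharacter G → Prop)
    (hQ : ∀ (lam χ : IrrCharacter G), (lam : G → ℂ) 1 = 1 → Q lam →
      (χ : G → ℂ) = (lam : G → ℂ) * Cfsg.indFun I ψ → Q χ) :
    Nat.card {lam : IrrCharacter G // (lam : G → ℂ) 1 = 1 ∧ Q lam} ≤
      I.index * Nat.card {χ : IrrCharacter G // (χ : G → ℂ) 1 = φ 1 * (I.index : ℂ) ∧ Q χ} := by
  have hNI' : (N.subgroupOf I).Normal := Subgroup.Normal.subgroupOf inferInstance I
  haveI := hNI'
  haveI := Fintype.ofFinite (N.subgroupOf I)
  have hψ0 : classInner (fun n : N => ψ ⟨n, hNI n.2⟩) φ ≠ 0 := by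
    rw [show (fun n : N => ψ ⟨n, hNI n.2⟩) = φ from funext hext, classInner_self_irr hφ]
    exact one_ne_zero
  have hres : Cfsg.IsIrrCharacter (N.subgroupOf I) (fun n : N.subgroupOf I => ψ n) := by
    have h := IsIrrCharacter.comp hφ (Subgroup.subgroupOfEquivOfLe hNI).toMonoidHom
      (Subgroup.subgroupOfEquivOfLe hNI).surjective
    convert h using 1
    funext n
    exact hext (Subgroup.subgroupOfEquivOfLe hNI n)
  obtain ⟨hg1, hg2, -⟩ := gallagher_one (N.subgroupOf I) (IsIrrCharacter.isCharacter hψ) hres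
  have hmulcl : ∀ lam : IrrCharacter G, (lam : G → ℂ) 1 = 1 →
      ∃ f : G →* ℂˣ, (lam : G → ℂ) = fun g => (f g : ℂ) := fun lam h =>
    exists_hom_of_degree_one (IsIrrCharacter.isCharacter lam.2) h
  let res : IrrCharacter G → I → ℂ := fun lam i => (lam : G → ℂ) i
  have hresirr : ∀ lam : IrrCharacter G, (lam : G → ℂ) 1 = 1 → Cfsg.IsIrrCharacter I (res lam) := by
    intro lam h
    obtain ⟨f, hf⟩ := hmulcl lam h
    have := isIrrCharacter_linear (f.comp I.subtype)
    simpa [res, hf] using this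
  have htriv : ∀ lam : IrrCharacter G, (lam : G → ℂ) 1 = 1 → ∀ n : N.subgroupOf I,
      res lam n = res lam 1 := fun lam h n => by
    show (lam : G → ℂ) (n : I) = (lam : G → ℂ) (1 : I)
    rw [hperf lam h ⟨_, Subgroup.mem_subgroupOf.1 n.2⟩, OneMemClass.coe_one, h]
  have hprod : ∀ lam : IrrCharacter G, (lam : G → ℂ) 1 = 1 →
      Cfsg.IsIrrCharacter I (res lam * ψ) ∧ classInner (fun n : N => (res lam * ψ) ⟨n, hNI n.2⟩) φ ≠ 0 ∧
        (lam : G → ℂ) * Cfsg.indFun I ψ = Cfsg.indFun I (res lam * ψ) := by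
    intro lam h
    refine ⟨hg1 ⟨_, hresirr lam h⟩ (htriv lam h), ?_, ?_⟩
    · rwa [show (fun n : N => (res lam * ψ) ⟨n, hNI n.2⟩) = fun n : N => ψ ⟨n, hNI n.2⟩ from
        funext fun n => by simp [res, hperf lam h n]]
    · rw [mul_indFun I (IsCharacter.isClassFunction (IsIrrCharacter.isCharacter lam.2))]
      rfl
  have hirr : ∀ lam : IrrCharacter G, (lam : G → ℂ) 1 = 1 →
      Cfsg.IsIrrCharacter G ((lam : G → ℂ) * Cfsg.indFun I ψ) := fun lam h => by
    obtain ⟨h1, h2, h3⟩ := hprod lam h
    rw [h3]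
    exact (clifford_correspondence N hφ hI hNI h1 h2).1
  let F : {lam : IrrCharacter G // (lam : G → ℂ) 1 = 1 ∧ Q lam} →
      {χ : IrrCharacter G // (χ : G → ℂ) 1 = φ 1 * (I.index : ℂ) ∧ Q χ} := fun lam =>
    ⟨⟨_, hirr lam.1 lam.2.1⟩, by
      show (lam.1 : G → ℂ) 1 * Cfsg.indFun I ψ 1 = _
      rw [lam.2.1, one_mul, indFun_one_apply,
        show ψ 1 = φ 1 from (congrArg ψ (Subtype.ext rfl)).trans (hext 1), mul_comm],
      hQ lam.1 _ lam.2.1 lam.2.2 rfl⟩
  rw [Nat.card_eq_fintype_card, Nat.card_eq_fintype_card, ← Finset.card_univ, ← Finset.card_univ]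
  refine Finset.card_le_mul_card_image_of_maps_to (f := F) (fun _ _ => Finset.mem_univ _) _
    fun χ _ => ?_
  -- a fibre injects into the linear characters trivial on `I`
  rcases (Finset.univ.filter fun lam => F lam = χ).eq_empty_or_nonempty with h0 | ⟨l0, hl0⟩
  · rw [h0]; simp
  obtain ⟨f0, hf0⟩ := hmulcl l0.1 l0.2.1
  let D : {lam : IrrCharacter G // (lam : G → ℂ) 1 = 1 ∧ Q lam} → IrrCharacter G := fun lam =>
    ⟨fun g => (lam.1 : G → ℂ) g * ((f0 g)⁻¹ : ℂˣ), by
      obtain ⟨f, hf⟩ := hmulcl lam.1 lam.2.1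
      have := isIrrCharacter_linear (f * f0⁻¹)
      simpa [hf] using this⟩
  have hD : ∀ lam ∈ Finset.univ.filter (fun lam => F lam = χ), ∀ i : I, (D lam : G → ℂ) i = 1 := by
    intro lam hlam i
    have h1 := congrArg (fun t : {χ : IrrCharacter G // (χ : G → ℂ) 1 = φ 1 * (I.index : ℂ) ∧ Q χ} =>
      (t.1 : G → ℂ)) ((Finset.mem_filter.1 hlam).2.trans (Finset.mem_filter.1 hl0).2.symm)
    change (lam.1 : G → ℂ) * Cfsg.indFun I ψ = (l0.1 : G → ℂ) * Cfsg.indFun I ψ at h1
    obtain ⟨a1, a2, a3⟩ := hprod lam.1 lam.2.1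
    obtain ⟨b1, b2, b3⟩ := hprod l0.1 l0.2.1
    rw [a3, b3] at h1
    have h2 := clifford_correspondence_injective N hφ hI hNI a1 b1 a2 b2 h1
    have h3 := congrArg Subtype.val (hg2 ⟨_, hresirr lam.1 lam.2.1⟩ ⟨_, hresirr l0.1 l0.2.1⟩
      (htriv _ lam.2.1) (htriv _ l0.2.1) h2)
    have h4 := congrFun h3 i
    simp only [res] at h4
    show (lam.1 : G → ℂ) i * ((f0 (i : G))⁻¹ : ℂˣ) = 1
    rw [h4, hf0]
    simp
  have hpi := isCharacter_indFun (G := G) I (isCharacter_one (G := I))
  have h := sum_constituents_le hpi ((Finset.univ.filter fun lam => F lam = χ).image D)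
    (fun _ => 1) ?_ (fun χ => Cfsg.charDegree (χ : G → ℂ)) irr_deg I.index
    (by rw [indFun_one_apply, mul_one])
  · have hinj : Function.Injective D := fun a b hab =>
      Subtype.ext (Subtype.ext (funext fun g =>
        mul_right_cancel₀ (Units.ne_zero _) (congrFun (congrArg Subtype.val hab) g)))
    calc (Finset.univ.filter fun lam => F lam = χ).card
        = ((Finset.univ.filter fun lam => F lam = χ).image D).card :=
          (Finset.card_image_of_injective _ hinj).symm
      _ = ∑ _ξ ∈ (Finset.univ.filter fun lam => F lam = χ).image D, 1 := Finset.card_eq_sum_ones _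
      _ ≤ _ := Finset.sum_le_sum fun ξ _ => by rw [one_mul]; exact irr_deg_pos ξ
      _ ≤ I.index := h
  · intro ξ hξ
    obtain ⟨lam, hlam, rfl⟩ := Finset.mem_image.1 hξ
    rw [classInner_indFun_left I _ (IsCharacter.isClassFunction (IsIrrCharacter.isCharacter (D lam).2)),
      Nat.cast_one, Cfsg.classInner]
    simp only [hD lam hlam, one_mul, map_one, Finset.sum_const, Finset.card_univ, nsmul_eq_mul,
      mul_one, ← Nat.card_eq_fintype_card]
    exact inv_mul_cancel₀ (Nat.cast_ne_zero.2 Nat.card_pos.ne')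

/-- Linear characters are trivial on a non-abelian minimal normal subgroup. -/
theorem linear_trivial (hmin : ∀ M : Subgroup G, M.Normal → M ≤ N → M = ⊥ ∨ M = N)
    (hna : ¬ IsMulCommutative N) (lam : IrrCharacter G) (h : (lam : G → ℂ) 1 = 1) (n : N) :
    (lam : G → ℂ) n = 1 := by
  obtain ⟨f, hf⟩ := exists_hom_of_degree_one (IsIrrCharacter.isCharacter lam.2) h
  have hN : ⁅N, N⁆ = N := by
    refine (hmin ⁅N, N⁆ (Subgroup.commutator_normal N N)
      (Subgroup.commutator_le_left N N)).resolve_left fun h0 => hna ⟨⟨fun a b => ?_⟩⟩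
    have := Subgroup.commutator_mem_commutator a.2 b.2
    rw [h0, Subgroup.mem_bot, commutatorElement_eq_one_iff_mul_comm] at this
    exact Subtype.ext this
  have hker : N ≤ f.ker := by
    rw [← hN, Subgroup.commutator_le]
    intro a _ b _
    rw [MonoidHom.mem_ker, map_commutatorElement]
    exact commutatorElement_eq_one_iff_mul_comm.2 (mul_comm _ _)
  rw [hf]
  simp [MonoidHom.mem_ker.1 (hker n.2)]

end Cfsg.Agent.LinearTwist
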