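import Cfsg.Agent.Lib.Char.Induction
import Cfsg.Agent.Lib.Char.Complete
import Cfsg.Agent.Lib.Small.ClassCount

/-!
A local model of a TI set: a finite group `H` embedded in `G` together with a subset `D` of `H`
such that every element of `G` mapping one member of `D` to another lies in the image of `H`.
The multiplicities in the irreducible characters of `G` of virtual characters of `H` supported
on `D` are then orthogonal exactly as in `H`, and they annihilate the classes that miss `D`.
-/

set_option autoImplicit false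
set_option linter.unusedSectionVars false
set_option linter.style.haveILetI false

namespace Cfsg.Agent.LocalTI

open Cfsg Cfsg.Agent.Char
open scoped ComplexConjugate

universe u v

variable {G : Type u} [Group G] {H : Type v} [Group H]

/-- `ι` embeds `H` and `D` behaves in `G` like a TI set with normaliser `H`. -/
structure Emb (ι : H →* G) (D : H → Prop) : Prop where
  inj : Function.Injective ι
  ti : ∀ h h' : H, D h → D h' → ∀ g : G, g * ι h * g⁻¹ = ι h' → g ∈ ι.range

/-- An integral virtual character of `H` supported on `D`. -/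
structure Vanish (D : H → Prop) (v : H → ℤ) : Prop where
  cls : ∀ g h : H, v (h * g * h⁻¹) = v g
  supp : ∀ h, v h ≠ 0 → D h
  gen : Cfsg.IsGeneralizedCharacter H (fun h => (v h : ℂ))

variable {ι : H →* G} {D : H → Prop}

/-- Fusion in `D` is controlled by `H`. -/
theorem Emb.isConj (E : Emb ι D) {h h' : H} (hh : D h) (hh' : D h') (hc : IsConj (ι h) (ι h')) :
    IsConj h h' := by
  obtain ⟨g, hg⟩ := isConj_iff.1 hc
  obtain ⟨k, rfl⟩ := E.ti h h' hh hh' g hg
  exact isConj_iff.2 ⟨k, E.inj (by simpa using hg)⟩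

/-- The centraliser of a member of `D` lies in the image. -/
theorem Emb.mem_range_of_commute (E : Emb ι D) {h : H} (hh : D h) {g : G}
    (hc : g * ι h = ι h * g) : g ∈ ι.range :=
  E.ti h h hh hh g (by rw [hc, mul_inv_cancel_right])

variable [Fintype G] [Fintype H]

theorem exists_coef {v : H → ℤ} (hv : Vanish D v) (ι : H →* G) (χ : IrrCharacter G) :
    ∃ n : ℤ, (n : ℂ) * (Fintype.card H : ℂ) = ∑ h, (v h : ℂ) * conj ((χ : G → ℂ) (ι h)) := by
  obtain ⟨n, hn⟩ := IsGeneralizedCharacter.exists_classInner_int hv.gen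
    (IsGeneralizedCharacter.of_isCharacter
      (IsCharacter.comp (IsIrrCharacter.isCharacter χ.2) ι))
  refine ⟨n, ?_⟩
  rw [← hn, Cfsg.classInner, Nat.card_eq_fintype_card]
  field_simp

/-- The multiplicity of `χ` in the virtual character induced by `v`. -/
noncomputable def coef {v : H → ℤ} (hv : Vanish D v) (ι : H →* G) (χ : IrrCharacter G) : ℤ :=
  Classical.choose (exists_coef hv ι χ)

theorem coef_spec {v : H → ℤ} (hv : Vanish D v) (ι : H →* G) (χ : IrrCharacter G) :
    (coef hv ι χ : ℂ) * (Fintype.card H : ℂ) = ∑ h, (v h : ℂ) * conj ((χ : G → ℂ) (ι h)) :=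
  Classical.choose_spec (exists_coef hv ι χ)

/-- The multiplicity of the principal character. -/
theorem coef_one {v : H → ℤ} (hv : Vanish D v) (ι : H →* G) {χ : IrrCharacter G}
    (hχ : ∀ g, (χ : G → ℂ) g = 1) : coef hv ι χ * (Fintype.card H : ℤ) = ∑ h, v h := by
  have h := coef_spec hv ι χ
  simp only [hχ, map_one, mul_one] at h
  exact_mod_cast h

open scoped Classical in
theorem Emb.fibre (E : Emb ι D) {h h' : H} (hh : D h) (hh' : D h') :
    (Finset.univ.filter fun x : G => x * ι h * x⁻¹ = ι h').card =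
      (Finset.univ.filter fun x : H => x * h * x⁻¹ = h').card := by
  rw [← Finset.card_image_of_injective (Finset.univ.filter fun x : H => x * h * x⁻¹ = h') E.inj]
  congr 1
  ext g
  simp only [Finset.mem_filter, Finset.mem_univ, true_and, Finset.mem_image]
  constructor
  · intro hg
    obtain ⟨k, rfl⟩ := E.ti h h' hh hh' g hg
    exact ⟨k, E.inj (by simpa using hg), rfl⟩
  · rintro ⟨k, hk, rfl⟩
    rw [← map_inv, ← map_mul, ← map_mul, hk]

/-- Orthogonality: induction is an isometry on virtual characters supported on `D`. -/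
theorem orth (E : Emb ι D) {v w : H → ℤ} (hv : Vanish D v) (hw : Vanish D w) :
    (∑ χ, coef hv ι χ * coef hw ι χ) * (Fintype.card H : ℤ) = ∑ h, v h * w h := by
  classical
  have key : ∀ h h' : H, (v h : ℂ) * (w h' : ℂ) * ∑ χ : IrrCharacter G,
      (χ : G → ℂ) (ι h') * conj ((χ : G → ℂ) (ι h)) =
      (v h : ℂ) * (w h' : ℂ) *
        ((Finset.univ.filter fun x : H => x * h * x⁻¹ = h').card : ℂ) := by
    intro h h'
    by_cases h0 : v h = 0
    · simp [h0]
    by_cases h1 : w h' = 0
    · simp [h1]
    rw [column_orth_count, E.fibre (hv.supp h h0) (hw.supp h' h1)]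
  have e : ((∑ χ, coef hv ι χ * coef hw ι χ : ℤ) : ℂ) * (Fintype.card H : ℂ) *
      (Fintype.card H : ℂ) = ((∑ h, v h * w h : ℤ) : ℂ) * (Fintype.card H : ℂ) := by
    push_cast
    calc (∑ χ, (coef hv ι χ : ℂ) * (coef hw ι χ : ℂ)) * (Fintype.card H : ℂ) *
          (Fintype.card H : ℂ)
        = ∑ χ, ((coef hv ι χ : ℂ) * (Fintype.card H : ℂ)) *
            conj ((coef hw ι χ : ℂ) * (Fintype.card H : ℂ)) := by
          rw [Finset.sum_mul, Finset.sum_mul]
          refine Finset.sum_congr rfl fun χ _ => ?_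
          rw [map_mul, map_intCast, map_natCast]
          ring
      _ = ∑ χ : IrrCharacter G, ∑ h, ∑ h', (v h : ℂ) * (w h' : ℂ) *
            ((χ : G → ℂ) (ι h') * conj ((χ : G → ℂ) (ι h))) := by
          refine Finset.sum_congr rfl fun χ _ => ?_
          rw [coef_spec, coef_spec, map_sum, Finset.sum_mul_sum]
          refine Finset.sum_congr rfl fun h _ => Finset.sum_congr rfl fun h' _ => ?_
          rw [map_mul, Complex.conj_conj, map_intCast]
          ring
      _ = ∑ h, ∑ h', (v h : ℂ) * (w h' : ℂ) *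
            ((Finset.univ.filter fun x : H => x * h * x⁻¹ = h').card : ℂ) := by
          rw [Finset.sum_comm]
          refine Finset.sum_congr rfl fun h _ => ?_
          rw [Finset.sum_comm]
          exact Finset.sum_congr rfl fun h' _ => by rw [← key, Finset.mul_sum]
      _ = ∑ h, (v h : ℂ) * ∑ x : H, (w (x * h * x⁻¹) : ℂ) := by
          refine Finset.sum_congr rfl fun h _ => ?_
          rw [← Finset.sum_fiberwise Finset.univ (fun x : H => x * h * x⁻¹)
            (fun x => (w (x * h * x⁻¹) : ℂ)), Finset.mul_sum]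
          refine Finset.sum_congr rfl fun h' _ => ?_
          rw [Finset.sum_congr rfl (fun x hx => by rw [(Finset.mem_filter.1 hx).2] : ∀ x ∈ _,
            (w (x * h * x⁻¹) : ℂ) = (w h' : ℂ)), Finset.sum_const, nsmul_eq_mul]
          ring
      _ = _ := by
          simp only [hw.cls, Finset.sum_const, Finset.card_univ, nsmul_eq_mul]
          rw [Finset.sum_mul]
          exact Finset.sum_congr rfl fun h _ => by ring
  have hH : (Fintype.card H : ℂ) ≠ 0 := Nat.cast_ne_zero.2 Fintype.card_ne_zero
  exact_mod_cast mul_right_cancel₀ hH e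

/-- The induced virtual character vanishes on classes missing `D`. -/
theorem vanish {v : H → ℤ} (hv : Vanish D v) {y : G} (hy : ∀ h, D h → ¬ IsConj y (ι h)) :
    ∑ χ, (coef hv ι χ : ℂ) * (χ : G → ℂ) y = 0 := by
  have hH : (Fintype.card H : ℂ) ≠ 0 := Nat.cast_ne_zero.2 Fintype.card_ne_zero
  refine (mul_left_inj' hH).1 ?_
  rw [zero_mul, Finset.sum_mul]
  calc ∑ χ, (coef hv ι χ : ℂ) * (χ : G → ℂ) y * (Fintype.card H : ℂ)
      = ∑ χ : IrrCharacter G, ∑ h, (v h : ℂ) * ((χ : G → ℂ) y * conj ((χ : G → ℂ) (ι h))) := by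
        refine Finset.sum_congr rfl fun χ _ => ?_
        rw [mul_right_comm, coef_spec, Finset.sum_mul]
        exact Finset.sum_congr rfl fun h _ => by ring
    _ = 0 := by
        rw [Finset.sum_comm]
        refine Finset.sum_eq_zero fun h _ => ?_
        rw [← Finset.mul_sum]
        by_cases h0 : v h = 0
        · simp [h0]
        rw [column_orth_of_not_isConj (hy h (hv.supp h h0)), mul_zero]

/-- The defining sum, collected along representatives of the classes in `D`. -/
theorem coef_classes {v : H → ℤ} (hv : Vanish D v) (ι : H →* G) (χ : IrrCharacter G) {n : ℕ}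
    (rep : Fin n → H) (cl : H → Fin n)
    (hcl : ∀ h, v h ≠ 0 → ∃ k, k * rep (cl h) * k⁻¹ = h) :
    (coef hv ι χ : ℂ) * (Fintype.card H : ℂ) =
      ∑ i, ((∑ h ∈ Finset.univ.filter (fun h => cl h = i), v h : ℤ) : ℂ) *
        conj ((χ : G → ℂ) (ι (rep i))) := by
  rw [coef_spec, ← Finset.sum_fiberwise Finset.univ cl]
  refine Finset.sum_congr rfl fun i _ => ?_
  push_cast
  rw [Finset.sum_mul]
  refine Finset.sum_congr rfl fun h hh => ?_
  by_cases h0 : v h = 0
  · simp [h0]
  obtain ⟨k, hk⟩ := hcl h h0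
  rw [(Finset.mem_filter.1 hh).2] at hk
  rw [← hk, map_mul, map_mul, map_inv,
    IsCharacter.isClassFunction (IsIrrCharacter.isCharacter χ.2)]

/-- Values at real classes. -/
theorem conj_value (ι : H →* G) (χ : IrrCharacter G) {h : H} (hh : IsConj h h⁻¹) :
    conj ((χ : G → ℂ) (ι h)) = (χ : G → ℂ) (ι h) := by
  obtain ⟨k, hk⟩ := isConj_iff.1 hh
  have h1 := IsCharacter.inv (IsIrrCharacter.isCharacter χ.2) (ι h)
  rw [← map_inv, ← hk, map_mul, map_mul, map_inv,
    IsCharacter.isClassFunction (IsIrrCharacter.isCharacter χ.2)] at h1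
  exact h1.symm

/-- A class multiplication coefficient that vanishes. -/
theorem count_zero (c d x : G) (hno : ∀ a : G, IsConj c a → ¬ IsConj d (a⁻¹ * x)) :
    ∑ ξ : IrrCharacter G,
      (ξ : G → ℂ) c * (ξ : G → ℂ) d * conj ((ξ : G → ℂ) x) / (ξ : G → ℂ) 1 = 0 := by
  have h := ClassCount.pair_count c d x
  rw [Nat.card_eq_zero.2 (Or.inl ⟨fun a => hno a.1 a.2.1 a.2.2⟩), Nat.cast_zero, zero_mul,
    zero_mul] at h
  exact (mul_eq_zero.1 h.symm).resolve_left (Nat.cast_ne_zero.2 Nat.card_pos.ne')

end Cfsg.Agent.LocalTI
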