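import Cfsg.Agent.Lib.Char.ThompsonComplement
import Cfsg.Agent.Lib.Char.Degree
import Cfsg.Agent.Lib.Solvable.Coprime
import Cfsg.Agent.Lib.Solvable.FixedPointFree
import Mathlib.GroupTheory.SchurZassenhaus

/-!
# Groups whose characters are multiplicative on elements of coprime prime power orders
-/

set_option autoImplicit false
set_option linter.style.haveILetI false
set_option linter.unusedSectionVars false

namespace Cfsg.Agent.Char.MulCop

open scoped Classical commutatorElement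
open Complex
open Cfsg.Agent.CharX

universe u

variable {G : Type u} [Group G] [Finite G]

theorem sum_conj_mul [Fintype G] (χ : Cfsg.IrrCharacter G) (x y : G) :
    ∑ h : G, (χ : G → ℂ) (h * x * h⁻¹ * y) =
      (Nat.card G : ℂ) * (χ : G → ℂ) x * (χ : G → ℂ) y / (χ : G → ℂ) 1 := by
  obtain ⟨n, ρ, hρ, hχ⟩ := χ.2
  haveI := hρ
  set A : Module.End ℂ (Fin n → ℂ) := ∑ h : G, ρ (h * x * h⁻¹) with hA
  have hcomm : ∀ g : G, ρ g * A = A * ρ g := fun g => by
    rw [hA, Finset.mul_sum, Finset.sum_mul]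
    refine Fintype.sum_equiv (Equiv.mulLeft g) _ _ fun h => ?_
    rw [← map_mul, ← map_mul, Equiv.coe_mulLeft]
    congr 1
    group
  obtain ⟨c, hc⟩ := schur_scalar ρ A fun g v => (LinearMap.congr_fun (hcomm g) v).symm
  have h1 : LinearMap.trace ℂ _ A = (Nat.card G : ℂ) * (χ : G → ℂ) x := by
    rw [hA, map_sum, Finset.sum_congr rfl (fun h _ => ?_), Finset.sum_const, Finset.card_univ,
      ← Nat.card_eq_fintype_card, nsmul_eq_mul]
    show ρ.character (h * x * h⁻¹) = _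
    rw [Representation.char_conj, ← hχ]
  have h2 : LinearMap.trace ℂ _ A = c * n := by
    rw [hc, map_smul, LinearMap.trace_id, smul_eq_mul, Module.finrank_fin_fun]
  have hn : (χ : G → ℂ) 1 = (n : ℂ) := by
    rw [← hχ, Representation.char_one]; simp
  have hn0 : (n : ℂ) ≠ 0 := hn ▸ IsIrrCharacter.one_ne_zero χ.2
  have h3 : LinearMap.trace ℂ _ (A * ρ y) = ∑ h : G, (χ : G → ℂ) (h * x * h⁻¹ * y) := by
    rw [hA, Finset.sum_mul, map_sum]
    refine Finset.sum_congr rfl fun h _ => ?_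
    rw [← map_mul, ← hχ]
    rfl
  rw [← h3, hc, smul_mul_assoc, map_smul, smul_eq_mul, ← Module.End.one_eq_id, one_mul, hn,
    eq_div_iff hn0, ← hχ]
  show c * ρ.character y * n = _
  rw [hχ, mul_comm c, mul_assoc, ← h2, h1]
  ring

/-- The hypothesis of the multiplicativity. -/
def Mult (G : Type u) [Group G] : Prop :=
  ∀ (x y : G) (χ : Cfsg.IrrCharacter G), x ≠ 1 → y ≠ 1 →
    (∃ p q a b : ℕ, p.Prime ∧ q.Prime ∧ p ≠ q ∧ orderOf x = p ^ a ∧ orderOf y = q ^ b) →
    (χ : G → ℂ) (x * y) = (χ : G → ℂ) x * (χ : G → ℂ) y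

theorem eq_zero_or (hG : Mult G) {x y : G} (hx : x ≠ 1) (hy : y ≠ 1) {p q a b : ℕ} (hp : p.Prime)
    (hq : q.Prime) (hpq : p ≠ q) (hxo : orderOf x = p ^ a) (hyo : orderOf y = q ^ b)
    (χ : Cfsg.IrrCharacter G) (hnl : (χ : G → ℂ) 1 ≠ 1) : (χ : G → ℂ) x = 0 ∨ (χ : G → ℂ) y = 0 := by
  haveI : Fintype G := Fintype.ofFinite G
  have hcf := IsCharacter.isClassFunction (IsIrrCharacter.isCharacter χ.2)
  have h := sum_conj_mul χ x y
  rw [Finset.sum_congr rfl (fun g _ => show (χ : G → ℂ) (g * x * g⁻¹ * y) =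
      (χ : G → ℂ) x * (χ : G → ℂ) y from by
    rw [hG (g * x * g⁻¹) y χ (fun e => hx (conj_eq_one_iff.1 e)) hy ⟨p, q, a, b, hp, hq, hpq,
      by rw [← hxo]; exact orderOf_injective (MulAut.conj g).toMonoidHom (MulAut.conj g).injective x, hyo⟩,
      hcf x g]),
    Finset.sum_const, Finset.card_univ, ← Nat.card_eq_fintype_card, nsmul_eq_mul, mul_assoc,
    eq_div_iff (IsIrrCharacter.one_ne_zero χ.2)] at h
  by_contra hcon
  rw [← mul_eq_zero] at hcon
  have hG0 : (Nat.card G : ℂ) ≠ 0 := Nat.cast_ne_zero.2 Nat.card_pos.ne'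
  exact hnl (mul_left_cancel₀ (mul_ne_zero hG0 hcon) (h.trans (mul_one _).symm))

theorem card_dvd_deg (Q : Subgroup G) (χ : Cfsg.IrrCharacter G)
    (hvan : ∀ x ∈ Q, x ≠ 1 → (χ : G → ℂ) x = 0) : Nat.card Q ∣ Cfsg.charDegree (χ : G → ℂ) := by
  haveI : Fintype Q := Fintype.ofFinite Q
  obtain ⟨k, hk⟩ := IsCharacter.exists_classInner_nat
    (IsCharacter.restrict (IsIrrCharacter.isCharacter χ.2) Q) (isCharacter_one (G := Q))
  rw [Cfsg.classInner, Finset.sum_eq_single (1 : Q)] at hk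
  · simp only [OneMemClass.coe_one, map_one, mul_one] at hk
    rw [inv_mul_eq_iff_eq_mul₀ (Nat.cast_ne_zero.2 Nat.card_pos.ne'), irr_deg] at hk
    exact ⟨k, by exact_mod_cast hk⟩
  · intro x _ hx
    rw [map_one, mul_one]
    exact hvan x x.2 fun e => hx (Subtype.ext e)
  · exact fun h => absurd (Finset.mem_univ _) h

theorem deg_sq_lt (χ : Cfsg.IrrCharacter G) (h : (χ : G → ℂ) 1 ≠ 1) :
    Cfsg.charDegree (χ : G → ℂ) * Cfsg.charDegree (χ : G → ℂ) < Nat.card G := by
  haveI : Fintype G := Fintype.ofFinite G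
  have hne : χ ≠ principal G := fun e => h (by rw [e]; rfl)
  have hs := sum_deg_sq (G := G)
  have := Finset.add_le_sum (f := fun χ : Cfsg.IrrCharacter G => Cfsg.charDegree (χ : G → ℂ) ^ 2)
    (fun _ _ => Nat.zero_le _) (Finset.mem_univ χ) (Finset.mem_univ (principal G)) hne
  rw [hs, show Cfsg.charDegree ((principal G : Cfsg.IrrCharacter G) : G → ℂ) = 1 from charDegree_one] at this
  rw [← pow_two]
  omega

/-- The only prime where a given nonlinear character is not of defect zero. -/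
theorem exists_prime (hG : Mult G) (χ : Cfsg.IrrCharacter G) (h : (χ : G → ℂ) 1 ≠ 1) :
    ∃ r, r.Prime ∧ Nat.card G / r ^ (Nat.card G).factorization r ∣ Cfsg.charDegree (χ : G → ℂ) ∧
      ∀ q, q.Prime → q ≠ r → ∀ x : G, x ≠ 1 → (∃ b, orderOf x = q ^ b) → (χ : G → ℂ) x = 0 := by
  set N := Nat.card G
  have hN : N ≠ 0 := Nat.card_pos.ne'
  by_cases hall : ∀ q, q.Prime → ∀ x : G, x ≠ 1 → (∃ b, orderOf x = q ^ b) → (χ : G → ℂ) x = 0
  · exfalso
    have hdvd : N ∣ Cfsg.charDegree (χ : G → ℂ) := by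
      refine (Nat.dvd_iff_prime_pow_dvd_dvd _ _).2 fun q k hq hqk => ?_
      haveI := Fact.mk hq
      obtain ⟨Q⟩ : Nonempty (Sylow q G) := inferInstance
      refine dvd_trans ?_ (card_dvd_deg (Q : Subgroup G) χ fun x hx hx1 => hall q hq x hx1 ?_)
      · rw [Q.card_eq_multiplicity]
        exact pow_dvd_pow q ((hq.pow_dvd_iff_le_factorization hN).1 hqk)
      · obtain ⟨b, hb⟩ := IsPGroup.iff_orderOf.mp Q.isPGroup' ⟨x, hx⟩
        exact ⟨b, by rw [← hb, Subgroup.orderOf_mk]⟩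
    have h1 := Nat.le_of_dvd (irr_deg_pos χ) hdvd
    have h2 := deg_sq_lt χ h
    have := Nat.le_mul_self (Cfsg.charDegree (χ : G → ℂ))
    omega
  push Not at hall
  obtain ⟨r, hr, x, hx1, ⟨a, hxo⟩, hx⟩ := hall
  have hvan : ∀ q, q.Prime → q ≠ r → ∀ y : G, y ≠ 1 → (∃ b, orderOf y = q ^ b) → (χ : G → ℂ) y = 0 := by
    intro q hq hqr y hy ⟨b, hb⟩
    exact (eq_zero_or hG hx1 hy hr hq (Ne.symm hqr) hxo hb χ h).resolve_left hx
  refine ⟨r, hr, ?_, hvan⟩
  refine (Nat.dvd_iff_prime_pow_dvd_dvd _ _).2 fun q k hq hqk => ?_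
  haveI := Fact.mk hq
  rcases Nat.eq_zero_or_pos k with rfl | hk
  · simp
  have hqr : q ≠ r := by
    rintro rfl
    exact Nat.not_dvd_ordCompl hq hN ((dvd_pow_self q hk.ne').trans hqk)
  obtain ⟨Q⟩ : Nonempty (Sylow q G) := inferInstance
  refine dvd_trans ?_ (card_dvd_deg (Q : Subgroup G) χ fun y hy hy1 => hvan q hq hqr y hy1 ?_)
  · rw [Q.card_eq_multiplicity]
    exact pow_dvd_pow q ((hq.pow_dvd_iff_le_factorization hN).1 (hqk.trans (Nat.ordCompl_dvd N r)))
  · obtain ⟨b, hb⟩ := IsPGroup.iff_orderOf.mp Q.isPGroup' ⟨y, hy⟩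
    exact ⟨b, by rw [← hb, Subgroup.orderOf_mk]⟩

/-- The centraliser of an element on which every nonlinear character vanishes. -/
theorem card_centralizer_eq {g : G} (hvan : ∀ χ : Cfsg.IrrCharacter G, (χ : G → ℂ) 1 ≠ 1 → (χ : G → ℂ) g = 0) :
    Nat.card (Subgroup.centralizer ({g} : Set G)) = (commutator G).index := by
  haveI : Fintype G := Fintype.ofFinite G
  have h := column_orth_of_isConj (IsConj.refl g)
  rw [← Finset.sum_filter_add_sum_filter_not Finset.univ (fun χ : Cfsg.IrrCharacter G => (χ : G → ℂ) 1 = 1),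
    Finset.sum_eq_zero (s := Finset.univ.filter fun χ : Cfsg.IrrCharacter G => ¬ (χ : G → ℂ) 1 = 1)
      (fun χ hχ => by rw [hvan χ (Finset.mem_filter.1 hχ).2, zero_mul]), add_zero] at h
  rw [Finset.sum_congr rfl (fun χ hχ => ?_), Finset.sum_const, nsmul_eq_mul, mul_one, Nat.cast_inj,
    ← Fintype.card_subtype, ← Nat.card_eq_fintype_card, card_linear] at h
  · exact h.symm
  · obtain ⟨f, hf⟩ := exists_hom_of_degree_one (IsIrrCharacter.isCharacter χ.2) (Finset.mem_filter.1 hχ).2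
    have hn : ‖((f g : ℂˣ) : ℂ)‖ = 1 := norm_eq_one_of_pow (isOfFinOrder_of_finite g).orderOf_pos.ne'
      (by rw [← Units.val_pow_eq_pow_val, ← map_pow, pow_orderOf_eq_one, map_one, Units.val_one])
    rw [hf, Complex.mul_conj']
    rw [hn]; simp

/-- Vanishing of all nonlinear characters, from the order of the centraliser. -/
theorem vanish_of_card_le {g : G} (hle : Nat.card (Subgroup.centralizer ({g} : Set G)) ≤ (commutator G).index)
    (χ : Cfsg.IrrCharacter G) (hχ : (χ : G → ℂ) 1 ≠ 1) : (χ : G → ℂ) g = 0 := by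
  haveI : Fintype G := Fintype.ofFinite G
  have h := column_orth_of_isConj (IsConj.refl g)
  have hnorm : ∀ ψ : Cfsg.IrrCharacter G, (ψ : G → ℂ) g * (starRingEnd ℂ) ((ψ : G → ℂ) g) =
      ((Complex.normSq ((ψ : G → ℂ) g) : ℝ) : ℂ) := fun ψ => Complex.mul_conj _
  rw [Finset.sum_congr rfl (fun ψ _ => hnorm ψ), ← Complex.ofReal_sum, ← Complex.ofReal_natCast,
    Complex.ofReal_inj,
    ← Finset.sum_filter_add_sum_filter_not Finset.univ (fun χ : Cfsg.IrrCharacter G => (χ : G → ℂ) 1 = 1),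
    Finset.sum_congr rfl (fun ψ hψ => ?_), Finset.sum_const, nsmul_eq_mul, mul_one,
    ← Fintype.card_subtype, ← Nat.card_eq_fintype_card, card_linear] at h
  · have h1 : (Nat.card (Subgroup.centralizer ({g} : Set G)) : ℝ) ≤ ((commutator G).index : ℝ) := by
      exact_mod_cast hle
    have h2 := Finset.single_le_sum
      (f := fun ψ : Cfsg.IrrCharacter G => Complex.normSq ((ψ : G → ℂ) g))
      (fun ψ _ => Complex.normSq_nonneg _)
      (show χ ∈ Finset.univ.filter (fun ψ : Cfsg.IrrCharacter G => ¬ (ψ : G → ℂ) 1 = 1) by simp [hχ])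
    exact Complex.normSq_eq_zero.1 (le_antisymm (by linarith) (Complex.normSq_nonneg _))
  · obtain ⟨f, hf⟩ := exists_hom_of_degree_one (IsIrrCharacter.isCharacter ψ.2) (Finset.mem_filter.1 hψ).2
    have hn : ‖((f g : ℂˣ) : ℂ)‖ = 1 := norm_eq_one_of_pow (isOfFinOrder_of_finite g).orderOf_pos.ne'
      (by rw [← Units.val_pow_eq_pow_val, ← map_pow, pow_orderOf_eq_one, map_one, Units.val_one])
    rw [hf, Complex.normSq_eq_norm_sq, hn, one_pow]

theorem mult_of_vanish {P : Subgroup G} [P.Normal] {p : ℕ} (hP : IsPGroup p P) (hp : p.Prime)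
    (hvan : ∀ g ∉ P, ∀ χ : Cfsg.IrrCharacter G, (χ : G → ℂ) 1 ≠ 1 → (χ : G → ℂ) g = 0) : Mult G := by
  haveI := Fact.mk hp
  rintro x y χ hx hy ⟨r, s, a, b, hr, hs, hrs, hxo, hyo⟩
  by_cases hl : (χ : G → ℂ) 1 = 1
  · obtain ⟨f, hf⟩ := exists_hom_of_degree_one (IsIrrCharacter.isCharacter χ.2) hl
    simp [hf, map_mul]
  have hkey : ∀ (z : G) (t c : ℕ), t.Prime → z ≠ 1 → orderOf z = t ^ c → z ∈ P → t = p := by
    intro z t c ht hz hzo hzP
    obtain ⟨k, hk⟩ := IsPGroup.iff_orderOf.mp hP ⟨z, hzP⟩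
    rw [Subgroup.orderOf_mk, hzo] at hk
    have hc : c ≠ 0 := fun h => hz (orderOf_eq_one_iff.1 (by rw [hzo, h, pow_zero]))
    exact (Nat.prime_dvd_prime_iff_eq ht hp).1 (ht.dvd_of_dvd_pow (hk ▸ dvd_pow_self t hc))
  have hxy : x * y ∉ P := by
    intro hmem
    have h1 : (QuotientGroup.mk' P x) * (QuotientGroup.mk' P y) = 1 := by
      rw [← map_mul]
      exact (QuotientGroup.eq_one_iff _).2 hmem
    have h2 : orderOf (QuotientGroup.mk' P x) ∣ r ^ a := hxo ▸ orderOf_map_dvd _ x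
    have h3 : orderOf (QuotientGroup.mk' P x) ∣ s ^ b := by
      rw [eq_inv_of_mul_eq_one_left h1, orderOf_inv]
      exact hyo ▸ orderOf_map_dvd _ y
    have h4 : QuotientGroup.mk' P x = 1 := orderOf_eq_one_iff.1 (Nat.eq_one_of_dvd_coprimes
      (Nat.Coprime.pow a b ((Nat.coprime_primes hr hs).2 hrs)) h2 h3)
    rw [h4, one_mul] at h1
    exact hrs ((hkey x r a hr hx hxo ((QuotientGroup.eq_one_iff x).1 h4)).trans
      (hkey y s b hs hy hyo ((QuotientGroup.eq_one_iff y).1 h1)).symm)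
  rw [hvan _ hxy χ hl]
  rcases (by
    by_contra hcon
    push Not at hcon
    exact hrs ((hkey x r a hr hx hxo hcon.1).trans (hkey y s b hs hy hyo hcon.2).symm) : x ∉ P ∨ y ∉ P) with h | h
  · rw [hvan x h χ hl, zero_mul]
  · rw [hvan y h χ hl, mul_zero]

/-- The structure of the exceptional groups. -/
def Struct (p : ℕ) (P A : Subgroup G) : Prop :=
  (Nat.card A).Coprime p ∧ A ⊔ P = ⊤ ∧ IsMulCommutative ↥(P ⊓ Subgroup.centralizer (A : Set G)) ∧
    (⁅A, P⁆).Normal ∧ (P ⊓ Subgroup.centralizer (A : Set G)) ⊔ ⁅A, P⁆ = P ∧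
    (P ⊓ Subgroup.centralizer (A : Set G)) ⊓ ⁅A, P⁆ = ⊥ ∧
    ∀ a ∈ A, a ≠ 1 → ∀ d ∈ ⁅A, P⁆, a * d = d * a → d = 1

theorem of_struct {p : ℕ} (hp : p.Prime) (P A : Subgroup G) [P.Normal] (hP : IsPGroup p P)
    (hA : IsMulCommutative A) (h : Struct p P A) : Mult G := by
  haveI := Fact.mk hp
  obtain ⟨hcop, hsup, hC, hDn, hCD, hCDbot, hfpf⟩ := h
  set C := P ⊓ Subgroup.centralizer (A : Set G) with hCdef
  set D := ⁅A, P⁆ with hDdef
  haveI := hDn
  have hcomm : ∀ a ∈ A, ∀ c ∈ C, a * c = c * a := fun a ha c hc =>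
    Subgroup.mem_centralizer_iff.1 hc.2 a ha
  set T := A ⊔ C with hT
  haveI hTc : IsMulCommutative T := by
    rw [hT, show A ⊔ C = Subgroup.closure ((A : Set G) ∪ (C : Set G)) by
      rw [Subgroup.closure_union, Subgroup.closure_eq, Subgroup.closure_eq]]
    refine Subgroup.isMulCommutative_closure ?_
    rintro x (hx | hx) y (hy | hy)
    · exact setLike_mul_comm hx hy
    · exact hcomm x hx y hy
    · exact (hcomm y hy x hx).symm
    · exact setLike_mul_comm hx hy
  have hTD : T ⊔ D = ⊤ := by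
    rw [hT, sup_assoc, hCD, hsup]
  have hprod : ∀ g : G, ∃ d ∈ D, ∃ t ∈ T, d * t = g := fun g => by
    have : g ∈ D ⊔ T := by rw [sup_comm, hTD]; exact Subgroup.mem_top g
    exact Subgroup.mem_sup_of_normal_left.1 this
  have hcm : commutator G ≤ D := by
    rw [commutator_def, Subgroup.commutator_le]
    intro x _ y _
    obtain ⟨d, hd, t, ht, rfl⟩ := hprod x
    obtain ⟨e, he, s, hs, rfl⟩ := hprod y
    refine (QuotientGroup.eq_one_iff (N := D) _).1 ?_
    show (QuotientGroup.mk' D) ⁅d * t, e * s⁆ = 1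
    have hd1 : (QuotientGroup.mk' D) d = 1 := (QuotientGroup.eq_one_iff _).2 hd
    have he1 : (QuotientGroup.mk' D) e = 1 := (QuotientGroup.eq_one_iff _).2 he
    have hts : Commute t s := setLike_mul_comm ht hs
    rw [map_commutatorElement, map_mul, map_mul, hd1, he1, one_mul, one_mul, ← map_commutatorElement,
      commutatorElement_eq_one_iff_mul_comm.2 hts, map_one]
  refine mult_of_vanish (P := P) hP hp fun g hg χ hχ => vanish_of_card_le ?_ χ hχ
  refine le_trans ?_ (Nat.le_of_dvd (Nat.pos_of_ne_zero Subgroup.index_ne_zero_of_finite)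
    (Subgroup.index_dvd_of_le hcm))
  have hA' : ∀ t ∈ T, ∃ a ∈ A, ∃ c ∈ C, a * c = t := fun t ht => by
    rw [hT, show A ⊔ C = Subgroup.closure ((A : Set G) ∪ (C : Set G)) by
      rw [Subgroup.closure_union, Subgroup.closure_eq, Subgroup.closure_eq]] at ht
    induction ht using Subgroup.closure_induction with
    | mem x hx =>
      rcases hx with hx | hx
      · exact ⟨x, hx, 1, one_mem _, mul_one _⟩
      · exact ⟨1, one_mem _, x, hx, one_mul _⟩
    | one => exact ⟨1, one_mem _, 1, one_mem _, mul_one _⟩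
    | mul x y _ _ hx hy =>
      obtain ⟨a, ha, c, hc, rfl⟩ := hx
      obtain ⟨b, hb, e, he, rfl⟩ := hy
      exact ⟨a * b, mul_mem ha hb, c * e, mul_mem hc he, by
        rw [mul_assoc, mul_assoc, ← mul_assoc b c e, hcomm b hb c hc, mul_assoc c b e]⟩
    | inv x _ hx =>
      obtain ⟨a, ha, c, hc, rfl⟩ := hx
      exact ⟨a⁻¹, inv_mem ha, c⁻¹, inv_mem hc, by rw [mul_inv_rev, hcomm a⁻¹ (inv_mem ha) c⁻¹ (inv_mem hc)]⟩
  obtain ⟨d0, hd0, t0, ht0, hg0⟩ := hprod g
  obtain ⟨a, ha, c, hc, rfl⟩ := hA' t0 ht0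
  have hDP : D ≤ P := hCD ▸ le_sup_right
  have ha1 : a ≠ 1 := by
    rintro rfl
    rw [one_mul] at hg0
    exact hg (hg0 ▸ mul_mem (hDP hd0) hc.1)
  -- nothing of `D` commutes with `a * c`
  have hkey : ∀ d ∈ D, d * (a * c) = (a * c) * d → d = 1 := by
    intro d hd hdc
    obtain ⟨k, hk⟩ := IsPGroup.iff_orderOf.mp hP ⟨c, hc.1⟩
    rw [Subgroup.orderOf_mk] at hk
    have h1 : (a * c) ^ (p ^ k) = a ^ (p ^ k) := by
      rw [(show Commute a c from hcomm a ha c hc).mul_pow, ← hk, pow_orderOf_eq_one, mul_one]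
    have h2 : Commute d (a ^ (p ^ k)) := h1 ▸ (show Commute d (a * c) from hdc).pow_right _
    obtain ⟨j, hj⟩ := exists_pow_eq_self_of_coprime (n := p ^ k) (x := a)
      (Nat.Coprime.pow_left k (Nat.Coprime.coprime_dvd_right (Subgroup.orderOf_dvd_natCard A ha) hcop.symm))
    exact hfpf a ha ha1 d hd ((hj ▸ h2.pow_right j : Commute d a)).eq.symm
  obtain ⟨e, he, hge⟩ : ∃ e ∈ D, e * (a * c) * e⁻¹ = g := by
    haveI : Fintype D := Fintype.ofFinite D
    have hinj : Function.Injective fun e : D => (⟨(e : G) * (a * c) * (e : G)⁻¹ * (a * c)⁻¹, by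
        have := hDn.conj_mem _ (inv_mem e.2) (a * c)
        convert mul_mem e.2 this using 1; group⟩ : D) := by
      intro e f h
      have h' := congrArg Subtype.val h
      simp only [mul_left_inj] at h'
      refine Subtype.ext (inv_mul_eq_one.1 (hkey _ (mul_mem (inv_mem f.2) e.2) ?_)).symm
      calc (f : G)⁻¹ * e * (a * c) = (f : G)⁻¹ * ((e : G) * (a * c) * (e : G)⁻¹) * e := by group
        _ = (f : G)⁻¹ * ((f : G) * (a * c) * (f : G)⁻¹) * e := by rw [h']
        _ = a * c * ((f : G)⁻¹ * e) := by group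
    obtain ⟨e, he⟩ := Finite.surjective_of_injective hinj ⟨d0, hd0⟩
    refine ⟨e, e.2, ?_⟩
    have he' := congrArg Subtype.val he
    simp only [mul_inv_eq_iff_eq_mul] at he'
    rw [mul_inv_eq_iff_eq_mul, he', hg0]
  set S := Subgroup.centralizer ({g} : Set G)
  have hinjS : Function.Injective (fun s : S => QuotientGroup.mk' D (s : G)) := by
    intro s t h
    have hmem : (s : G)⁻¹ * t ∈ D := QuotientGroup.eq.1 h
    have hc' : (s : G)⁻¹ * t ∈ S := mul_mem (inv_mem s.2) t.2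
    rw [Subgroup.mem_centralizer_singleton_iff, ← hge] at hc'
    have h1 := hkey (e⁻¹ * ((s : G)⁻¹ * t) * e) (by
      have := hDn.conj_mem _ hmem e⁻¹
      simpa using this) (by
      calc e⁻¹ * ((s : G)⁻¹ * t) * e * (a * c)
          = e⁻¹ * (((s : G)⁻¹ * t) * (e * (a * c) * e⁻¹)) * e := by group
        _ = e⁻¹ * ((e * (a * c) * e⁻¹) * ((s : G)⁻¹ * t)) * e := by rw [hc']
        _ = a * c * (e⁻¹ * ((s : G)⁻¹ * t) * e) := by group)
    exact Subtype.ext (inv_mul_eq_one.1 (by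
      have h2 : (s : G)⁻¹ * t = e * (e⁻¹ * ((s : G)⁻¹ * t) * e) * e⁻¹ := by group
      rw [h2, h1]; group))
  exact Nat.card_le_card_of_injective _ hinjS

theorem struct_of_mult (hG : Mult G) (hna : ¬ IsMulCommutative G) (hnp : ¬ ∃ p, p.Prime ∧ IsPGroup p G) :
    ∃ (p : ℕ) (_ : Fact p.Prime) (P : Sylow p G) (A : Subgroup G), (P : Subgroup G).Normal ∧ IsCyclic A ∧
      A ≠ ⊥ ∧ Struct p (P : Subgroup G) A := by
  haveI : Fintype G := Fintype.ofFinite G
  set N := Nat.card G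
  have hN : N ≠ 0 := Nat.card_pos.ne'
  obtain ⟨χ0, hχ0⟩ : ∃ χ : Cfsg.IrrCharacter G, (χ : G → ℂ) 1 ≠ 1 := by
    by_contra hcon
    push Not at hcon
    exact hna ⟨⟨commute_of_all_linear hcon⟩⟩
  obtain ⟨p, hp, hp1, -⟩ := exists_prime hG χ0 hχ0
  haveI := Fact.mk hp
  have hsmall : ∀ {r : ℕ} (χ : Cfsg.IrrCharacter G), (χ : G → ℂ) 1 ≠ 1 →
      N / r ^ N.factorization r ∣ Cfsg.charDegree (χ : G → ℂ) →
      N / r ^ N.factorization r < r ^ N.factorization r := by
    intro r χ hχ h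
    have h1 := Nat.le_of_dvd (irr_deg_pos χ) h
    have h2 := deg_sq_lt χ hχ
    have h3 : r ^ N.factorization r * (N / r ^ N.factorization r) = N := Nat.ordProj_mul_ordCompl_eq_self N r
    by_contra hcon
    push Not at hcon
    have := Nat.mul_le_mul_right (N / r ^ N.factorization r) hcon
    have := Nat.mul_le_mul h1 h1
    omega
  have hall : ∀ χ : Cfsg.IrrCharacter G, (χ : G → ℂ) 1 ≠ 1 →
      N / p ^ N.factorization p ∣ Cfsg.charDegree (χ : G → ℂ) ∧
      ∀ q, q.Prime → q ≠ p → ∀ x : G, x ≠ 1 → (∃ b, orderOf x = q ^ b) → (χ : G → ℂ) x = 0 := by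
    intro χ hχ
    obtain ⟨r, hr, hr1, hr2⟩ := exists_prime hG χ hχ
    suffices hrp : r = p by subst hrp; exact ⟨hr1, hr2⟩
    by_contra hrp
    have h1 := hsmall χ hχ hr1
    have h2 := hsmall χ0 hχ0 hp1
    have h3 : p ^ N.factorization p ≤ N / r ^ N.factorization r := Nat.le_of_dvd (Nat.ordCompl_pos r hN)
      (Nat.dvd_div_of_mul_dvd (Nat.Coprime.mul_dvd_of_dvd_of_dvd
        (Nat.Coprime.pow _ _ ((Nat.coprime_primes hr hp).2 hrp)) (Nat.ordProj_dvd N r) (Nat.ordProj_dvd N p)))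
    have h4 : r ^ N.factorization r ≤ N / p ^ N.factorization p := Nat.le_of_dvd (Nat.ordCompl_pos p hN)
      (Nat.dvd_div_of_mul_dvd (Nat.Coprime.mul_dvd_of_dvd_of_dvd
        (Nat.Coprime.pow _ _ ((Nat.coprime_primes hp hr).2 (Ne.symm hrp))) (Nat.ordProj_dvd N p) (Nat.ordProj_dvd N r)))
    omega
  -- the normal Sylow subgroup
  have hK : ∀ q ∈ N.primeFactors.erase p, ∃ K : Subgroup G, K.Normal ∧ (Nat.card K).Coprime q ∧
      ∃ k, K.index = q ^ k := by
    intro q hq
    rw [Finset.mem_erase, Nat.mem_primeFactors] at hq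
    refine Cfsg.Agent.Char.TC.exists_complement hq.2.1 fun χ hχ d hd => ?_
    by_cases hd1 : d = 1
    · exact Or.inl hd1
    right
    have hnl : ((⟨χ, hχ⟩ : Cfsg.IrrCharacter G) : G → ℂ) 1 ≠ 1 := fun e => hd1 (by
      rw [show ((⟨χ, hχ⟩ : Cfsg.IrrCharacter G) : G → ℂ) 1 = χ 1 from rfl, hd] at e
      exact_mod_cast e)
    have h1 := (hall ⟨χ, hχ⟩ hnl).1
    have hdd : Cfsg.charDegree χ = d := by
      rw [Cfsg.charDegree, hd, Complex.natCast_re, Nat.floor_natCast]
    rw [show Cfsg.charDegree ((⟨χ, hχ⟩ : Cfsg.IrrCharacter G) : G → ℂ) = d from hdd] at h1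
    exact ((Nat.dvd_ordCompl_of_dvd_not_dvd hq.2.2.1
      (fun e => hq.1 ((Nat.prime_dvd_prime_iff_eq hp hq.2.1).1 e).symm)).trans h1)
  choose K hKn hKc hKi using hK
  obtain ⟨P0⟩ : Nonempty (Sylow p G) := inferInstance
  set M : Subgroup G := ⨅ (q) (hq : q ∈ N.primeFactors.erase p), K q hq with hM
  haveI : M.Normal := Subgroup.normal_iInf_normal fun q => Subgroup.normal_iInf_normal fun hq => hKn q hq
  have hPM : (P0 : Subgroup G) ≤ M := by
    refine le_iInf fun q => le_iInf fun hq x hx => ?_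
    haveI := hKn q hq
    obtain ⟨i, hi⟩ := hKi q hq
    obtain ⟨b, hb⟩ := IsPGroup.iff_orderOf.mp P0.isPGroup' ⟨x, hx⟩
    rw [Subgroup.orderOf_mk] at hb
    rw [Finset.mem_erase, Nat.mem_primeFactors] at hq
    refine (QuotientGroup.eq_one_iff (N := K q _) x).1 (orderOf_eq_one_iff.1 (Nat.eq_one_of_dvd_coprimes
      (Nat.Coprime.pow b i ((Nat.coprime_primes hp hq.2.1).2 (Ne.symm hq.1)))
      (hb ▸ orderOf_map_dvd (QuotientGroup.mk' (K q _)) x) ?_))
    rw [← hi]
    exact orderOf_dvd_natCard _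
  obtain ⟨kM, hkM⟩ : ∃ k, Nat.card M = p ^ k := by
    refine ⟨_, Nat.eq_prime_pow_of_unique_prime_dvd Nat.card_pos.ne' fun {d} hd hdvd => ?_⟩
    by_contra hne
    have hq : d ∈ N.primeFactors.erase p := by
      rw [Finset.mem_erase, Nat.mem_primeFactors]
      exact ⟨hne, hd, hdvd.trans (Subgroup.card_subgroup_dvd_card M), hN⟩
    exact (hd.coprime_iff_not_dvd.1 (hKc d hq).symm)
      (hdvd.trans (Subgroup.card_dvd_of_le (iInf_le_of_le d (iInf_le _ hq))))
  have hMP : M = (P0 : Subgroup G) := P0.is_maximal' (IsPGroup.of_card hkM) hPM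
  haveI hPn : (P0 : Subgroup G).Normal := hMP ▸ inferInstance
  set P := (P0 : Subgroup G) with hPdef
  obtain ⟨A, hAc⟩ := Subgroup.exists_right_complement'_of_coprime (N := P) (by
    rw [hPdef, P0.card_eq_multiplicity, ← Subgroup.card_mul_index P0.1, mul_comm]
    exact (Nat.Coprime.pow_left _ (hp.coprime_iff_not_dvd.2 P0.not_dvd_index)))
  have hAcard : Nat.card A = P.index := (hAc.symm.index_eq_card).symm
  have hcopA : (Nat.card A).Coprime p := by
    rw [hAcard]; exact (hp.coprime_iff_not_dvd.2 P0.not_dvd_index).symm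
  have hA1 : A ≠ ⊥ := fun h => hnp ⟨p, hp, by
    have : P = ⊤ := Subgroup.index_eq_one.1 (by rw [← hAcard, h, Subgroup.card_bot])
    exact IsPGroup.of_equiv P0.isPGroup' ((MulEquiv.subgroupCongr this).trans Subgroup.topEquiv)⟩
  have hidxm : P.index = N / p ^ N.factorization p := by
    have h1 := Subgroup.card_mul_index P
    rw [hPdef, P0.card_eq_multiplicity] at h1
    refine (Nat.div_eq_of_eq_mul_right (pow_pos hp.pos _) ?_).symm
    exact h1.symm
  -- the quotient is abelian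
  have hquot : ∀ x y : G ⧸ P, x * y = y * x := commute_of_all_linear fun ψ => by
    by_contra hψ
    have h1 := (hall (infl P ψ) (by simpa using hψ)).1
    have h2 := deg_sq_lt ψ hψ
    have h3 : Cfsg.charDegree ((infl P ψ : Cfsg.IrrCharacter G) : G → ℂ) = Cfsg.charDegree (ψ : G ⧸ P → ℂ) := by
      simp [Cfsg.charDegree]
    rw [h3, ← hidxm] at h1
    rw [← Subgroup.index_eq_card] at h2
    have h4 := Nat.le_of_dvd (irr_deg_pos ψ) h1
    have := Nat.mul_le_mul h4 h4
    have := Nat.le_mul_self P.index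
    omega
  have hcP : commutator G ≤ P := by
    rw [commutator_def, Subgroup.commutator_le]
    intro x _ y _
    refine (QuotientGroup.eq_one_iff (N := P) _).1 ?_
    show (QuotientGroup.mk' P) ⁅x, y⁆ = 1
    rw [map_commutatorElement, commutatorElement_eq_one_iff_mul_comm]
    exact hquot _ _
  have hAab : IsMulCommutative A := .of_setLike_mul_comm fun a ha b hb => by
    have h1 : ⁅a, b⁆ ∈ P ⊓ A := ⟨hcP (Subgroup.commutator_mem_commutator (Subgroup.mem_top a) (Subgroup.mem_top b)),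
      A.mul_mem (A.mul_mem (A.mul_mem ha hb) (A.inv_mem ha)) (A.inv_mem hb)⟩
    rw [hAc.disjoint.eq_bot, Subgroup.mem_bot, commutatorElement_eq_one_iff_mul_comm] at h1
    exact h1
  haveI := hAab
  set C := P ⊓ Subgroup.centralizer (A : Set G) with hCdef
  set D := ⁅A, P⁆ with hDdef
  haveI : Group.IsNilpotent P := P0.isPGroup'.isNilpotent
  have hCD : C ⊔ D = P := by
    rw [hDdef, Subgroup.commutator_comm, sup_comm, hCdef]
    exact CoprimeAct.commutator_sup_centralizer Subgroup.le_normalizer_of_normal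
      (by rw [hPdef, P0.card_eq_multiplicity]; exact Nat.Coprime.pow_right _ hcopA) (Or.inr inferInstance)
  have hDc : D ≤ commutator G := Subgroup.commutator_mono le_top le_top
  have hsup : A ⊔ P = ⊤ := by rw [sup_comm]; exact hAc.sup_eq_top
  -- centralisers of elements of `A`
  have hCG : C ⊔ commutator G = P :=
    le_antisymm (sup_le inf_le_left hcP) (hCD ▸ sup_le_sup_left hDc C)
  have hcentA : ∀ a ∈ A, a ≠ 1 → (∃ q b, q.Prime ∧ orderOf a = q ^ b) →
      P ⊓ Subgroup.centralizer ({a} : Set G) ⊓ commutator G = ⊥ := by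
    rintro a ha ha1 ⟨q, b, hq, hqb⟩
    have hqp : q ≠ p := by
      rintro rfl
      have hb : b ≠ 0 := fun h => ha1 (orderOf_eq_one_iff.1 (by rw [hqb, h, pow_zero]))
      exact hp.coprime_iff_not_dvd.1 hcopA.symm
        ((dvd_pow_self q hb).trans (hqb ▸ Subgroup.orderOf_dvd_natCard A ha))
    have hcard := card_centralizer_eq (g := a) fun χ hχ => (hall χ hχ).2 q hq hqp a ha1 ⟨b, hqb⟩
    set Z := P ⊓ Subgroup.centralizer ({a} : Set G) with hZ
    -- `A * Z` lies in the centraliser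
    have h1 : Nat.card A * Nat.card Z ≤ Nat.card (Subgroup.centralizer ({a} : Set G)) := by
      rw [← Nat.card_prod]
      refine Nat.card_le_card_of_injective (fun z => ⟨(z.1 : G) * z.2, mul_mem
        (Subgroup.mem_centralizer_singleton_iff.2 (setLike_mul_comm z.1.2 ha)) z.2.2.2⟩) ?_
      rintro ⟨⟨x, hx⟩, y, hy⟩ ⟨⟨x', hx'⟩, y', hy'⟩ h
      have h' : x * y = x' * y' := congrArg Subtype.val h
      have h2 : x'⁻¹ * x ∈ P ⊓ A := ⟨by
        rw [show x'⁻¹ * x = y' * y⁻¹ by rw [inv_mul_eq_iff_eq_mul, ← mul_assoc, ← h', mul_inv_cancel_right]]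
        exact P.mul_mem hy'.1 (P.inv_mem hy.1), A.mul_mem (A.inv_mem hx') hx⟩
      rw [hAc.disjoint.eq_bot, Subgroup.mem_bot, inv_mul_eq_one] at h2
      subst h2
      obtain rfl := mul_left_cancel h'
      rfl
    have h2 : (commutator G).index = Nat.card A * (commutator G).relIndex P := by
      rw [← Subgroup.relIndex_mul_index hcP, hAcard, mul_comm]
    rw [hcard, h2] at h1
    have h3 : Nat.card Z ≤ (commutator G).relIndex P := Nat.le_of_mul_le_mul_left h1 Nat.card_pos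
    -- `Z` covers `P / G'`
    have hZP : Z ⊔ commutator G = P := le_antisymm (sup_le inf_le_left hcP)
      (hCG ▸ sup_le_sup_right (inf_le_inf_left P (Subgroup.centralizer_le (Set.singleton_subset_iff.2 ha))) _)
    have h4 : (commutator G).relIndex Z = (commutator G).relIndex P := by
      conv_rhs => rw [← hZP]
      exact (Subgroup.relIndex_sup_right _ _).symm
    have h6 := Subgroup.relIndex_mul_relIndex (⊥ : Subgroup G) (Z ⊓ commutator G) Z bot_le inf_le_left
    rw [Subgroup.relIndex_bot_left, Subgroup.relIndex_bot_left, inf_comm Z, Subgroup.inf_relIndex_right,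
      h4, inf_comm (commutator G)] at h6
    refine Subgroup.eq_bot_of_card_le _ ?_
    by_contra hlt
    push Not at hlt
    have hpos : 0 < (commutator G).relIndex P :=
      Nat.pos_of_ne_zero (Subgroup.index_ne_zero_of_finite (H := (commutator G).subgroupOf P))
    nlinarith
  have hCA : ∀ a ∈ A, a ≠ 1 → ∀ d ∈ D, a * d = d * a → d = 1 := by
    intro a ha ha1 d hd hcd
    obtain ⟨q, hq, hqd⟩ := Nat.exists_prime_and_dvd (n := orderOf a) (fun h => ha1 (orderOf_eq_one_iff.1 h))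
    set b := a ^ (orderOf a / q) with hb
    have hbo : orderOf b = q := by
      rw [hb, orderOf_pow_orderOf_div (orderOf_pos a).ne' hqd]
    have := hcentA b (pow_mem ha _) (fun h => hq.one_lt.ne' (by rw [← hbo, h, orderOf_one]))
      ⟨q, 1, hq, by rw [hbo, pow_one]⟩
    refine Subgroup.mem_bot.1 (this ▸ ⟨⟨hCD ▸ Subgroup.mem_sup_right hd, ?_⟩, hDc hd⟩)
    exact Subgroup.mem_centralizer_singleton_iff.2 ((show Commute a d from hcd).pow_left _).eq.symm
  obtain ⟨a0, ha0, ha01⟩ := (Subgroup.ne_bot_iff_exists_ne_one.1 hA1).elim fun a ha =>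
    (⟨a, a.2, fun e => ha (Subtype.ext e)⟩ : ∃ a ∈ A, a ≠ 1)
  obtain ⟨q0, hq0, hq0d⟩ := Nat.exists_prime_and_dvd (n := orderOf a0) (fun h => ha01 (orderOf_eq_one_iff.1 h))
  have hb0 : orderOf (a0 ^ (orderOf a0 / q0)) = q0 := orderOf_pow_orderOf_div (orderOf_pos a0).ne' hq0d
  have hCc : C ⊓ commutator G = ⊥ := le_bot_iff.1 (by
    rw [← hcentA _ (pow_mem ha0 _) (fun h => hq0.one_lt.ne' (by rw [← hb0, h, orderOf_one]))
      ⟨q0, 1, hq0, by rw [hb0, pow_one]⟩]
    exact inf_le_inf_right _ (inf_le_inf_left P (Subgroup.centralizer_le (Set.singleton_subset_iff.2 (pow_mem ha0 _)))))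
  have hCab : IsMulCommutative C := .of_setLike_mul_comm fun x hx y hy => by
    have h1 : ⁅x, y⁆ ∈ C ⊓ commutator G :=
      ⟨C.mul_mem (C.mul_mem (C.mul_mem hx hy) (C.inv_mem hx)) (C.inv_mem hy),
        Subgroup.commutator_mem_commutator (Subgroup.mem_top x) (Subgroup.mem_top y)⟩
    rw [hCc, Subgroup.mem_bot, commutatorElement_eq_one_iff_mul_comm] at h1
    exact h1
  have hDeq : D = commutator G := by
    refine le_antisymm hDc fun x hx => ?_
    have hxP : x ∈ D ⊔ C := by rw [sup_comm, hCD]; exact hcP hx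
    have hnorm : C ≤ Subgroup.normalizer (D : Set G) := inf_le_left.trans
      (by rw [hDdef]; exact Subgroup.normalizer_commutator_ge_right A P)
    rw [sup_comm, ← SetLike.mem_coe, Subgroup.coe_mul_of_left_le_normalizer_right C D hnorm] at hxP
    obtain ⟨c, hc, d, hd, rfl⟩ := hxP
    have h1 : c ∈ C ⊓ commutator G := ⟨hc, by simpa using mul_mem hx (inv_mem (hDc hd))⟩
    rw [hCc, Subgroup.mem_bot] at h1
    subst h1
    simpa using hd
  have hDne : D ≠ ⊥ := fun h => hna (by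
    rw [hDeq] at h
    exact ⟨⟨fun x y => commutatorElement_eq_one_iff_mul_comm.1 (Subgroup.mem_bot.1
      (h ▸ Subgroup.commutator_mem_commutator (Subgroup.mem_top x) (Subgroup.mem_top y)))⟩⟩)
  have hDn : D.Normal := by rw [hDeq]; infer_instance
  haveI := hDn
  refine ⟨p, inferInstance, P0, A, hPn, ?_, hA1, hcopA, hsup, hCab, hDn, hCD, by show C ⊓ D = ⊥; rw [hDeq]; exact hCc, hCA⟩
  exact FpfStruct.abelian_cyclic hDne Subgroup.le_normalizer_of_normal fun a ha ha1 =>
    (Subgroup.eq_bot_iff_forall _).2 fun d hd => hCA a ha ha1 d hd.1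
      (Subgroup.mem_centralizer_singleton_iff.1 hd.2).symm

end Cfsg.Agent.Char.MulCop
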