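import Cfsg.Agent.Lib.Blocks.GoodExtension
import Cfsg.Agent.Lib.Char.CoprimeCount
import Cfsg.Agent.Lib.Char.PermChar
import Cfsg.Agent.Lib.Char.Gallagher
import Cfsg.Agent.Lib.Char.Orbit
import Cfsg.Agent.Lib.Solvable.Structure
import Cfsg.Agent.S4455

/-!
# The intersection of the kernels of the characters of degree prime to `p`
-/

set_option autoImplicit false
set_option linter.style.haveILetI false
set_option linter.unusedSectionVars false

namespace Cfsg.Agent.PPrimeKernel

open Cfsg Cfsg.Agent.Char Cfsg.Agent.GlaubermanMod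

universe u v

/-- A constituent of a character has every element of the kernel in its kernel. -/
theorem constituent_ker {X : Type u} [Group X] [Fintype X] {χ : X → ℂ} (hχ : IsCharacter X χ)
    (ψ : IrrCharacter X) (h : classInner χ (ψ : X → ℂ) ≠ 0) {g : X} (hg : χ g = χ 1) :
    (ψ : X → ℂ) g = (ψ : X → ℂ) 1 := by
  classical
  choose m hm using fun φ : IrrCharacter X =>
    IsCharacter.exists_classInner_nat hχ (IsIrrCharacter.isCharacter φ.2)
  have hx : ∀ x, χ x = ∑ φ : IrrCharacter X, (m φ : ℂ) * (φ : X → ℂ) x := fun x => by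
    conv_lhs => rw [IsCharacter.eq_sum hχ]
    simp only [Finset.sum_apply, Pi.smul_apply, smul_eq_mul, hm]
  refine kernel_constituent m (by rw [← hx, ← hx, hg]) ψ fun h0 => h ?_
  rw [hm, h0, Nat.cast_zero]

/-- Constituents of constituents along a homomorphism are constituents. -/
theorem constituent_comp {X : Type u} [Group X] [Fintype X] {Y : Type v} [Group Y] [Fintype Y]
    (e : Y →* X) {χ : X → ℂ} (hχ : IsCharacter X χ) (ψ : IrrCharacter X)
    (h : classInner χ (ψ : X → ℂ) ≠ 0) {θ : Y → ℂ} (hθ : IsCharacter Y θ)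
    (h' : classInner (fun y => (ψ : X → ℂ) (e y)) θ ≠ 0) :
    classInner (fun y => χ (e y)) θ ≠ 0 := by
  classical
  choose m hm using fun φ : IrrCharacter X =>
    IsCharacter.exists_classInner_nat hχ (IsIrrCharacter.isCharacter φ.2)
  choose n hn using fun φ : IrrCharacter X =>
    IsCharacter.exists_classInner_nat (IsCharacter.comp (IsIrrCharacter.isCharacter φ.2) e) hθ
  have hx : (fun y => χ (e y)) =
      ∑ φ : IrrCharacter X, (m φ : ℂ) • fun y => (φ : X → ℂ) (e y) := by
    funext y
    conv_lhs => rw [IsCharacter.eq_sum hχ]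
    simp only [Finset.sum_apply, Pi.smul_apply, smul_eq_mul, hm]
  rw [hx, classInner_sum_left]
  simp only [classInner_smul_left, hn, ← Nat.cast_mul, ← Nat.cast_sum]
  rw [Nat.cast_ne_zero]
  intro h0
  rw [Finset.sum_eq_zero_iff] at h0
  rcases mul_eq_zero.1 (h0 ψ (Finset.mem_univ ψ)) with h1 | h1
  · exact h (by rw [hm, h1, Nat.cast_zero])
  · exact h' (by rw [hn, h1, Nat.cast_zero])

/-- A character of degree prime to `p` has a constituent of degree prime to `p`. -/
theorem exists_pprime_constituent {X : Type u} [Group X] [Fintype X] {p : ℕ} {f : X → ℂ}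
    (hf : IsCharacter X f) {d : ℕ} (hd : f 1 = d) (hpd : ¬ p ∣ d) :
    ∃ χ : IrrCharacter X, ¬ p ∣ charDegree (χ : X → ℂ) ∧ classInner f (χ : X → ℂ) ≠ 0 := by
  classical
  choose m hm using fun φ : IrrCharacter X =>
    IsCharacter.exists_classInner_nat hf (IsIrrCharacter.isCharacter φ.2)
  have hsum : d = ∑ φ : IrrCharacter X, m φ * charDegree (φ : X → ℂ) := by
    apply Nat.cast_injective (R := ℂ)
    rw [← hd]
    conv_lhs => rw [IsCharacter.eq_sum hf]
    simp only [Finset.sum_apply, Pi.smul_apply, smul_eq_mul, hm, Nat.cast_sum, Nat.cast_mul,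
      Cfsg.Agent.CharX.irr_deg]
  by_contra hc
  push Not at hc
  refine hpd (hsum ▸ Finset.dvd_sum fun φ _ => ?_)
  by_cases hφ : p ∣ charDegree (φ : X → ℂ)
  · exact hφ.mul_left _
  · have h0 := hc φ hφ
    rw [hm, Nat.cast_eq_zero] at h0
    rw [h0, zero_mul]
    exact dvd_zero p

variable {G : Type u} [Group G] [Fintype G] {p : ℕ} [hp : Fact p.Prime]

/-- The conjugation action of a Sylow subgroup on a normal subgroup. -/
def act (P : Sylow p G) (H : Subgroup G) [H.Normal] : (P : Subgroup G) →* MulAut H :=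
  MulAut.conjNormal.comp (P : Subgroup G).subtype

theorem act_coe (P : Sylow p G) (H : Subgroup G) [H.Normal] (x : (P : Subgroup G)) (h : H) :
    ((act P H x h : H) : G) = (x : G) * h * (x : G)⁻¹ := by
  simp [act]

theorem coprime_card (P : Sylow p G) (H : Subgroup G) (hH : ¬ p ∣ Nat.card H) :
    (Nat.card H).Coprime (Nat.card (P : Subgroup G)) := by
  obtain ⟨k, hk⟩ := P.isPGroup'.exists_card_eq
  rw [hk]
  exact ((hp.out.coprime_iff_not_dvd.2 hH).symm).pow_right k

theorem inf_centralizer_eq_bot_iff (P : Sylow p G) (H : Subgroup G) [H.Normal] [Fintype H]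
    (hH : ¬ p ∣ Nat.card H) :
    H ⊓ Subgroup.centralizer ((P : Subgroup G) : Set G) = ⊥ ↔
      ∀ θ : IrrCharacter H, IsInv (act P H) (θ : H → ℂ) → θ = principal H := by
  classical
  haveI := P.isPGroup'.isNilpotent
  have hcard := CoprimeCount.card_inv_irr_fixed H (P : Subgroup G) (act P H) inferInstance
    (coprime_card P H hH)
  have hmem : ∀ h : H, h ∈ fixedSub (act P H) ↔
      (h : G) ∈ Subgroup.centralizer ((P : Subgroup G) : Set G) := by
    intro h
    rw [mem_fixedSub, Subgroup.mem_centralizer_iff]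
    constructor
    · intro hh x hx
      have := congrArg Subtype.val (hh ⟨x, hx⟩)
      rw [act_coe] at this
      calc x * (h : G) = (x * h * x⁻¹) * x := by group
        _ = (h : G) * x := by rw [this]
    · intro hh u
      refine Subtype.ext ?_
      rw [act_coe, hh _ u.2]
      group
  have hone : IsInv (act P H) (principal H : H → ℂ) := fun u h => rfl
  constructor
  · intro hbot θ hθ
    haveI : Subsingleton (fixedSub (act P H)) := ⟨fun a b => by
      have e : ∀ a : fixedSub (act P H), a = 1 := fun a => Subtype.ext (Subtype.ext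
        ((Subgroup.eq_bot_iff_forall _).1 hbot _ ⟨(a : H).2, (hmem _).1 a.2⟩))
      rw [e a, e b]⟩
    haveI : Subsingleton (ConjClasses (fixedSub (act P H))) :=
      ConjClasses.mk_surjective.subsingleton
    have h1 : Nat.card (ConjClasses (fixedSub (act P H))) = 1 :=
      Nat.card_eq_one_iff_unique.2 ⟨inferInstance, inferInstance⟩
    rw [h1, Nat.card_eq_one_iff_unique] at hcard
    exact congrArg Subtype.val (hcard.1.elim ⟨θ, hθ⟩ ⟨principal H, hone⟩)
  · intro hall
    haveI : Subsingleton {χ : IrrCharacter H // IsInv (act P H) (χ : H → ℂ)} :=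
      ⟨fun a b => Subtype.ext ((hall _ a.2).trans (hall _ b.2).symm)⟩
    rw [Nat.card_eq_one_iff_unique.2 ⟨inferInstance, ⟨⟨principal H, hone⟩⟩⟩, eq_comm,
      Nat.card_eq_one_iff_unique] at hcard
    rw [Subgroup.eq_bot_iff_forall]
    rintro g ⟨hg, hgc⟩
    let a : fixedSub (act P H) := ⟨⟨g, hg⟩, (hmem _).2 hgc⟩
    have := ConjClasses.mk_eq_mk_iff_isConj.1 (hcard.1.elim (ConjClasses.mk a) (ConjClasses.mk 1))
    rw [isConj_one_left] at this
    exact congrArg (fun z : fixedSub (act P H) => ((z : H) : G)) this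

/-- An invariant character of degree and determinant prime to `p` of a normal subgroup in all
kernels is trivial. -/
theorem eq_principal_of_inv (P : Sylow p G) (H : Subgroup G) [H.Normal] [Fintype H]
    (hker : ∀ χ : IrrCharacter G, ¬ p ∣ charDegree (χ : G → ℂ) →
      ∀ h ∈ H, (χ : G → ℂ) h = (χ : G → ℂ) 1)
    (θ : IrrCharacter H) (hdeg : ¬ p ∣ charDegree (θ : H → ℂ))
    (hdet : ¬ p ∣ detOrder (θ : H → ℂ)) (hinv : IsInv (act P H) (θ : H → ℂ)) :
    θ = principal H := by
  classical
  set J := H ⊔ (P : Subgroup G) with hJ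
  haveI : Fintype J := Fintype.ofFinite J
  have hHJ : H ≤ J := le_sup_left
  haveI : (H.subgroupOf J).Normal := Subgroup.Normal.subgroupOf inferInstance J
  let e := Subgroup.subgroupOfEquivOfLe hHJ
  set ψ : H.subgroupOf J → ℂ := fun y => (θ : H → ℂ) (e y) with hψdef
  have hψ : IsIrrCharacter _ ψ := IsIrrCharacter.comp θ.2 e.toMonoidHom e.surjective
  have hψd : ψ 1 = (charDegree (θ : H → ℂ) : ℂ) := by
    rw [hψdef]; simp only [map_one, Cfsg.Agent.CharX.irr_deg]
  have hψdet : ¬ p ∣ detOrder ψ := by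
    rw [hψdef, show detOrder (fun y => (θ : H → ℂ) (e y)) = detOrder (θ : H → ℂ) from
      DetComp.detOrder_comp e.toMonoidHom e.surjective (IsIrrCharacter.isCharacter θ.2)]
    exact hdet
  have hψinv : ∀ (x : J) (y : H.subgroupOf J), ψ (conjHom (H.subgroupOf J) x y) = ψ y := by
    rintro ⟨x, hx⟩ y
    obtain ⟨a, ha, b, hb, rfl⟩ := Subgroup.mem_sup_of_normal_left.1 (hJ ▸ hx)
    show (θ : H → ℂ) (e _) = (θ : H → ℂ) (e y)
    rw [show e (conjHom (H.subgroupOf J) ⟨a * b, hx⟩ y) =
        ⟨a, ha⟩ * act P H ⟨b, hb⟩ (e y) * (⟨a, ha⟩ : H)⁻¹ from Subtype.ext (by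
      simp [act_coe, e, Subgroup.subgroupOfEquivOfLe, mul_assoc]),
      IsCharacter.isClassFunction (IsIrrCharacter.isCharacter θ.2), hinv]
  obtain ⟨k, hk⟩ := P.isPGroup'.exists_card_eq
  have hidx : ∃ a : ℕ, (H.subgroupOf J).index = p ^ a := by
    obtain ⟨a, -, ha⟩ := (Nat.dvd_prime_pow hp.out).1
      (show H.relIndex J ∣ p ^ k by
        rw [hJ, Subgroup.relIndex_sup_left, ← hk]
        exact Subgroup.relIndex_dvd_card _ _)
    exact ⟨a, ha⟩
  obtain ⟨η, hη, hres⟩ := GoodExt.ext_of_pindex hp.out hψ hψinv hψd hdeg hψdet hidx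
  have hres' : ∀ h : H, η (Subgroup.inclusion hHJ h) = (θ : H → ℂ) h := fun h => by
    rw [show Subgroup.inclusion hHJ h = ((e.symm h : H.subgroupOf J) : J) from rfl, hres, hψdef]
    simp
  have hη1 : η 1 = (charDegree (θ : H → ℂ) : ℂ) := by
    rw [← Cfsg.Agent.CharX.irr_deg, ← hres' 1, map_one]
  have hJi : ¬ p ∣ J.index := fun h =>
    P.not_dvd_index (h.trans (Subgroup.index_dvd_of_le le_sup_right))
  obtain ⟨χ, hχd, hχ⟩ := exists_pprime_constituent (isCharacter_indFun J hη)
    (d := J.index * charDegree (θ : H → ℂ))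
    (by rw [indFun_one_apply, hη1, Nat.cast_mul]) (Nat.Prime.not_dvd_mul hp.out hJi hdeg)
  have hχc := IsIrrCharacter.isCharacter χ.2
  rw [classInner_indFun_left J η (IsCharacter.isClassFunction hχc),
    classInner_comm_of_isCharacter hη (IsCharacter.restrict hχc J)] at hχ
  obtain ⟨φ, hφ, hφη⟩ : ∃ φ : IrrCharacter J,
      classInner (fun x : J => (χ : G → ℂ) x) (φ : J → ℂ) ≠ 0 ∧
      classInner η (φ : J → ℂ) ≠ 0 := by
    by_contra hc
    push Not at hc
    refine hχ ?_
    rw [IsCharacter.eq_sum hη, classInner_sum_right]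
    refine Finset.sum_eq_zero fun φ _ => ?_
    rw [classInner_smul_right]
    by_cases h0 : classInner (fun x : J => (χ : G → ℂ) x) (φ : J → ℂ) = 0
    · rw [h0, mul_zero]
    · rw [hc φ h0, map_zero, zero_mul]
  have hker' : ∀ h : H, (φ : J → ℂ) (Subgroup.inclusion hHJ h) = (φ : J → ℂ) 1 := fun h =>
    constituent_ker (IsCharacter.restrict hχc J) φ hφ (hker χ hχd h h.2)
  have hc : classInner (fun h : H => η (Subgroup.inclusion hHJ h)) (principal H : H → ℂ) ≠ 0 :=
    constituent_comp (Subgroup.inclusion hHJ) hη φ hφη isCharacter_one (by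
      show classInner _ (fun _ : H => (1 : ℂ)) ≠ 0
      rw [show (fun h : H => (φ : J → ℂ) (Subgroup.inclusion hHJ h)) =
          (φ : J → ℂ) 1 • fun _ : H => (1 : ℂ) from funext fun h => by
        rw [hker', Pi.smul_apply, smul_eq_mul, mul_one], classInner_smul_left,
        classInner_self_irr isIrrCharacter_one, mul_one]
      exact IsIrrCharacter.one_ne_zero φ.2)
  rw [show (fun h : H => η (Subgroup.inclusion hHJ h)) = (θ : H → ℂ) from funext hres'] at hc
  by_contra hne
  exact hc (classInner_irr_of_ne θ.2 (principal H).2 fun e => hne (Subtype.ext e))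

theorem intersection_eq (P : Sylow p G) (N : Subgroup G) [N.Normal]
    (hN : N ⊓ Subgroup.centralizer ((P : Subgroup G) : Set G) = ⊥)
    (hmax : ∀ L : Subgroup G, L.Normal →
      L ⊓ Subgroup.centralizer ((P : Subgroup G) : Set G) = ⊥ → L ≤ N) :
    {g : G | ∀ χ : IrrCharacter G, ¬ p ∣ charDegree (χ : G → ℂ) →
        (χ : G → ℂ) g = (χ : G → ℂ) 1} =
      ((N ⊔ ⁅(P : Subgroup G), (P : Subgroup G)⁆).normalCore : Set G) := by
  classical
  haveI : Fintype N := Fintype.ofFinite N
  have hcomm : ∀ (f : (P : Subgroup G) →* ℂˣ) (x : G) (hx : x ∈ (P : Subgroup G)),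
      x ∈ ⁅(P : Subgroup G), (P : Subgroup G)⁆ → f ⟨x, hx⟩ = 1 := by
    intro f x hx h
    rw [← Subgroup.map_subtype_commutator] at h
    obtain ⟨y, hy, rfl⟩ := h
    exact Abelianization.commutator_subset_ker f hy
  -- `N` has order prime to `p`
  have hNP : N ⊓ (P : Subgroup G) = ⊥ := by
    by_contra hne
    haveI : ((N ⊓ (P : Subgroup G)).subgroupOf (P : Subgroup G)).Normal := by
      rw [Subgroup.inf_subgroupOf_right]
      exact Subgroup.Normal.subgroupOf inferInstance _
    have hne' : (N ⊓ (P : Subgroup G)).subgroupOf (P : Subgroup G) ≠ ⊥ := fun h => hne (by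
      rw [Subgroup.subgroupOf_eq_bot, disjoint_iff] at h
      rwa [inf_assoc, inf_idem] at h)
    haveI := P.isPGroup'.isNilpotent
    obtain ⟨z, hz1, hz⟩ := (Subgroup.nontrivial_iff_exists_ne_one _).1
      ((Subgroup.nontrivial_iff_ne_bot _).2 (SolvStruct.inf_center_ne_bot hne'))
    refine hz (Subtype.ext ((Subgroup.eq_bot_iff_forall _).1 hN (z : G)
      ⟨hz1.1.1, Subgroup.mem_centralizer_iff.2 ?_⟩))
    intro x hx
    exact congrArg Subtype.val (Subgroup.mem_center_iff.1 hz1.2 ⟨x, hx⟩)
  have hNp : ¬ p ∣ Nat.card N := by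
    intro h
    obtain ⟨Q, hQ⟩ := Cfsg.Agent.PBasic.exists_sylow_subgroupOf P N
    have := Q.ne_bot_of_dvd_card h
    refine this ?_
    rw [hQ, Subgroup.subgroupOf_eq_bot, disjoint_iff, inf_comm]
    exact hNP
  -- the intersection of the kernels
  have hK := fun χ : IrrCharacter G => Cfsg.Agent.CharX.exists_ker χ
  choose K hKn hKmem _ _ using hK
  set L : Subgroup G := ⨅ (χ : IrrCharacter G) (_ : ¬ p ∣ charDegree (χ : G → ℂ)), K χ with hLdef
  have hLmem : ∀ g, g ∈ L ↔ ∀ χ : IrrCharacter G, ¬ p ∣ charDegree (χ : G → ℂ) →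
      (χ : G → ℂ) g = (χ : G → ℂ) 1 := fun g => by
    simp only [hLdef, Subgroup.mem_iInf, hKmem]
  haveI hLn : L.Normal := Subgroup.normal_iInf_normal fun χ =>
    Subgroup.normal_iInf_normal fun _ => hKn χ
  have hker : ∀ H : Subgroup G, H ≤ L → ∀ χ : IrrCharacter G, ¬ p ∣ charDegree (χ : G → ℂ) →
      ∀ h ∈ H, (χ : G → ℂ) h = (χ : G → ℂ) 1 := fun H hH χ hχ h hh => (hLmem h).1 (hH hh) χ hχ
  ext g
  refine ⟨fun hg => ?_, fun hg χ hχ => ?_⟩
  · refine Subgroup.normal_le_normalCore.2 ?_ ((hLmem g).2 hg)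
    haveI : Fintype L := Fintype.ofFinite L
    haveI : Fintype (IrrCharacter L) := Fintype.ofFinite _
    set R := (pResidual p L).map L.subtype with hR
    haveI : (pResidual p L).Characteristic := Cfsg.Agent.PBasic.pResidual_characteristic p L
    haveI hRn : R.Normal := ConjAct.normal_of_characteristic_of_normal
    have hRL : R ≤ L := Subgroup.map_subtype_le _
    -- the residual has order prime to `p`
    have hRp : ¬ p ∣ Nat.card R := by
      rw [hR, Subgroup.card_map_of_injective L.subtype_injective]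
      have h := S4455.result (G := L) p hp.out
      letI := irrAction (act P L)
      set w : IrrCharacter L → ℕ := fun θ =>
        if ¬ p ∣ charDegree (θ : L → ℂ) ∧ ¬ p ∣ detOrder (θ : L → ℂ) then
          charDegree (θ : L → ℂ) ^ 2 else 0 with hw
      have hwd : ∀ (u : (P : Subgroup G)) (θ : IrrCharacter L), w (u • θ) = w θ := by
        intro u θ
        have h1 : charDegree ((u • θ : IrrCharacter L) : L → ℂ) = charDegree (θ : L → ℂ) := by
          apply Nat.cast_injective (R := ℂ)
          rw [← Cfsg.Agent.CharX.irr_deg, ← Cfsg.Agent.CharX.irr_deg]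
          show (θ : L → ℂ) (act P L u⁻¹ 1) = _
          rw [map_one]
        have h2 : detOrder ((u • θ : IrrCharacter L) : L → ℂ) = detOrder (θ : L → ℂ) :=
          DetComp.detOrder_comp (act P L u⁻¹ : L ≃* L).toMonoidHom (act P L u⁻¹).surjective
            (IsIrrCharacter.isCharacter θ.2)
        simp only [hw, h1, h2]
      have hmod := TC.sum_modEq_fixed P.isPGroup' w hwd
      have hfix : ∑ θ ∈ Finset.univ.filter
          (fun θ => θ ∈ MulAction.fixedPoints (P : Subgroup G) (IrrCharacter L)), w θ =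
          w (principal L) := by
        refine Finset.sum_eq_single (principal L) (fun θ hθ hne => ?_) fun h0 =>
          absurd (Finset.mem_filter.2 ⟨Finset.mem_univ _, fun u => Subtype.ext rfl⟩) h0
        by_contra hw0
        have hθinv : IsInv (act P L) (θ : L → ℂ) := fun u x => by
          have := congrFun (congrArg Subtype.val ((Finset.mem_filter.1 hθ).2 u⁻¹)) x
          show (θ : L → ℂ) (act P L u x) = _
          rw [← this]
          show _ = (θ : L → ℂ) (act P L u⁻¹⁻¹ x)
          rw [inv_inv]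
        have hcond : ¬ p ∣ charDegree (θ : L → ℂ) ∧ ¬ p ∣ detOrder (θ : L → ℂ) := by
          by_contra hc
          exact hw0 (by rw [hw]; exact if_neg hc)
        exact hne (eq_principal_of_inv P L (hker L le_rfl) θ hcond.1 hcond.2 hθinv)
      have e1 : w (principal L) = 1 := by
        have d1 : charDegree ((principal L : IrrCharacter L) : L → ℂ) = 1 :=
          Cfsg.Agent.CharX.charDegree_one
        have d2 : detOrder ((principal L : IrrCharacter L) : L → ℂ) = 1 := by
          have e : ((principal L : IrrCharacter L) : L → ℂ) = (linRep (1 : L →* ℂˣ)).character := by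
            rw [character_linRep]; rfl
          rw [e, CharExtend.detOrder_eq, orderOf_eq_one_iff]
          refine MonoidHom.ext fun x => Units.ext ?_
          rw [CharExtend.detHom_apply, show linRep (1 : L →* ℂˣ) x = 1 from
            LinearMap.ext fun z => by simp [linRep_apply], map_one]
          rfl
        simp only [hw, d1, d2, hp.out.not_dvd_one, not_false_eq_true, and_self, if_true, one_pow]
      rw [hfix, e1] at hmod
      have hS : (∑ θ : IrrCharacter L, (w θ : ℤ)) ≡ 1 [ZMOD (p : ℤ)] := by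
        exact_mod_cast Int.natCast_modEq_iff.2 hmod
      intro hd
      have hdz : (p : ℤ) ∣ (Nat.card (pResidual p L) : ℤ) := Int.natCast_dvd_natCast.2 hd
      have hx : (∑ θ : IrrCharacter L, (w θ : ℤ)) =
          ∑ᶠ χ ∈ {χ : IrrCharacter L | ¬ p ∣ charDegree (χ : L → ℂ) ∧
            ¬ p ∣ detOrder (χ : L → ℂ)}, (charDegree (χ : L → ℂ) : ℤ) ^ 2 := by
        rw [finsum_mem_eq_toFinset_sum]
        simp only [hw, apply_ite Nat.cast, Nat.cast_pow, Nat.cast_zero, ← Finset.sum_filter]
        exact Finset.sum_congr (by ext θ; simp) fun _ _ => rfl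
      have h1 : (p : ℤ) ∣ 1 := Int.modEq_zero_iff_dvd.1
        ((hx ▸ hS).symm.trans (h.symm.trans (Int.modEq_zero_iff_dvd.2 hdz)))
      exact hp.out.not_dvd_one (by exact_mod_cast h1)
    haveI : Fintype R := Fintype.ofFinite R
    have hRN : R ≤ N := hmax R hRn ((inf_centralizer_eq_bot_iff P R hRp).2 fun θ hθ =>
      eq_principal_of_inv P R (hker R hRL) θ
        (fun hd => hRp (hd.trans (Cfsg.Agent.CharX.irr_deg_dvd_card θ)))
        (fun hd => hRp (hd.trans (by
          obtain ⟨m, ρ, -, hρ⟩ := θ.2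
          rw [← hρ, CharExtend.detOrder_eq]
          refine orderOf_dvd_of_pow_eq_one (MonoidHom.ext fun x => ?_)
          rw [MonoidHom.pow_apply, ← map_pow, pow_card_eq_one', map_one, MonoidHom.one_apply])))
        hθ)
    obtain ⟨Q, hQ⟩ := Cfsg.Agent.PBasic.exists_sylow_subgroupOf P L
    intro x hx
    obtain ⟨a, ha, b, hb, hab⟩ := Subgroup.mem_sup_of_normal_right.1
      ((Cfsg.Agent.PBasic.sylow_sup_pResidual Q).ge (Subgroup.mem_top ⟨x, hx⟩))
    rw [hQ, Subgroup.mem_subgroupOf] at ha
    rw [← show ((a : L) : G) * (b : L) = x from congrArg Subtype.val hab]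
    refine Subgroup.mul_mem _ (Subgroup.mem_sup_right ?_)
      (Subgroup.mem_sup_left (hRN (Subgroup.mem_map_of_mem L.subtype hb)))
    rw [← Subgroup.map_subtype_commutator]
    refine ⟨⟨(a : G), ha⟩, ?_, rfl⟩
    by_contra hnc
    obtain ⟨f, hf⟩ := CommGroup.exists_apply_ne_one_of_hasEnoughRootsOfUnity
      (Abelianization (P : Subgroup G)) ℂ (a := Abelianization.of ⟨(a : G), ha⟩) fun h1 =>
        hnc ((QuotientGroup.eq_one_iff _).1 h1)
    set μ := f.comp Abelianization.of with hμ
    haveI : Fintype (P : Subgroup G) := Fintype.ofFinite _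
    obtain ⟨χ, hχd, hχ⟩ := exists_pprime_constituent
      (isCharacter_indFun (P : Subgroup G)
        (IsIrrCharacter.isCharacter (isIrrCharacter_linear μ)))
      (d := (P : Subgroup G).index) (by rw [indFun_one_apply]; simp) P.not_dvd_index
    have hχc := IsIrrCharacter.isCharacter χ.2
    rw [classInner_indFun_left _ _ (IsCharacter.isClassFunction hχc),
      classInner_comm_of_isCharacter (IsIrrCharacter.isCharacter (isIrrCharacter_linear μ))
        (IsCharacter.restrict hχc _)] at hχ
    have := constituent_ker (IsCharacter.restrict hχc _)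
      (⟨_, isIrrCharacter_linear μ⟩ : IrrCharacter (P : Subgroup G)) hχ (g := ⟨(a : G), ha⟩)
      ((hLmem _).1 a.2 χ hχd)
    refine hf (Units.ext ?_)
    simpa [hμ] using this
  · have hχc := IsIrrCharacter.isCharacter χ.2
    -- `N` lies in the kernel
    have hNker : ∀ n : N, (χ : G → ℂ) n = (χ : G → ℂ) 1 := by
      letI := irrAction (act P N)
      haveI : Fintype (IrrCharacter N) := Fintype.ofFinite _
      choose m hm using fun φ : IrrCharacter N => IsCharacter.exists_classInner_nat
        (IsCharacter.restrict hχc N) (IsIrrCharacter.isCharacter φ.2)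
      set w : IrrCharacter N → ℕ := fun φ => m φ * charDegree (φ : N → ℂ) with hw
      have hsum : ∑ φ, w φ = charDegree (χ : G → ℂ) := by
        apply Nat.cast_injective (R := ℂ)
        rw [← Cfsg.Agent.CharX.irr_deg]
        conv_rhs => rw [show (χ : G → ℂ) 1 = (fun n : N => (χ : G → ℂ) n) 1 from rfl,
          IsCharacter.eq_sum (IsCharacter.restrict hχc N)]
        simp only [hw, Finset.sum_apply, Pi.smul_apply, smul_eq_mul, hm, Nat.cast_sum,
          Nat.cast_mul, Cfsg.Agent.CharX.irr_deg]
        exact Finset.sum_congr (by ext; simp) fun _ _ => rfl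
      have hwd : ∀ (u : (P : Subgroup G)) (φ : IrrCharacter N), w (u • φ) = w φ := by
        intro u φ
        have h1 : charDegree ((u • φ : IrrCharacter N) : N → ℂ) = charDegree (φ : N → ℂ) := by
          apply Nat.cast_injective (R := ℂ)
          rw [← Cfsg.Agent.CharX.irr_deg, ← Cfsg.Agent.CharX.irr_deg]
          show (φ : N → ℂ) (act P N u⁻¹ 1) = _
          rw [map_one]
        have h2 : m (u • φ) = m φ := by
          apply Nat.cast_injective (R := ℂ)
          rw [← hm, ← hm, show ((u • φ : IrrCharacter N) : N → ℂ) =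
            conjChar N ((u⁻¹ : (P : Subgroup G)) : G) (φ : N → ℂ) from funext fun n => by
              show (φ : N → ℂ) (act P N u⁻¹ n) = (φ : N → ℂ) (conjHom N _ n)
              congr 1,
            classInner_restrict_conjChar N (IsCharacter.isClassFunction hχc)]
        simp only [hw, h1, h2]
      have hmod := TC.sum_modEq_fixed P.isPGroup' w hwd
      obtain ⟨φ, hφ, hφ0⟩ := Finset.exists_ne_zero_of_sum_ne_zero
        (fun h0 => hχ (hsum ▸ (Nat.modEq_zero_iff_dvd.1 (h0 ▸ hmod))))
      have hφinv : IsInv (act P N) (φ : N → ℂ) := fun u x => by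
        have := congrFun (congrArg Subtype.val ((Finset.mem_filter.1 hφ).2 u⁻¹)) x
        show (φ : N → ℂ) (act P N u x) = _
        rw [← this]
        show _ = (φ : N → ℂ) (act P N u⁻¹⁻¹ x)
        rw [inv_inv]
      refine restrict_over_one N χ.2 ?_
      rw [show (fun _ : N => (1 : ℂ)) = (φ : N → ℂ) from
        (congrArg Subtype.val ((inf_centralizer_eq_bot_iff P N hNp).1 hN φ hφinv)).symm, hm,
        Nat.cast_ne_zero]
      exact left_ne_zero_of_mul hφ0
    -- a linear constituent over `N ⊔ P`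
    set J := N ⊔ (P : Subgroup G) with hJ
    haveI : Fintype J := Fintype.ofFinite J
    obtain ⟨φ, hφd, hφ⟩ := exists_pprime_constituent (IsCharacter.restrict hχc J)
      (d := charDegree (χ : G → ℂ)) (Cfsg.Agent.CharX.irr_deg χ) hχ
    have hφN : ∀ n : N, (φ : J → ℂ) (Subgroup.inclusion le_sup_left n) = (φ : J → ℂ) 1 := fun n =>
      constituent_ker (IsCharacter.restrict hχc J) φ hφ (hNker n)
    haveI : (N.subgroupOf J).Normal := Subgroup.Normal.subgroupOf inferInstance J
    haveI : Fintype (N.subgroupOf J) := Fintype.ofFinite _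
    obtain ⟨e, he, hed⟩ := exists_ratio_dvd_index (N.subgroupOf J) φ.2
      (isIrrCharacter_one (G := N.subgroupOf J)) (by
        rw [show (fun n : N.subgroupOf J => (φ : J → ℂ) n) =
          (φ : J → ℂ) 1 • fun _ : N.subgroupOf J => (1 : ℂ) from funext fun n => by
          rw [Pi.smul_apply, smul_eq_mul, mul_one]
          exact hφN ⟨((n : J) : G), n.2⟩, classInner_smul_left,
          classInner_self_irr isIrrCharacter_one, mul_one]
        exact IsIrrCharacter.one_ne_zero φ.2)
    obtain ⟨k, hk⟩ := P.isPGroup'.exists_card_eq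
    have he1 : e = 1 := by
      have hed' : e ∣ p ^ k := hed.trans (by
        show N.relIndex J ∣ p ^ k
        rw [hJ, Subgroup.relIndex_sup_left, ← hk]
        exact Subgroup.relIndex_dvd_card _ _)
      obtain ⟨i, -, rfl⟩ := (Nat.dvd_prime_pow hp.out).1 hed'
      rcases i with - | i
      · exact pow_zero p
      · exfalso
        refine hφd ⟨p ^ i, Nat.cast_injective (R := ℂ) ?_⟩
        rw [← Cfsg.Agent.CharX.irr_deg, he, pow_succ']
        simp
    have hφ1 : (φ : J → ℂ) 1 = 1 := by rw [he, he1]; simp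
    obtain ⟨f, hf⟩ := exists_hom_of_degree_one (IsIrrCharacter.isCharacter φ.2) hφ1
    set K0 := (N ⊔ ⁅(P : Subgroup G), (P : Subgroup G)⁆).normalCore with hK0
    haveI : Fintype K0 := Fintype.ofFinite K0
    have hle : N ⊔ ⁅(P : Subgroup G), (P : Subgroup G)⁆ ≤ f.ker.map J.subtype := by
      refine sup_le (fun n hn => ⟨⟨n, Subgroup.mem_sup_left hn⟩, Units.ext ?_, rfl⟩) fun y hy => ?_
      · rw [← congrFun hf, Units.val_one, ← hφ1]
        exact hφN ⟨n, hn⟩
      · have hyP : y ∈ (P : Subgroup G) := Subgroup.commutator_le_self _ hy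
        exact ⟨⟨y, Subgroup.mem_sup_right hyP⟩,
          hcomm (f.comp (Subgroup.inclusion le_sup_right)) y hyP hy, rfl⟩
    have hK0J : K0 ≤ J := ((Subgroup.normalCore_le _).trans hle).trans (Subgroup.map_subtype_le _)
    refine restrict_over_one K0 χ.2 ?_ ⟨g, hg⟩
    refine constituent_comp (Subgroup.inclusion hK0J) (IsCharacter.restrict hχc J) φ hφ
      isCharacter_one ?_
    rw [show (fun y : K0 => (φ : J → ℂ) (Subgroup.inclusion hK0J y)) = fun _ => (1 : ℂ) from
      funext fun y => by
        obtain ⟨z, hz, hzy⟩ := hle (Subgroup.normalCore_le _ y.2)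
        rw [show Subgroup.inclusion hK0J y = z from Subtype.ext hzy.symm, hf]
        exact congrArg Units.val hz, classInner_self_irr isIrrCharacter_one]
    exact one_ne_zero

end Cfsg.Agent.PPrimeKernel
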