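import Cfsg.Agent.Lib.Char.ItoPSolvable
import Cfsg.Agent.Lib.Char.CoprimeDegree
import Cfsg.Agent.Lib.Char.PPrimeDegreeKernel
import Cfsg.Agent.Lib.Solvable.Coprime
import Cfsg.Agent.Lib.Char.CyclicTI.Basic
import Cfsg.Agent.Lib.PLocal.PSolvable
import Cfsg.Agent.Lib.LocalEven.Wielandt

/-!
For primes `p ≠ q` and a `p`- and `q`-soluble group with trivial `p'`-core: if the irreducible
characters of degree prime to `p` have degree prime to `q` then `q` does not divide the order.
-/

set_option autoImplicit false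
set_option linter.style.haveILetI false
set_option linter.unusedSectionVars false

namespace Cfsg.Agent.NavarroWolfPQ

open Cfsg Cfsg.Agent.Char Cfsg.Agent.CharX Cfsg.Agent.GlaubermanMod Cfsg.Agent.PPrimeKernel
open scoped Pointwise

universe u

/-- Every irreducible character of degree prime to `p` has degree prime to `q`. -/
def DegHyp (p q : ℕ) (X : Type u) [Group X] : Prop :=
  ∀ χ : IrrCharacter X, ¬ p ∣ charDegree (χ : X → ℂ) → ¬ q ∣ charDegree (χ : X → ℂ)

theorem degHyp_surjective {p q : ℕ} {X Y : Type u} [Group X] [Finite X] [Group Y] [Finite Y]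
    (f : X →* Y) (hf : Function.Surjective f) (h : DegHyp p q X) : DegHyp p q Y := by
  intro χ hp
  haveI := Fintype.ofFinite X
  haveI := Fintype.ofFinite Y
  let χ' : IrrCharacter X := ⟨fun x => (χ : Y → ℂ) (f x), IsIrrCharacter.comp χ.2 f hf⟩
  have he : charDegree (χ' : X → ℂ) = charDegree (χ : Y → ℂ) := by
    apply Nat.cast_injective (R := ℂ)
    rw [← irr_deg χ', ← irr_deg χ]
    show (χ : Y → ℂ) (f 1) = _
    rw [map_one]
  rw [← he] at hp ⊢
  exact h χ' hp

variable {G : Type u} [Group G] [Finite G] {p q : ℕ}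

theorem not_dvd_inertia_index (h : DegHyp p q G) (U : Subgroup G) [Fintype U]
    (hidx : ¬ p ∣ U.index) (ψ : IrrCharacter U) [hp : Fact p.Prime]
    (hψ : ¬ p ∣ charDegree (ψ : U → ℂ)) (N : Subgroup G) [N.Normal] (hNU : N ≤ U) {φ : N → ℂ}
    (hφ : IsIrrCharacter N φ) (hres : ∀ n : N, (ψ : U → ℂ) ⟨n, hNU n.2⟩ = φ n) :
    ¬ q ∣ (inertia N φ).index := by
  classical
  haveI := Fintype.ofFinite G
  haveI := Fintype.ofFinite N
  have hdeg : indFun U (ψ : U → ℂ) 1 = ((U.index * charDegree (ψ : U → ℂ) : ℕ) : ℂ) := by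
    rw [indFun_one_apply, irr_deg, Nat.cast_mul]
  obtain ⟨θ, hθp, hθ⟩ := exists_pprime_constituent
    (isCharacter_indFun U (IsIrrCharacter.isCharacter ψ.2)) hdeg
    (fun hd => (hp.out.dvd_mul.1 hd).elim hidx hψ)
  have h1 : classInner (fun t : U => (θ : G → ℂ) t) (ψ : U → ℂ) ≠ 0 := by
    rw [← classInner_conj_symm, ← classInner_indFun_left U (ψ : U → ℂ)
      (IsCharacter.isClassFunction (IsIrrCharacter.isCharacter θ.2))]
    simpa using hθ
  obtain ⟨m, hm⟩ := IsCharacter.exists_decomp
    (IsCharacter.restrict (IsIrrCharacter.isCharacter θ.2) U)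
  rw [hm, classInner_combination, Nat.cast_ne_zero] at h1
  let j : N →* U := Subgroup.inclusion hNU
  choose c hc using fun ρ : IrrCharacter U => IsCharacter.exists_classInner_nat
    (IsCharacter.comp (IsIrrCharacter.isCharacter ρ.2) j) (IsIrrCharacter.isCharacter hφ)
  have hcψ : c ψ = 1 := by
    have h2 := hc ψ
    rw [show (fun n : N => (ψ : U → ℂ) (j n)) = φ from funext hres] at h2
    rw [classInner_irr hφ hφ, if_pos rfl] at h2
    exact_mod_cast h2.symm
  have hN : classInner (fun n : N => (θ : G → ℂ) n) φ = ((∑ ρ, m ρ * c ρ : ℕ) : ℂ) := by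
    have e : (fun n : N => (θ : G → ℂ) n) =
        ∑ ρ, (m ρ : ℂ) • (fun n : N => (ρ : U → ℂ) (j n)) := by
      funext n
      have := congrFun hm (j n)
      simp only [Finset.sum_apply, Pi.smul_apply] at this ⊢
      exact this
    rw [e, classInner_sum_left, Nat.cast_sum]
    exact Finset.sum_congr rfl fun ρ _ => by rw [classInner_smul_left, hc, Nat.cast_mul]
  have hne : classInner (fun n : N => (θ : G → ℂ) n) φ ≠ 0 := by
    rw [hN, Nat.cast_ne_zero]
    intro h0
    have := Finset.sum_eq_zero_iff.1 h0 ψ (Finset.mem_univ _)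
    rw [hcψ, mul_one] at this
    exact h1 this
  obtain ⟨d, hd⟩ := IsCharacter.exists_degree (IsIrrCharacter.isCharacter hφ)
  have hcl := clifford_degree N θ.2 hφ hne
  rw [hN, irr_deg, hd, ← Nat.cast_mul, ← Nat.cast_mul, Nat.cast_inj] at hcl
  intro hq
  exact h θ hθp (hcl ▸ (hq.mul_left _).mul_right _)

/-- Extension of a linear character of a normal subgroup across a complementing subgroup. -/
theorem exists_hom_extension (M P : Subgroup G) [M.Normal] (hdisj : M ⊓ P = ⊥) (l : M →* ℂˣ)
    (hinv : ∀ (u : G) (_ : u ∈ P) (m : M),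
      l ⟨u * m * u⁻¹, (inferInstance : M.Normal).conj_mem m m.2 u⟩ = l m) :
    ∃ f : (M ⊔ P : Subgroup G) →* ℂˣ, ∀ m : M, f ⟨m, Subgroup.mem_sup_left m.2⟩ = l m := by
  have huniq : ∀ a ∈ M, ∀ b ∈ P, ∀ a' ∈ M, ∀ b' ∈ P, a * b = a' * b' → a = a' ∧ b = b' := by
    intro a ha b hb a' ha' b' hb' e
    have h1 : a'⁻¹ * a = b' * b⁻¹ := by
      rw [eq_mul_inv_iff_mul_eq, mul_assoc, e, inv_mul_cancel_left]
    have h2 : a'⁻¹ * a ∈ M ⊓ P :=
      Subgroup.mem_inf.2 ⟨mul_mem (inv_mem ha') ha, h1 ▸ mul_mem hb' (inv_mem hb)⟩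
    rw [hdisj, Subgroup.mem_bot, inv_mul_eq_one] at h2
    exact ⟨h2.symm, by subst h2; exact mul_left_cancel e⟩
  have hdec : ∀ g : (M ⊔ P : Subgroup G), ∃ m : M, ∃ u ∈ P, (g : G) = m * u := by
    intro g
    have hg := g.2
    rw [← SetLike.mem_coe, Subgroup.normal_mul] at hg
    obtain ⟨a, ha, b, hb, e⟩ := hg
    exact ⟨⟨a, ha⟩, b, hb, e.symm⟩
  choose m u hu hmu using hdec
  refine ⟨MonoidHom.mk' (fun g => l (m g)) fun g g' => ?_, fun a => ?_⟩
  · show l (m (g * g')) = l (m g) * l (m g')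
    let b : M := ⟨u g * m g' * (u g)⁻¹, (inferInstance : M.Normal).conj_mem _ (m g').2 _⟩
    have e : ((g * g' : (M ⊔ P : Subgroup G)) : G) = ((m g * b : M) : G) * (u g * u g') := by
      rw [Subgroup.coe_mul, Subgroup.coe_mul]
      conv_lhs => rw [hmu g, hmu g']
      show _ = (m g : G) * (u g * m g' * (u g)⁻¹) * (u g * u g')
      group
    have := (huniq _ (m (g * g')).2 _ (hu (g * g')) _ (m g * b).2 _ (mul_mem (hu g) (hu g'))
      ((hmu (g * g')).symm.trans e)).1
    rw [Subtype.ext this, map_mul]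
    exact congrArg _ (hinv (u g) (hu g) (m g'))
  · show l (m _) = l a
    refine congrArg l (Subtype.ext ?_)
    exact (huniq _ (m _).2 _ (hu _) _ a.2 1 (one_mem P)
      ((hmu _).symm.trans (mul_one _).symm)).1

/-- A normalised Sylow subgroup of a normal subgroup inside the inertia group. -/
theorem exists_sylow_le [hq : Fact q.Prime] (R T : Subgroup G) [R.Normal] (hT : ¬ q ∣ T.index) :
    ¬ q ∣ (R ⊓ T).relIndex R := by
  intro h
  refine hT (h.trans ?_)
  rw [Subgroup.inf_relIndex_left, PBasic.relIndex_eq_relIndex_sup T R]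
  exact Dvd.intro _ (Subgroup.relIndex_mul_index (le_sup_right : T ≤ R ⊔ T))

/-- The step on fixed classes: if the characters invariant under `P` are invariant under `Q`
then `Q` centralises the fixed points of `P`. -/
theorem centralizes_fixed [hp : Fact p.Prime] [hq : Fact q.Prime] (N P Q : Subgroup G)
    [N.Normal] [Fintype N] (hP : IsPGroup p P) (hQ : IsPGroup q Q)
    (hPQ : P ≤ Subgroup.normalizer (Q : Set G)) (hNp : ¬ p ∣ Nat.card N)
    (hNq : ¬ q ∣ Nat.card N)
    (hinv : ∀ χ : IrrCharacter N, IsInv (CoprimeDegree.actOn N P) (χ : N → ℂ) →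
      IsInv (CoprimeDegree.actOn N Q) (χ : N → ℂ)) :
    ∀ c ∈ N ⊓ Subgroup.centralizer (P : Set G), ∀ x ∈ Q, x * c = c * x := by
  classical
  set A := P ⊔ Q with hA
  let act := fun B : Subgroup G => CoprimeDegree.actOn N B
  have hPA : P ≤ A := le_sup_left
  have hQA : Q ≤ A := le_sup_right
  have hdecA : ∀ a ∈ A, ∃ x ∈ P, ∃ y ∈ Q, a = x * y := by
    intro a ha
    rw [hA, ← SetLike.mem_coe, Subgroup.coe_mul_of_left_le_normalizer_right _ _ hPQ] at ha
    obtain ⟨x, hx, y, hy, e⟩ := ha
    exact ⟨x, hx, y, hy, e.symm⟩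
  haveI hQn : (Q.subgroupOf A).Normal :=
    Subgroup.normal_subgroupOf_of_le_normalizer (sup_le hPQ Subgroup.le_normalizer)
  have hAQ : IsPGroup p (A ⧸ Q.subgroupOf A) := by
    intro x
    obtain ⟨a, rfl⟩ := QuotientGroup.mk_surjective x
    obtain ⟨y, hy, z, hz, e⟩ := hdecA a a.2
    obtain ⟨k, hk⟩ := hP ⟨y, hy⟩
    refine ⟨k, ?_⟩
    have e1 : (a : A ⧸ Q.subgroupOf A) = ((⟨y, hPA hy⟩ : A) : A ⧸ Q.subgroupOf A) := by
      rw [QuotientGroup.eq, Subgroup.mem_subgroupOf]
      show (a : G)⁻¹ * y ∈ Q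
      rw [e]
      simpa using inv_mem hz
    rw [e1, ← QuotientGroup.mk_pow, QuotientGroup.eq_one_iff, Subgroup.mem_subgroupOf]
    show y ^ p ^ k ∈ Q
    rw [show y ^ p ^ k = 1 from congrArg Subtype.val hk]
    exact one_mem Q
  have hsolv : Group.IsSolvable A := by
    haveI : Group.IsNilpotent (Q.subgroupOf A) :=
      (hQ.of_equiv (Subgroup.subgroupOfEquivOfLe hQA).symm).isNilpotent
    haveI : Group.IsNilpotent (A ⧸ Q.subgroupOf A) := hAQ.isNilpotent
    exact Group.isSolvable_of_ker_le_range (Q.subgroupOf A).subtype (QuotientGroup.mk' (Q.subgroupOf A))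
      (by rw [QuotientGroup.ker_mk', Subgroup.range_subtype])
  have hcop : ∀ {B : Subgroup G}, IsPGroup p B → (Nat.card N).Coprime (Nat.card B) := by
    intro B hB
    obtain ⟨k, hk⟩ := IsPGroup.iff_card.1 hB
    rw [hk]
    exact ((Nat.Prime.coprime_iff_not_dvd hp.out).2 hNp).symm.pow_right k
  have hcopA : (Nat.card N).Coprime (Nat.card A) := by
    obtain ⟨k, hk⟩ := IsPGroup.iff_card.1 hQ
    rw [← (Q.subgroupOf A).card_mul_index, Nat.card_congr (Subgroup.subgroupOfEquivOfLe hQA).toEquiv,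
      hk]
    refine Nat.Coprime.mul_right
      (((Nat.Prime.coprime_iff_not_dvd hq.out).2 hNq).symm.pow_right k) ?_
    obtain ⟨j, hj⟩ := IsPGroup.iff_card.1 hAQ
    rw [Subgroup.index, hj]
    exact ((Nat.Prime.coprime_iff_not_dvd hp.out).2 hNp).symm.pow_right j
  -- characters
  have hchar : ∀ χ : IrrCharacter N,
      IsInv (act A) (χ : N → ℂ) ↔ IsInv (act P) (χ : N → ℂ) := by
    intro χ
    refine ⟨fun h u n => by rw [← h ⟨u, hPA u.2⟩ n]; rfl, fun h a n => ?_⟩
    obtain ⟨x, hx, y, hy, e⟩ := hdecA a a.2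
    have e1 : act A a n = act P ⟨x, hx⟩ (act Q ⟨y, hy⟩ n) := Subtype.ext (by
      show (a : G) * n * (a : G)⁻¹ = x * (y * n * y⁻¹) * x⁻¹
      rw [e]; group)
    rw [e1, h, hinv χ h]
  have hcard : Nat.card {c : ConjClasses N // CoprimeCount.IsFixedClass (act P) c} ≤
      Nat.card {c : ConjClasses N // CoprimeCount.IsFixedClass (act A) c} := by
    rw [← CoprimeCount.card_inv_irr _ N P (act P) rfl
      (by haveI := hP.isNilpotent; infer_instance) (hcop hP),
      ← CoprimeCount.card_inv_irr _ N A (act A) rfl hsolv hcopA]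
    exact (Nat.card_congr (Equiv.subtypeEquivRight fun χ => (hchar χ).symm)).le
  have hclass : ∀ c, CoprimeCount.IsFixedClass (act P) c → CoprimeCount.IsFixedClass (act A) c := by
    have hsub : ∀ c, CoprimeCount.IsFixedClass (act A) c →
        CoprimeCount.IsFixedClass (act P) c := fun c h u k hk => h ⟨u, hPA u.2⟩ k hk
    let inc : {c : ConjClasses N // CoprimeCount.IsFixedClass (act A) c} →
        {c : ConjClasses N // CoprimeCount.IsFixedClass (act P) c} := fun c => ⟨c.1, hsub _ c.2⟩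
    have hinj : Function.Injective inc := fun a b e =>
      Subtype.ext (congrArg (fun z => z.1) e)
    haveI : Finite (ConjClasses N) := Finite.of_surjective _ ConjClasses.mk_surjective
    have hb := (Nat.bijective_iff_injective_and_card inc).2
      ⟨hinj, le_antisymm (Nat.card_le_card_of_injective _ hinj) hcard⟩
    intro c hc
    obtain ⟨d, hd⟩ := hb.2 ⟨c, hc⟩
    have e : d.1 = c := congrArg Subtype.val hd
    exact e ▸ d.2
  -- every `P`-fixed element is conjugate among them to one fixed by `Q`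
  let C : Subgroup (fixedSub (act P)) :=
    { carrier := {c | ∀ u, act Q u (c : N) = c}
      one_mem' := fun u => map_one _
      mul_mem' := fun {a b} ha hb u => by
        show act Q u ((a : N) * (b : N)) = (a : N) * b
        rw [map_mul, ha u, hb u]
      inv_mem' := fun {a} ha u => by
        show act Q u (a : N)⁻¹ = (a : N)⁻¹
        rw [map_inv, ha u] }
  have hmeet : ∀ c : fixedSub (act P), ∃ y : fixedSub (act P), y * c * y⁻¹ ∈ C := by
    intro c
    have hc : CoprimeCount.IsFixedClass (act A) (ConjClasses.mk (c : N)) :=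
      hclass _ ((CoprimeCount.isFixedClass_mk _ _).2 fun u => by rw [c.2 u])
    rw [CoprimeCount.isFixedClass_mk] at hc
    obtain ⟨d, hd⟩ := exists_fixed_conj (act Q) hQ hNq (k := (c : N))
      fun u => (hc ⟨u, hQA u.2⟩).symm
    let S := {x : N // IsConj (c : N) x ∧ ∀ u, act Q u x = x}
    letI : MulAction P S :=
      { smul := fun u x => ⟨act P u x.1,
          ((hc ⟨u, hPA u.2⟩).symm).trans ((act P u : N ≃* N).toMonoidHom.map_isConj x.2.1),
          fun v => by
            have h1 := x.2.2 ⟨(u : G)⁻¹ * v * u, by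
              have := (Subgroup.mem_normalizer_iff.1 (hPQ (inv_mem u.2)) v).1 v.2
              simpa using this⟩
            refine Subtype.ext ?_
            have h2 : ((u : G)⁻¹ * v * u) * (x.1 : G) * ((u : G)⁻¹ * v * u)⁻¹ = x.1 :=
              congrArg Subtype.val h1
            show (v : G) * ((u : G) * x.1 * (u : G)⁻¹) * (v : G)⁻¹ = u * x.1 * (u : G)⁻¹
            conv_rhs => rw [← h2]
            group⟩
        one_smul := fun x => Subtype.ext (by show act P 1 x.1 = x.1; simp)
        mul_smul := fun a b x => Subtype.ext (by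
          show act P (a * b) x.1 = act P a (act P b x.1); simp) }
    have hScard : ¬ p ∣ Nat.card S := by
      have hS : Nat.card S = Nat.card {y : fixedSub (act Q) // IsConj d y} := by
        refine Nat.card_congr
          { toFun := fun x => ⟨⟨x.1, x.2.2⟩, isConj_fixed (act Q) hQ hNq (hd.symm.trans x.2.1)⟩
            invFun := fun y => ⟨y.1, hd.trans ((fixedSub (act Q)).subtype.map_isConj y.2), y.1.2⟩
            left_inv := fun x => rfl
            right_inv := fun y => rfl }
      rw [hS, Blocks.card_isConj_eq_index]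
      exact fun hdv => hNp ((hdv.trans (Subgroup.index_dvd_card _)).trans
        (Subgroup.card_subgroup_dvd_card _))
    obtain ⟨x, hx⟩ := hP.nonempty_fixed_point_of_prime_not_dvd_card S hScard
    have hxP : ∀ u, act P u x.1 = x.1 := fun u => congrArg Subtype.val (hx u)
    obtain ⟨y, hy⟩ := isConj_iff.1 (isConj_fixed (act P) hP hNp (c := c) (c' := ⟨x.1, hxP⟩) x.2.1)
    exact ⟨y, fun u => by rw [hy]; exact x.2.2 u⟩
  intro c hc x hx
  obtain ⟨hcN, hcP⟩ := Subgroup.mem_inf.1 hc
  let c' : fixedSub (act P) := ⟨⟨c, hcN⟩, fun u => Subtype.ext (by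
    show (u : G) * c * (u : G)⁻¹ = c
    rw [Subgroup.mem_centralizer_iff.1 hcP u u.2, mul_inv_cancel_right])⟩
  have : c' ∈ C := (Ito.eq_top_of_meets C hmeet) ▸ Subgroup.mem_top c'
  have := congrArg Subtype.val (this ⟨x, hx⟩)
  exact mul_inv_eq_iff_eq_mul.1 this

theorem normalizer_le_normalizer_centralizer {H : Subgroup G} :
    Subgroup.normalizer (H : Set G) ≤
      Subgroup.normalizer (Subgroup.centralizer (H : Set G) : Set G) := by
  intro g hg
  have key : ∀ g ∈ Subgroup.normalizer (H : Set G), ∀ c ∈ Subgroup.centralizer (H : Set G),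
      g * c * g⁻¹ ∈ Subgroup.centralizer (H : Set G) := by
    intro g hg c hc
    rw [Subgroup.mem_centralizer_iff] at hc ⊢
    intro h hh
    have h1 := hc (g⁻¹ * h * g) (by simpa using (Subgroup.mem_normalizer_iff.1 (inv_mem hg) h).1 hh)
    calc h * (g * c * g⁻¹) = g * ((g⁻¹ * h * g) * c) * g⁻¹ := by group
      _ = g * c * g⁻¹ * h := by rw [h1]; group
  rw [Subgroup.mem_normalizer_iff]
  exact fun c => ⟨key g hg c, fun hc => by simpa [mul_assoc] using key g⁻¹ (inv_mem hg) _ hc⟩

/-- A `q`-group in a group lies in a conjugate of a subgroup of index prime to `q`. -/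
theorem exists_conj_le [hq : Fact q.Prime] (R T Q : Subgroup G) (hQ : IsPGroup q Q) (hQR : Q ≤ R)
    (hT : ¬ q ∣ T.relIndex R) : ∃ r ∈ R, ∀ x ∈ Q, r⁻¹ * x * r ∈ T := by
  let Q' := Q.subgroupOf R
  have hQ' : IsPGroup q Q' := hQ.of_equiv (Subgroup.subgroupOfEquivOfLe hQR).symm
  obtain ⟨a, ha⟩ := hQ'.nonempty_fixed_point_of_prime_not_dvd_card (R ⧸ T.subgroupOf R)
    (show ¬ q ∣ (T.subgroupOf R).index from hT)
  obtain ⟨r, rfl⟩ := QuotientGroup.mk_surjective a
  refine ⟨r, r.2, fun x hx => ?_⟩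
  have := (ha ⟨⟨x, hQR hx⟩, hx⟩).symm
  rw [show ((⟨⟨x, hQR hx⟩, hx⟩ : Q') • (QuotientGroup.mk r : R ⧸ T.subgroupOf R)) =
    QuotientGroup.mk ((⟨x, hQR hx⟩ : R) * r) from rfl, QuotientGroup.eq,
    Subgroup.mem_subgroupOf] at this
  simpa [mul_assoc] using this

/-- A nontrivial abelian `p`-group acted on by a `p`-group has an invariant linear character that
is nontrivial and trivial on a given invariant proper subgroup. -/
theorem exists_fixed_hom [hp : Fact p.Prime] (M C P : Subgroup G) [M.Normal]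
    [hMc : IsMulCommutative M] (hM : IsPGroup p M) (hP : IsPGroup p P) (hCM : C < M)
    (hPC : P ≤ Subgroup.normalizer (C : Set G)) :
    ∃ l : M →* ℂˣ, l ≠ 1 ∧ (∀ m : M, (m : G) ∈ C → l m = 1) ∧
      ∀ (u : G) (_ : u ∈ P) (m : M),
        l ⟨u * m * u⁻¹, (inferInstance : M.Normal).conj_mem m m.2 u⟩ = l m := by
  classical
  let C' := C.subgroupOf M
  haveI : C'.Normal := Subgroup.normal_of_comm _
  let F := {l : M →* ℂˣ // ∀ m : M, (m : G) ∈ C → l m = 1}
  let e : F ≃ ((M ⧸ C') →* ℂˣ) :=
    { toFun := fun l => QuotientGroup.lift C' l.1 fun m hm => l.2 m hm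
      invFun := fun f => ⟨f.comp (QuotientGroup.mk' C'), fun m hm => by
        show f (QuotientGroup.mk m) = 1
        rw [(QuotientGroup.eq_one_iff m).2 hm, map_one]⟩
      left_inv := fun l => Subtype.ext (MonoidHom.ext fun m => rfl)
      right_inv := fun f => MonoidHom.ext fun x => by
        obtain ⟨m, rfl⟩ := QuotientGroup.mk_surjective x; rfl }
  have hcard : Nat.card F = C'.index := by
    rw [Nat.card_congr e]
    letI : CommGroup (M ⧸ C') :=
      { (inferInstance : Group (M ⧸ C')) with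
        mul_comm := fun x y => by
          obtain ⟨a, rfl⟩ := QuotientGroup.mk_surjective x
          obtain ⟨b, rfl⟩ := QuotientGroup.mk_surjective y
          rw [← QuotientGroup.mk_mul, ← QuotientGroup.mk_mul, hMc.is_comm.comm] }
    haveI : NeZero (Monoid.exponent (M ⧸ C') : ℂ) :=
      ⟨Nat.cast_ne_zero.mpr Monoid.exponent_ne_zero_of_finite⟩
    obtain ⟨e2⟩ := CommGroup.monoidHom_mulEquiv_of_hasEnoughRootsOfUnity (M ⧸ C') ℂ
    rw [Nat.card_congr e2.toEquiv]
    rfl
  haveI : Finite F := Nat.finite_of_card_ne_zero (by rw [hcard]; exact Subgroup.index_ne_zero_of_finite)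
  have hne : C'.index ≠ 1 := by
    rw [Ne, Subgroup.index_eq_one, Subgroup.subgroupOf_eq_top]
    exact fun h => hCM.not_ge h
  obtain ⟨k, hk⟩ := IsPGroup.iff_card.1 hM
  have hdvd : p ∣ Nat.card F := by
    rw [hcard]
    obtain ⟨j, -, hj⟩ := (Nat.dvd_prime_pow hp.out).1 (hk ▸ C'.index_dvd_card)
    rcases Nat.eq_zero_or_pos j with rfl | hjp
    · exact absurd (by simpa using hj) hne
    · exact hj ▸ dvd_pow_self p hjp.ne'
  let cj : P → M →* M := fun u =>
    { toFun := fun m => ⟨(u : G) * m * (u : G)⁻¹, (inferInstance : M.Normal).conj_mem m m.2 u⟩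
      map_one' := Subtype.ext (by simp)
      map_mul' := fun a b => Subtype.ext (by simp [mul_assoc]) }
  letI : MulAction P F :=
    { smul := fun u l => ⟨l.1.comp (cj u⁻¹), fun m hm => l.2 _ (by
        have := (Subgroup.mem_normalizer_iff.1 (hPC (inv_mem u.2)) (m : G)).1 hm
        simpa [cj] using this)⟩
      one_smul := fun l => Subtype.ext (MonoidHom.ext fun m => congrArg l.1 (Subtype.ext (by
        simp [cj])))
      mul_smul := fun a b l => Subtype.ext (MonoidHom.ext fun m => congrArg l.1 (Subtype.ext (by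
        simp [cj, mul_assoc]))) }
  have h1 : (⟨1, fun _ _ => rfl⟩ : F) ∈ MulAction.fixedPoints P F :=
    fun u => Subtype.ext (MonoidHom.ext fun m => rfl)
  obtain ⟨l, hl, hne1⟩ := hP.exists_fixed_point_of_prime_dvd_card_of_fixed_point F hdvd h1
  refine ⟨l.1, fun h => hne1 (Subtype.ext h.symm), l.2, fun u hu m => ?_⟩
  have := DFunLike.congr_fun (congrArg Subtype.val (hl (⟨u, hu⟩⁻¹))) m
  refine Eq.trans ?_ this
  exact congrArg l.1 (Subtype.ext (by simp [cj]))

/-- The characters invariant under the Sylow `p`-subgroup of the quotient are `Q`-invariant. -/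
theorem inv_of_inv [hp : Fact p.Prime] [hq : Fact q.Prime] {H : Type u} [Group H] [Finite H]
    (h : DegHyp p q H) (R N P Q : Subgroup H) [R.Normal] [N.Normal] [Fintype N]
    (hNp : ¬ p ∣ Nat.card N) (hP : IsPGroup p P) (hPidx : ¬ p ∣ P.index) (hQ : IsPGroup q Q)
    (hR : N ⊔ Q = R) :
    ∀ χ : IrrCharacter N, IsInv (CoprimeDegree.actOn N P) (χ : N → ℂ) →
      IsInv (CoprimeDegree.actOn N Q) (χ : N → ℂ) := by
  classical
  intro φ hφ
  haveI := Fintype.ofFinite H
  have hcf := IsCharacter.isClassFunction (IsIrrCharacter.isCharacter φ.2)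
  have hPI : P ≤ inertia N (φ : N → ℂ) := fun u hu =>
    (mem_inertia N).2 (funext fun n => hφ ⟨u, hu⟩ n)
  set U := N ⊔ P with hU
  have hUI : U ≤ inertia N (φ : N → ℂ) := sup_le (le_inertia N hcf) hPI
  have hNU : N ≤ U := le_sup_left
  haveI : Fintype U := Fintype.ofFinite U
  let e := Subgroup.subgroupOfEquivOfLe hNU
  let φ' : N.subgroupOf U → ℂ := fun n => (φ : N → ℂ) (e n)
  have hφ' : IsIrrCharacter (N.subgroupOf U) φ' := IsIrrCharacter.comp φ.2 e.toMonoidHom e.surjective
  have hcop : (Nat.card (N.subgroupOf U)).Coprime (N.subgroupOf U).index := by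
    rw [Nat.card_congr e.toEquiv]
    show (Nat.card N).Coprime (N.relIndex U)
    rw [hU, sup_comm, Subgroup.relIndex_sup_right]
    obtain ⟨k, hk⟩ := IsPGroup.iff_card.1 hP
    exact Nat.Coprime.coprime_dvd_right ((N.relIndex_dvd_card P).trans hk.dvd)
      (((Nat.Prime.coprime_iff_not_dvd hp.out).2 hNp).symm.pow_right k)
  obtain ⟨χ, hχ, hχn⟩ := CoprimeDegree.exists_extension_coprime (N.subgroupOf U) hcop hφ'
    fun g => funext fun n => by
      have := congrFun ((mem_inertia N).1 (hUI g.2)) (e n)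
      exact this
  have hres : ∀ n : N, χ ⟨n, hNU n.2⟩ = (φ : N → ℂ) n := by
    intro n
    have := hχn (e.symm n)
    simp only [φ', MulEquiv.apply_symm_apply] at this
    exact this
  have hdeg : ¬ p ∣ charDegree ((⟨χ, hχ⟩ : IrrCharacter U) : U → ℂ) := by
    have h1 : charDegree χ = charDegree (φ : N → ℂ) := by
      apply Nat.cast_injective (R := ℂ)
      rw [← irr_deg (⟨χ, hχ⟩ : IrrCharacter U), ← irr_deg φ]
      exact hres 1
    show ¬ p ∣ charDegree χ
    rw [h1]
    exact fun hd => hNp (hd.trans (irr_deg_dvd_card φ))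
  have hidx : ¬ p ∣ U.index := fun hd =>
    hPidx (hd.trans (Subgroup.index_dvd_of_le le_sup_right))
  have hI := not_dvd_inertia_index h U hidx ⟨χ, hχ⟩ hdeg N hNU φ.2 hres
  obtain ⟨r, hr, hrT⟩ := exists_conj_le R (inertia N (φ : N → ℂ)) Q hQ (hR ▸ le_sup_right)
    (fun hd => exists_sylow_le R _ hI (by rwa [Subgroup.inf_relIndex_left]))
  rw [← hR, sup_comm, ← SetLike.mem_coe, Subgroup.mul_normal] at hr
  obtain ⟨y, hy, n, hn, rfl⟩ := hr
  intro x m
  have hnI : n ∈ inertia N (φ : N → ℂ) := le_inertia N hcf hn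
  have h2 := hrT (y * x * y⁻¹) (mul_mem (mul_mem hy x.2) (inv_mem hy))
  have h3 : (x : H) ∈ inertia N (φ : N → ℂ) := by
    rw [show (x : H) = n * ((y * n)⁻¹ * (y * x * y⁻¹) * (y * n)) * n⁻¹ by group]
    exact mul_mem (mul_mem hnI h2) (inv_mem hnI)
  exact congrFun ((mem_inertia N).1 h3) m

open Cfsg.Agent in
/-- The only invariant Sylow subgroup, given that it centralises the fixed points of `P`. -/
theorem unique_invariant_sylow [hp : Fact p.Prime] [hq : Fact q.Prime] (R N P Q T : Subgroup G)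
    [R.Normal] [N.Normal] (hpR : ¬ p ∣ Nat.card R) (hP : IsPGroup p P) (hQ : IsPGroup q Q)
    (hPQ : P ≤ Subgroup.normalizer (Q : Set G)) (hR : N ⊔ Q = R) (hNQ : N ⊓ Q = ⊥)
    (hQidx : ¬ q ∣ Q.relIndex R)
    (hcent : ∀ c ∈ N ⊓ Subgroup.centralizer (P : Set G), ∀ x ∈ Q, x * c = c * x)
    (hTR : T ≤ R) (hPT : P ≤ Subgroup.normalizer (T : Set G)) (hT : ¬ q ∣ T.relIndex R) :
    Q ≤ T := by
  classical
  obtain ⟨k, hk⟩ := IsPGroup.iff_card.1 hP
  have hPR : P ≤ Subgroup.normalizer (R : Set G) := by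
    rw [Subgroup.normalizer_eq_top_iff.2 inferInstance]; exact le_top
  have hcop : ∀ {K : Subgroup G}, K ≤ R → (Nat.card P).Coprime (Nat.card K) := fun {K} hK => by
    rw [hk]
    exact ((Nat.Prime.coprime_iff_not_dvd hp.out).2
      (fun h => hpR (h.trans (Subgroup.card_dvd_of_le hK)))).pow_left k
  have hsolv : Group.IsSolvable P := by haveI := hP.isNilpotent; infer_instance
  obtain ⟨S, hS⟩ := CoprimeAct.exists_invariant_sylow hPT (hcop hTR) (Or.inl hsolv) q
  set S' := (S : Subgroup T).map T.subtype with hS'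
  have hS'T : S' ≤ T := Subgroup.map_subtype_le _
  have hS'idx : ¬ q ∣ S'.relIndex R := by
    rw [← Subgroup.relIndex_mul_relIndex S' T R hS'T hTR]
    refine fun h => (hq.out.dvd_mul.1 h).elim (fun h' => S.not_dvd_index ?_) hT
    rwa [hS', Subgroup.relIndex, Subgroup.subgroupOf, Subgroup.comap_map_eq_self_of_injective (Subgroup.subtype_injective _)] at h'
  suffices h : S' = Q from h ▸ hS'T
  -- as Sylow subgroups of `R`
  have mk : ∀ (A : Subgroup G), IsPGroup q A → A ≤ R → ¬ q ∣ A.relIndex R →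
      ∃ A1 : Sylow q R, (A1 : Subgroup R).map R.subtype = A := fun A hA hAR hi =>
    ⟨(hA.of_equiv (Subgroup.subgroupOfEquivOfLe hAR).symm).toSylow hi, by
      exact Subgroup.map_subgroupOf_eq_of_le hAR⟩
  obtain ⟨A1, hA1⟩ := mk Q hQ (hR ▸ le_sup_right) hQidx
  obtain ⟨A2, hA2⟩ := mk S' (S.isPGroup'.map T.subtype) (hS'T.trans hTR) hS'idx
  obtain ⟨c, hcC, hc⟩ := CoprimeAct.invariant_sylow_conj hPR (hcop le_rfl) (Or.inl hsolv) A1 A2
    (hA1.symm ▸ hPQ) (hA2.symm ▸ hS)
  have hcR : (c : G) ∈ N ⊔ Q := hR.symm ▸ c.2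
  rw [← SetLike.mem_coe, Subgroup.normal_mul] at hcR
  obtain ⟨n, hn, y, hy, e⟩ := hcR
  have hnP : n ∈ Subgroup.centralizer (P : Set G) := by
    rw [Subgroup.mem_centralizer_iff]
    intro u hu
    have h1 := Subgroup.mem_centralizer_iff.1 hcC u hu
    rw [← e] at h1
    have h2 : n⁻¹ * (u * n * u⁻¹) ∈ N ⊓ Q := by
      refine Subgroup.mem_inf.2 ⟨mul_mem (inv_mem hn) ((inferInstance : N.Normal).conj_mem n hn u), ?_⟩
      have h3 := (Subgroup.mem_normalizer_iff.1 (hPQ hu) y⁻¹).1 (inv_mem hy)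
      rw [show n⁻¹ * (u * n * u⁻¹) = n⁻¹ * (u * (n * y)) * y⁻¹ * u⁻¹ by group, h1,
        show n⁻¹ * (n * y * u) * y⁻¹ * u⁻¹ = y * (u * y⁻¹ * u⁻¹) by group]
      exact mul_mem hy h3
    rw [hNQ, Subgroup.mem_bot, inv_mul_eq_one] at h2
    exact mul_inv_eq_iff_eq_mul.1 h2.symm
  have hfix : MulAut.conj (c : G) • Q = Q := by
    refine SolvBasic.mem_normalizer_iff_conjSmul.1 ?_
    rw [← e]
    refine mul_mem (Subgroup.centralizer_le_normalizer _ ?_) (Subgroup.le_normalizer hy)
    exact Subgroup.mem_centralizer_iff.2 fun x hx => hcent n (Subgroup.mem_inf.2 ⟨hn, hnP⟩) x hx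
  rw [← hA2, ← hc]
  conv_rhs => rw [← hfix, ← hA1]
  exact SolvBasic.map_subtype_conjSmul c (A1 : Subgroup R)

/-- The main step: inside the complement `H` of the module `M`. -/
theorem main_step [hp : Fact p.Prime] [hq : Fact q.Prime] (h : DegHyp p q G) (M H L0 : Subgroup G)
    [M.Normal] [hMc : IsMulCommutative M] (hM : IsPGroup p M) (hMH : M ⊓ H = ⊥) (hsup : M ⊔ H = ⊤)
    (hH : DegHyp p q H) (hqs : Cfsg.IsPSolvable q H) (hpq : p ≠ q) (hL0H : L0 ≤ H)
    (hLn : (L0.subgroupOf H).Normal) (hLp : ¬ p ∣ Nat.card L0)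
    (hLM : L0 ⊓ Subgroup.centralizer (M : Set G) = ⊥) :
    ¬ q ∣ Nat.card L0 := by
  classical
  intro hdvd
  set L := L0.subgroupOf H with hLdef
  have hLcard : Nat.card L = Nat.card L0 := Nat.card_congr (Subgroup.subgroupOfEquivOfLe hL0H).toEquiv
  obtain ⟨R, hRL, hR⟩ := Finite.exists_le_minimal
    (p := fun R : Subgroup H => R.Normal ∧ R ≤ L ∧ q ∣ Nat.card R)
    (a := L) ⟨hLn, le_rfl, hLcard.symm ▸ hdvd⟩
  obtain ⟨hRn, -, hqR⟩ := hR.prop
  haveI := hRn
  have hpR : ¬ p ∣ Nat.card R := fun hd =>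
    hLp (hLcard ▸ hd.trans (Subgroup.card_dvd_of_le hRL))
  have hRbot : R ≠ ⊥ := by
    rintro rfl
    rw [Subgroup.card_bot] at hqR
    exact hq.out.not_dvd_one hqR
  obtain ⟨N, -, hN⟩ := Finite.exists_le_maximal
    (p := fun N : Subgroup H => N.Normal ∧ N < R) (a := ⊥) ⟨inferInstance, bot_lt_iff_ne_bot.2 hRbot⟩
  obtain ⟨hNn, hNR⟩ := hN.prop
  haveI := hNn
  haveI : Fintype N := Fintype.ofFinite N
  have hNq : ¬ q ∣ Nat.card N := fun hd =>
    hNR.not_ge (hR.le_of_le ⟨hNn, hNR.le.trans hRL, hd⟩ hNR.le)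
  have hNp : ¬ p ∣ Nat.card N := fun hd => hpR (hd.trans (Subgroup.card_dvd_of_le hNR.le))
  -- `R/N` is a `q`-group
  set π := QuotientGroup.mk' N with hπ
  have hsurj : Function.Surjective π := QuotientGroup.mk'_surjective N
  set Rb := R.map π with hRb
  haveI : Rb.Normal := hRn.map π hsurj
  have hRbc : Nat.card Rb = N.relIndex R := by
    conv_rhs => rw [← QuotientGroup.ker_mk' N, Subgroup.relIndex_ker]
  have hfac : Nat.card R = Nat.card N * N.relIndex R := (PBasic.card_mul_relIndex hNR.le).symm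
  have hRbq : IsPGroup q Rb := by
    have hnt : Nontrivial Rb := by
      rw [← Finite.one_lt_card_iff_nontrivial, hRbc]
      have h1 : 0 < N.relIndex R := Nat.pos_of_ne_zero Subgroup.index_ne_zero_of_finite
      by_contra h2
      rw [show N.relIndex R = 1 by omega, mul_one] at hfac
      exact hNq (hfac ▸ hqR)
    have key : ∀ S : Subgroup (H ⧸ N), S.Normal → S ≤ Rb → S ≠ ⊥ → S = Rb := by
      intro S hS hSR hS1
      haveI := hS
      have h1 : S.comap π ≤ R := by
        refine (Subgroup.comap_mono hSR).trans ?_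
        rw [hRb, Subgroup.comap_map_eq, hπ, QuotientGroup.ker_mk', sup_eq_left.2 hNR.le]
      have h2 : N ≤ S.comap π := fun x hx => by
        rw [Subgroup.mem_comap, hπ, QuotientGroup.mk'_apply, (QuotientGroup.eq_one_iff x).2 hx]
        exact one_mem S
      rcases eq_or_lt_of_le h1 with h3 | h3
      · rw [hRb, ← h3, Subgroup.map_comap_eq_self_of_surjective hsurj]
      · exfalso
        apply hS1
        have h4 := hN.le_of_ge ⟨inferInstance, h3⟩ h2
        rw [← Subgroup.map_comap_eq_self_of_surjective hsurj S, eq_bot_iff]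
        rintro _ ⟨x, hx, rfl⟩
        exact (QuotientGroup.eq_one_iff x).2 (h4 hx)
    rcases PSolvable.exists_core_ne_bot (PSolvable.subgroup Rb (PSolvable.quotient N hqs)) with h1 | h1
    · haveI := PBasic.pCore_characteristic q Rb
      have h2 := key ((Cfsg.pCore q Rb).map Rb.subtype) inferInstance (Subgroup.map_subtype_le _)
        (fun e => h1 ((Subgroup.map_eq_bot_iff_of_injective _ Rb.subtype_injective).1 e))
      exact h2 ▸ (PBasic.pCore_isPGroup q Rb).map Rb.subtype
    · exfalso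
      haveI := PBasic.pPrimeCore_characteristic q Rb
      have h2 := key ((Cfsg.pPrimeCore q Rb).map Rb.subtype) inferInstance (Subgroup.map_subtype_le _)
        (fun e => h1 ((Subgroup.map_eq_bot_iff_of_injective _ Rb.subtype_injective).1 e))
      have h3 := PBasic.pPrimeCore_coprime q Rb
      rw [← Subgroup.card_map_of_injective Rb.subtype_injective, h2, hRbc] at h3
      rw [hfac] at hqR
      exact (hq.out.dvd_mul.1 hqR).elim hNq (fun hd => hq.out.coprime_iff_not_dvd.1 h3.symm hd)
  -- a Sylow `q`-subgroup of `R` and a Sylow `p`-subgroup of `H` normalising it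
  obtain ⟨Q0⟩ : Nonempty (Sylow q R) := inferInstance
  set Q := (Q0 : Subgroup R).map R.subtype with hQdef
  have hQ : IsPGroup q Q := Q0.isPGroup'.map R.subtype
  have hQR : Q ≤ R := Subgroup.map_subtype_le _
  have hQidx : ¬ q ∣ Q.relIndex R := by
    rw [hQdef, Subgroup.relIndex, Subgroup.subgroupOf, Subgroup.comap_map_eq_self_of_injective (Subgroup.subtype_injective _)]
    exact Q0.not_dvd_index
  have hQbot : Q ≠ ⊥ := fun e => by
    rw [e, Subgroup.relIndex_bot_left] at hQidx
    exact hQidx hqR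
  have hNQ : N ⊓ Q = ⊥ := PBasic.inf_eq_bot_of_coprime
    (((Nat.Prime.coprime_iff_not_dvd hq.out).2 hNq).symm) hQ
  have hNQR : N ⊔ Q = R := by
    refine le_antisymm (sup_le hNR.le hQR) (Subgroup.relIndex_eq_one.1 ?_)
    obtain ⟨j, hj⟩ := IsPGroup.iff_card.1 hRbq
    have h1 : (N ⊔ Q).relIndex R ∣ q ^ j := by
      rw [← hj, hRbc]; exact Subgroup.relIndex_dvd_of_le_left R le_sup_left
    obtain ⟨i, -, hi⟩ := (Nat.dvd_prime_pow hq.out).1 h1
    rcases Nat.eq_zero_or_pos i with rfl | hip
    · simpa using hi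
    · exact absurd ((dvd_pow_self q hip.ne').trans (hi ▸ Subgroup.relIndex_dvd_of_le_left R le_sup_right))
        hQidx
  set NQ := Subgroup.normalizer (Q : Set H) with hNQdef
  have hNQidx : ¬ p ∣ NQ.index := by
    have h1 : NQ ⊔ R = ⊤ := Sylow.normalizer_sup_eq_top Q0
    have h2 := PBasic.relIndex_eq_relIndex_sup NQ R
    rw [sup_comm, h1, Subgroup.relIndex_top_right] at h2
    exact fun hd => hpR (hd.trans (h2 ▸ NQ.relIndex_dvd_card R))
  obtain ⟨P0⟩ : Nonempty (Sylow p NQ) := inferInstance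
  set P := (P0 : Subgroup NQ).map NQ.subtype with hPdef
  have hP : IsPGroup p P := P0.isPGroup'.map NQ.subtype
  have hPQ : P ≤ Subgroup.normalizer (Q : Set H) := Subgroup.map_subtype_le _
  have hPidx : ¬ p ∣ P.index := by
    rw [hPdef, Subgroup.index_map_subtype]
    exact fun hd => (hp.out.dvd_mul.1 hd).elim P0.not_dvd_index hNQidx
  have hinv := inv_of_inv hH R N P Q hNp hP hPidx hQ hNQR
  have hcent := centralizes_fixed N P Q hP hQ hPQ hNp hNq hinv
  -- linear characters of the module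
  set Qh := Q.map H.subtype with hQh
  set Ph := P.map H.subtype with hPh
  set C := M ⊓ Subgroup.centralizer (Qh : Set G) with hCdef
  have hQL : Qh ≤ L0 := by
    rintro _ ⟨x, hx, rfl⟩
    exact (hRL (hQR hx) : x ∈ L0.subgroupOf H)
  have hQhM : Qh ≤ Subgroup.normalizer (M : Set G) := by
    rw [Subgroup.normalizer_eq_top_iff.2 inferInstance]; exact le_top
  suffices hCM : C = M by
    apply hQbot
    rw [← Subgroup.map_eq_bot_iff_of_injective _ H.subtype_injective, ← hQh, eq_bot_iff, ← hLM]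
    refine le_inf hQL fun x hx => Subgroup.mem_centralizer_iff.2 fun m hm => ?_
    have hmC : m ∈ C := hCM.symm ▸ hm
    exact (Subgroup.mem_centralizer_iff.1 (Subgroup.mem_inf.1 hmC).2 x hx).symm
  by_contra hne
  have hPhC : Ph ≤ Subgroup.normalizer (C : Set G) := by
    refine (le_inf ?_ ?_).trans Subgroup.inf_normalizer_le_normalizer_inf
    · rw [Subgroup.normalizer_eq_top_iff.2 inferInstance]; exact le_top
    · refine le_trans ?_ normalizer_le_normalizer_centralizer
      rintro _ ⟨u, hu, rfl⟩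
      rw [Subgroup.mem_normalizer_iff]
      intro x
      constructor
      · rintro ⟨y, hy, rfl⟩
        exact ⟨u * y * u⁻¹, (Subgroup.mem_normalizer_iff.1 (hPQ hu) y).1 hy, by simp⟩
      · rintro ⟨y, hy, e⟩
        refine ⟨u⁻¹ * y * u, ?_, ?_⟩
        · have := (Subgroup.mem_normalizer_iff.1 (hPQ (inv_mem hu)) y).1 hy
          simpa using this
        · simp only [Subgroup.coe_subtype, Subgroup.coe_mul, InvMemClass.coe_inv] at e ⊢
          rw [e]; group
  obtain ⟨l, hl1, hlC, hlP⟩ := exists_fixed_hom M C Ph hM (hP.map H.subtype)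
    (lt_of_le_of_ne inf_le_left hne) hPhC
  -- an extension and the inertia group
  have hdisj : M ⊓ Ph = ⊥ := eq_bot_iff.2 (hMH ▸ inf_le_inf_left M (Subgroup.map_subtype_le P))
  set U := M ⊔ Ph with hU
  haveI : Fintype U := Fintype.ofFinite U
  haveI : Fintype M := Fintype.ofFinite M
  set π' := QuotientGroup.mk' M with hπ'
  set g := π'.comp H.subtype with hg
  have hgs : Function.Surjective g := by
    intro x
    obtain ⟨a, rfl⟩ := QuotientGroup.mk'_surjective M x
    have ha : a ∈ M ⊔ H := hsup ▸ Subgroup.mem_top a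
    rw [← SetLike.mem_coe, Subgroup.normal_mul] at ha
    obtain ⟨m, hm, b, hb, rfl⟩ := ha
    exact ⟨⟨b, hb⟩, (by
      rw [map_mul, show π' m = 1 from (QuotientGroup.eq_one_iff m).2 hm, one_mul]; rfl)⟩
  have hidxeq : ∀ T : Subgroup G, M ≤ T → T.index = (T.subgroupOf H).index := by
    intro T hT
    have e : T = (T.map π').comap π' := by
      rw [Subgroup.comap_map_eq, hπ', QuotientGroup.ker_mk', sup_eq_left.2 hT]
    conv_lhs => rw [e, Subgroup.index_comap_of_surjective _ (QuotientGroup.mk'_surjective M)]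
    conv_rhs => rw [e, ← Subgroup.comap_subtype, Subgroup.comap_comap, ← hg,
      Subgroup.index_comap_of_surjective _ hgs]
  have hUidx : ¬ p ∣ U.index := by
    rw [hidxeq U le_sup_left]
    refine fun hd => hPidx (hd.trans (Subgroup.index_dvd_of_le fun u hu => ?_))
    exact Subgroup.mem_sup_right (Subgroup.mem_map_of_mem _ hu)
  obtain ⟨f, hf⟩ := exists_hom_extension M Ph hdisj l hlP
  let ψ : IrrCharacter U := ⟨fun x => (f x : ℂ), isIrrCharacter_linear f⟩
  have hψdeg : ¬ p ∣ charDegree (ψ : U → ℂ) := by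
    have h1 : charDegree (ψ : U → ℂ) = 1 := by
      apply Nat.cast_injective (R := ℂ)
      rw [← irr_deg ψ, Nat.cast_one]
      show (f 1 : ℂ) = 1
      rw [map_one, Units.val_one]
    rw [h1]; exact hp.out.not_dvd_one
  set lc : M → ℂ := fun m => (l m : ℂ) with hlc
  have hI := not_dvd_inertia_index h U hUidx ψ hψdeg M le_sup_left
    (isIrrCharacter_linear l) (fun m => congrArg Units.val (hf m))
  set T := R ⊓ (inertia M lc).subgroupOf H with hTdef
  have hTidx : ¬ q ∣ T.relIndex R := exists_sylow_le R _ (by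
    rw [← hidxeq _ (le_inertia M (IsCharacter.isClassFunction
      (IsIrrCharacter.isCharacter (isIrrCharacter_linear l))))]
    exact hI)
  have hPI : P ≤ (inertia M lc).subgroupOf H := fun u hu =>
    (mem_inertia M).2 (funext fun m => congrArg Units.val (hlP _ (Subgroup.mem_map_of_mem _ hu) m))
  have hQT : Q ≤ T := unique_invariant_sylow R N P Q T hpR hP hQ hPQ hNQR hNQ hQidx hcent
    inf_le_left
    ((le_inf (by rw [Subgroup.normalizer_eq_top_iff.2 inferInstance]; exact le_top)
      (hPI.trans Subgroup.le_normalizer)).trans Subgroup.inf_normalizer_le_normalizer_inf) hTidx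
  -- `l` kills `⁅M, Q⁆` and `C`
  let K : Subgroup G := (l.ker).map M.subtype
  have hMK : M ≤ K := by
    haveI : IsMulCommutative M := hMc
    have hcop : (Nat.card Qh).Coprime (Nat.card M) := by
      obtain ⟨i, hi⟩ := IsPGroup.iff_card.1 (hQ.map H.subtype)
      obtain ⟨j, hj⟩ := IsPGroup.iff_card.1 hM
      rw [hi, hj]
      exact (((Nat.coprime_primes hq.out hp.out).2 hpq.symm).pow i j)
    refine (CoprimeAct.centralizer_sup_commutator hQhM hcop).ge.trans (sup_le ?_ ?_)
    · exact fun m hm => ⟨⟨m, hm.1⟩, hlC ⟨m, hm.1⟩ hm, rfl⟩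
    · rw [Subgroup.commutator_le]
      rintro m hm _ ⟨x, hx, rfl⟩
      have hxI : (x : G) ∈ inertia M lc := (Subgroup.mem_inf.1 (hQT hx)).2
      have h1 : l ⟨x * m * (x : G)⁻¹, (inferInstance : M.Normal).conj_mem m hm x⟩ = l ⟨m, hm⟩ :=
        Units.ext (congrFun ((mem_inertia M).1 hxI) ⟨m, hm⟩)
      refine ⟨⟨m, hm⟩ * (⟨x * m * (x : G)⁻¹, (inferInstance : M.Normal).conj_mem m hm x⟩ : M)⁻¹,
        ?_, ?_⟩
      · rw [SetLike.mem_coe, MonoidHom.mem_ker, map_mul, map_inv, h1, mul_inv_cancel]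
      · simp [commutatorElement_def, mul_assoc]
  refine hl1 (MonoidHom.ext fun m => ?_)
  obtain ⟨m', hm', e⟩ := hMK m.2
  obtain rfl : m' = m := Subtype.ext e
  exact hm'

theorem exists_minimal_step : ∀ (n : ℕ) (X : Type u) [Group X] [Finite X] [Fact p.Prime]
    [Fact q.Prime], Nat.card X = n → p ≠ q → Cfsg.IsPSolvable p X → Cfsg.IsPSolvable q X →
    Cfsg.pPrimeCore p X = ⊥ → DegHyp p q X → ¬ q ∣ Nat.card X := by
  intro n
  induction n using Nat.strong_induction_on with
  | _ n ih =>
    intro X _ _ hp hq hn hpq hps hqs hO hX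
    classical
    by_cases hnt : Nontrivial X
    swap
    · rw [not_nontrivial_iff_subsingleton] at hnt
      rw [Nat.card_of_subsingleton (1 : X)]
      exact hq.out.not_dvd_one
    haveI := hnt
    have hcore : Cfsg.pCore p X ≠ ⊥ :=
      (PSolvable.exists_core_ne_bot hps).resolve_right (not_not.2 hO)
    haveI := PBasic.pCore_characteristic p X
    obtain ⟨M, hMn, hM1, hMle, hMmin⟩ := LEWielandt.exists_minimal_normal
      (inferInstance : (Cfsg.pCore p X).Normal) hcore
    haveI := hMn
    have hM : IsPGroup p M := (PBasic.pCore_isPGroup p X).to_le hMle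
    haveI : Nontrivial M := M.nontrivial_iff_ne_bot.2 hM1
    haveI hMc : IsMulCommutative M := by
      haveI := hM.center_nontrivial
      have h1 : ((Subgroup.center M).map M.subtype) = M := by
        refine (hMmin _ inferInstance (Subgroup.map_subtype_le _)).resolve_left fun h => ?_
        exact (Subgroup.center M).nontrivial_iff_ne_bot.1 inferInstance
          ((Subgroup.map_eq_bot_iff_of_injective _ M.subtype_injective).1 h)
      refine ⟨⟨fun a b => ?_⟩⟩
      obtain ⟨c, hc, e⟩ := h1.ge a.2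
      obtain rfl : c = a := Subtype.ext e
      exact ((Subgroup.mem_center_iff.1 hc) b).symm
    set π := QuotientGroup.mk' M with hπ
    have hsurj : Function.Surjective π := QuotientGroup.mk'_surjective M
    set T0 := Cfsg.pPrimeCore p (X ⧸ M) with hT0
    set T := T0.comap π with hT
    have hMT : M ≤ T := fun m hm => by
      rw [hT, Subgroup.mem_comap, hπ, QuotientGroup.mk'_apply, (QuotientGroup.eq_one_iff m).2 hm]
      exact one_mem T0
    have hTn : T.Normal := Subgroup.Normal.comap inferInstance π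
    have hlt : Nat.card ((X ⧸ M) ⧸ T0) < n := by
      refine (Nat.card_le_card_of_surjective _ (QuotientGroup.mk'_surjective T0)).trans_lt ?_
      rw [← hn, Subgroup.card_eq_card_quotient_mul_card_subgroup M]
      exact lt_mul_of_one_lt_right Nat.card_pos (Finite.one_lt_card)
    have hTidx : ¬ q ∣ T.index := by
      rw [hT, Subgroup.index_comap_of_surjective _ hsurj]
      exact ih _ hlt _ rfl hpq (PSolvable.quotient T0 (PSolvable.quotient M hps))
        (PSolvable.quotient T0 (PSolvable.quotient M hqs))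
        (PBasic.pPrimeCore_quotient_pPrimeCore p (X ⧸ M))
        (degHyp_surjective ((QuotientGroup.mk' T0).comp π)
          ((QuotientGroup.mk'_surjective T0).comp hsurj) hX)
    have hTp : ¬ p ∣ M.relIndex T := by
      conv => rw [← QuotientGroup.ker_mk' M, Subgroup.relIndex_ker]
      have h1 : Nat.card ↥(π '' (T : Set X)) = Nat.card T0 := by
        rw [hT, Subgroup.coe_comap, Set.image_preimage_eq _ hsurj]
        rfl
      rw [show Nat.card ↥(T.map π) = Nat.card ↥(π '' (T : Set X)) from rfl] at *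
      rw [h1]
      exact hp.out.coprime_iff_not_dvd.1 (PBasic.pPrimeCore_coprime p _).symm
    haveI : (M.subgroupOf T).Normal := inferInstance
    obtain ⟨i, hi⟩ := IsPGroup.iff_card.1 hM
    obtain ⟨K, hK⟩ := Subgroup.exists_right_complement'_of_coprime (N := M.subgroupOf T) (by
      rw [Nat.card_congr (Subgroup.subgroupOfEquivOfLe hMT).toEquiv, hi]
      exact ((Nat.Prime.coprime_iff_not_dvd hp.out).2 hTp).pow_left i)
    set L0 := K.map T.subtype with hL0
    have hL0T : L0 ≤ T := Subgroup.map_subtype_le _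
    have hLc : Nat.card L0 = M.relIndex T := by
      rw [hL0, Subgroup.card_map_of_injective T.subtype_injective]
      exact (hK.symm.index_eq_card).symm
    have hLp : ¬ p ∣ Nat.card L0 := hLc ▸ hTp
    have hcopLM : (Nat.card L0).Coprime (Nat.card M) := by
      rw [hi]; exact ((Nat.Prime.coprime_iff_not_dvd hp.out).2 hLp).symm.pow_right i
    have hTsup : M ⊔ L0 = T := by
      have h1 := congrArg (Subgroup.map T.subtype) hK.sup_eq_top
      rw [Subgroup.map_sup, Subgroup.map_subgroupOf_eq_of_le hMT, ← MonoidHom.range_eq_map,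
        Subgroup.range_subtype] at h1
      exact h1
    have hqT : q ∣ Nat.card X → q ∣ Nat.card L0 := by
      intro hd
      rw [← T.card_mul_index, ← PBasic.card_mul_relIndex hMT, ← hLc, hi] at hd
      rcases hq.out.dvd_mul.1 hd with hd | hd
      · rcases hq.out.dvd_mul.1 hd with hd | hd
        · exact absurd ((Nat.prime_dvd_prime_iff_eq hq.out hp.out).1 (hq.out.dvd_of_dvd_pow hd))
            hpq.symm
        · exact hd
      · exact absurd hd hTidx
    set H := Subgroup.normalizer (L0 : Set X) with hH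
    have hsup : M ⊔ H = ⊤ := by
      rw [eq_top_iff]
      intro g _
      have hB : MulAut.conj g • L0 ≤ M ⊔ L0 := by
        rw [hTsup]
        intro x hx
        rw [Subgroup.mem_pointwise_smul_iff_inv_smul_mem, MulAut.smul_def, MulAut.conj_inv_apply] at hx
        have := hTn.conj_mem _ (hL0T hx) g
        simpa [mul_assoc] using this
      obtain ⟨k, hk, hkB⟩ := SchurZ.conj_in (A := L0) (K := M)
        (by rw [Subgroup.normalizer_eq_top_iff.2 hMn]; exact le_top) hcopLM
        (Or.inr (Group.isSolvable_of_comm fun a b => hMc.is_comm.comm a b)) hB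
        (SolvBasic.card_conjSmul _ _)
      have hkg : k⁻¹ * g ∈ H := by
        rw [hH, SolvBasic.mem_normalizer_iff_conjSmul, ← SolvBasic.conjSmul_conjSmul, ← hkB,
          SolvBasic.conjSmul_inv_conjSmul]
      rw [show g = k * (k⁻¹ * g) by group]
      exact mul_mem (Subgroup.mem_sup_left hk) (Subgroup.mem_sup_right hkg)
    have hnorm : ∀ D : Subgroup X, M ≤ Subgroup.normalizer (D : Set X) →
        H ≤ Subgroup.normalizer (D : Set X) → D.Normal := fun D h1 h2 =>
      Subgroup.normalizer_eq_top_iff.1 (top_le_iff.1 (hsup ▸ sup_le h1 h2))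
    have hMself : M ≤ Subgroup.centralizer (M : Set X) := fun a ha =>
      Subgroup.mem_centralizer_iff.2 fun b hb =>
        congrArg Subtype.val (hMc.is_comm.comm (⟨b, hb⟩ : M) ⟨a, ha⟩)
    have hMnorm : H ≤ Subgroup.normalizer (M : Set X) := by
      rw [Subgroup.normalizer_eq_top_iff.2 hMn]; exact le_top
    have hD := hMmin (M ⊓ H) (hnorm _
      (hMself.trans ((Subgroup.centralizer_le inf_le_left).trans (Subgroup.centralizer_le_normalizer _)))
      ((le_inf hMnorm Subgroup.le_normalizer).trans Subgroup.inf_normalizer_le_normalizer_inf))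
      inf_le_left
    rcases hD with hD | hD
    swap
    · have hHtop : H = ⊤ := by rw [← hsup]; exact (sup_eq_right.2 (inf_eq_left.1 hD)).symm
      have hL0n : L0.Normal := Subgroup.normalizer_eq_top_iff.1 hHtop
      have hL0bot : L0 = ⊥ := le_bot_iff.1 (hO ▸ PBasic.le_pPrimeCore hL0n
        ((Nat.Prime.coprime_iff_not_dvd hp.out).2 hLp).symm)
      intro hd
      have := hqT hd
      rw [hL0bot, Subgroup.card_bot] at this
      exact hq.out.not_dvd_one this
    have hLM : L0 ⊓ Subgroup.centralizer (M : Set X) = ⊥ := by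
      have hEn := hnorm (L0 ⊓ Subgroup.centralizer (M : Set X))
        (fun m hm => Subgroup.centralizer_le_normalizer _ (Subgroup.mem_centralizer_iff.2
          fun x hx => (Subgroup.mem_centralizer_iff.1 (Subgroup.mem_inf.1 hx).2 m hm).symm))
        ((le_inf le_rfl (hMnorm.trans normalizer_le_normalizer_centralizer)).trans
          Subgroup.inf_normalizer_le_normalizer_inf)
      refine le_bot_iff.1 (hO ▸ PBasic.le_pPrimeCore hEn ?_)
      exact Nat.Coprime.coprime_dvd_left (Subgroup.card_dvd_of_le inf_le_left)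
        ((Nat.Prime.coprime_iff_not_dvd hp.out).2 hLp).symm
    have hHhyp : DegHyp p q H := by
      let g := π.comp H.subtype
      have hg : Function.Bijective g := by
        refine ⟨(injective_iff_map_eq_one g).2 fun x hx => Subtype.ext ?_, fun y => ?_⟩
        · have : (x : X) ∈ M ⊓ H :=
            Subgroup.mem_inf.2 ⟨(QuotientGroup.eq_one_iff (x : X)).1 hx, x.2⟩
          rw [hD, Subgroup.mem_bot] at this
          exact this
        · obtain ⟨a, rfl⟩ := hsurj y
          have ha : a ∈ M ⊔ H := hsup ▸ Subgroup.mem_top a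
          rw [← SetLike.mem_coe, Subgroup.normal_mul] at ha
          obtain ⟨m, hm, b, hb, rfl⟩ := ha
          exact ⟨⟨b, hb⟩, (by
            rw [map_mul, show π m = 1 from (QuotientGroup.eq_one_iff m).2 hm, one_mul]; rfl)⟩
      exact degHyp_surjective (MulEquiv.ofBijective g hg).symm.toMonoidHom
        (MulEquiv.surjective _) (degHyp_surjective π hsurj hX)
    intro hd
    exact main_step hX M H L0 hM hD hsup hHhyp (PSolvable.subgroup H hqs) hpq
      Subgroup.le_normalizer Subgroup.normal_in_normalizer hLp hLM (hqT hd)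

end Cfsg.Agent.NavarroWolfPQ
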