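import Cfsg.Agent.Lib.Char.Indicator
import Mathlib.LinearAlgebra.Matrix.NonsingularInverse
import Mathlib.LinearAlgebra.FreeModule.Finite.Basic

/-!
# Indicator one for real characters with a fixed space of odd dimension
-/

set_option linter.style.haveILetI false
set_option autoImplicit false

namespace Cfsg.Agent.Char

open scoped ComplexConjugate Matrix
open Module

universe u

variable {n : ℕ}

/-- The trace of an idempotent commuting with a non-degenerate alternating form is even. -/
theorem exists_even_trace (e w : Matrix (Fin n) (Fin n) ℂ) (he : e * e = e) (hw : wᵀ = -w)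
    (hdet : w.det ≠ 0) (hew : e * w = w * eᵀ) : ∃ m : ℕ, Even m ∧ e.trace = m := by
  classical
  set L : (Fin n → ℂ) →ₗ[ℂ] (Fin n → ℂ) := Matrix.toLin' e with hL
  set W := LinearMap.range L with hW
  let b := Module.finBasis ℂ W
  have hL2 : ∀ v, L (L v) = L v := fun v => by
    rw [hL, Matrix.toLin'_apply, Matrix.toLin'_apply, Matrix.mulVec_mulVec, he]
  let π : (Fin n → ℂ) →ₗ[ℂ] W := L.rangeRestrict
  set B := LinearMap.toMatrix b (Pi.basisFun ℂ (Fin n)) W.subtype with hB
  set C := LinearMap.toMatrix (Pi.basisFun ℂ (Fin n)) b π with hC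
  have hBC : B * C = e := by
    rw [hB, hC, ← LinearMap.toMatrix_comp, show W.subtype ∘ₗ π = L from LinearMap.ext fun v => rfl,
      LinearMap.toMatrix_eq_toMatrix', hL, LinearMap.toMatrix'_toLin']
  have hCB : C * B = 1 := by
    rw [hB, hC, ← LinearMap.toMatrix_comp, show π ∘ₗ W.subtype = LinearMap.id from
      LinearMap.ext fun v => Subtype.ext (by
        obtain ⟨y, hy⟩ := v.2
        show L v = v
        rw [← hy, hL2]), LinearMap.toMatrix_id]
  refine ⟨finrank ℂ W, ?_, ?_⟩
  · have hu := (Matrix.isUnit_iff_isUnit_det w).mpr (isUnit_iff_ne_zero.mpr hdet)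
    set X := C * w * Cᵀ with hX
    have hinv : X * (Bᵀ * w⁻¹ * B) = 1 := by
      have h1 : Cᵀ * Bᵀ = eᵀ := by rw [← Matrix.transpose_mul, hBC]
      calc X * (Bᵀ * w⁻¹ * B) = C * (w * (Cᵀ * Bᵀ)) * w⁻¹ * B := by
            simp only [hX, Matrix.mul_assoc]
        _ = C * (e * w) * w⁻¹ * B := by rw [h1, hew]
        _ = C * e * (w * w⁻¹) * B := by simp only [Matrix.mul_assoc]
        _ = C * e * B := by
            rw [Matrix.mul_nonsing_inv _ (isUnit_iff_ne_zero.mpr hdet), Matrix.mul_one]
        _ = (C * B) * (C * B) := by rw [← hBC]; simp only [Matrix.mul_assoc]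
        _ = 1 := by rw [hCB, Matrix.one_mul]
    have hXT : Xᵀ = -X := by
      simp only [hX, Matrix.transpose_mul, Matrix.transpose_transpose, hw, Matrix.neg_mul,
        Matrix.mul_neg, Matrix.mul_assoc]
    by_contra hodd
    rw [Nat.not_even_iff_odd] at hodd
    have hdX : X.det ≠ 0 := by
      intro h
      have := congrArg Matrix.det hinv
      rw [Matrix.det_mul, h, zero_mul, Matrix.det_one] at this
      exact zero_ne_one this
    apply hdX
    have h2 := congrArg Matrix.det hXT
    rw [Matrix.det_transpose, Matrix.det_neg, Fintype.card_fin, hodd.neg_one_pow, neg_one_mul] at h2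
    linear_combination (1 / 2 : ℂ) * h2
  · rw [← hBC, Matrix.trace_mul_comm, hCB, Matrix.trace_one, Fintype.card_fin]

variable {G : Type u} [Group G]

/-- A real irreducible character with trivial multiplicity of odd parity on some subgroup has
indicator one. -/
theorem indicator_one_of_odd_fixed [Fintype G] (ρ : Representation ℂ G (Fin n → ℂ)) [ρ.IsIrreducible]
    (hreal : ∀ s, conj (ρ.character s) = ρ.character s) (P : Subgroup G) [Fintype P] {m : ℕ}
    (hm : Cfsg.classInner (fun x : P => ρ.character x) (fun _ => 1) = m) (hodd : Odd m) :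
    (Nat.card G : ℂ)⁻¹ * ∑ s : G, ρ.character (s * s) = 1 := by
  classical
  obtain ⟨c, hc, hν, w, hw0, hwT, hw⟩ := (indicator_cases ρ).1 hreal
  rcases hc with rfl | rfl
  · exact hν
  exfalso
  set T : G → Matrix (Fin n) (Fin n) ℂ := fun s => LinearMap.toMatrix' (ρ s) with hTdef
  have hTmul : ∀ s t, T s * T t = T (s * t) := fun s t => by
    simp only [hTdef, map_mul, Module.End.mul_eq_comp, LinearMap.toMatrix'_comp]
  have hT1 : T 1 = 1 := by simp [hTdef, Module.End.one_eq_id]
  have hcomm : ∀ s, T s * w = w * (T s⁻¹)ᵀ := by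
    intro s
    conv_rhs => rw [← hw s, congRep_apply]
    show T s * w = T s * w * (T s)ᵀ * (T s⁻¹)ᵀ
    rw [Matrix.mul_assoc _ _ (T s⁻¹)ᵀ, ← Matrix.transpose_mul, hTmul, inv_mul_cancel, hT1,
      Matrix.transpose_one, Matrix.mul_one]
  let W : Subrepresentation ρ := ⟨LinearMap.range w.mulVecLin, by
    rintro s _ ⟨y, rfl⟩
    refine ⟨(T s⁻¹)ᵀ *ᵥ y, ?_⟩
    rw [Matrix.mulVecLin_apply, Matrix.mulVecLin_apply, Matrix.mulVec_mulVec, ← hcomm,
      ← Matrix.mulVec_mulVec]
    exact LinearMap.toMatrix'_mulVec (ρ s) _⟩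
  haveI : IsSimpleOrder (Subrepresentation ρ) := ‹ρ.IsIrreducible›
  have htop : LinearMap.range w.mulVecLin = ⊤ := by
    rcases eq_bot_or_eq_top W with h | h
    · have h' : LinearMap.range w.mulVecLin = ⊥ := congrArg Subrepresentation.toSubmodule h
      refine absurd (Matrix.ext_iff_mulVec.mpr fun y => ?_) hw0
      rw [Matrix.zero_mulVec]
      exact LinearMap.congr_fun (LinearMap.range_eq_bot.mp h') y
    · exact congrArg Subrepresentation.toSubmodule h
  have hdet : w.det ≠ 0 := by
    have hsurj : Function.Surjective w.mulVecLin := LinearMap.range_eq_top.mp htop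
    have := Matrix.mulVec_surjective_iff_isUnit.mp hsurj
    exact ((Matrix.isUnit_iff_isUnit_det w).mp this).ne_zero
  set E : Matrix (Fin n) (Fin n) ℂ := (Nat.card P : ℂ)⁻¹ • ∑ x : P, T x with hE
  have habs : ∀ y : P, T y * ∑ x : P, T x = ∑ x : P, T x := fun y => by
    rw [Finset.mul_sum]
    exact Fintype.sum_equiv (Equiv.mulLeft y) _ _ fun x => by
      rw [Equiv.coe_mulLeft, Subgroup.coe_mul, hTmul]
  have hEE : E * E = E := by
    rw [hE, Matrix.smul_mul, Matrix.mul_smul, Finset.sum_mul, Finset.sum_congr rfl fun y _ => habs y,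
      Finset.sum_const, Finset.card_univ, ← Nat.card_eq_fintype_card, ← Nat.cast_smul_eq_nsmul ℂ,
      smul_smul _ (Nat.card P : ℂ), inv_mul_cancel₀ (Nat.cast_ne_zero.mpr Nat.card_pos.ne'), one_smul]
  have hEw : E * w = w * Eᵀ := by
    rw [hE, Matrix.smul_mul, Matrix.transpose_smul, Matrix.mul_smul, Finset.sum_mul,
      Matrix.transpose_sum, Finset.mul_sum]
    congr 1
    exact Fintype.sum_equiv (Equiv.inv P) _ _ fun x => by
      rw [hcomm]; rfl
  have hwT' : wᵀ = -w := by rw [hwT]; simp
  obtain ⟨k, hk, htr⟩ := exists_even_trace E w hEE hwT' hdet hEw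
  have htrm : E.trace = (m : ℂ) := by
    rw [← hm, hE, Matrix.trace_smul, Matrix.trace_sum, Cfsg.classInner, smul_eq_mul]
    congr 1
    exact Finset.sum_congr rfl fun x _ => by rw [map_one, mul_one, char_eq_trace]
  rw [htrm, Nat.cast_inj] at htr
  exact Nat.not_even_iff_odd.mpr hodd (htr ▸ hk)

end Cfsg.Agent.Char
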