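import Cfsg.Agent.Lib.Char.Multiplicity
import Cfsg.Agent.Lib.Char.DegreeCenter
import Cfsg.Agent.Lib.Char.Degree
import Cfsg.Agent.Lib.Char.Orbit
import Cfsg.Agent.Lib.Char.FrobeniusKernel
import Cfsg.Agent.Lib.Char.Complete
import Mathlib.GroupTheory.SchurZassenhaus
import Mathlib.GroupTheory.SpecificGroups.Cyclic

/-!
# Faithful characters of prime codegree
-/

set_option linter.style.haveILetI false
set_option linter.unusedSectionVars false

namespace Cfsg.Agent.PrimeCodegree

open Cfsg Cfsg.Agent.Char Cfsg.Agent.CharX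

universe u

variable {G : Type u} [Group G] [Finite G]

theorem degree_sq_le (χ : IrrCharacter G) : charDegree (χ : G → ℂ) ^ 2 ≤ Nat.card G := by
  classical
  haveI := Fintype.ofFinite G
  rw [← sum_deg_sq]
  exact Finset.single_le_sum (f := fun ψ : IrrCharacter G => charDegree (ψ : G → ℂ) ^ 2)
    (fun ψ _ => Nat.zero_le _) (Finset.mem_univ χ)

/-- The structure behind a faithful character of prime codegree. -/
theorem structure_exists (χ : IrrCharacter G)
    (hfaith : ∀ g : G, (χ : G → ℂ) g = (χ : G → ℂ) 1 → g = 1) (p : ℕ) (hp : p.Prime)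
    (hcod : Nat.card G = p * charDegree (χ : G → ℂ)) :
    ∃ P : Subgroup G, P.Normal ∧ Nat.card P = p ∧
      Subgroup.centralizer (P : Set G) ≤ P ∧ Nat.Coprime (Nat.card P) P.index := by
  classical
  haveI := Fact.mk hp
  haveI := Fintype.ofFinite G
  set d := charDegree (χ : G → ℂ) with hd
  have hd0 : 0 < d := irr_deg_pos χ
  have hdle : d ≤ p := by
    have h := degree_sq_le χ
    rw [hcod, sq] at h
    exact Nat.le_of_mul_le_mul_right h hd0
  have hdlt : d < p := by
    refine lt_of_le_of_ne hdle fun h => ?_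
    have hG2 : Nat.card G = p ^ 2 := by rw [hcod, h, sq]
    have hcomm : ∀ a b : G, a * b = b * a := (IsPGroup.commutative_of_card_eq_prime_sq hG2)
    have h1 := degree_one_of_comm hcomm χ.2
    rw [irr_deg, Nat.cast_eq_one, ← hd, h] at h1
    exact hp.ne_one h1
  let P : Sylow p G := default
  have hPc : Nat.card (P : Subgroup G) = p := by
    rw [P.card_eq_multiplicity, hcod, Nat.factorization_mul hp.ne_zero hd0.ne']
    simp [hp.factorization_self, Nat.factorization_eq_zero_of_lt hdlt]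
  have hidx : (P : Subgroup G).index = d := by
    have h := (P : Subgroup G).card_mul_index
    rw [hPc, hcod] at h
    exact Nat.eq_of_mul_eq_mul_left hp.pos h
  have hnormal : (P : Subgroup G).Normal := by
    refine Subgroup.normalizer_eq_top_iff.1 (Subgroup.index_eq_one.1 ?_)
    refine (P.card_eq_index_normalizer).symm.trans ?_
    have hn1 := card_sylow_modEq_one p G
    have hn2 : Nat.card (Sylow p G) ∣ d := hidx ▸ P.card_dvd_index
    have hlt : Nat.card (Sylow p G) < p := (Nat.le_of_dvd hd0 hn2).trans_lt hdlt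
    rw [Nat.ModEq, Nat.mod_eq_of_lt hlt, Nat.mod_eq_of_lt hp.one_lt] at hn1
    exact hn1
  have hcop : Nat.Coprime (Nat.card (P : Subgroup G)) (P : Subgroup G).index := by
    rw [hPc, hidx]
    exact (hp.coprime_iff_not_dvd).2 fun h => (Nat.le_of_dvd hd0 h).not_gt hdlt
  refine ⟨P, hnormal, hPc, ?_, hcop⟩
  -- the p-complement of the centraliser
  set C := Subgroup.centralizer ((P : Subgroup G) : Set G) with hC
  haveI : IsCyclic (P : Subgroup G) := isCyclic_of_prime_card hPc
  have hPC : (P : Subgroup G) ≤ C := fun x hx => by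
    rw [hC, Subgroup.mem_centralizer_iff]
    intro y hy
    exact congrArg Subtype.val (mul_comm' (⟨y, hy⟩ : (P : Subgroup G)) ⟨x, hx⟩)
  haveI : ((P : Subgroup G).subgroupOf C).Normal := hnormal.subgroupOf C
  have hcopC : Nat.Coprime (Nat.card ((P : Subgroup G).subgroupOf C))
      ((P : Subgroup G).subgroupOf C).index := by
    rw [Nat.card_congr (Subgroup.subgroupOfEquivOfLe hPC).toEquiv]
    exact hcop.coprime_dvd_right (Subgroup.relIndex_dvd_index_of_normal (P : Subgroup G) C)
  obtain ⟨D₀, hD₀⟩ := Subgroup.exists_right_complement'_of_coprime hcopC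
  set D := D₀.map C.subtype with hD
  have hDc : Nat.card D₀ = ((P : Subgroup G).subgroupOf C).index := (hD₀.symm.index_eq_card).symm
  have hDcop : Nat.Coprime p (Nat.card D₀) := by
    rw [hDc]; rw [Nat.card_congr (Subgroup.subgroupOfEquivOfLe hPC).toEquiv, hPc] at hcopC
    exact hcopC
  have hmemD : ∀ x : C, x ∈ D₀ ↔ (orderOf x).Coprime p := by
    intro x
    constructor
    · intro hx
      exact Nat.Coprime.coprime_dvd_left (Subgroup.orderOf_dvd_natCard _ hx) hDcop.symm
    · intro hx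
      obtain ⟨⟨⟨a, ha⟩, ⟨b, hb⟩⟩, hab : a * b = x, -⟩ := hD₀.existsUnique x
      have hca : Commute a b := by
        refine Subtype.ext ?_
        exact Subgroup.mem_centralizer_iff.1 b.2 a (Subgroup.mem_subgroupOf.1 ha)
      have hb' : orderOf b ∣ Nat.card D₀ := Subgroup.orderOf_dvd_natCard _ hb
      have h1 : a ^ Nat.card D₀ = x ^ Nat.card D₀ := by
        rw [← hab, hca.mul_pow, orderOf_dvd_iff_pow_eq_one.1 hb', mul_one]
      have h2 : a = 1 := by
        rw [← orderOf_eq_one_iff]
        refine Nat.eq_one_of_dvd_coprimes hDcop ?_ ?_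
        · rw [← hPc, ← Nat.card_congr (Subgroup.subgroupOfEquivOfLe hPC).toEquiv]
          exact Subgroup.orderOf_dvd_natCard _ ha
        · by_contra hnd
          have hdp : orderOf (x ^ Nat.card D₀) ∣ orderOf x := orderOf_pow_dvd _
          have hap : orderOf a ∣ p := by
            rw [← hPc, ← Nat.card_congr (Subgroup.subgroupOfEquivOfLe hPC).toEquiv]
            exact Subgroup.orderOf_dvd_natCard _ ha
          rcases (Nat.dvd_prime hp).1 hap with e | e
          · exact hnd (e ▸ one_dvd _)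
          · have hpa : orderOf (a ^ Nat.card D₀) = p := by
              rw [Nat.Coprime.orderOf_pow (e ▸ hDcop), e]
            rw [h1] at hpa
            exact (hp.coprime_iff_not_dvd.1 hx.symm) (hpa ▸ hdp)
      rw [← hab, h2, one_mul]
      exact hb
  haveI hDn : D.Normal := ⟨fun y hy g => by
    obtain ⟨x, hx, rfl⟩ := hy
    have hmem : g * (x : G) * g⁻¹ ∈ C := (inferInstance : C.Normal).conj_mem _ x.2 g
    refine ⟨⟨_, hmem⟩, (hmemD _).2 ?_, rfl⟩
    rw [← Subgroup.orderOf_coe]
    have := (hmemD x).1 hx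
    rw [← Subgroup.orderOf_coe] at this
    show (orderOf (g * (x : G) * g⁻¹)).Coprime p
    rw [show orderOf (g * (x : G) * g⁻¹) = orderOf (x : G) from (MulAut.conj g).orderOf_eq (x : G)]
    exact this⟩
  haveI := Fintype.ofFinite D
  have hDcard : Nat.card D = Nat.card D₀ := Subgroup.card_map_of_injective Subtype.val_injective
  obtain ⟨θ, hθ⟩ := exists_restrict_constituent χ.2 D
  obtain ⟨e, he, hedvd⟩ := exists_ratio_dvd_index D χ.2 θ.2 hθ
  rw [irr_deg, irr_deg, ← Nat.cast_mul, Nat.cast_inj, ← hd] at he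
  obtain ⟨f, hf⟩ := hedvd
  have hDdvd : Nat.card D ∣ p * charDegree (θ : D → ℂ) := by
    have h := D.card_mul_index
    rw [hf, hcod, he] at h
    have he0 : 0 < e := Nat.pos_of_ne_zero fun h0 => by rw [h0, zero_mul] at he; omega
    exact ⟨f, Nat.eq_of_mul_eq_mul_left he0 (by linarith)⟩
  have hθle := degree_sq_le θ
  have hDθ : Nat.card D ∣ charDegree (θ : D → ℂ) :=
    (hDcard ▸ hDcop.symm : Nat.Coprime (Nat.card D) p).dvd_of_dvd_mul_left hDdvd
  have hD1 : Nat.card D₀ = 1 := by
    have h1 := Nat.le_of_dvd (irr_deg_pos θ) hDθ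
    have h2 : 0 < Nat.card D₀ := Nat.card_pos
    rw [hDcard] at h1 hθle
    nlinarith
  rw [hDc, Subgroup.index_eq_one, Subgroup.subgroupOf_eq_top] at hD1
  exact hD1

theorem isFrobeniusComplement_of_regular {N H : Subgroup G} [N.Normal] (hH : N.IsComplement' H)
    (hH1 : H ≠ ⊥) (hN1 : N ≠ ⊥)
    (hreg : ∀ h ∈ H, ∀ n ∈ N, h * n = n * h → h = 1 ∨ n = 1) :
    IsFrobeniusComplement H ∧ frobeniusKernel H = (N : Set G) := by
  have hdisj : ∀ y, y ∈ N → y ∈ H → y = 1 := fun y h1 h2 =>
    Subgroup.mem_bot.1 (hH.disjoint.eq_bot ▸ (⟨h1, h2⟩ : y ∈ N ⊓ H))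
  obtain ⟨⟨c, hc⟩, hc1⟩ := N.ne_bot_iff_exists_ne_one.1 hN1
  have hfr : IsFrobeniusComplement H := by
    refine ⟨hH1, fun h => ?_, fun g hg => ?_⟩
    · exact hc1 (Subtype.ext (hdisj c hc (h ▸ Subgroup.mem_top c)))
    · rw [eq_bot_iff]
      rintro y ⟨hyH, hyg⟩
      rw [Subgroup.mem_bot]
      obtain ⟨⟨⟨n, hn⟩, ⟨h, hh⟩⟩, rfl : n * h = g, -⟩ := hH.existsUnique g
      have hn1 : n ≠ 1 := fun e => hg (by rw [e, one_mul]; exact hh)
      obtain ⟨h', hh', rfl⟩ : ∃ h' ∈ H, n * h' * n⁻¹ = y := by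
        obtain ⟨w, hw, hwy⟩ := (Subgroup.mem_smul_pointwise_iff_exists _ _ _).1 hyg
        refine ⟨h * w * h⁻¹, H.mul_mem (H.mul_mem hh hw) (H.inv_mem hh), ?_⟩
        rw [← hwy, MulAut.smul_def, MulAut.conj_apply]; group
      have h0 : h'⁻¹ * (n * h' * n⁻¹) = 1 := hdisj _
        (by
          have := N.mul_mem (Subgroup.Normal.conj_mem' inferInstance n hn h') (N.inv_mem hn)
          convert this using 1; group)
        (H.mul_mem (H.inv_mem hh') hyH)
      have h1 : n * h' * n⁻¹ = h' := by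
        rw [inv_mul_eq_one] at h0; exact h0.symm
      rcases hreg h' hh' n hn (by
        calc h' * n = n * h' * n⁻¹ * n := by rw [h1]
          _ = n * h' := by group) with e | e
      · rw [e]; group
      · exact absurd e hn1
  refine ⟨hfr, ?_⟩
  obtain ⟨K, hK, -, hKH⟩ := frobeniusKernel_isSubgroup hfr
  have hle : N ≤ K := fun x hx => by
    have : x ∈ (K : Set G) := by
      rw [hK]
      by_cases hx1 : x = 1
      · exact Or.inl hx1
      · refine Or.inr fun g hg => hx1 ?_
        obtain ⟨w, hw, hwx⟩ := (Subgroup.mem_smul_pointwise_iff_exists _ _ _).1 hg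
        rw [MulAut.smul_def, MulAut.conj_apply] at hwx
        have hw' : w ∈ N := by
          have := Subgroup.Normal.conj_mem' (inferInstance : N.Normal) x hx g
          rw [← hwx] at this
          convert this using 1; group
        rw [← hwx, hdisj w hw' hw]; group
    exact this
  rw [← hK, Subgroup.eq_of_le_of_card_ge hle (le_of_eq ?_)]
  exact Nat.eq_of_mul_eq_mul_right Nat.card_pos (hKH.card_mul.trans hH.card_mul.symm)

/-- A group with a faithful character of prime codegree is not perfect. -/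
theorem commutator_ne_top (χ : IrrCharacter G)
    (hfaith : ∀ g : G, (χ : G → ℂ) g = (χ : G → ℂ) 1 → g = 1) (p : ℕ) (hp : p.Prime)
    (hcod : Nat.card G = p * charDegree (χ : G → ℂ)) : commutator G ≠ ⊤ := by
  haveI := Fact.mk hp
  obtain ⟨P, hn, hc, hC, -⟩ := structure_exists χ hfaith p hp hcod
  haveI : IsCyclic P := isCyclic_of_prime_card hc
  intro htop
  have hle : commutator G ≤ Subgroup.centralizer (P : Set G) := by
    rw [commutator_def, Subgroup.commutator_le]
    intro a _ b _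
    have hAut : ∀ x : P, (MulAut.conjNormal a * MulAut.conjNormal b : MulAut P) x =
        (MulAut.conjNormal b * MulAut.conjNormal a : MulAut P) x := by
      intro x
      obtain ⟨g, hg⟩ := IsCyclic.exists_generator (α := P)
      obtain ⟨i, hi⟩ := Subgroup.mem_zpowers_iff.1 (hg ((MulAut.conjNormal a : MulAut P) g))
      obtain ⟨j, hj⟩ := Subgroup.mem_zpowers_iff.1 (hg ((MulAut.conjNormal b : MulAut P) g))
      obtain ⟨k, rfl⟩ := Subgroup.mem_zpowers_iff.1 (hg x)
      simp only [MulAut.mul_apply, map_zpow, ← hi, ← hj]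
      rw [← zpow_mul, ← zpow_mul, ← zpow_mul, ← zpow_mul]
      congr 1; ring
    rw [Subgroup.mem_centralizer_iff]
    intro x hx
    have h := congrArg Subtype.val (hAut ⟨a⁻¹ * b⁻¹ * x * (a⁻¹ * b⁻¹)⁻¹,
      hn.conj_mem x hx _⟩)
    simp only [MulAut.mul_apply, MulAut.conjNormal_apply] at h
    rw [commutatorElement_def]
    have h2 : a * b * a⁻¹ * b⁻¹ * x * (a * b * a⁻¹ * b⁻¹)⁻¹ = x := by
      calc a * b * a⁻¹ * b⁻¹ * x * (a * b * a⁻¹ * b⁻¹)⁻¹
          = a * (b * (a⁻¹ * b⁻¹ * x * (a⁻¹ * b⁻¹)⁻¹) * b⁻¹) * a⁻¹ := by group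
        _ = b * (a * (a⁻¹ * b⁻¹ * x * (a⁻¹ * b⁻¹)⁻¹) * a⁻¹) * b⁻¹ := h
        _ = x := by group
    exact (mul_inv_eq_iff_eq_mul.1 h2).symm
  have hPtop : P = ⊤ := top_le_iff.1 (htop ▸ hle.trans hC)
  have hcomm : commutator G = ⊥ := by
    rw [commutator_def, Subgroup.commutator_eq_bot_iff_le_centralizer]
    intro a _
    rw [Subgroup.mem_centralizer_iff]
    intro b _
    exact congrArg Subtype.val (mul_comm' (⟨b, hPtop ▸ Subgroup.mem_top b⟩ : P)
      ⟨a, hPtop ▸ Subgroup.mem_top a⟩)
  rw [hcomm] at htop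
  have : Nat.card P = 1 := by rw [hPtop, ← htop, Subgroup.card_bot]
  rw [hc] at this
  exact hp.ne_one this

end Cfsg.Agent.PrimeCodegree
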