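import Cfsg.Agent.Lib.Char.PermChar
import Cfsg.Agent.Lib.Char.Banaschewski
import Mathlib.GroupTheory.Sylow

/-!
# Quasi-elementary subgroups and Solomon's theorem
-/

set_option linter.style.haveILetI false
set_option linter.unusedSectionVars false
set_option maxHeartbeats 800000

namespace Cfsg.Agent.Char

universe u v

/-- A `p`-quasi-elementary group. -/
def IsQuasi (p : ℕ) (H : Type u) [Group H] : Prop :=
  ∃ C : Subgroup H, C.Normal ∧ IsCyclic C ∧ Nat.Coprime (Nat.card C) p ∧ ∃ k : ℕ, C.index = p ^ k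

theorem IsQuasi.comap {p : ℕ} (hp : p.Prime) {A : Type u} {B : Type v} [Group A] [Group B]
    [Finite B] (f : A →* B) (hf : Function.Injective f) (h : IsQuasi p B) : IsQuasi p A := by
  obtain ⟨C, hC, hcyc, hcop, k, hk⟩ := h
  haveI := hC
  haveI := hcyc
  let ι : C.comap f →* C := (f.comp (C.comap f).subtype).codRestrict C fun x => x.2
  have hι : Function.Injective ι := fun a b e =>
    Subtype.ext (hf (congrArg Subtype.val e))
  refine ⟨C.comap f, inferInstance, isCyclic_of_injective ι hι,
    Nat.Coprime.coprime_dvd_left (Subgroup.card_dvd_of_injective ι hι) hcop, ?_⟩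
  have hdvd : (C.comap f).index ∣ p ^ k := by
    rw [Subgroup.index_comap, ← hk]
    exact Subgroup.relIndex_dvd_index_of_normal C f.range
  obtain ⟨j, -, hj⟩ := (Nat.dvd_prime_pow hp).mp hdvd
  exact ⟨j, hj⟩

variable {G : Type u} [Group G] [Fintype G]

theorem isQuasi_of_le {p : ℕ} (hp : p.Prime) {U H : Subgroup G} (hUH : U ≤ H) (h : IsQuasi p H) :
    IsQuasi p U :=
  IsQuasi.comap hp (Subgroup.inclusion hUH) (Subgroup.inclusion_injective hUH) h

theorem IsQuasi.exists_subgroup {p : ℕ} {H : Subgroup G} (h : IsQuasi p H) :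
    ∃ C : Subgroup G, C ≤ H ∧ H ≤ Subgroup.normalizer (C : Set G) ∧ IsCyclic C ∧
      Nat.Coprime (Nat.card C) p ∧ ∃ k : ℕ, C.relIndex H = p ^ k := by
  obtain ⟨C, hC, hcyc, hcop, k, hk⟩ := h
  haveI := hcyc
  let e := C.equivMapOfInjective H.subtype H.subtype_injective
  refine ⟨C.map H.subtype, Subgroup.map_subtype_le C, ?_, ?_, ?_, k, ?_⟩
  · intro g hg
    rw [Subgroup.mem_normalizer_iff]
    intro y
    constructor
    · rintro ⟨z, hz, rfl⟩
      exact ⟨⟨g, hg⟩ * z * ⟨g, hg⟩⁻¹, hC.conj_mem z hz _, rfl⟩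
    · rintro ⟨z, hz, e'⟩
      exact ⟨⟨g, hg⟩⁻¹ * z * ⟨g, hg⟩, by simpa using hC.conj_mem z hz ⟨g, hg⟩⁻¹, by
        have e2 : (z : G) = g * y * g⁻¹ := e'
        show g⁻¹ * (z : G) * g = y
        rw [e2]; group⟩
  · exact isCyclic_of_surjective e e.surjective
  · rwa [← Nat.card_congr e.toEquiv]
  · rw [Subgroup.relIndex, Subgroup.subgroupOf,
      Subgroup.comap_map_eq_self_of_injective H.subtype_injective, hk]

/-- For each element some quasi-elementary subgroup has a permutation character prime to `p`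
there. -/
theorem exists_quasi_value (x : G) {p : ℕ} (hp : p.Prime) :
    ∃ H : Subgroup G, IsQuasi p H ∧
      ∃ n : ℕ, Cfsg.indFun H (fun _ => 1) x = (n : ℂ) ∧ ¬ p ∣ n := by
  classical
  haveI := Fact.mk hp
  set a := (orderOf x).factorization p with ha
  set c := x ^ (p ^ a) with hc
  have hn : orderOf x ≠ 0 := (orderOf_pos x).ne'
  have hdvd : p ^ a ∣ orderOf x := Nat.ordProj_dvd (orderOf x) p
  have hordc : orderOf c = orderOf x / p ^ a :=
    orderOf_pow_of_dvd (pow_ne_zero _ hp.ne_zero) hdvd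
  have hcop : Nat.Coprime (orderOf c) p := by
    rw [hordc]; exact (Nat.coprime_ordCompl hp hn).symm
  set C := Subgroup.zpowers c with hCdef
  set N := Subgroup.normalizer (C : Set G) with hNdef
  have hxN : x ∈ N := by
    rw [hNdef, Subgroup.mem_normalizer_iff]
    intro y
    have hz : ∀ z ∈ C, x * z * x⁻¹ = z := by
      intro z hz
      obtain ⟨k, rfl⟩ := Subgroup.mem_zpowers_iff.mp hz
      rw [((Commute.self_pow x (p ^ a)).zpow_right k).eq, mul_inv_cancel_right]
    constructor
    · intro hy; rw [hz y hy]; exact hy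
    · intro hy
      have := hz _ hy
      have e : x * y * x⁻¹ = y := by
        have e1 := congrArg (fun t => x⁻¹ * t * x) this
        simpa [mul_assoc] using e1
      rwa [e] at hy
  haveI : (C.subgroupOf N).Normal := Subgroup.normal_subgroupOf_iff_le_normalizer
    (Subgroup.le_normalizer) |>.mpr le_rfl
  haveI : Fintype N := Fintype.ofFinite N
  haveI : Fintype (N ⧸ C.subgroupOf N) := Fintype.ofFinite _
  set q : N ⧸ C.subgroupOf N := QuotientGroup.mk' (C.subgroupOf N) ⟨x, hxN⟩ with hq
  have hqp : q ^ (p ^ a) = 1 := by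
    rw [hq, ← map_pow, QuotientGroup.mk'_apply, QuotientGroup.eq_one_iff, Subgroup.mem_subgroupOf,
      SubgroupClass.coe_pow]
    exact Subgroup.mem_zpowers c
  have hP : IsPGroup p (Subgroup.zpowers q) := by
    intro y
    refine ⟨a, Subtype.ext ?_⟩
    obtain ⟨k, hk⟩ := Subgroup.mem_zpowers_iff.mp y.2
    rw [SubgroupClass.coe_pow, ← hk, OneMemClass.coe_one, ← zpow_natCast (q ^ k), ← zpow_mul,
      mul_comm, zpow_mul, zpow_natCast, hqp, one_zpow]
  obtain ⟨S, hS⟩ := hP.exists_le_sylow
  set H' := (S : Subgroup (N ⧸ C.subgroupOf N)).comap (QuotientGroup.mk' _) with hH'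
  set H := H'.map N.subtype with hH
  have hCH' : C.subgroupOf N ≤ H' := fun y hy => by
    rw [hH', Subgroup.mem_comap, QuotientGroup.mk'_apply, (QuotientGroup.eq_one_iff y).mpr hy]
    exact one_mem _
  have hmapH : H'.map (QuotientGroup.mk' (C.subgroupOf N)) = S :=
    Subgroup.map_comap_eq_self_of_surjective (QuotientGroup.mk'_surjective _) _
  obtain ⟨k, hk⟩ := IsPGroup.iff_card.mp S.isPGroup'
  have hidx : ((C.subgroupOf N).subgroupOf H').index = p ^ k := by
    rw [← hk, ← hmapH]
    have h1 := QuotientGroup.quotientKerEquivRange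
      ((QuotientGroup.mk' (C.subgroupOf N)).comp H'.subtype)
    rw [MonoidHom.range_comp, Subgroup.range_subtype] at h1
    rw [← Nat.card_congr h1.toEquiv]
    have hker : ((QuotientGroup.mk' (C.subgroupOf N)).comp H'.subtype).ker =
        (C.subgroupOf N).subgroupOf H' := by
      ext y
      simp [Subgroup.mem_subgroupOf]
    rw [hker]
    rfl
  have hquasi : IsQuasi p H' := by
    let ι : (C.subgroupOf N).subgroupOf H' →* C :=
      ((N.subtype.comp H'.subtype).comp ((C.subgroupOf N).subgroupOf H').subtype).codRestrict C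
        fun y => Subgroup.mem_subgroupOf.mp (Subgroup.mem_subgroupOf.mp y.2)
    have hι : Function.Injective ι := fun y z e =>
      Subtype.ext (Subtype.ext (Subtype.ext (congrArg (fun w : C => (w : G)) e :)))
    refine ⟨(C.subgroupOf N).subgroupOf H', inferInstance, isCyclic_of_injective ι hι, ?_, k, hidx⟩
    refine Nat.Coprime.coprime_dvd_left (Subgroup.card_dvd_of_injective ι hι) ?_
    rw [hCdef, Nat.card_zpowers]; exact hcop
  refine ⟨H, IsQuasi.comap hp (H'.equivMapOfInjective N.subtype N.subtype_injective).symm.toMonoidHom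
    (H'.equivMapOfInjective N.subtype N.subtype_injective).symm.injective hquasi,
    Nat.card (MulAction.fixedBy ((N ⧸ C.subgroupOf N) ⧸ (S : Subgroup (N ⧸ C.subgroupOf N))) q),
    ?_, ?_⟩
  · -- elements of `G` moving `x` into `H` normalise `C`
    have hkey : ∀ g : G, g⁻¹ * x * g ∈ H → g ∈ N := by
      intro g hg
      obtain ⟨y, hy, e⟩ := hg
      have e' : (y : G) = g⁻¹ * x * g := e
      have hc' : g⁻¹ * c * g = ((y ^ (p ^ a) : N) : G) := by
        rw [SubgroupClass.coe_pow, e', hc]
        conv_rhs => rw [show g⁻¹ * x * g = g⁻¹ * x * g⁻¹⁻¹ by rw [inv_inv], conj_pow, inv_inv]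
      have hmem : g⁻¹ * c * g ∈ C := by
        have h2 : (⟨y, hy⟩ : H') ^ (p ^ a) ∈ (C.subgroupOf N).subgroupOf H' := by
          rw [← QuotientGroup.eq_one_iff, ← orderOf_eq_one_iff]
          refine Nat.eq_one_of_dvd_coprimes
            (Nat.Coprime.pow_right k hcop) ?_ ?_
          · refine (orderOf_map_dvd (QuotientGroup.mk' _) _).trans ?_
            rw [← orderOf_injective H'.subtype H'.subtype_injective, ← orderOf_injective N.subtype
              N.subtype_injective]
            show orderOf (((y ^ (p ^ a) : N)) : G) ∣ orderOf c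
            rw [← hc']
            have := orderOf_injective (MulAut.conj g⁻¹).toMonoidHom (MulAut.conj g⁻¹).injective c
            simp only [MulEquiv.coe_toMonoidHom, MulAut.conj_apply, inv_inv] at this
            rw [this]
          · rw [← hidx]
            exact orderOf_dvd_natCard _
        rw [hc']
        exact Subgroup.mem_subgroupOf.mp (Subgroup.mem_subgroupOf.mp h2)
      have hsub : ∀ z ∈ C, g⁻¹ * z * g ∈ C := by
        intro z hz
        obtain ⟨j, rfl⟩ := Subgroup.mem_zpowers_iff.mp hz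
        rw [show g⁻¹ * c ^ j * g = (g⁻¹ * c * g) ^ j by
          conv_rhs => rw [show g⁻¹ * c * g = g⁻¹ * c * g⁻¹⁻¹ by rw [inv_inv], conj_zpow, inv_inv]]
        exact zpow_mem hmem j
      have hg' : g⁻¹ ∈ N := by
        rw [hNdef, Subgroup.mem_normalizer_iff]
        intro z
        rw [inv_inv]
        refine ⟨hsub z, fun hz => ?_⟩
        let φ : C → C := fun w => ⟨g⁻¹ * w * g, hsub w w.2⟩
        have hinj : Function.Injective φ := fun v w e => Subtype.ext (by simpa [φ] using e)
        obtain ⟨w, hw⟩ := Finite.injective_iff_surjective.mp hinj ⟨_, hz⟩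
        have : (w : G) = z := by simpa [φ] using congrArg Subtype.val hw
        exact this ▸ w.2
      simpa using N.inv_mem hg'
    have e1 : Cfsg.indFun H (fun _ => (1 : ℂ)) x = Cfsg.indFun H' (fun _ => (1 : ℂ)) ⟨x, hxN⟩ := by
      rw [indFun_apply, indFun_apply,
        Nat.card_congr (H'.equivMapOfInjective N.subtype N.subtype_injective).symm.toEquiv]
      congr 1
      symm
      refine (Finset.sum_bij_ne_zero (fun (g : N) _ _ => (g : G)) (fun _ _ _ => Finset.mem_univ _)
        (fun g₁ _ _ g₂ _ _ e => Subtype.ext e) (fun g _ hg => ?_) fun g _ hg => ?_)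
      · have hgm : g⁻¹ * x * g ∈ H := by
          by_contra hh
          exact hg (extendByZero_not_mem H _ hh)
        refine ⟨⟨g, hkey g hgm⟩, Finset.mem_univ _, ?_, rfl⟩
        have hy' : (⟨g, hkey g hgm⟩ : N)⁻¹ * ⟨x, hxN⟩ * ⟨g, hkey g hgm⟩ ∈ H' :=
          (Subgroup.mem_map_iff_mem N.subtype_injective).mp hgm
        rw [extendByZero_mem H' _ hy']
        exact one_ne_zero
      · have hgm : g⁻¹ * ⟨x, hxN⟩ * g ∈ H' := by
          by_contra hh
          exact hg (extendByZero_not_mem H' _ hh)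
        rw [extendByZero_mem H' _ hgm, extendByZero_mem H _ (show (g : G)⁻¹ * x * g ∈ H from
          ⟨_, hgm, rfl⟩)]
    rw [e1]
    have e2 : Cfsg.indFun (S : Subgroup (N ⧸ C.subgroupOf N)) (fun _ => (1 : ℂ)) q =
        Cfsg.indFun H' (fun _ => (1 : ℂ)) ⟨x, hxN⟩ := by
      rw [indFun_apply, indFun_apply]
      have hext : ∀ y : N, Cfsg.extendByZero H' (fun _ => (1 : ℂ)) y =
          Cfsg.extendByZero (S : Subgroup (N ⧸ C.subgroupOf N)) (fun _ => (1 : ℂ))
            (QuotientGroup.mk' (C.subgroupOf N) y) := by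
        intro y
        by_cases hy : y ∈ H'
        · rw [extendByZero_mem _ _ hy, extendByZero_mem _ _ (Subgroup.mem_comap.mp hy)]
        · rw [extendByZero_not_mem _ _ hy,
            extendByZero_not_mem _ _ (fun h => hy (Subgroup.mem_comap.mpr h))]
      simp only [hext, map_mul, map_inv]
      conv_rhs => rw [← Finset.sum_fiberwise Finset.univ (QuotientGroup.mk' (C.subgroupOf N))
        (fun y => Cfsg.extendByZero (S : Subgroup (N ⧸ C.subgroupOf N)) (fun _ => (1 : ℂ))
            ((QuotientGroup.mk' (C.subgroupOf N) y)⁻¹ * QuotientGroup.mk' (C.subgroupOf N) ⟨x, hxN⟩ * QuotientGroup.mk' (C.subgroupOf N) y))]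
      rw [Finset.sum_congr rfl fun r _ => show ∑ y ∈ Finset.univ.filter
          (fun y => QuotientGroup.mk' (C.subgroupOf N) y = r),
          Cfsg.extendByZero (S : Subgroup (N ⧸ C.subgroupOf N)) (fun _ => (1 : ℂ))
            ((QuotientGroup.mk' (C.subgroupOf N) y)⁻¹ * QuotientGroup.mk' (C.subgroupOf N) ⟨x, hxN⟩ * QuotientGroup.mk' (C.subgroupOf N) y) =
          (Nat.card (C.subgroupOf N) : ℂ) *
            Cfsg.extendByZero (S : Subgroup (N ⧸ C.subgroupOf N)) (fun _ => (1 : ℂ))
              (r⁻¹ * q * r) by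
        rw [Finset.sum_congr rfl fun y hy => by rw [(Finset.mem_filter.mp hy).2, ← hq],
          Finset.sum_const, nsmul_eq_mul, ← Fintype.card_subtype, ← Nat.card_eq_fintype_card]
        congr 2
        obtain ⟨z, rfl⟩ := QuotientGroup.mk'_surjective _ r
        refine Nat.card_congr ((Equiv.mulLeft z⁻¹).subtypeEquiv fun y => ?_)
        rw [Equiv.coe_mulLeft, ← QuotientGroup.eq]
        exact eq_comm]
      rw [← Finset.mul_sum, ← mul_assoc]
      congr 1
      have hcard : Nat.card H' = p ^ k * Nat.card (C.subgroupOf N) := by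
        rw [← hidx, ← Subgroup.card_mul_index ((C.subgroupOf N).subgroupOf H'),
          Nat.card_congr (Subgroup.subgroupOfEquivOfLe hCH').toEquiv, mul_comm]
      have h0 : (Nat.card (C.subgroupOf N) : ℂ) ≠ 0 := Nat.cast_ne_zero.mpr Nat.card_pos.ne'
      rw [hcard, hk, Nat.cast_mul, mul_inv, mul_assoc, inv_mul_cancel₀ h0, mul_one]
    rw [← e2]
    exact indFun_one_eq_card _ q
  · intro hdiv
    have hmod : Nat.card ((N ⧸ C.subgroupOf N) ⧸ (S : Subgroup (N ⧸ C.subgroupOf N))) ≡
        Nat.card (MulAction.fixedPoints (Subgroup.zpowers q)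
          ((N ⧸ C.subgroupOf N) ⧸ (S : Subgroup (N ⧸ C.subgroupOf N)))) [MOD p] :=
      hP.card_modEq_card_fixedPoints _
    have hfix : Nat.card (MulAction.fixedPoints (Subgroup.zpowers q)
          ((N ⧸ C.subgroupOf N) ⧸ (S : Subgroup (N ⧸ C.subgroupOf N)))) =
        Nat.card (MulAction.fixedBy ((N ⧸ C.subgroupOf N) ⧸ (S : Subgroup (N ⧸ C.subgroupOf N))) q) := by
      refine Nat.card_congr (Equiv.subtypeEquivRight fun y => ?_)
      simp only [MulAction.mem_fixedPoints, MulAction.mem_fixedBy]
      refine ⟨fun h => h ⟨q, Subgroup.mem_zpowers q⟩, fun h => ?_⟩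
      rintro ⟨z, hz⟩
      exact MulAction.mem_stabilizer_iff.mp
        ((Subgroup.zpowers_le (H := MulAction.stabilizer _ y)).mpr
          (MulAction.mem_stabilizer_iff.mpr h) hz)
    rw [hfix] at hmod
    refine S.not_dvd_index ?_
    exact Nat.modEq_zero_iff_dvd.mp (hmod.trans (Nat.modEq_zero_iff_dvd.mpr hdiv))

/-- The integer-valued permutation character. -/
noncomputable def permFun (U : Subgroup G) : G → ℤ :=
  fun g => (Nat.card (MulAction.fixedBy (G ⧸ U) g) : ℤ)

theorem cast_permFun (U : Subgroup G) (g : G) :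
    ((permFun U g : ℤ) : ℂ) = Cfsg.indFun U (fun _ => 1) g := by
  rw [indFun_one_eq_card, permFun, Int.cast_natCast]

/-- Solomon's theorem, local form. -/
theorem exists_solomon {p : ℕ} (hp : p.Prime) :
    ∃ (m : ℤ) (a : Subgroup G → ℤ), ¬ (p : ℤ) ∣ m ∧ (∀ H, a H ≠ 0 → IsQuasi p H) ∧
      (fun _ : G => (m : ℂ)) = ∑ H : Subgroup G, (a H : ℂ) • Cfsg.indFun H (fun _ => 1) := by
  classical
  set R := AddSubgroup.closure {f : G → ℤ | ∃ H : Subgroup G, IsQuasi p H ∧ f = permFun H} with hR
  have hgen : ∀ H : Subgroup G, IsQuasi p H → permFun H ∈ R := fun H h =>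
    AddSubgroup.subset_closure ⟨H, h, rfl⟩
  have hmul : ∀ f ∈ R, ∀ g ∈ R, f * g ∈ R := by
    intro f hf g hg
    induction hf using AddSubgroup.closure_induction with
    | mem x hx =>
      obtain ⟨H, hH, rfl⟩ := hx
      induction hg using AddSubgroup.closure_induction with
      | mem y hy =>
        obtain ⟨K, -, rfl⟩ := hy
        obtain ⟨a, haU, he⟩ := indFun_one_mul H K
        have e : permFun H * permFun K = ∑ U : Subgroup G, (a U : ℤ) • permFun U := funext fun x => by
          apply Int.cast_injective (α := ℂ)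
          have := congrFun he x
          simp only [Pi.mul_apply, Finset.sum_apply, Pi.smul_apply, smul_eq_mul, Int.cast_sum,
            Int.cast_mul, Int.cast_natCast, cast_permFun] at this ⊢
          exact this
        rw [e]
        refine R.sum_mem fun U _ => ?_
        by_cases hU : a U = 0
        · simp [hU, R.zero_mem]
        · exact R.zsmul_mem (hgen U (isQuasi_of_le hp (haU U hU) hH)) _
      | zero => simp [R.zero_mem]
      | add y z _ _ hy hz => rw [mul_add]; exact R.add_mem hy hz
      | neg y _ hy => rw [mul_neg]; exact R.neg_mem hy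
    | zero => simp [R.zero_mem]
    | add y z _ _ hy hz => rw [add_mul]; exact R.add_mem hy hz
    | neg y _ hy => rw [neg_mul]; exact R.neg_mem hy
  obtain ⟨m, hm, hmR⟩ := exists_const_not_dvd R hmul hp fun x => by
    obtain ⟨H, hH, n, hn, hnp⟩ := exists_quasi_value x hp
    refine ⟨permFun H, hgen H hH, fun h => hnp ?_⟩
    rw [indFun_one_eq_card, Nat.cast_inj] at hn
    rw [permFun, hn, Int.natCast_dvd_natCast] at h
    exact h
  have hout : ∀ f ∈ R, ∃ a : Subgroup G → ℤ, (∀ H, a H ≠ 0 → IsQuasi p H) ∧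
      f = ∑ H : Subgroup G, a H • permFun H := by
    intro f hf
    induction hf using AddSubgroup.closure_induction with
    | mem y hy =>
      obtain ⟨H, hH, rfl⟩ := hy
      refine ⟨Pi.single H 1, fun K hK => ?_, ?_⟩
      · by_cases e : K = H
        · exact e ▸ hH
        · exact absurd (Pi.single_eq_of_ne (M := fun _ : Subgroup G => ℤ) e (1 : ℤ)) hK
      · rw [Finset.sum_eq_single H (fun K _ hK => by rw [Pi.single_eq_of_ne hK, zero_smul])
          (fun h => absurd (Finset.mem_univ H) h), Pi.single_eq_same, one_smul]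
    | zero => exact ⟨0, fun K hK => absurd rfl hK, by simp⟩
    | add y z _ _ hy hz =>
      obtain ⟨a, ha, rfl⟩ := hy
      obtain ⟨b, hb, rfl⟩ := hz
      refine ⟨a + b, fun K hK => ?_, by simp [add_smul, Finset.sum_add_distrib]⟩
      by_cases e : a K = 0
      · exact hb K (by simpa [e] using hK)
      · exact ha K e
    | neg y _ hy =>
      obtain ⟨a, ha, rfl⟩ := hy
      exact ⟨-a, fun K hK => ha K (by simpa using hK), by simp [Finset.sum_neg_distrib]⟩
  obtain ⟨a, ha, he⟩ := hout _ hmR
  refine ⟨m, a, hm, ha, funext fun x => ?_⟩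
  have := congrArg (fun z : ℤ => (z : ℂ)) (congrFun he x)
  simp only [Finset.sum_apply, Pi.smul_apply, smul_eq_mul, Int.cast_sum, Int.cast_mul,
    cast_permFun] at this
  simpa using this

end Cfsg.Agent.Char
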