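import Cfsg.Agent.Lib.Char.RealPPrime
import Cfsg.Agent.Lib.Char.Complete
import Cfsg.Agent.Lib.Char.OddIndexReal
import Cfsg.Agent.Lib.Char.GlaubermanMod
import Mathlib.Algebra.CharP.Quotient
import Mathlib.RingTheory.Artinian.Module

/-!
# Real classes centralised by a Sylow subgroup

`G` has a normal `p'`-subgroup `K` of odd index and all real irreducible characters have degree
prime to `p` (`p` odd): then every real class of `G` meets the centraliser of a Sylow
`p`-subgroup.
-/

set_option autoImplicit false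
set_option linter.style.haveILetI false
set_option linter.unusedSectionVars false

namespace Cfsg.Agent.RealClassFix

open Cfsg Cfsg.Agent.Char Cfsg.Agent.CharX Cfsg.Agent.RealChar
open scoped ComplexConjugate

universe u v

theorem sum_eq_zero_of_pGroup {p : ℕ} [Fact p.Prime] {P : Type u} [Group P] (hP : IsPGroup p P)
    {α : Type v} [Fintype α] [MulAction P α] [Finite P] {A : Type*} [AddCommMonoid A]
    (hp : ∀ a : A, p • a = 0) (f : α → A) (hinv : ∀ (u : P) a, f (u • a) = f a)
    (hfix : ∀ a, (∀ u : P, u • a = a) → f a = 0) : ∑ a, f a = 0 := by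
  classical
  rw [← Finset.sum_fiberwise Finset.univ (fun a => Quotient.mk (MulAction.orbitRel P α) a) f]
  refine Finset.sum_eq_zero fun c _ => ?_
  obtain ⟨a, rfl⟩ := Quotient.exists_rep c
  have hval : ∀ b ∈ (Finset.univ.filter fun b : α => Quotient.mk (MulAction.orbitRel P α) b =
      Quotient.mk (MulAction.orbitRel P α) a), f b = f a := by
    intro b hb
    obtain ⟨u, rfl⟩ := MulAction.orbitRel_apply.1 (Quotient.exact (Finset.mem_filter.1 hb).2)
    exact hinv u a
  rw [Finset.sum_congr rfl hval, Finset.sum_const,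
    show (Finset.univ.filter fun b : α => Quotient.mk (MulAction.orbitRel P α) b =
      Quotient.mk (MulAction.orbitRel P α) a) = (MulAction.orbit P a).toFinset from Finset.ext
      fun b => by
        rw [Finset.mem_filter, Set.mem_toFinset, ← MulAction.orbitRel_apply]
        exact ⟨fun h => Quotient.exact h.2, fun h => ⟨Finset.mem_univ _, Quotient.sound h⟩⟩,
    ← Set.ncard_eq_toFinset_card']
  obtain ⟨n, hn⟩ := hP.card_orbit a
  rw [← Nat.card_coe_set_eq, hn]
  rcases n with - | n
  · rw [pow_zero, one_smul]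
    refine hfix a fun u => ?_
    rw [pow_zero, Nat.card_eq_one_iff_unique] at hn
    haveI := hn.1
    exact congrArg Subtype.val
      (Subsingleton.elim (⟨u • a, MulAction.mem_orbit a u⟩ : MulAction.orbit P a)
        ⟨a, MulAction.mem_orbit_self a⟩)
  · rw [pow_succ, mul_smul, hp, smul_zero]

variable {p : ℕ} [hp : Fact p.Prime] {G : Type u} [Group G] [Fintype G] (K : Subgroup G)
  [K.Normal] [Fintype K] (M : Ideal AlgInt)

/-- The reduction of a character value. -/
noncomputable def chv (θ : IrrCharacter K) (x : K) : AlgInt ⧸ M :=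
  Ideal.Quotient.mk M ⟨(θ : K → ℂ) x, IsCharacter.isIntegral (IsIrrCharacter.isCharacter θ.2) x⟩

/-- A conjugate of a character of a normal subgroup. -/
def cj (g : G) (θ : IrrCharacter K) : IrrCharacter K :=
  ⟨conjChar K g θ, isIrrCharacter_conjChar K θ.2 g⟩

theorem cj_mul (g h : G) (θ : IrrCharacter K) : cj K (g * h) θ = cj K h (cj K g θ) :=
  Subtype.ext (conjChar_mul K g h θ)

theorem cj_one (θ : IrrCharacter K) : cj K 1 θ = θ := Subtype.ext (conjChar_one K θ)

theorem chv_cj (g : G) (θ : IrrCharacter K) (x : K) :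
    chv K M (cj K g θ) x = chv K M θ (conjHom K g x) := rfl

theorem chv_bar (θ : IrrCharacter K) (x : K) : chv K M (bar θ) x = chv K M θ x⁻¹ :=
  congrArg (Ideal.Quotient.mk M)
    (Subtype.ext (IsCharacter.inv (IsIrrCharacter.isCharacter θ.2) x).symm)

open scoped Classical in
theorem chv_orth (x y : K) : ∑ θ : IrrCharacter K, chv K M θ y * chv K M θ x⁻¹ =
    ((Finset.univ.filter fun u : K => u * x * u⁻¹ = y).card : AlgInt ⧸ M) := by
  simp only [chv, ← map_mul, ← map_sum]
  rw [← map_natCast (Ideal.Quotient.mk M)]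
  refine congrArg _ (Subtype.ext ?_)
  push_cast
  simp only [IsCharacter.inv (IsIrrCharacter.isCharacter (Subtype.prop _))]
  convert column_orth_count y x <;> rfl

open scoped Classical in
theorem chv_row (θ η : IrrCharacter K) : ∑ x : K, chv K M θ x * chv K M η x⁻¹ =
    if θ = η then (Nat.card K : AlgInt ⧸ M) else 0 := by
  have h : Cfsg.classInner (θ : K → ℂ) η = if θ = η then 1 else 0 := by
    rw [classInner_irr θ.2 η.2]
    simp only [Subtype.ext_iff]
  simp only [chv, ← map_mul, ← map_sum]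
  have e : (∑ x : K, (⟨(θ : K → ℂ) x, IsCharacter.isIntegral (IsIrrCharacter.isCharacter θ.2) x⟩ : AlgInt) *
      ⟨(η : K → ℂ) x⁻¹, IsCharacter.isIntegral (IsIrrCharacter.isCharacter η.2) _⟩) =
      if θ = η then (Nat.card K : AlgInt) else 0 := by
    refine Subtype.ext ?_
    rw [Cfsg.classInner, inv_mul_eq_iff_eq_mul₀ (Nat.cast_ne_zero.2 Nat.card_pos.ne')] at h
    push_cast
    simp only [IsCharacter.inv (IsIrrCharacter.isCharacter η.2)]
    rw [h]
    split_ifs <;> simp
  rw [e]
  split_ifs <;> simp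

/-- From functions on `K` to functions on characters. -/
noncomputable def phi (f : K → AlgInt ⧸ M) (θ : IrrCharacter K) : AlgInt ⧸ M :=
  ∑ x : K, f x * chv K M θ x

open scoped Classical in
/-- From functions on characters to functions on `K`. -/
noncomputable def psi (h : IrrCharacter K → AlgInt ⧸ M) (x : K) : AlgInt ⧸ M :=
  ∑ θ : IrrCharacter K, h θ * chv K M θ x⁻¹

theorem psi_phi (f : K → AlgInt ⧸ M) (hf : ∀ u x : K, f (u * x * u⁻¹) = f x) (x : K) :
    psi K M (phi K M f) x = (Nat.card K : AlgInt ⧸ M) * f x := by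
  classical
  simp only [psi, phi, Finset.sum_mul, mul_assoc]
  rw [Finset.sum_comm]
  simp only [← Finset.mul_sum, chv_orth]
  simp only [Finset.natCast_card_filter, Finset.mul_sum, mul_boole]
  rw [Finset.sum_comm]
  simp only [Finset.sum_ite_eq, Finset.mem_univ, if_true, hf, Finset.sum_const, Finset.card_univ,
    nsmul_eq_mul, Nat.card_eq_fintype_card]

theorem phi_psi (h : IrrCharacter K → AlgInt ⧸ M) (η : IrrCharacter K) :
    phi K M (psi K M h) η = (Nat.card K : AlgInt ⧸ M) * h η := by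
  classical
  simp only [psi, phi, Finset.sum_mul, mul_assoc]
  rw [Finset.sum_comm]
  simp only [← Finset.mul_sum, mul_comm (chv K M _ _⁻¹) (chv K M η _), chv_row, mul_ite, mul_zero,
    Finset.sum_ite_eq, Finset.mem_univ, if_true]
  rw [mul_comm]

theorem natCast_ne_zero (hM : IsPModular p M) {d : ℕ} (hd : ¬ p ∣ d) : (d : AlgInt ⧸ M) ≠ 0 := by
  intro h
  apply hM.2.1.ne_top
  rw [Ideal.eq_top_iff_one]
  obtain ⟨a, b, hab⟩ := Nat.Coprime.isCoprime ((Nat.Prime.coprime_iff_not_dvd hp.out).2 hd)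
  rw [show (1 : AlgInt) = (a : AlgInt) * (p : AlgInt) + (b : AlgInt) * (d : AlgInt) by
    exact_mod_cast (congrArg (Int.cast : ℤ → AlgInt) hab).symm]
  refine add_mem (M.mul_mem_left _ hM.2.2) (M.mul_mem_left _ ?_)
  rw [← Ideal.Quotient.eq_zero_iff_mem, map_natCast]
  exact h

open scoped Classical in
/-- Every real class meets the centraliser of a Sylow `p`-subgroup. -/
theorem exists_centralized (hp2 : p ≠ 2) (hK : ¬ p ∣ Nat.card K) (hodd : Odd K.index)
    (hreal : ∀ χ : Cfsg.IrrCharacter G, (∀ g : G, ((χ : G → ℂ) g).im = 0) →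
      ¬ p ∣ Cfsg.charDegree (χ : G → ℂ))
    (P : Sylow p G) {x : G} (hx : IsConj x x⁻¹) :
    ∃ y : G, IsConj x y ∧ ∀ a ∈ (P : Subgroup G), a * y = y * a := by
  obtain ⟨M, hM⟩ := GlaubermanMod.exists_isPModular p
  haveI := hM.2.1
  letI := Ideal.Quotient.field M
  set k := AlgInt ⧸ M
  have hpk : ∀ a : k, p • a = 0 := fun a => by
    rw [nsmul_eq_mul, ← map_natCast (Ideal.Quotient.mk M),
      Ideal.Quotient.eq_zero_iff_mem.2 hM.2.2, zero_mul]
  have hK0 : (Nat.card K : k) ≠ 0 := natCast_ne_zero M hM hK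
  have h2 : (2 : k) ≠ 0 := by
    have := natCast_ne_zero M hM (d := 2) (fun h => hp2 ((Nat.prime_dvd_prime_iff_eq hp.out Nat.prime_two).1 h))
    simpa using this
  have hneg : ∀ a : k, a = -a → a = 0 := fun a h => by
    have : 2 * a = 0 := by linear_combination h
    exact (mul_eq_zero.1 this).resolve_left h2
  by_contra hno
  push Not at hno
  let Meet : K → Prop := fun c => ∃ g : G, ∀ a ∈ (P : Subgroup G),
    a * (g * c * g⁻¹) = (g * c * g⁻¹) * a
  let Fix : IrrCharacter K → Prop := fun θ => ∃ g : G, ∀ a ∈ (P : Subgroup G),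
    cj K a (cj K g θ) = cj K g θ
  -- real characters are fixed by a conjugate of `P`
  have hrfix : ∀ θ : IrrCharacter K, bar θ = θ → Fix θ := by
    intro θ hθ
    obtain ⟨χ, hne⟩ : ∃ χ : IrrCharacter G, OddIndexReal.nu (χ : G → ℂ) *
        conj (Cfsg.classInner (fun c : K => (χ : G → ℂ) c) (θ : K → ℂ)) ≠ 0 := by
      by_contra hcon
      push Not at hcon
      have h := OddIndexReal.nu_sum_constituent K hodd θ
      rw [Finset.sum_eq_zero fun χ _ => hcon χ] at h
      rcases OddIndexReal.nu_cases θ with ⟨h', -⟩ | ⟨-, h' | h'⟩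
      · exact h' ((bar_eq_self_iff θ).1 hθ)
      · rw [h'] at h; exact zero_ne_one h
      · rw [h'] at h; norm_num at h
    have hχr : ∀ g, ((χ : G → ℂ) g).im = 0 := by
      rcases OddIndexReal.nu_cases χ with ⟨-, h0⟩ | ⟨hr, -⟩
      · exact absurd (by rw [h0, zero_mul]) hne
      · exact hr
    have hc : Cfsg.classInner (fun c : K => (χ : G → ℂ) c) (θ : K → ℂ) ≠ 0 := fun h =>
      hne (by rw [h, map_zero, mul_zero])
    obtain ⟨e, he⟩ := IsCharacter.exists_classInner_nat
      (IsCharacter.restrict (IsIrrCharacter.isCharacter χ.2) K) (IsIrrCharacter.isCharacter θ.2)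
    have hdeg := clifford_degree K χ.2 θ.2 hc
    rw [he, irr_deg, irr_deg, ← Nat.cast_mul, ← Nat.cast_mul, Nat.cast_inj] at hdeg
    set I := inertia K (θ : K → ℂ) with hI
    have hidx : ¬ p ∣ I.index := fun h => hreal χ hχr
      (hdeg ▸ (h.trans (dvd_mul_left _ e)).trans (dvd_mul_right _ _))
    let S : Sylow p I := default
    have hS : ¬ p ∣ ((S : Subgroup I).map I.subtype).index := by
      rw [Subgroup.index_map_subtype]
      exact fun h => ((Nat.Prime.dvd_mul hp.out).1 h).elim S.not_dvd_index hidx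
    obtain ⟨g, hg⟩ := MulAction.exists_smul_eq G ((S.isPGroup'.map I.subtype).toSylow hS) P
    refine ⟨g⁻¹, fun a ha => ?_⟩
    rw [← hg] at ha
    rw [Sylow.coe_subgroup_smul, Subgroup.mem_pointwise_smul_iff_inv_smul_mem] at ha
    obtain ⟨b, -, hb⟩ := (IsPGroup.mem_toSylow _ _).1 ha
    have hb' : (b : G) = g⁻¹ * a * g := by
      rw [show ((b : I) : G) = I.subtype b from rfl, hb]
      simp [MulAut.smul_def]
    rw [← cj_mul, show g⁻¹ * a = (b : G) * g⁻¹ by rw [hb']; group, cj_mul]
    exact congrArg (cj K g⁻¹) (Subtype.ext ((mem_inertia K).1 b.2))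
  -- orbits
  let oT : IrrCharacter K → Set (IrrCharacter K) := fun θ => {η | ∃ g : G, η = cj K g θ}
  have hoT : ∀ g θ, oT (cj K g θ) = oT θ := fun g θ => Set.ext fun η =>
    ⟨fun ⟨h, e⟩ => ⟨g * h, by rw [e, ← cj_mul]⟩,
      fun ⟨h, e⟩ => ⟨g⁻¹ * h, by rw [e, ← cj_mul, mul_inv_cancel_left]⟩⟩
  have hbar : ∀ g θ, bar (cj K g θ) = cj K g (bar θ) := fun g θ => rfl
  have hbar2 : ∀ θ : IrrCharacter K, bar (bar θ) = θ := fun θ =>
    Subtype.ext (funext fun c => Complex.conj_conj _)
  have hsep : ∀ θ, ¬ Fix θ → oT (bar θ) ≠ oT θ := by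
    intro θ hθ he
    obtain ⟨g, hg⟩ : bar θ ∈ oT θ := he ▸ (⟨1, (cj_one K _).symm⟩ : bar θ ∈ oT (bar θ))
    refine hθ (hrfix θ ?_)
    have h2' : cj K (g * g) θ = θ := by rw [cj_mul, ← hg, ← hbar, ← hg, hbar2]
    have hpow : ∀ i : ℕ, cj K (g ^ (2 * i + 1)) θ = bar θ := by
      intro i
      induction i with
      | zero => rw [mul_zero, zero_add, pow_one, ← hg]
      | succ i ih =>
        rw [show 2 * (i + 1) + 1 = 2 + (2 * i + 1) by ring, pow_add, sq, cj_mul, h2', ih]
    obtain ⟨i, hi⟩ := hodd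
    rw [← hpow i, show cj K (g ^ (2 * i + 1)) θ = θ from Subtype.ext (conjChar_of_mem K
      (IsCharacter.isClassFunction (IsIrrCharacter.isCharacter θ.2)) (hi ▸ K.pow_index_mem g))]
  haveI : Finite (ConjClasses G) := Finite.of_surjective ConjClasses.mk ConjClasses.mk_surjective
  haveI : Fintype (ConjClasses G) := Fintype.ofFinite _
  let eT := Fintype.equivFin (Set (IrrCharacter K))
  let eC := Fintype.equivFin (ConjClasses G)
  let s1 : K → k := fun c =>
    if eC (ConjClasses.mk ((c : G))) < eC (ConjClasses.mk ((c : G))⁻¹) then 1 else -1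
  let s2 : IrrCharacter K → k := fun θ => if eT (oT θ) < eT (oT (bar θ)) then 1 else -1
  have hs1sq : ∀ c, s1 c * s1 c = 1 := fun c => by simp only [s1]; split_ifs <;> norm_num
  have hs2sq : ∀ θ, s2 θ * s2 θ = 1 := fun θ => by simp only [s2]; split_ifs <;> norm_num
  -- the subspace
  let W : Submodule k (K → k) :=
    { carrier := {f | (∀ g c, f (conjHom K g c) = f c) ∧ (∀ c, Meet c → f c = 0) ∧
        ∀ c, f c⁻¹ = f c}
      zero_mem' := ⟨fun _ _ => rfl, fun _ _ => rfl, fun _ => rfl⟩
      add_mem' := fun {a b} ha hb => ⟨fun g c => by simp [ha.1 g c, hb.1 g c],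
        fun c hc => by simp [ha.2.1 c hc, hb.2.1 c hc], fun c => by simp [ha.2.2 c, hb.2.2 c]⟩
      smul_mem' := fun r a ha => ⟨fun g c => by simp [ha.1 g c],
        fun c hc => by simp [ha.2.1 c hc], fun c => by simp [ha.2.2 c]⟩ }
  have hPg : IsPGroup p ↥(P : Subgroup G) := P.isPGroup'
  have hphiG : ∀ f : K → k, (∀ g c, f (conjHom K g c) = f c) → ∀ g θ,
      phi K M f (cj K g θ) = phi K M f θ := by
    intro f hf g θ
    refine Fintype.sum_equiv (Equiv.ofBijective (conjHom K g)
      (Finite.surjective_iff_bijective.1 (conjHom_surjective K g))) _ _ fun c => ?_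
    rw [Equiv.ofBijective_apply, hf, chv_cj]
  have hphi0 : ∀ f : K → k, (∀ g c, f (conjHom K g c) = f c) → (∀ c, Meet c → f c = 0) →
      ∀ θ, Fix θ → phi K M f θ = 0 := by
    intro f hf hf0 θ hθ
    obtain ⟨g, hg⟩ := hθ
    rw [← hphiG f hf g θ]
    letI : MulAction ↥(P : Subgroup G) K :=
      { smul := fun a c => conjHom K (a : G) c
        one_smul := fun c => conjHom_one K c
        mul_smul := fun a b c => conjHom_mul K _ _ c }
    refine sum_eq_zero_of_pGroup hPg hpk _ (fun a c => ?_) (fun c hc => ?_)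
    · show f (conjHom K (a : G) c) * chv K M _ (conjHom K (a : G) c) = _
      rw [hf, ← chv_cj, hg a a.2]
    · rw [hf0 c ⟨1, fun a ha => ?_⟩, zero_mul]
      have h := congrArg Subtype.val (hc ⟨a, ha⟩)
      change a * (c : G) * a⁻¹ = (c : G) at h
      rw [one_mul, inv_one, mul_one]
      exact mul_inv_eq_iff_eq_mul.1 h
  have hpsiG : ∀ h : IrrCharacter K → k, (∀ g θ, h (cj K g θ) = h θ) → ∀ g c,
      psi K M h (conjHom K g c) = psi K M h c := by
    intro h hh g c
    refine Fintype.sum_equiv ⟨cj K g, cj K g⁻¹,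
      fun θ => by rw [← cj_mul, mul_inv_cancel, cj_one],
      fun θ => by rw [← cj_mul, inv_mul_cancel, cj_one]⟩ _ _ fun θ => ?_
    simp only [Equiv.coe_fn_mk, hh]
    rw [chv_cj, map_inv]
  have hpsi0 : ∀ h : IrrCharacter K → k, (∀ g θ, h (cj K g θ) = h θ) →
      (∀ θ, Fix θ → h θ = 0) → ∀ c, Meet c → psi K M h c = 0 := by
    intro h hh hh0 c hc
    obtain ⟨g, hg⟩ := hc
    rw [← hpsiG h hh g c]
    letI : MulAction ↥(P : Subgroup G) (IrrCharacter K) :=
      { smul := fun a θ => cj K (a : G)⁻¹ θ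
        one_smul := fun θ => by
          show cj K ((1 : ↥(P : Subgroup G)) : G)⁻¹ θ = θ
          rw [OneMemClass.coe_one, inv_one, cj_one]
        mul_smul := fun a b θ => by
          show cj K ((a * b : ↥(P : Subgroup G)) : G)⁻¹ θ = cj K (a : G)⁻¹ (cj K (b : G)⁻¹ θ)
          rw [← cj_mul, Subgroup.coe_mul, mul_inv_rev] }
    refine sum_eq_zero_of_pGroup hPg hpk _ (fun a θ => ?_) (fun θ hθ => ?_)
    · show h (cj K (a : G)⁻¹ θ) * chv K M (cj K (a : G)⁻¹ θ) _ = _
      rw [hh, chv_cj, map_inv]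
      congr 3
      refine Subtype.ext ?_
      have := hg (a : G)⁻¹ (inv_mem a.2)
      simp only [conjHom_coe, inv_inv] at this ⊢
      rw [this, inv_mul_cancel_right]
    · rw [hh0 θ ⟨1, fun a ha => ?_⟩, zero_mul]
      have := hθ ⟨a⁻¹, inv_mem ha⟩
      change cj K (a⁻¹)⁻¹ θ = θ at this
      rw [inv_inv] at this
      rw [cj_one, this]
  let J : (K → k) →ₗ[k] (K → k) :=
    { toFun := fun f c => s1 c * psi K M (fun θ => s2 θ * phi K M f θ) c
      map_add' := fun a b => funext fun c => by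
        simp [psi, phi, add_mul, mul_add, Finset.sum_add_distrib]
      map_smul' := fun r a => funext fun c => by
        have e : ∀ θ, phi K M (r • a) θ = r * phi K M a θ := fun θ => by
          rw [phi, phi, Finset.mul_sum]
          exact Finset.sum_congr rfl fun z _ => by rw [Pi.smul_apply, smul_eq_mul, mul_assoc]
        simp only [psi, e, Pi.smul_apply, smul_eq_mul, RingHom.id_apply]
        rw [Finset.mul_sum, Finset.mul_sum, Finset.mul_sum]
        exact Finset.sum_congr rfl fun θ _ => by ring }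
  -- the intermediate functions
  have hh : ∀ f ∈ W, (∀ g θ, s2 (cj K g θ) * phi K M f (cj K g θ) = s2 θ * phi K M f θ) ∧
      (∀ θ, Fix θ → s2 θ * phi K M f θ = 0) ∧
      ∀ θ, s2 (bar θ) * phi K M f (bar θ) = -(s2 θ * phi K M f θ) := by
    rintro f ⟨hf1, hf2, hf3⟩
    refine ⟨fun g θ => ?_, fun θ hθ => by rw [hphi0 f hf1 hf2 θ hθ, mul_zero], fun θ => ?_⟩
    · simp only [s2, hbar, hoT, hphiG f hf1]
    · have e : phi K M f (bar θ) = phi K M f θ := by
        refine Fintype.sum_equiv (Equiv.inv K) _ _ fun c => ?_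
        rw [Equiv.inv_apply, hf3, chv_bar]
      rw [e]
      by_cases hθ : Fix θ
      · rw [hphi0 f hf1 hf2 θ hθ]; simp
      · have hne : eT (oT (bar θ)) ≠ eT (oT θ) := fun h => hsep θ hθ (eT.injective h)
        simp only [s2, hbar2]
        rcases lt_or_gt_of_ne hne with h | h
        · rw [if_pos h, if_neg (not_lt.2 h.le)]; ring
        · rw [if_neg (not_lt.2 h.le), if_pos h]; ring
  have hpsiNeg : ∀ f ∈ W, ∀ c, psi K M (fun θ => s2 θ * phi K M f θ) c⁻¹ =
      -psi K M (fun θ => s2 θ * phi K M f θ) c := by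
    intro f hf c
    simp only [psi, ← Finset.sum_neg_distrib]
    refine Fintype.sum_equiv ⟨bar, bar, hbar2, hbar2⟩ _ _ fun θ => ?_
    simp only [Equiv.coe_fn_mk, (hh f hf).2.2 θ, chv_bar, inv_inv]
    ring
  have hJW : ∀ f ∈ W, J f ∈ W := by
    intro f hf
    obtain ⟨h1, h2', -⟩ := hh f hf
    refine ⟨fun g c => ?_, fun c hc => ?_, fun c => ?_⟩
    · have e : ∀ z : K, ConjClasses.mk ((conjHom K g z : K) : G) = ConjClasses.mk (z : G) := fun z =>
        (ConjClasses.mk_eq_mk_iff_isConj.2 (isConj_iff.2 ⟨g, rfl⟩)).symm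
      show s1 _ * _ = s1 c * _
      rw [hpsiG _ h1]
      congr 1
      simp only [s1, e, ← Subgroup.coe_inv, ← map_inv]
    · show s1 c * _ = 0
      rw [hpsi0 _ h1 h2' c hc, mul_zero]
    · show s1 c⁻¹ * _ = s1 c * _
      rw [hpsiNeg f hf]
      by_cases he : eC (ConjClasses.mk ((c : G))⁻¹) = eC (ConjClasses.mk (c : G))
      · obtain ⟨g, hg⟩ := isConj_iff.1 (ConjClasses.mk_eq_mk_iff_isConj.1 (eC.injective he)).symm
        have e0 : psi K M (fun θ => s2 θ * phi K M f θ) c = 0 := by
          apply hneg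
          rw [← hpsiNeg f hf, ← hpsiG _ h1 g c]
          exact congrArg _ (Subtype.ext hg)
        rw [e0]; simp
      · simp only [s1, Subgroup.coe_inv, inv_inv]
        rcases lt_or_gt_of_ne he with h | h
        · rw [if_pos h, if_neg (not_lt.2 h.le)]; ring
        · rw [if_neg (not_lt.2 h.le), if_pos h]; ring
  let JW : W →ₗ[k] W := (J.comp W.subtype).codRestrict W fun f => hJW f f.2
  have hinj : Function.Injective JW := by
    rw [injective_iff_map_eq_zero]
    intro f hf
    apply Subtype.ext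
    funext c
    have h0 : ∀ z, psi K M (fun θ => s2 θ * phi K M (f : K → k) θ) z = 0 := fun z => by
      have := congrFun (congrArg Subtype.val hf) z
      change s1 z * _ = 0 at this
      have h := congrArg (fun r => s1 z * r) this
      simpa [← mul_assoc, hs1sq] using h
    have hphi : ∀ θ, phi K M (f : K → k) θ = 0 := fun θ => by
      have h := phi_psi K M (fun θ => s2 θ * phi K M (f : K → k) θ) θ
      rw [show phi K M (psi K M fun θ => s2 θ * phi K M (f : K → k) θ) θ = 0 from
        Finset.sum_eq_zero fun z _ => by rw [h0, zero_mul]] at h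
      have h' := (mul_eq_zero.1 h.symm).resolve_left hK0
      have h'' := congrArg (fun r => s2 θ * r) h'
      simpa [← mul_assoc, hs2sq] using h''
    have h := psi_phi K M (f : K → k) (fun u z => f.2.1 (u : G) z) c
    rw [show psi K M (phi K M (f : K → k)) c = 0 from
      Finset.sum_eq_zero fun θ _ => by rw [hphi, zero_mul]] at h
    exact (mul_eq_zero.1 h.symm).resolve_left hK0
  have hxK := OddIndexReal.mem_of_real (K := K) hodd hx
  let ind : W := ⟨fun c => if IsConj x (c : G) then 1 else 0, fun g c => by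
      have hc : IsConj (c : G) (conjHom K g c : G) := isConj_iff.2 ⟨g, rfl⟩
      exact if_congr ⟨fun h => h.trans hc.symm, fun h => h.trans hc⟩ rfl rfl,
    fun c hc => by
      show (if IsConj x (c : G) then (1 : k) else 0) = 0
      rw [if_neg]
      intro h
      obtain ⟨g, hg⟩ := hc
      obtain ⟨a, ha, hne⟩ := hno _ (h.trans (isConj_iff.2 ⟨g, rfl⟩))
      exact hne (hg a ha),
    fun c => by
      have hinv : ∀ a b : G, IsConj a b → IsConj a⁻¹ b⁻¹ := fun a b h => by
        obtain ⟨w, hw⟩ := isConj_iff.1 h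
        exact isConj_iff.2 ⟨w, by rw [← hw]; group⟩
      refine if_congr ⟨fun h => ?_, fun h => ?_⟩ rfl rfl
      · have := hinv _ _ h
        rw [Subgroup.coe_inv, inv_inv] at this
        exact hx.trans this
      · rw [Subgroup.coe_inv]
        exact hx.trans (hinv _ _ h)⟩
  haveI hart : IsArtinianRing k := @DivisionRing.instIsArtinianRing k (Ideal.Quotient.field M).toDivisionRing
  obtain ⟨f, hf⟩ := IsArtinian.surjective_of_injective_endomorphism JW hinj ind
  have hval := congrFun (congrArg Subtype.val hf) ⟨x, hxK⟩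
  change s1 _ * psi K M (fun θ => s2 θ * phi K M (f : K → k) θ) _ =
    if IsConj x x then (1 : k) else 0 at hval
  rw [if_pos (IsConj.refl x)] at hval
  obtain ⟨g, hg⟩ := isConj_iff.1 hx
  have e0 : psi K M (fun θ => s2 θ * phi K M (f : K → k) θ) ⟨x, hxK⟩ = 0 := by
    apply hneg
    rw [← hpsiNeg _ f.2, ← hpsiG _ (hh _ f.2).1 g ⟨x, hxK⟩]
    exact congrArg _ (Subtype.ext hg)
  rw [e0, mul_zero] at hval
  exact zero_ne_one hval

end Cfsg.Agent.RealClassFix
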