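import Cfsg.Agent.Lib.Char.Gallagher
import Cfsg.Agent.Lib.Char.Clifford
import Cfsg.Agent.Lib.Char.Degree

/-!
# Characters over a fixed character of a normal subgroup with an extension

Preparation for the relative Glauberman correspondence.
-/

set_option linter.unusedSectionVars false
set_option linter.style.haveILetI false

namespace Cfsg.Agent.RelGlauberman

open Cfsg Cfsg.Agent.Char Cfsg.Agent.CharX
open scoped ComplexConjugate

universe u v w

variable {X : Type u} [Group X] [Fintype X]

theorem classInner_comp_surj {W : Type v} [Group W] [Fintype W] (π : X →* W)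
    (hπ : Function.Surjective π) (a b : W → ℂ) :
    classInner (fun x => a (π x)) (fun x => b (π x)) = classInner a b := by
  classical
  have hfib : ∀ y : W, (Finset.univ.filter fun x => π x = y).card = Nat.card π.ker := by
    intro y
    obtain ⟨x₀, rfl⟩ := hπ y
    rw [← Nat.card_eq_finsetCard]
    refine Nat.card_congr
      { toFun := fun x => ⟨x₀⁻¹ * x.1, MonoidHom.mem_ker.2 (by
          rw [map_mul, (Finset.mem_filter.1 x.2).2, map_inv, inv_mul_cancel])⟩
        invFun := fun k => ⟨x₀ * k.1, Finset.mem_filter.2 ⟨Finset.mem_univ _, by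
          rw [map_mul, MonoidHom.mem_ker.1 k.2, mul_one]⟩⟩
        left_inv := fun x => Subtype.ext (mul_inv_cancel_left _ _)
        right_inv := fun k => Subtype.ext (inv_mul_cancel_left _ _) }
  have hcard : Nat.card X = Nat.card W * Nat.card π.ker := by
    rw [Nat.card_eq_fintype_card (α := X), ← Finset.card_univ,
      Finset.card_eq_sum_card_fiberwise (f := π) (t := Finset.univ) fun _ _ => Finset.mem_univ _,
      Finset.sum_congr rfl (fun y _ => hfib y), Finset.sum_const, Finset.card_univ, smul_eq_mul,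
      Nat.card_eq_fintype_card (α := W)]
  simp only [classInner]
  rw [← Finset.sum_fiberwise_of_maps_to (g := π) (t := Finset.univ) (fun _ _ => Finset.mem_univ _),
    Finset.sum_congr rfl (fun y _ => show _ = (Nat.card π.ker : ℂ) * (a y * conj (b y)) by
      rw [Finset.sum_congr rfl (fun x hx => by rw [(Finset.mem_filter.1 hx).2]), Finset.sum_const,
        hfib y, nsmul_eq_mul]), ← Finset.mul_sum, hcard, Nat.cast_mul]
  have : (Nat.card π.ker : ℂ) ≠ 0 := Nat.cast_ne_zero.2 Nat.card_pos.ne'
  field_simp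

/-- An irreducible character trivial on the kernel of a surjection factors through it. -/
theorem exists_factor {W : Type v} [Group W] (π : X →* W) (hπ : Function.Surjective π)
    (χ : IrrCharacter X) (h : ∀ x, π x = 1 → (χ : X → ℂ) x = (χ : X → ℂ) 1) :
    ∃ w : IrrCharacter W, ∀ x, (w : W → ℂ) (π x) = (χ : X → ℂ) x := by
  obtain ⟨χ', -, hval, hirr⟩ := IsCharacter.deflate (IsIrrCharacter.isCharacter χ.2) π.ker
    fun x hx => h x (MonoidHom.mem_ker.1 hx)
  let e := (QuotientGroup.quotientKerEquivOfSurjective π hπ).symm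
  refine ⟨⟨fun y => χ' (e y), IsIrrCharacter.comp (hirr χ.2) e.toMonoidHom e.surjective⟩, fun x => ?_⟩
  show χ' (e (π x)) = _
  rw [← hval x]
  congr 1
  rw [MulEquiv.symm_apply_eq]
  rfl

/-- Constituents of constituents are constituents. -/
theorem mult_trans {Y : Type v} [Group Y] [Fintype Y] {Z : Type w} [Group Z] [Fintype Z]
    (i : Z →* Y) {α : Y → ℂ} (hα : IsCharacter Y α) {η : Y → ℂ} (hη : IsIrrCharacter Y η)
    {θ : Z → ℂ} (hθ : IsCharacter Z θ) (h1 : classInner α η ≠ 0)
    (h2 : classInner (fun z => η (i z)) θ ≠ 0) : classInner (fun z => α (i z)) θ ≠ 0 := by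
  classical
  obtain ⟨m, rfl⟩ := IsCharacter.exists_decomp hα
  choose n hn using fun ψ : IrrCharacter Y => IsCharacter.exists_classInner_nat
    (IsCharacter.comp (IsIrrCharacter.isCharacter ψ.2) i) hθ
  replace h1 : m ⟨η, hη⟩ ≠ 0 := fun h => h1
    ((classInner_combination (fun ψ => (m ψ : ℂ)) ⟨η, hη⟩).trans (by rw [h, Nat.cast_zero]))
  have e : (fun z => (∑ ψ : IrrCharacter Y, (m ψ : ℂ) • (ψ : Y → ℂ)) (i z)) =
      ∑ ψ : IrrCharacter Y, (m ψ : ℂ) • (fun z => (ψ : Y → ℂ) (i z)) := funext fun z => by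
    simp [Finset.sum_apply]
  rw [e, classInner_sum_left]
  simp only [classInner_smul_left, hn]
  have h3 : n ⟨η, hη⟩ ≠ 0 := fun h => h2 (by
    have := hn ⟨η, hη⟩
    rw [h, Nat.cast_zero] at this
    exact this)
  norm_cast
  exact fun h => mul_ne_zero h1 h3 (Finset.sum_eq_zero_iff.1 h ⟨η, hη⟩ (Finset.mem_univ _))

theorem indFun_comp_equiv (α : X ≃* X) (T : Subgroup X) (hT : ∀ x, α x ∈ T ↔ x ∈ T)
    (ψ ψ' : T → ℂ) (h : ∀ t : T, ψ' t = ψ ⟨α t, (hT t).2 t.2⟩) (x : X) :
    indFun T ψ' x = indFun T ψ (α x) := by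
  classical
  rw [indFun_apply, indFun_apply]
  congr 1
  refine Fintype.sum_equiv α.toEquiv _ _ fun y => ?_
  show extendByZero T ψ' (y⁻¹ * x * y) = extendByZero T ψ ((α y)⁻¹ * α x * α y)
  rw [← map_inv, ← map_mul, ← map_mul]
  by_cases hy : y⁻¹ * x * y ∈ T
  · rw [extendByZero_mem T ψ' hy, extendByZero_mem T ψ ((hT _).2 hy), h]
  · rw [extendByZero_not_mem T ψ' hy, extendByZero_not_mem T ψ fun h' => hy ((hT _).1 h')]

/-- An inertia group with a surjection onto a group with kernel the normal subgroup, and an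
extension of the character. -/
structure Setup (N : Subgroup X) [N.Normal] (θ : N → ℂ) (W : Type v) [Group W] where
  irr : IsIrrCharacter N θ
  π : inertia N θ →* W
  surj : Function.Surjective π
  ker : ∀ t, π t = 1 ↔ (t : X) ∈ N
  ext : inertia N θ → ℂ
  isChar : IsCharacter (inertia N θ) ext
  ext_eq : ∀ (t : inertia N θ) (ht : (t : X) ∈ N), ext t = θ ⟨t, ht⟩

variable {N : Subgroup X} [hN : N.Normal] {θ : N → ℂ} {W : Type v} [Group W] [Fintype W]
  [Fintype N] [Fintype (inertia N θ)] (S : Setup N θ W)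

/-- The inclusion of the normal subgroup in the inertia group. -/
def Setup.incl : N →* inertia N θ :=
  Subgroup.inclusion (le_inertia N (IsCharacter.isClassFunction (IsIrrCharacter.isCharacter S.irr)))

theorem Setup.ext_incl (n : N) : S.ext (S.incl n) = θ n := S.ext_eq _ n.2

theorem Setup.π_incl (n : N) : S.π (S.incl n) = 1 := (S.ker _).2 n.2

/-- The character of the inertia group attached to a function on the quotient. -/
def Setup.lift (a : W → ℂ) : inertia N θ → ℂ := fun t => a (S.π t) * S.ext t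

theorem Setup.exists_gallagher :
    (∀ w : IrrCharacter W, IsIrrCharacter (inertia N θ) (S.lift (w : W → ℂ))) ∧
    (∀ w w' : IrrCharacter W, S.lift (w : W → ℂ) = S.lift (w' : W → ℂ) → w = w') ∧
    (∀ ψ : inertia N θ → ℂ, IsIrrCharacter (inertia N θ) ψ →
      classInner (fun n : N => ψ (S.incl n)) θ ≠ 0 →
      ∃ w : IrrCharacter W, S.lift (w : W → ℂ) = ψ) := by
  classical
  haveI : (N.subgroupOf (inertia N θ)).Normal := inferInstance
  let e : N ≃* N.subgroupOf (inertia N θ) := (Subgroup.subgroupOfEquivOfLe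
    (le_inertia N (IsCharacter.isClassFunction (IsIrrCharacter.isCharacter S.irr)))).symm
  have hres : (fun n : N.subgroupOf (inertia N θ) => S.ext n) = fun n => θ (e.symm n) :=
    funext fun n => S.ext_eq _ (Subgroup.mem_subgroupOf.1 n.2)
  have hirr : IsIrrCharacter (N.subgroupOf (inertia N θ))
      (fun n : N.subgroupOf (inertia N θ) => S.ext n) := by
    rw [hres]; exact IsIrrCharacter.comp S.irr e.symm.toMonoidHom e.symm.surjective
  obtain ⟨h1, h2, h3⟩ := gallagher_one (N.subgroupOf (inertia N θ)) S.isChar hirr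
  let inf : IrrCharacter W → IrrCharacter (inertia N θ) := fun w =>
    ⟨fun t => (w : W → ℂ) (S.π t), IsIrrCharacter.comp w.2 S.π S.surj⟩
  have hinf : ∀ (w : IrrCharacter W) (n : N.subgroupOf (inertia N θ)),
      (inf w : inertia N θ → ℂ) n = (inf w : inertia N θ → ℂ) 1 := fun w n => by
    show (w : W → ℂ) (S.π n) = (w : W → ℂ) (S.π 1)
    rw [map_one, (S.ker _).2 (Subgroup.mem_subgroupOf.1 n.2)]
  refine ⟨fun w => h1 (inf w) (hinf w), fun w w' h => ?_, fun ψ hψ hne => ?_⟩
  · have := congrArg Subtype.val (h2 (inf w) (inf w') (hinf w) (hinf w') h)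
    refine Subtype.ext (funext fun y => ?_)
    obtain ⟨t, rfl⟩ := S.surj y
    exact congrFun this t
  · obtain ⟨β, hβ, hβψ⟩ := h3 ψ hψ (by
      rw [hres, ← classInner_comp_surj e.toMonoidHom e.surjective]
      simp only [MulEquiv.coe_toMonoidHom, MulEquiv.symm_apply_apply]
      exact hne)
    obtain ⟨w, hw⟩ := exists_factor S.π S.surj β
      fun t ht => hβ ⟨t, Subgroup.mem_subgroupOf.2 ((S.ker t).1 ht)⟩
    refine ⟨w, ?_⟩
    rw [← hβψ]
    funext t
    show (w : W → ℂ) (S.π t) * S.ext t = _
    rw [hw, Pi.mul_apply]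

theorem Setup.classInner_lift {a : W → ℂ} (ha : IsCharacter W a) (w : IrrCharacter W) :
    classInner (S.lift a) (S.lift (w : W → ℂ)) = classInner a (w : W → ℂ) := by
  classical
  obtain ⟨h1, h2, -⟩ := S.exists_gallagher
  obtain ⟨m, rfl⟩ := IsCharacter.exists_decomp ha
  have e : S.lift (∑ ψ : IrrCharacter W, (m ψ : ℂ) • (ψ : W → ℂ)) =
      ∑ ψ : IrrCharacter W, (m ψ : ℂ) • S.lift (ψ : W → ℂ) := funext fun t => by
    simp [Setup.lift, Finset.sum_apply, Finset.sum_mul, mul_assoc]
  rw [e, classInner_sum_left, classInner_combination, Finset.sum_eq_single w]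
  · rw [classInner_smul_left, classInner_self_irr (h1 w), mul_one]
  · intro b _ hb
    rw [classInner_smul_left, classInner_irr_of_ne (h1 b) (h1 w) (fun e => hb (h2 b w e)), mul_zero]
  · exact fun h => absurd (Finset.mem_univ _) h

theorem Setup.lift_over (w : IrrCharacter W) :
    classInner (fun n : N => S.lift (w : W → ℂ) (S.incl n)) θ ≠ 0 := by
  have e : (fun n : N => S.lift (w : W → ℂ) (S.incl n)) = (w : W → ℂ) 1 • θ := funext fun n => by
    simp [Setup.lift, S.π_incl, S.ext_incl]
  rw [e, classInner_smul_left, classInner_self_irr S.irr, mul_one]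
  exact IsIrrCharacter.one_ne_zero w.2

/-- The character over `θ` attached to a character of the quotient. -/
noncomputable def Setup.toIrr (w : IrrCharacter W) : IrrCharacter X :=
  ⟨indFun (inertia N θ) (S.lift (w : W → ℂ)),
    (clifford_correspondence N S.irr rfl
      (le_inertia N (IsCharacter.isClassFunction (IsIrrCharacter.isCharacter S.irr)))
      (S.exists_gallagher.1 w) (S.lift_over w)).1⟩

theorem Setup.toIrr_over (w : IrrCharacter W) :
    classInner (fun n : N => (S.toIrr w : X → ℂ) n) θ ≠ 0 := by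
  show classInner (fun n : N => indFun (inertia N θ) (S.lift (w : W → ℂ)) n) θ ≠ 0
  rw [(clifford_correspondence N S.irr rfl
      (le_inertia N (IsCharacter.isClassFunction (IsIrrCharacter.isCharacter S.irr)))
      (S.exists_gallagher.1 w) (S.lift_over w)).2]
  exact S.lift_over w

theorem Setup.toIrr_inj {w w' : IrrCharacter W} (h : S.toIrr w = S.toIrr w') : w = w' :=
  S.exists_gallagher.2.1 w w' (clifford_correspondence_injective N S.irr rfl
    (le_inertia N (IsCharacter.isClassFunction (IsIrrCharacter.isCharacter S.irr)))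
    (S.exists_gallagher.1 w) (S.exists_gallagher.1 w') (S.lift_over w) (S.lift_over w')
    (congrArg Subtype.val h))

theorem Setup.toIrr_surj (χ : IrrCharacter X) (h : classInner (fun n : N => (χ : X → ℂ) n) θ ≠ 0) :
    ∃ w, S.toIrr w = χ := by
  obtain ⟨ψ, hψ, hind, hm⟩ := clifford_correspondence_surjective N S.irr (T := inertia N θ) rfl
    (le_inertia N (IsCharacter.isClassFunction (IsIrrCharacter.isCharacter S.irr))) χ.2 h
  obtain ⟨w, hw⟩ := S.exists_gallagher.2.2 ψ hψ (fun h0 => h (hm ▸ h0))
  refine ⟨w, Subtype.ext ?_⟩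
  show indFun (inertia N θ) (S.lift (w : W → ℂ)) = _
  rw [hw, hind]

/-- Pulling back to a subgroup of the inertia group only sees the Clifford correspondent. -/
theorem Setup.classInner_toIrr_comp (w : IrrCharacter W) {Y : Type*} [Group Y] [Fintype Y]
    (j : Y →* inertia N θ) {Z : Type*} [Group Z] [Fintype Z] (i : Z →* Y) (e : Z ≃* N)
    (hji : ∀ z, j (i z) = S.incl (e z)) {η : Y → ℂ} (hη : IsIrrCharacter Y η)
    (hηθ : classInner (fun z => η (i z)) (fun z => θ (e z)) ≠ 0) :
    classInner (fun y => (S.toIrr w : X → ℂ) (j y)) η =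
      classInner (fun y => S.lift (w : W → ℂ) (j y)) η := by
  classical
  set ψ : IrrCharacter (inertia N θ) := ⟨S.lift (w : W → ℂ), S.exists_gallagher.1 w⟩ with hψdef
  have hmk := IsIrrCharacter.isCharacter (S.toIrr w).2
  have hcl := IsCharacter.isClassFunction hmk
  have hone : classInner (fun t : inertia N θ => (S.toIrr w : X → ℂ) t) ψ = 1 := by
    rw [← classInner_indFun_right _ _ hcl]
    exact classInner_self_irr (S.toIrr w).2
  obtain ⟨m, hm⟩ := IsCharacter.exists_decomp (IsCharacter.restrict hmk (inertia N θ))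
  have hmψ : m ψ = 1 := by
    rw [hm, classInner_combination] at hone
    exact_mod_cast hone
  choose k hk using fun φ : IrrCharacter (inertia N θ) => IsCharacter.exists_classInner_nat
    (IsCharacter.comp (IsIrrCharacter.isCharacter φ.2) S.incl) (IsIrrCharacter.isCharacter S.irr)
  have hk0 : ∀ φ, φ ≠ ψ → m φ * k φ = 0 := by
    intro φ hne
    have h := (clifford_correspondence N S.irr rfl
      (le_inertia N (IsCharacter.isClassFunction (IsIrrCharacter.isCharacter S.irr)))
      (S.exists_gallagher.1 w) (S.lift_over w)).2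
    have e' : (fun n : N => indFun (inertia N θ) (S.lift (w : W → ℂ)) n) =
        ∑ φ, (m φ : ℂ) • fun n : N => (φ : inertia N θ → ℂ) (S.incl n) := by
      funext n
      have := congrFun hm (S.incl n)
      simp only [Finset.sum_apply, Pi.smul_apply] at this ⊢
      exact this
    rw [e', classInner_sum_left] at h
    simp only [classInner_smul_left, hk] at h
    have h' : ∑ φ, (m φ : ℂ) * (k φ : ℂ) = (k ψ : ℂ) := h.trans (hk ψ)
    have h2 : ∑ φ, m φ * k φ = k ψ := by exact_mod_cast h'
    rw [← Finset.add_sum_erase _ _ (Finset.mem_univ ψ), hmψ, one_mul] at h2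
    exact Finset.sum_eq_zero_iff.1 (by omega : ∑ φ ∈ Finset.univ.erase ψ, m φ * k φ = 0) φ
      (Finset.mem_erase.2 ⟨hne, Finset.mem_univ _⟩)
  have e2 : (fun y => (S.toIrr w : X → ℂ) (j y)) =
      ∑ φ, (m φ : ℂ) • fun y => (φ : inertia N θ → ℂ) (j y) := by
    funext y
    have := congrFun hm (j y)
    simp only [Finset.sum_apply, Pi.smul_apply] at this ⊢
    exact this
  rw [e2, classInner_sum_left, Finset.sum_eq_single ψ]
  · rw [classInner_smul_left, hmψ, Nat.cast_one, one_mul]
  · intro φ _ hne
    rw [classInner_smul_left]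
    by_cases hm0 : m φ = 0
    · rw [hm0, Nat.cast_zero, zero_mul]
    rw [mul_eq_zero]
    refine Or.inr (by_contra fun h => ?_)
    have h2 := mult_trans i (IsCharacter.comp (IsIrrCharacter.isCharacter φ.2) j) hη
      (IsCharacter.comp (IsIrrCharacter.isCharacter S.irr) e.toMonoidHom) h hηθ
    simp only [hji] at h2
    refine h2 ((classInner_comp_surj e.toMonoidHom e.surjective
      (fun n => (φ : inertia N θ → ℂ) (S.incl n)) θ).trans ?_)
    rw [hk φ, (mul_eq_zero.1 (hk0 φ hne)).resolve_left hm0, Nat.cast_zero]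
  · exact fun h => absurd (Finset.mem_univ _) h

end Cfsg.Agent.RelGlauberman
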