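import Cfsg.Agent.Lib.Char.OddIndexReal
import Cfsg.Agent.Lib.Char.RelGlaubermanBase
import Cfsg.Agent.Lib.Char.Degree
import Mathlib.GroupTheory.Sylow

/-!
# Real characters over a normal subgroup of odd index: multiplicities, orbits and Sylow subgroups
-/

set_option autoImplicit false
set_option linter.style.haveILetI false
set_option linter.unusedSectionVars false

namespace Cfsg.Agent.RealOrbit

open Cfsg Cfsg.Agent Cfsg.Agent.Char Cfsg.Agent.CharX Cfsg.Agent.Blocks
open scoped ComplexConjugate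

universe u

variable {G : Type u} [Group G] [Fintype G] (K : Subgroup G) [K.Normal] [Fintype K]

/-- A real character lies with multiplicity one over its real constituents. -/
theorem mult_eq_one (hodd : Odd K.index) (χ : IrrCharacter G) (hχ : ∀ g, ((χ : G → ℂ) g).im = 0)
    (θ : IrrCharacter K) (hθ : ∀ k, ((θ : K → ℂ) k).im = 0)
    (h : classInner (fun k : K => (χ : G → ℂ) k) (θ : K → ℂ) ≠ 0) :
    classInner (fun k : K => (χ : G → ℂ) k) (θ : K → ℂ) = 1 := by
  classical
  obtain ⟨m, hm⟩ := IsCharacter.exists_classInner_nat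
    (IsCharacter.restrict (IsIrrCharacter.isCharacter χ.2) K) (IsIrrCharacter.isCharacter θ.2)
  have hs := OddIndexReal.nu_sum_constituent K hodd θ
  rw [Finset.sum_eq_single χ (fun ψ _ hne => ?_) (fun h => absurd (Finset.mem_univ _) h), hm,
    map_natCast] at hs
  · rw [hm]
    have h1 : (OddIndexReal.nu (χ : G → ℂ) * (m : ℂ)) ^ 2 = 1 := by
      rcases OddIndexReal.nu_cases θ with ⟨h', -⟩ | ⟨-, h' | h'⟩
      · exact absurd hθ h'
      · rw [hs, h', one_pow]
      · rw [hs, h']; norm_num
    rcases OddIndexReal.nu_cases χ with ⟨h', -⟩ | ⟨-, h' | h'⟩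
    · exact absurd hχ h'
    all_goals
      rw [h', mul_pow] at h1
      have h2 : ((m ^ 2 : ℕ) : ℂ) = ((1 : ℕ) : ℂ) := by push_cast; simpa using h1
      rw [show m = 1 from (pow_eq_one_iff.1 (Nat.cast_injective h2)).resolve_right two_ne_zero, Nat.cast_one]
  · rcases OddIndexReal.nu_cases ψ with ⟨-, h0⟩ | ⟨hr, -⟩
    · rw [h0, zero_mul]
    · have hz : classInner (fun k : K => (ψ : G → ℂ) k) (θ : K → ℂ) = 0 := by
        by_contra hz
        exact hne (OddIndexReal.real_over_unique K hodd θ hθ ψ χ hr hχ hz h)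
      rw [hz, map_zero, mul_zero]

/-- The degree of a real character over a real constituent. -/
theorem degree_eq (hodd : Odd K.index) (χ : IrrCharacter G) (hχ : ∀ g, ((χ : G → ℂ) g).im = 0)
    (θ : IrrCharacter K) (hθ : ∀ k, ((θ : K → ℂ) k).im = 0)
    (h : classInner (fun k : K => (χ : G → ℂ) k) (θ : K → ℂ) ≠ 0) :
    charDegree (χ : G → ℂ) = (inertia K (θ : K → ℂ)).index * charDegree (θ : K → ℂ) := by
  have h1 := clifford_degree K χ.2 θ.2 h
  rw [mult_eq_one K hodd χ hχ θ hθ h, one_mul, irr_deg, irr_deg] at h1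
  exact_mod_cast h1

theorem mem_inertia_cjIrr {θ : IrrCharacter K} {g : G} :
    g ∈ inertia K (θ : K → ℂ) ↔ cjIrr K g θ = θ :=
  ⟨fun h => Subtype.ext h, fun h => congrArg Subtype.val h⟩

theorem over_cjIrr (χ : IrrCharacter G) (θ : IrrCharacter K) (g : G)
    (h : classInner (fun k : K => (χ : G → ℂ) k) (θ : K → ℂ) ≠ 0) :
    classInner (fun k : K => (χ : G → ℂ) k) (cjIrr K g θ : K → ℂ) ≠ 0 := by
  rw [cjIrr_apply, classInner_restrict_conjChar K
    (IsCharacter.isClassFunction (IsIrrCharacter.isCharacter χ.2))]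
  exact h

variable {p : ℕ} [hp : Fact p.Prime]

/-- Some conjugate of a character with inertia index prime to `p` is fixed by a Sylow subgroup. -/
theorem exists_conj_inv (P : Sylow p G) (θ : IrrCharacter K)
    (ht : ¬ p ∣ (inertia K (θ : K → ℂ)).index) :
    ∃ g : G, ∀ x ∈ (P : Subgroup G), cjIrr K x (cjIrr K g θ) = cjIrr K g θ := by
  set I := inertia K (θ : K → ℂ)
  obtain ⟨T⟩ : Nonempty (Sylow p I) := inferInstance
  have hTi : ¬ p ∣ ((T : Subgroup I).map I.subtype).index := by
    rw [Subgroup.index_map_subtype]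
    exact fun hd => ((hp.out.dvd_mul).1 hd).elim T.not_dvd_index ht
  obtain ⟨y, hy⟩ := MulAction.exists_smul_eq G ((T.isPGroup'.map _).toSylow hTi) P
  refine ⟨y⁻¹, fun x hx => ?_⟩
  rw [← hy, Sylow.coe_subgroup_smul, Subgroup.mem_pointwise_smul_iff_inv_smul_mem] at hx
  obtain ⟨t, -, ht'⟩ := hx
  rw [Subgroup.coe_subtype, ← map_inv, MulAut.smul_def, MulAut.conj_apply, inv_inv] at ht'
  rw [← cjIrr_mul, show y⁻¹ * x = (t : G) * y⁻¹ by rw [ht']; group, cjIrr_mul,
    (mem_inertia_cjIrr K).1 t.2]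

/-- Characters fixed by the same Sylow subgroup are conjugate under its normaliser. -/
theorem exists_normalizer_conj (P : Sylow p G) (θ : IrrCharacter K) (g : G)
    (h1 : ∀ x ∈ (P : Subgroup G), cjIrr K x θ = θ)
    (h2 : ∀ x ∈ (P : Subgroup G), cjIrr K x (cjIrr K g θ) = cjIrr K g θ) :
    ∃ n ∈ Subgroup.normalizer ((P : Subgroup G) : Set G), cjIrr K n θ = cjIrr K g θ := by
  set I := inertia K (θ : K → ℂ)
  have hPI : (P : Subgroup G) ≤ I := fun x hx => (mem_inertia_cjIrr K).2 (h1 x hx)
  have hgPI : ((g • P : Sylow p G) : Subgroup G) ≤ I := by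
    intro z hz
    rw [Sylow.coe_subgroup_smul, Subgroup.mem_pointwise_smul_iff_inv_smul_mem, ← map_inv,
      MulAut.smul_def, MulAut.conj_apply, inv_inv] at hz
    refine (mem_inertia_cjIrr K).2 ?_
    have h3 := congrArg (cjIrr K g⁻¹) (h2 _ hz)
    rw [← cjIrr_mul, ← cjIrr_mul, ← cjIrr_mul, mul_inv_cancel, cjIrr_one] at h3
    rwa [show g * (g⁻¹ * z * g * g⁻¹) = z by group] at h3
  obtain ⟨i, hi⟩ := MulAction.exists_smul_eq I ((g • P).subtype hgPI) (P.subtype hPI)
  simp_rw [Sylow.smul_subtype, Subgroup.smul_def, smul_smul] at hi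
  exact ⟨(i : G) * g, Sylow.smul_eq_iff_mem_normalizer.1 (Sylow.subtype_injective hi), by
    rw [cjIrr_mul, (mem_inertia_cjIrr K).1 i.2]⟩

/-- The index of a subgroup containing a Sylow subgroup, modulo `p`. -/
theorem index_modEq (P : Sylow p G) {I : Subgroup G} (hI : (P : Subgroup G) ≤ I) :
    I.index ≡ I.relIndex (Subgroup.normalizer ((P : Subgroup G) : Set G)) [MOD p] := by
  set N := Subgroup.normalizer ((P : Subgroup G) : Set G)
  have h1 : N.index ≡ 1 [MOD p] := by
    have h := P.card_eq_index_normalizer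
    exact (show Nat.card (Sylow p G) = N.index from h) ▸ card_sylow_modEq_one p G
  have h2 : (N ⊓ I).relIndex I ≡ 1 [MOD p] := by
    rw [Subgroup.inf_relIndex_right]
    have h := card_sylow_modEq_one p I
    rw [(P.subtype hI).card_eq_index_normalizer] at h
    change (Subgroup.normalizer (((P : Subgroup G).subgroupOf I : Subgroup I) : Set I)).index ≡ 1
      [MOD p] at h
    rw [← Subgroup.subgroupOf_normalizer_eq hI] at h
    exact h
  have h3 : (I ⊓ N).relIndex N * N.index = (N ⊓ I).relIndex I * I.index := by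
    rw [Subgroup.relIndex_mul_index inf_le_right, inf_comm I N,
      Subgroup.relIndex_mul_index inf_le_right]
  rw [Subgroup.inf_relIndex_right] at h3
  calc I.index ≡ (N ⊓ I).relIndex I * I.index [MOD p] := by
        simpa using (h2.mul_right I.index).symm
    _ = I.relIndex N * N.index := h3.symm
    _ ≡ I.relIndex N [MOD p] := by simpa using h1.mul_left (I.relIndex N)

end Cfsg.Agent.RealOrbit
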