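import Cfsg.Agent.Lib.Char.RealPPrime
import Cfsg.Agent.Lib.Char.Complete

/-!
# Real characters over inverted linear characters of normal subgroups of odd order

If `l` is a linear character of a normal subgroup of odd order and some element `t` carries `l` to
its inverse, some real irreducible character lies over `l`.
-/

set_option autoImplicit false
set_option linter.style.haveILetI false
set_option linter.unusedSectionVars false

namespace Cfsg.Agent.RealOver

open Cfsg Cfsg.Agent.Char Cfsg.Agent.CharX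
open scoped ComplexConjugate

universe u

variable {T : Type u} [Group T] [Fintype T]

/-- A character over an invariant linear character, fixed by an automorphism followed by complex
conjugation. -/
theorem exists_semifixed (M : Subgroup T) [M.Normal] [Fintype M] (l : M →* ℂˣ)
    (hodd : Odd (Nat.card M)) (hinv : ∀ g m, l (conjHom M g m) = l m) (α : T →* T) (w : T)
    (hα2 : ∀ g, α (α g) = w * g * w⁻¹) (hαM : ∀ m : M, α m ∈ M)
    (hl : ∀ m : M, l ⟨α m, hαM m⟩ = (l m)⁻¹) :
    ∃ ψ : Cfsg.IrrCharacter T, ∑ m : M, (ψ : T → ℂ) m * conj (l m : ℂ) ≠ 0 ∧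
      ∀ g, conj ((ψ : T → ℂ) g) = (ψ : T → ℂ) (α g) := by
  classical
  have hαb : Function.Bijective α :=
    Finite.surjective_iff_bijective.1 fun g => ⟨α (w⁻¹ * g * w), by rw [hα2]; group⟩
  by_contra hno
  push Not at hno
  let φ : T → ℂ := fun x => if h : x ∈ M then conj (l ⟨x, h⟩ : ℂ) else 0
  let F : T → ℂ := fun g => ∑ u : T, φ (g⁻¹ * u * (α g)⁻¹ * u⁻¹)
  -- each character contributes nothing
  have hzero : ∀ χ : Cfsg.IrrCharacter T,
      ∑ g : T, ∑ m : M, conj (l m : ℂ) * (χ : T → ℂ) (g * m) * conj ((χ : T → ℂ) (α g)⁻¹) = 0 := by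
    intro χ
    obtain ⟨n, ρ, hρ, hχ⟩ := χ.2
    set E : (Fin n → ℂ) →ₗ[ℂ] (Fin n → ℂ) := ∑ m : M, conj (l m : ℂ) • ρ (m : T) with hE
    have hcomm : ∀ g x, E (ρ g x) = ρ g (E x) := by
      intro g x
      simp only [hE, LinearMap.sum_apply, LinearMap.smul_apply, map_sum, map_smul]
      have hb : Function.Bijective (conjHom M g⁻¹) :=
        Finite.surjective_iff_bijective.1 (conjHom_surjective M g⁻¹)
      refine Fintype.sum_equiv (Equiv.ofBijective _ hb) _ _ fun m => ?_
      rw [Equiv.ofBijective_apply, hinv, conjHom_coe, inv_inv, ← Module.End.mul_apply,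
        ← Module.End.mul_apply, ← map_mul, ← map_mul]
      congr 3
      group
    haveI := hρ
    obtain ⟨c, hc⟩ := schur_scalar ρ E hcomm
    have htr : ∀ g : T, ∑ m : M, conj (l m : ℂ) * (χ : T → ℂ) (g * m) = c * (χ : T → ℂ) g := by
      intro g
      have h := congrArg (fun f => LinearMap.trace ℂ (Fin n → ℂ) (ρ g * f)) hc
      simp only [hE, Finset.mul_sum, map_sum, mul_smul_comm, map_smul, smul_eq_mul, ← map_mul,
        ← Module.End.one_eq_id, mul_one] at h
      rw [← hχ]
      exact h
    have hstep : ∑ g : T, ∑ m : M, conj (l m : ℂ) * (χ : T → ℂ) (g * m) *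
        conj ((χ : T → ℂ) (α g)⁻¹) = c * ∑ g : T, (χ : T → ℂ) g * (χ : T → ℂ) (α g) := by
      rw [Finset.mul_sum]
      refine Finset.sum_congr rfl fun g _ => ?_
      rw [← Finset.sum_mul, htr, IsCharacter.inv (IsIrrCharacter.isCharacter χ.2),
        Complex.conj_conj, mul_assoc]
    rw [hstep]
    by_cases hover : ∑ m : M, (χ : T → ℂ) m * conj (l m : ℂ) = 0
    · have h1 := htr 1
      simp only [one_mul] at h1
      rw [Finset.sum_congr rfl fun (m : M) _ => mul_comm (conj (l m : ℂ)) _, hover, zero_eq_mul] at h1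
      rw [h1.resolve_right (IsIrrCharacter.one_ne_zero χ.2), zero_mul]
    · obtain ⟨g₀, hg₀⟩ := hno χ hover
      set χ' : T → ℂ := fun g => conj ((χ : T → ℂ) (α g)) with hχ'
      have hirr : Cfsg.IsIrrCharacter T χ' := by
        refine IsCharacter.isIrr_of_norm_one
          (IsCharacter.conj (IsCharacter.comp (IsIrrCharacter.isCharacter χ.2) α)) ?_
        refine Eq.trans ?_ (classInner_self_irr χ.2)
        simp only [Cfsg.classInner, hχ', Complex.conj_conj]
        congr 1
        exact Fintype.sum_equiv (Equiv.ofBijective α hαb) _ _ fun g => mul_comm _ _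
      have hne : (χ : T → ℂ) ≠ χ' := fun h => hg₀ (by
        conv_lhs => rw [h]
        simp [hχ'])
      have := classInner_irr_of_ne χ.2 hirr hne
      simp only [Cfsg.classInner, hχ', Complex.conj_conj, mul_eq_zero, inv_eq_zero, Nat.cast_eq_zero,
        Nat.card_pos.ne', false_or] at this
      rw [this, mul_zero]
  -- the same sum counts solutions
  have hF : ∑ g : T, F g = 0 := by
    refine Eq.trans ?_ (Finset.sum_eq_zero fun χ (_ : χ ∈ (Finset.univ : Finset (Cfsg.IrrCharacter T))) => hzero χ)
    conv_rhs => rw [Finset.sum_comm]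
    refine Finset.sum_congr rfl fun g _ => ?_
    rw [Finset.sum_comm]
    simp only [mul_assoc, ← Finset.mul_sum, column_orth_count, Finset.natCast_card_filter,
      mul_boole]
    simp only [Finset.mul_sum]
    rw [Finset.sum_comm]
    refine Finset.sum_congr rfl fun u _ => ?_
    by_cases hu : g⁻¹ * u * (α g)⁻¹ * u⁻¹ ∈ M
    · rw [Finset.sum_eq_single (⟨_, hu⟩ : M)]
      · simp only [φ, dif_pos hu, mul_ite, mul_one, mul_zero]
        rw [if_pos]
        group
      · intro m _ hm
        rw [if_neg, mul_zero]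
        intro h
        refine hm (Subtype.ext ?_)
        show (m : T) = g⁻¹ * u * (α g)⁻¹ * u⁻¹
        simp only [mul_assoc] at h ⊢
        rw [h, inv_mul_cancel_left]
      · simp
    · simp only [φ, dif_neg hu]
      refine (Finset.sum_eq_zero fun m _ => ?_).symm
      rw [if_neg, mul_zero]
      intro h
      apply hu
      simp only [mul_assoc] at h ⊢
      rw [h, inv_mul_cancel_left]
      exact m.2
  have hφconj : ∀ g x, φ (g * x * g⁻¹) = φ x := by
    intro g x
    simp only [φ]
    by_cases hx : x ∈ M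
    · rw [dif_pos (Subgroup.Normal.conj_mem inferInstance x hx g), dif_pos hx]
      exact congrArg (fun z : ℂˣ => conj (z : ℂ)) (hinv g ⟨x, hx⟩)
    · rw [dif_neg hx, dif_neg]
      intro h
      apply hx
      simpa [mul_assoc] using Subgroup.Normal.conj_mem inferInstance _ h g⁻¹
  have hφmul : ∀ c ∈ M, ∀ x, φ (c * x) = φ c * φ x := by
    intro c hc x
    simp only [φ, dif_pos hc]
    by_cases hx : x ∈ M
    · rw [dif_pos (mul_mem hc hx), dif_pos hx, ← map_mul, ← Units.val_mul, ← map_mul]
      rfl
    · rw [dif_neg hx, dif_neg (fun h => hx ((Subgroup.mul_mem_cancel_left M hc).1 h)), mul_zero]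
  have hnat : ∀ g, ∃ k : ℕ, F g = k ∧ (g = 1 → k = Nat.card T) := by
    intro g
    by_cases hgood : ∀ x, ∀ h : g⁻¹ * x * g * x⁻¹ ∈ M, l ⟨_, h⟩ = 1
    · have hval : ∀ u : T, φ (g⁻¹ * u * (α g)⁻¹ * u⁻¹) =
          if g⁻¹ * u * (α g)⁻¹ * u⁻¹ ∈ M then 1 else 0 := by
        intro u
        by_cases hu : g⁻¹ * u * (α g)⁻¹ * u⁻¹ ∈ M
        · rw [if_pos hu]
          simp only [φ, dif_pos hu]
          set a : M := ⟨_, hu⟩ with ha
          set b : M := ⟨α a, hαM a⟩ with hb
          -- `l a ^ 2 = 1`
          have hαg : α g = (u⁻¹ * g * (a : T) * u)⁻¹ := by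
            rw [ha]; group
          have e : w * g * w⁻¹ = (α u)⁻¹ * (α (a : T))⁻¹ * (u⁻¹ * g * (a : T) * u) * α u := by
            rw [← hα2]
            conv_lhs => rw [hαg]
            simp only [map_mul, map_inv, mul_inv_rev, inv_inv]
            rw [hαg]
            group
          have h2 : g⁻¹ * (u * α u * w) * g * (u * α u * w)⁻¹ =
              (conjHom M g⁻¹ (conjHom M u b⁻¹) * a : M) := by
            have e2 : g⁻¹ * (u * α u * w) * g * (u * α u * w)⁻¹ =
                g⁻¹ * u * α u * (w * g * w⁻¹) * (α u)⁻¹ * u⁻¹ := by group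
            rw [e2, e]
            simp only [Subgroup.coe_mul, conjHom_coe, Subgroup.coe_inv, hb]
            group
          have h3 := hgood (u * α u * w) (h2 ▸ SetLike.coe_mem _)
          rw [show (⟨_, h2 ▸ SetLike.coe_mem _⟩ : M) = conjHom M g⁻¹ (conjHom M u b⁻¹) * a from
            Subtype.ext h2, map_mul, hinv, hinv, map_inv, hb, hl, inv_inv] at h3
          have h4 : l a = 1 := by
            have h5 : l a ^ Nat.card M = 1 := by rw [← map_pow, pow_card_eq_one', map_one]
            obtain ⟨i, hi⟩ := hodd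
            rw [hi, pow_succ, pow_mul, pow_two, h3, one_pow, one_mul] at h5
            exact h5
          rw [h4, Units.val_one, map_one]
        · rw [if_neg hu]
          simp only [φ, dif_neg hu]
      refine ⟨(Finset.univ.filter fun u => g⁻¹ * u * (α g)⁻¹ * u⁻¹ ∈ M).card, ?_, ?_⟩
      · simp only [F, hval, Finset.sum_boole]
      · rintro rfl
        simp
    · push Not at hgood
      obtain ⟨x, hx, hlx⟩ := hgood
      refine ⟨0, ?_, fun h => absurd ?_ hlx⟩
      · have hshift : F g = φ (g⁻¹ * x * g * x⁻¹) * F g := by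
          simp only [F, Finset.mul_sum]
          refine Eq.symm (Fintype.sum_equiv (Equiv.mulLeft x) _ _ fun u => ?_)
          simp only [Equiv.coe_mulLeft]
          rw [show g⁻¹ * (x * u) * (α g)⁻¹ * (x * u)⁻¹ = (g⁻¹ * x * g * x⁻¹) *
            (x * (g⁻¹ * u * (α g)⁻¹ * u⁻¹) * x⁻¹) by group, hφmul _ hx, hφconj]
        have hne : φ (g⁻¹ * x * g * x⁻¹) ≠ 1 := by
          simp only [φ, dif_pos hx]
          intro h
          refine hlx (Units.ext ?_)
          simpa using congrArg conj h
        rw [Nat.cast_zero]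
        by_contra hF0
        exact hne (mul_right_cancel₀ hF0 (by rw [one_mul]; exact hshift.symm))
      · subst h
        rw [show (⟨_, hx⟩ : M) = 1 from Subtype.ext (by simp), map_one]
  choose k hk hk1 using hnat
  rw [Finset.sum_congr rfl fun g _ => hk g, ← Nat.cast_sum, Nat.cast_eq_zero,
    Finset.sum_eq_zero_iff] at hF
  exact Nat.card_pos.ne' ((hk1 1 rfl).symm.trans (hF 1 (Finset.mem_univ 1)))

omit [Fintype T] in
/-- Some real irreducible character lies over an inverted linear character of a normal subgroup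
of odd order. -/
theorem exists_real_over {G : Type u} [Group G] [Fintype G] (M : Subgroup G) [M.Normal]
    [Fintype M] (l : M →* ℂˣ) (hodd : Odd (Nat.card M)) (t : G)
    (hl : ∀ m, l (conjHom M t m) = (l m)⁻¹) :
    ∃ χ : Cfsg.IrrCharacter G, (∀ g, ((χ : G → ℂ) g).im = 0) ∧
      Cfsg.classInner (fun m : M => (χ : G → ℂ) m) (fun m => (l m : ℂ)) ≠ 0 := by
  classical
  set θ : M → ℂ := fun m => (l m : ℂ) with hθ
  have hθirr : Cfsg.IsIrrCharacter M θ := isIrrCharacter_linear l
  set S := inertia M θ with hS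
  haveI := Fintype.ofFinite S
  have hMS : M ≤ S := le_inertia M (IsCharacter.isClassFunction (IsIrrCharacter.isCharacter hθirr))
  have hmemS : ∀ g, g ∈ S ↔ ∀ m : M, l (conjHom M g m) = l m := fun g => by
    rw [hS, mem_inertia_iff]
    exact forall_congr' fun m => Units.val_inj
  have hsS : ∀ g, g ∈ S ↔ t * g * t⁻¹ ∈ S := fun g => by
    simp only [hmemS]
    constructor
    · intro h m
      obtain ⟨m', rfl⟩ := conjHom_surjective M t m
      rw [← conjHom_mul, show t * g * t⁻¹ * t = t * g by group, conjHom_mul, hl, hl, h]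
    · intro h m
      have := h (conjHom M t m)
      rwa [← conjHom_mul, show t * g * t⁻¹ * t = t * g by group, conjHom_mul, hl, hl,
        inv_inj] at this
  have ht2 : t * t ∈ S := by
    rw [hmemS]
    intro m
    rw [conjHom_mul, hl, hl, inv_inv]
  set M' := M.subgroupOf S with hM'
  haveI : Fintype M' := Fintype.ofFinite M'
  let e : M' ≃* M := Subgroup.subgroupOfEquivOfLe hMS
  let α : S →* S :=
    { toFun := fun g => ⟨t * g * t⁻¹, (hsS g).1 g.2⟩
      map_one' := Subtype.ext (by simp)
      map_mul' := fun a b => Subtype.ext (by simp [mul_assoc]) }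
  have hαM : ∀ m : M', α m ∈ M' := fun m =>
    Subgroup.mem_subgroupOf.2
      (Subgroup.Normal.conj_mem inferInstance _ (Subgroup.mem_subgroupOf.1 m.2) t)
  obtain ⟨ψ, hover, hfix⟩ := exists_semifixed M' (l.comp e.toMonoidHom)
    (by rw [Nat.card_congr e.toEquiv]; exact hodd)
    (fun g m => by
      show l (e _) = l (e m)
      rw [show e (conjHom M' g m) = conjHom M (g : G) (e m) from Subtype.ext rfl]
      exact (hmemS _).1 g.2 _)
    α ⟨t * t, ht2⟩ (fun g => Subtype.ext (by simp [α, mul_assoc])) hαM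
    (fun m => by
      show l (e _) = (l (e m))⁻¹
      rw [show e ⟨α m, hαM m⟩ = conjHom M t (e m) from Subtype.ext rfl, hl])
  have hc : Cfsg.classInner (fun m : M => (ψ : S → ℂ) ⟨(m : G), hMS m.2⟩) θ ≠ 0 := by
    refine fun h => hover ?_
    simp only [Cfsg.classInner, mul_eq_zero, inv_eq_zero, Nat.cast_eq_zero, Nat.card_pos.ne',
      false_or] at h
    rw [← h]
    exact Fintype.sum_equiv e.toEquiv _ _ fun m => rfl
  obtain ⟨hirr, heq⟩ := clifford_correspondence M (T := S) hθirr hS hMS ψ.2 hc
  exact ⟨⟨_, hirr⟩, RealPPrime.real_indFun S _ t hsS hfix, by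
    show Cfsg.classInner (fun m : M => Cfsg.indFun S _ m) θ ≠ 0
    rw [heq]; exact hc⟩

end Cfsg.Agent.RealOver
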