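import Cfsg.Agent.Lib.Char.Clifford
import Cfsg.Agent.Lib.Char.Degree
import Cfsg.Agent.Lib.Char.CyclicTI.Basic
import Cfsg.Agent.Lib.Solvable.Basic
import Mathlib.GroupTheory.Sylow
import Mathlib.GroupTheory.FiniteAbelian.Duality

/-!
# Groups whose real characters have degree prime to `p`

If every real irreducible character has degree prime to `p` and the subgroup generated by the
`p`-elements is solvable, every normal subgroup lying a `p`-power above the subgroup generated by
the `2`-elements has a normal Sylow `p`-subgroup.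
-/

set_option autoImplicit false
set_option linter.style.haveILetI false
set_option linter.unusedSectionVars false

namespace Cfsg.Agent.RealPPrime

open Cfsg Cfsg.Agent.Char Cfsg.Agent.CharX
open scoped commutatorElement ComplexConjugate IsMulCommutative

universe u

section
variable {G : Type u} [Group G]

theorem conj_unit [Finite G] (f : G →* ℂˣ) (x : G) : conj (f x : ℂ) = (f x⁻¹ : ℂ) := by
  have hn : ‖(f x : ℂ)‖ = 1 := by
    refine norm_eq_one_of_pow (Nat.card_pos (α := G)).ne' ?_
    rw [← Units.val_pow_eq_pow_val, ← map_pow, pow_card_eq_one', map_one, Units.val_one]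
  rw [map_inv, Units.val_inv_eq_inv_val, Complex.inv_eq_conj hn]

/-- An element of `2`-power order moving a linear character gives an inverted one. -/
theorem exists_inverted (M : Subgroup G) [M.Normal] : ∀ (k : ℕ) (t : G), t ^ (2 ^ k) = 1 →
    (∃ μ : M →* ℂˣ, μ.comp (conjHom M t) ≠ μ) →
    ∃ s : G, ∃ l : M →* ℂˣ, l ≠ 1 ∧ ∀ m, l (conjHom M s m) = (l m)⁻¹ := by
  intro k
  induction k with
  | zero =>
    rintro t ht ⟨μ, hμ⟩
    refine absurd (MonoidHom.ext fun m => ?_) hμ
    rw [pow_zero, pow_one] at ht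
    rw [MonoidHom.comp_apply, ht, conjHom_one]
  | succ k ih =>
    rintro t ht ⟨μ, hμ⟩
    by_cases h2 : ∀ ν : M →* ℂˣ, ν.comp (conjHom M (t ^ 2)) = ν
    · refine ⟨t, μ.comp (conjHom M t) / μ, fun h => hμ (div_eq_one.1 h), fun m => ?_⟩
      simp only [MonoidHom.div_apply, MonoidHom.comp_apply, inv_div]
      congr 1
      rw [← conjHom_mul, ← pow_two]
      exact DFunLike.congr_fun (h2 μ) m
    · push Not at h2
      exact ih (t ^ 2) (by rw [← pow_mul, ← pow_succ']; exact ht) h2

/-- A criterion for an induced function to be real valued. -/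
theorem real_indFun [Fintype G] (T : Subgroup G) (ψ : T → ℂ) (s : G)
    (hsT : ∀ g, g ∈ T ↔ s * g * s⁻¹ ∈ T)
    (hψ : ∀ g : T, conj (ψ g) = ψ ⟨s * g * s⁻¹, (hsT g).1 g.2⟩) (g : G) :
    (Cfsg.indFun T ψ g).im = 0 := by
  refine Complex.conj_eq_iff_im.1 ?_
  simp only [Cfsg.indFun, map_mul, map_inv₀, map_natCast, map_sum]
  congr 1
  refine Fintype.sum_equiv (Equiv.mulRight s⁻¹) _ _ fun x => ?_
  simp only [Equiv.coe_mulRight]
  have e : (x * s⁻¹)⁻¹ * g * (x * s⁻¹) = s * (x⁻¹ * g * x) * s⁻¹ := by group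
  rw [e]
  by_cases h : x⁻¹ * g * x ∈ T
  · rw [extendByZero_mem T ψ h, extendByZero_mem T ψ ((hsT _).1 h)]
    exact hψ ⟨_, h⟩
  · rw [extendByZero_not_mem T ψ h, extendByZero_not_mem T ψ (mt (hsT _).2 h), map_zero]

/-- The subgroup generated by the elements of `l`-power order. -/
abbrev genBy (l : ℕ) (G : Type u) [Group G] : Subgroup G :=
  Subgroup.closure {g : G | ∃ k : ℕ, orderOf g = l ^ k}

theorem genBy_normal (l : ℕ) : (genBy l G).Normal := by
  refine ⟨fun a ha g => ?_⟩
  have h : genBy l G ≤ (genBy l G).comap (MulAut.conj g).toMonoidHom := by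
    rw [Subgroup.closure_le]
    rintro x ⟨k, hk⟩
    refine Subgroup.subset_closure ⟨k, ?_⟩
    show orderOf ((MulAut.conj g) x) = l ^ k
    rw [MulEquiv.orderOf_eq, hk]
  exact h ha

theorem mem_genBy {l : ℕ} [Fact l.Prime] {H : Subgroup G} (hH : IsPGroup l H) {x : G}
    (hx : x ∈ H) : x ∈ genBy l G := by
  obtain ⟨k, hk⟩ := IsPGroup.iff_orderOf.1 hH ⟨x, hx⟩
  exact Subgroup.subset_closure ⟨k, by rw [← hk, Subgroup.orderOf_mk]⟩

theorem map_genBy [Finite G] (l : ℕ) [hl : Fact l.Prime] {H : Type u} [Group H] (f : G →* H)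
    (hf : Function.Surjective f) : (genBy l G).map f = genBy l H := by
  refine le_antisymm ?_ ?_
  · rw [MonoidHom.map_closure, Subgroup.closure_le]
    rintro _ ⟨g, ⟨k, hk⟩, rfl⟩
    obtain ⟨i, -, hi⟩ := (Nat.dvd_prime_pow hl.out).1 (hk ▸ orderOf_map_dvd f g)
    exact Subgroup.subset_closure ⟨i, hi⟩
  · rw [Subgroup.closure_le]
    rintro x ⟨k, hk⟩
    obtain ⟨g, rfl⟩ := hf x
    have hn : orderOf g ≠ 0 := (orderOf_pos g).ne'
    set m := orderOf g / l ^ (orderOf g).factorization l with hm
    have hmem : g ^ m ∈ genBy l G := by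
      have h : orderOf (g ^ m) ∣ l ^ (orderOf g).factorization l := by
        apply orderOf_dvd_of_pow_eq_one
        rw [← pow_mul, hm, mul_comm, Nat.ordProj_mul_ordCompl_eq_self]
        exact pow_orderOf_eq_one g
      obtain ⟨i, -, hi⟩ := (Nat.dvd_prime_pow hl.out).1 h
      exact Subgroup.subset_closure ⟨i, hi⟩
    have hcop : m.Coprime (orderOf (f g)) := by
      rw [hk]
      exact ((Nat.coprime_ordCompl hl.out hn).pow_left k).symm
    obtain ⟨j, hj⟩ := exists_pow_eq_self_of_coprime hcop
    exact ⟨(g ^ m) ^ j, pow_mem hmem j, by rw [map_pow, map_pow, hj]⟩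

theorem solvable_of_le {A B : Subgroup G} (h : A ≤ B) (hB : Group.IsSolvable B) :
    Group.IsSolvable A :=
  haveI := hB
  Group.isSolvable_of_isSolvable_injective (f := Subgroup.inclusion h) (Subgroup.inclusion_injective h)

end

section Split

variable {G : Type u} [Group G] [Fintype G] (N H : Subgroup G) [N.Normal]

/-- A real irreducible character over an inverted linear character of an abelian normal subgroup
with a complement, whose degree is the index of the stabiliser. -/
theorem exists_real_split (hab : IsMulCommutative N) (hinf : N ⊓ H = ⊥)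
    (hdec : ∀ g : G, ∃ n ∈ N, ∃ h ∈ H, g = n * h) (l : N →* ℂˣ) (s : G) (hs : s ∈ H)
    (hl : ∀ m, l (conjHom N s m) = (l m)⁻¹) :
    ∃ χ : Cfsg.IrrCharacter G, (∀ g, ((χ : G → ℂ) g).im = 0) ∧
      Cfsg.charDegree (χ : G → ℂ) = (inertia N (fun m : N => (l m : ℂ))).index := by
  classical
  haveI := hab
  haveI := Fintype.ofFinite N
  set θ : N → ℂ := fun m => (l m : ℂ) with hθ
  have hθirr : Cfsg.IsIrrCharacter N θ := isIrrCharacter_linear l
  set T := inertia N θ with hT
  haveI := Fintype.ofFinite T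
  have hNT : N ≤ T := le_inertia N (IsCharacter.isClassFunction (IsIrrCharacter.isCharacter hθirr))
  have hmemT : ∀ g, g ∈ T ↔ ∀ m : N, l (conjHom N g m) = l m := fun g => by
    rw [hT, mem_inertia_iff]
    exact forall_congr' fun m => Units.val_inj
  choose nf hnf hf hhf heq using hdec
  have huniq : ∀ (g : G) {n h : G}, n ∈ N → h ∈ H → g = n * h → nf g = n ∧ hf g = h := by
    intro g n h hn hh e
    have e1 : n⁻¹ * nf g = h * (hf g)⁻¹ := by
      rw [eq_mul_inv_iff_mul_eq, mul_assoc, ← heq g, e, inv_mul_cancel_left]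
    have e2 : n⁻¹ * nf g ∈ N ⊓ H :=
      Subgroup.mem_inf.2 ⟨mul_mem (inv_mem hn) (hnf g), e1 ▸ mul_mem hh (inv_mem (hhf g))⟩
    rw [hinf, Subgroup.mem_bot, inv_mul_eq_one] at e2
    refine ⟨e2.symm, ?_⟩
    have e3 := (heq g).symm.trans e
    rw [← e2] at e3
    exact mul_left_cancel e3
  let ext : T →* ℂˣ :=
    { toFun := fun g => l ⟨nf g, hnf g⟩
      map_one' := by
        have := (huniq ((1 : T) : G) (one_mem N) (one_mem H) (by simp)).1
        rw [show (⟨nf ((1 : T) : G), hnf _⟩ : N) = 1 from Subtype.ext this, map_one]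
      map_mul' := fun a b => by
        have h1 := (huniq ((a * b : T) : G)
          (mul_mem (hnf a) (Subgroup.Normal.conj_mem inferInstance _ (hnf b) (hf a)))
          (mul_mem (hhf a) (hhf b)) (by
            rw [Subgroup.coe_mul]
            conv_lhs => rw [heq (a : G), heq (b : G)]
            group)).1
        rw [show (⟨nf ((a * b : T) : G), hnf _⟩ : N) =
          ⟨nf a, hnf a⟩ * conjHom N (hf a) ⟨nf b, hnf b⟩ from Subtype.ext h1, map_mul]
        congr 1
        have h2 : conjHom N (a : G) ⟨nf b, hnf b⟩ = conjHom N (hf a) ⟨nf b, hnf b⟩ := by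
          conv_lhs => rw [heq (a : G), conjHom_mul]
          set y := conjHom N (hf a) ⟨nf b, hnf b⟩ with hy
          apply Subtype.ext
          have hc := congrArg Subtype.val (mul_comm' (⟨nf a, hnf a⟩ : N) y)
          simp only [Subgroup.coe_mul] at hc
          rw [conjHom_coe, hc, mul_inv_cancel_right]
        rw [← h2, (hmemT _).1 a.2] }
  have hext : ∀ m : N, ext ⟨m, hNT m.2⟩ = l m := fun m => by
    have := (huniq (m : G) m.2 (one_mem H) (mul_one _).symm).1
    exact congrArg l (Subtype.ext this)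
  have hc : Cfsg.classInner (fun m : N => ((ext ⟨(m : G), hNT m.2⟩ : ℂˣ) : ℂ)) θ ≠ 0 := by
    rw [show (fun m : N => ((ext ⟨(m : G), hNT m.2⟩ : ℂˣ) : ℂ)) = θ from funext fun m => by
      rw [hext], classInner_self_irr hθirr]
    exact one_ne_zero
  obtain ⟨hirr, -⟩ := clifford_correspondence N (T := T) hθirr hT hNT
    (ψ := fun g : T => (ext g : ℂ)) (isIrrCharacter_linear ext) hc
  have hsT : ∀ g, g ∈ T ↔ s * g * s⁻¹ ∈ T := fun g => by
    simp only [hmemT]
    constructor
    · intro h m
      obtain ⟨m', rfl⟩ := conjHom_surjective N s m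
      rw [← conjHom_mul, show s * g * s⁻¹ * s = s * g by group, conjHom_mul, hl, hl, h]
    · intro h m
      have := h (conjHom N s m)
      rwa [← conjHom_mul, show s * g * s⁻¹ * s = s * g by group, conjHom_mul, hl, hl,
        inv_inj] at this
  refine ⟨⟨_, hirr⟩, fun g => real_indFun T _ s hsT (fun a => ?_) g, ?_⟩
  · rw [conj_unit]
    congr 1
    have h1 := (huniq (s * (a : G) * s⁻¹)
      (Subgroup.Normal.conj_mem inferInstance _ (hnf a) s)
      (mul_mem (mul_mem hs (hhf a)) (inv_mem hs)) (by
        conv_lhs => rw [heq (a : G)]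
        group)).1
    rw [map_inv]
    show (l ⟨nf a, hnf a⟩)⁻¹ = l ⟨nf (s * (a : G) * s⁻¹), hnf _⟩
    rw [show (⟨nf (s * (a : G) * s⁻¹), hnf _⟩ : N) = conjHom N s ⟨nf a, hnf a⟩ from Subtype.ext h1,
      hl]
  · show Cfsg.charDegree (Cfsg.indFun T _) = _
    simp [Cfsg.charDegree, indFun_one_apply]

end Split

/-- The main theorem. -/
theorem normal_sylow_aux (p : ℕ) [hp : Fact p.Prime] : ∀ (n : ℕ) (G : Type u) [Group G] [Finite G],
    Nat.card G ≤ n → Group.IsSolvable (genBy p G) →
    (∀ χ : Cfsg.IrrCharacter G, (∀ g : G, ((χ : G → ℂ) g).im = 0) →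
      ¬ p ∣ Cfsg.charDegree (χ : G → ℂ)) →
    ∀ U : Subgroup G, U.Normal → genBy 2 G ≤ U → (∃ a : ℕ, (genBy 2 G).relIndex U = p ^ a) →
    ∀ Q : Sylow p U, ((Q : Subgroup U).map U.subtype).Normal := by
  intro n
  induction n with
  | zero => intro G _ _ h; exact absurd h (not_le.2 Nat.card_pos)
  | succ n ih =>
    intro G _ _ hcard hsolv hreal U hU hKU hUp Q
    classical
    haveI : Fintype G := Fintype.ofFinite G
    haveI : Fact (Nat.Prime 2) := ⟨Nat.prime_two⟩
    haveI : (genBy 2 G).Normal := genBy_normal 2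
    haveI : (genBy p G).Normal := genBy_normal p
    set Q' := (Q : Subgroup U).map U.subtype with hQ'
    have hQ'p : IsPGroup p Q' := Q.isPGroup'.map U.subtype
    have hQ'U : Q' ≤ U := Subgroup.map_subtype_le _
    by_cases hQ1 : Q' = ⊥
    · rw [hQ1]; infer_instance
    have hRU : genBy p G ⊓ U ≠ ⊥ := fun h =>
      hQ1 (le_bot_iff.1 (h ▸ le_inf (fun x hx => mem_genBy hQ'p hx) hQ'U))
    obtain ⟨N, hNn, hN1, hNle, hmin⟩ := SolvBasic.exists_minimal_normal
      (N := genBy p G ⊓ U) inferInstance hRU
    haveI := hNn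
    haveI : Group.IsSolvable N := solvable_of_le (hNle.trans inf_le_left) hsolv
    haveI hab : IsMulCommutative N := SolvBasic.isMulCommutative_of_minimal_normal hN1 hmin
    have hNU : N ≤ U := hNle.trans inf_le_right
    -- the quotient by `N`
    set L := Q' ⊔ N with hL
    have hLn : L.Normal := by
      set π := QuotientGroup.mk' N with hπ
      have hsurj : Function.Surjective π := QuotientGroup.mk'_surjective N
      have hlt : Nat.card (G ⧸ N) ≤ n := by
        have h1 : Nat.card (G ⧸ N) < Nat.card G := by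
          rw [Subgroup.card_eq_card_quotient_mul_card_subgroup N]
          exact lt_mul_of_one_lt_right Nat.card_pos
            ((Subgroup.one_lt_card_iff_ne_bot N).2 hN1)
        omega
      have hsolv' : Group.IsSolvable (genBy p (G ⧸ N)) := by
        rw [← map_genBy p π hsurj]
        exact Group.isSolvable_of_surjective (f := π.subgroupMap (genBy p G))
          (π.subgroupMap_surjective _)
      have hreal' : ∀ χ : Cfsg.IrrCharacter (G ⧸ N),
          (∀ g, ((χ : G ⧸ N → ℂ) g).im = 0) → ¬ p ∣ Cfsg.charDegree (χ : G ⧸ N → ℂ) := by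
        intro χ hχ
        exact hreal (infl N χ) fun g => hχ (g : G ⧸ N)
      have hUp' : ∃ a : ℕ, (genBy 2 (G ⧸ N)).relIndex (U.map π) = p ^ a := by
        obtain ⟨a, ha⟩ := hUp
        have h1 : (genBy 2 (G ⧸ N)).relIndex (U.map π) ∣ (genBy 2 G).relIndex U := by
          rw [← map_genBy 2 π hsurj, Subgroup.relIndex_map_map, QuotientGroup.ker_mk',
            sup_eq_left.2 hNU]
          exact Subgroup.relIndex_dvd_of_le_left (L := U) le_sup_left
        obtain ⟨b, -, hb⟩ := (Nat.dvd_prime_pow hp.out).1 (ha ▸ h1)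
        exact ⟨b, hb⟩
      have hKU' : genBy 2 (G ⧸ N) ≤ U.map π := map_genBy 2 π hsurj ▸ Subgroup.map_mono hKU
      have hm := ih (G ⧸ N) hlt hsolv' hreal' (U.map π) (hU.map π hsurj) hKU' hUp'
        (Q.mapSurjective (π.subgroupMap_surjective U))
      rw [Sylow.coe_mapSurjective, Subgroup.map_map] at hm
      have e : (Q : Subgroup U).map ((U.map π).subtype.comp (π.subgroupMap U)) = Q'.map π := by
        rw [hQ', Subgroup.map_map]; rfl
      rw [e] at hm
      have := hm.comap π
      rwa [Subgroup.comap_map_eq, QuotientGroup.ker_mk'] at this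
    haveI := hLn
    have hLU : L ≤ U := sup_le hQ'U hNU
    by_cases hNp : p ∣ Nat.card N
    · -- `N` is a `p`-group
      have hNpg : IsPGroup p N := by
        let S : Sylow p N := default
        haveI : (S : Subgroup N).Characteristic :=
          Sylow.characteristic_of_normal S inferInstance
        rcases hmin ((S : Subgroup N).map N.subtype) inferInstance (Subgroup.map_subtype_le _)
          with h | h
        · exact absurd ((Subgroup.map_eq_bot_iff_of_injective _ Subtype.val_injective).1 h)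
            (S.ne_bot_of_dvd_card hNp)
        · rw [← h]; exact S.isPGroup'.map N.subtype
      have hLp : IsPGroup p L := hQ'p.to_sup_of_normal_right hNpg
      have hLQ : L.subgroupOf U = (Q : Subgroup U) := by
        refine Q.is_maximal' (hLp.comap_of_injective U.subtype Subtype.val_injective) ?_
        intro x hx
        exact Subgroup.mem_sup_left (⟨x, hx, rfl⟩ : (x : G) ∈ Q')
      have : L = Q' := by
        rw [hQ', ← hLQ, Subgroup.map_subgroupOf_eq_of_le hLU]
      exact this ▸ hLn
    -- `N` has order prime to `p`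
    have hQidx : ¬ p ∣ Q'.relIndex U := by
      rw [hQ', Subgroup.relIndex, Subgroup.subgroupOf, Subgroup.comap_map_eq_self_of_injective Subtype.val_injective]
      exact Q.not_dvd_index
    have hQL : ¬ p ∣ (Q'.subgroupOf L).index := fun h => hQidx (h.trans
      (Dvd.intro _ (Subgroup.relIndex_mul_relIndex Q' L U le_sup_left hLU)))
    let QL : Sylow p L := IsPGroup.toSylow (P := Q'.subgroupOf L)
      (hQ'p.comap_of_injective L.subtype Subtype.val_injective) hQL
    have hQLmap : (QL : Subgroup L).map L.subtype = Q' :=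
      Subgroup.map_subgroupOf_eq_of_le le_sup_left
    set H := Subgroup.normalizer (Q' : Set G) with hH
    have hQH : Q' ≤ H := Subgroup.le_normalizer
    have hHN : H ⊔ N = ⊤ := by
      have h := Sylow.normalizer_sup_eq_top QL
      rw [hQLmap] at h
      rw [eq_top_iff, ← h]
      exact sup_le le_sup_left (sup_le (hQH.trans le_sup_left) le_sup_right)
    have hdec : ∀ g : G, ∃ a ∈ N, ∃ h ∈ H, g = a * h := by
      intro g
      have hg : g ∈ N ⊔ H := by rw [sup_comm, hHN]; exact Subgroup.mem_top g
      rw [← SetLike.mem_coe, Subgroup.normal_mul] at hg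
      obtain ⟨a, ha, h, hh, e⟩ := hg
      exact ⟨a, ha, h, hh, e.symm⟩
    have hnorm : ∀ D : Subgroup G, D ≤ N → (∀ h ∈ H, ∀ x ∈ D, h * x * h⁻¹ ∈ D) → D.Normal := by
      intro D hDN hDH
      refine ⟨fun x hx g => ?_⟩
      obtain ⟨a, ha, h, hh, rfl⟩ := hdec g
      have h1 := hDH h hh x hx
      have hc := congrArg Subtype.val (mul_comm' (⟨a, ha⟩ : N) ⟨_, hDN h1⟩)
      simp only [Subgroup.coe_mul] at hc
      have e : a * h * x * (a * h)⁻¹ = a * (h * x * h⁻¹) * a⁻¹ := by group
      rw [e, hc, mul_inv_cancel_right]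
      exact h1
    rcases hmin (N ⊓ H) (hnorm _ inf_le_left fun h hh x hx =>
      Subgroup.mem_inf.2 ⟨hNn.conj_mem x hx.1 h, mul_mem (mul_mem hh hx.2) (inv_mem hh)⟩) inf_le_left with hinf | hinf
    swap
    · have : H = ⊤ := by rw [← hHN, sup_eq_left.2 (inf_eq_left.1 hinf)]
      exact Subgroup.normalizer_eq_top_iff.1 this
    exfalso
    have hconjN : ∀ a ∈ N, ∀ m : N, conjHom N a m = m := fun a ha m => Subtype.ext (by
      have hc := congrArg Subtype.val (mul_comm' (⟨a, ha⟩ : N) m)
      simp only [Subgroup.coe_mul] at hc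
      rw [conjHom_coe, hc, mul_inv_cancel_right])
    -- an inverted linear character
    obtain ⟨s, hs, l, hl1, hl⟩ : ∃ s ∈ H, ∃ l : N →* ℂˣ, l ≠ 1 ∧
        ∀ m, l (conjHom N s m) = (l m)⁻¹ := by
      by_cases h2 : 2 ∣ Nat.card N
      · haveI : NeZero (Monoid.exponent N : ℂ) :=
          ⟨Nat.cast_ne_zero.mpr Monoid.exponent_ne_zero_of_finite⟩
        obtain ⟨e⟩ := CommGroup.monoidHom_mulEquiv_of_hasEnoughRootsOfUnity N ℂ
        obtain ⟨l, hl⟩ := exists_prime_orderOf_dvd_card' (G := N) 2 h2
        refine ⟨1, one_mem H, e.symm l, fun h => ?_, fun m => ?_⟩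
        · replace h : l = 1 := by simpa using congrArg e h
          rw [h, orderOf_one] at hl
          omega
        · rw [conjHom_one, eq_inv_iff_mul_eq_one, ← MonoidHom.mul_apply, ← map_mul, ← pow_two,
            orderOf_dvd_iff_pow_eq_one.1 (dvd_of_eq hl), map_one, MonoidHom.one_apply]
      · by_contra hno
        -- every `2`-element centralises `N`
        have hcent : ∀ t : G, (∃ k, orderOf t = 2 ^ k) → ∀ m : N, conjHom N t m = m := by
          rintro t ⟨k, hk⟩ m
          by_contra hm
          obtain ⟨μ, hμ⟩ := CyclicTI.exists_hom_ne_one (div_ne_one.2 hm)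
          have hμ' : μ.comp (conjHom N t) ≠ μ := fun h => hμ (by
            rw [map_div, div_eq_one]; exact DFunLike.congr_fun h m)
          obtain ⟨s, l, hl1, hl⟩ := exists_inverted N k t (hk ▸ pow_orderOf_eq_one t) ⟨μ, hμ'⟩
          obtain ⟨a, ha, h, hh, rfl⟩ := hdec s
          exact hno ⟨h, hh, l, hl1, fun m => by
            have := hl m
            rwa [conjHom_mul, hconjN a ha] at this⟩
        have hNK : N ≤ genBy 2 G := by
          intro a ha
          obtain ⟨i, hi⟩ := hUp
          have h1 : a ^ p ^ i ∈ genBy 2 G := by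
            have := ((genBy 2 G).subgroupOf U).pow_index_mem ⟨a, hNU ha⟩
            rw [show ((genBy 2 G).subgroupOf U).index = p ^ i from hi, Subgroup.mem_subgroupOf] at this
            simpa using this
          have hcop : (p ^ i).Coprime (orderOf a) := by
            refine Nat.Coprime.pow_left i ((Nat.Prime.coprime_iff_not_dvd hp.out).2 fun h => hNp ?_)
            exact h.trans ((Subgroup.orderOf_coe (⟨a, ha⟩ : N)) ▸ orderOf_dvd_natCard (⟨a, ha⟩ : N))
          obtain ⟨j, hj⟩ := exists_pow_eq_self_of_coprime hcop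
          exact hj ▸ pow_mem h1 j
        have hKH : genBy 2 G ≤ H := by
          rw [Subgroup.closure_le]
          rintro t ⟨k, hk⟩
          obtain ⟨a, ha, h, hh, e⟩ := hdec t
          have hcm : Commute a h := by
            have h1 := congrArg Subtype.val (hcent t ⟨k, hk⟩ ⟨a, ha⟩)
            simp only [conjHom_coe] at h1
            rw [e] at h1
            have h2 : h * a * h⁻¹ = a := by
              have h3 : a * (h * a * h⁻¹) * a⁻¹ = a := by refine Eq.trans ?_ h1; group
              have := congrArg (fun y => a⁻¹ * y * a) h3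
              simpa [mul_assoc] using this
            exact (mul_inv_eq_iff_eq_mul.1 h2).symm
          have h4 : a ^ 2 ^ k * h ^ 2 ^ k = 1 := by
            rw [← hcm.mul_pow, ← e, ← hk, pow_orderOf_eq_one]
          have h5 : a ^ 2 ^ k ∈ N ⊓ H :=
            Subgroup.mem_inf.2 ⟨pow_mem ha _, by
              rw [eq_inv_of_mul_eq_one_left h4]; exact inv_mem (pow_mem hh _)⟩
          rw [hinf, Subgroup.mem_bot] at h5
          have hcop : (2 ^ k).Coprime (orderOf a) := by
            refine Nat.Coprime.pow_left k ((Nat.Prime.coprime_iff_not_dvd Nat.prime_two).2 fun h => h2 ?_)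
            exact h.trans ((Subgroup.orderOf_coe (⟨a, ha⟩ : N)) ▸ orderOf_dvd_natCard (⟨a, ha⟩ : N))
          obtain ⟨j, hj⟩ := exists_pow_eq_self_of_coprime hcop
          rw [h5, one_pow] at hj
          rw [SetLike.mem_coe, e, ← hj, one_mul]
          exact hh
        exact hN1 (le_bot_iff.1 (hinf ▸ le_inf le_rfl (hNK.trans hKH)))
    obtain ⟨χ, hχr, hχd⟩ := exists_real_split N H hab hinf hdec l s hs hl
    have hdvd := hreal χ hχr
    rw [hχd] at hdvd
    set T := inertia N (fun m : N => (l m : ℂ)) with hT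
    have hNT : N ≤ T := le_inertia N
      (IsCharacter.isClassFunction (IsIrrCharacter.isCharacter (isIrrCharacter_linear l)))
    -- the stabiliser contains `L`
    have hLT : L ≤ T := by
      have h1 : T.relIndex L ∣ T.index := by
        have e1 : (T ⊓ L).index = T.relIndex L * L.index := by
          rw [← Subgroup.relIndex_mul_index (inf_le_right : T ⊓ L ≤ L), Subgroup.inf_relIndex_right]
        have e2 : (T ⊓ L).index = L.relIndex T * T.index := by
          rw [← Subgroup.relIndex_mul_index (inf_le_left : T ⊓ L ≤ T), Subgroup.inf_relIndex_left]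
        obtain ⟨e, he⟩ := Subgroup.relIndex_dvd_index_of_normal (H := L) (K := T)
        refine ⟨e, Nat.eq_of_mul_eq_mul_left (Nat.pos_of_ne_zero Subgroup.index_ne_zero_of_finite : 0 < (L.subgroupOf T).index) ?_⟩
        show L.relIndex T * T.index = L.relIndex T * (T.relIndex L * e); rw [← e2, e1, he]; ring
      have h2 : T.relIndex L ∣ Nat.card Q' := by
        refine (Subgroup.relIndex_dvd_of_le_left (L := L) hNT).trans ?_
        rw [hL, Subgroup.relIndex_sup_right]
        exact Subgroup.relIndex_dvd_card N Q'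
      obtain ⟨j, hj⟩ := IsPGroup.iff_card.1 hQ'p
      obtain ⟨i, -, hi⟩ := (Nat.dvd_prime_pow hp.out).1 (hj ▸ h2)
      rcases i with - | i
      · exact Subgroup.relIndex_eq_one.1 (by rw [hi, pow_zero])
      · exact absurd ((dvd_pow_self p (Nat.succ_ne_zero i)).trans (hi ▸ h1)) hdvd
    -- hence `[Q', N]` lies in the kernel
    have hD : ⁅Q', N⁆ ≤ l.ker.map N.subtype := by
      rw [Subgroup.commutator_le]
      intro q hq a ha
      have h1 := (mem_inertia_iff N).1 (hLT (Subgroup.mem_sup_left hq)) ⟨a, ha⟩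
      refine ⟨conjHom N q ⟨a, ha⟩ * ⟨a, ha⟩⁻¹, ?_, by rw [commutatorElement_def]; rfl⟩
      rw [SetLike.mem_coe, MonoidHom.mem_ker, map_mul, map_inv, mul_inv_eq_one]
      exact Units.ext h1
    have hDn : (⁅Q', N⁆ : Subgroup G).Normal := by
      refine hnorm _ (Subgroup.commutator_le_right Q' N) fun h hh x hx => ?_
      have hmap : (⁅Q', N⁆ : Subgroup G).map (MulAut.conj h).toMonoidHom ≤ ⁅Q', N⁆ := by
        rw [Subgroup.map_commutator]
        refine Subgroup.commutator_mono ?_ ?_
        · rintro _ ⟨q, hq, rfl⟩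
          exact (Subgroup.mem_normalizer_iff.1 hh q).1 hq
        · rintro _ ⟨a, ha, rfl⟩
          exact hNn.conj_mem a ha h
      exact hmap ⟨x, hx, rfl⟩
    rcases hmin _ hDn (Subgroup.commutator_le_right Q' N) with h | h
    · have h1 : Q' ≤ Subgroup.centralizer (N : Set G) :=
        Subgroup.commutator_eq_bot_iff_le_centralizer.1 h
      have hNH : N ≤ H := fun a ha => by
        rw [hH, Subgroup.mem_normalizer_iff]
        intro q
        constructor
        · intro hq
          rwa [Subgroup.mem_centralizer_iff.1 (h1 hq) a ha, mul_inv_cancel_right]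
        · intro hq
          have := Subgroup.mem_centralizer_iff.1 (h1 hq) a ha
          have e : q = a * q * a⁻¹ :=
            calc q = a⁻¹ * (a * q * a⁻¹ * a) := by group
              _ = a⁻¹ * (a * (a * q * a⁻¹)) := by rw [this]
              _ = a * q * a⁻¹ := by group
          rwa [← e] at hq
      exact hN1 (le_bot_iff.1 (hinf ▸ le_inf le_rfl hNH))
    · refine hl1 (MonoidHom.ext fun m => ?_)
      obtain ⟨m', hm', e⟩ := hD (h.symm ▸ m.2 : (m : G) ∈ ⁅Q', N⁆)
      rw [show m = m' from Subtype.ext e.symm, MonoidHom.one_apply]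
      exact hm'

/-- Every normal subgroup a `p`-power above the subgroup generated by the `2`-elements has a
normal Sylow `p`-subgroup, normal in the whole group. -/
theorem normal_sylow (p : ℕ) [Fact p.Prime] {G : Type u} [Group G] [Finite G]
    (hsolv : Group.IsSolvable (genBy p G))
    (hreal : ∀ χ : Cfsg.IrrCharacter G, (∀ g : G, ((χ : G → ℂ) g).im = 0) →
      ¬ p ∣ Cfsg.charDegree (χ : G → ℂ))
    (U : Subgroup G) (hU : U.Normal) (hKU : genBy 2 G ≤ U)
    (hUp : ∃ a : ℕ, (genBy 2 G).relIndex U = p ^ a) (Q : Sylow p U) :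
    ((Q : Subgroup U).map U.subtype).Normal :=
  normal_sylow_aux p _ G le_rfl hsolv hreal U hU hKU hUp Q

theorem normal_sylow' (p : ℕ) [Fact p.Prime] {G : Type u} [Group G] [Finite G]
    (hsolv : Group.IsSolvable (genBy p G))
    (hreal : ∀ χ : Cfsg.IrrCharacter G, (∀ g : G, ((χ : G → ℂ) g).im = 0) →
      ¬ p ∣ Cfsg.charDegree (χ : G → ℂ))
    (U : Subgroup G) (hU : U.Normal) (hKU : genBy 2 G ≤ U)
    (hUp : ∃ a : ℕ, (genBy 2 G).relIndex U = p ^ a) (Q : Sylow p U) :
    (Q : Subgroup U).Normal := by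
  haveI := normal_sylow p hsolv hreal U hU hKU hUp Q
  rw [← Subgroup.comap_map_eq_self_of_injective U.subtype_injective (Q : Subgroup U)]
  infer_instance

end Cfsg.Agent.RealPPrime
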