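import Cfsg.Prelude.Def_DegreeGraph
import Cfsg.Agent.Lib.Char.DetComp
import Cfsg.Agent.Lib.Char.ChiefRestrict
import Cfsg.Agent.Lib.Char.Degree
import Cfsg.Agent.Lib.Solvable.Hall
import Mathlib.Combinatorics.SimpleGraph.Connectivity.Connected

/-!
# Components of the common-divisor graph on the relative degree set

For a normal subgroup `N` inside the derived subgroup, a character lying over a character of `N`
whose determinant has non-trivial `r`-part `μ` has degree divisible by the index of the inertia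
group of `μ`, and by `r` when `μ` is invariant.
-/

set_option autoImplicit false
set_option linter.style.haveILetI false
set_option linter.unusedSectionVars false

namespace Cfsg.Agent.RelDegGraph

open Cfsg Cfsg.Agent.Char Cfsg.Agent.CharExtend

attribute [-instance] MonoidHom.instPow MonoidHom.mul instOneMonoidHom MonoidHom.instInv MonoidHom.instDiv

universe u

theorem hom_pow_apply {A : Type u} [Group A] (f : A →* ℂˣ) (k : ℕ) (x : A) :
    (f ^ k) x = f x ^ k := MonoidHom.pow_apply f k x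

theorem hom_mul_pow {A : Type u} [Group A] (f g : A →* ℂˣ) (k : ℕ) :
    (f * g) ^ k = f ^ k * g ^ k := mul_pow f g k

theorem hom_one_pow {A : Type u} [Group A] (k : ℕ) : (1 : A →* ℂˣ) ^ k = 1 := one_pow k

theorem hom_div_pow {A : Type u} [Group A] (f g : A →* ℂˣ) (k : ℕ) :
    (f / g) ^ k = f ^ k / g ^ k := div_pow f g k

theorem hom_inv_of_mul {A : Type u} [Group A] {f g : A →* ℂˣ} (h : f * g = 1) : f = g⁻¹ :=
  eq_inv_of_mul_eq_one_left (show (f : A →* ℂˣ) * g = 1 from h)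

/-! ## Determinantal characters of sums -/

section Det

variable {A : Type u} [Group A] [Finite A]

theorem detChar_ne_zero {α : A → ℂ} (hα : IsCharacter A α) (g : A) : detChar α g ≠ 0 := by
  obtain ⟨n, ρ, rfl⟩ := hα
  rw [detChar_eq]
  exact Units.ne_zero _

theorem detChar_add {α β : A → ℂ} (hα : IsCharacter A α) (hβ : IsCharacter A β) :
    detChar (α + β) = detChar α * detChar β := by
  obtain ⟨n, ρ, rfl⟩ := hα
  obtain ⟨m, τ, rfl⟩ := hβ
  rw [← character_prod, detChar_eq, detChar_eq, detChar_eq]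
  funext g
  simp only [Pi.mul_apply, detHom_apply]
  exact LinearMap.det_prodMap (ρ g) (τ g)

theorem detChar_zero : detChar (0 : A → ℂ) = 1 := by
  have h := detChar_add (A := A) isCharacter_zero isCharacter_zero
  rw [add_zero] at h
  funext g
  exact (mul_eq_left₀ (detChar_ne_zero isCharacter_zero g)).1 (congrFun h g).symm

theorem detChar_nsmul {α : A → ℂ} (hα : IsCharacter A α) (n : ℕ) :
    detChar ((n : ℂ) • α) = detChar α ^ n := by
  induction n with
  | zero => rw [Nat.cast_zero, zero_smul, detChar_zero, pow_zero]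
  | succ n ih =>
    rw [Nat.cast_succ, add_smul, one_smul, detChar_add (IsCharacter.nsmul hα n) hα, ih, pow_succ]

theorem detChar_sum {ι : Type*} (s : Finset ι) (χ : ι → A → ℂ)
    (h : ∀ i ∈ s, IsCharacter A (χ i)) : detChar (∑ i ∈ s, χ i) = ∏ i ∈ s, detChar (χ i) := by
  classical
  induction s using Finset.induction_on with
  | empty => simp [detChar_zero]
  | insert a s has ih =>
    have hs : ∀ i ∈ s, IsCharacter A (χ i) := fun i hi => h i (Finset.mem_insert_of_mem hi)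
    rw [Finset.sum_insert has, Finset.prod_insert has,
      detChar_add (h a (Finset.mem_insert_self a s)) (isCharacter_sum s hs), ih hs]

theorem exists_det {α : A → ℂ} (hα : IsCharacter A α) :
    ∃ δ : A →* ℂˣ, ∀ g, detChar α g = δ g := by
  obtain ⟨n, ρ, rfl⟩ := hα
  exact ⟨detHom ρ, congrFun (detChar_eq ρ)⟩

theorem detChar_linear (l : A →* ℂˣ) :
    detChar (fun g => (l g : ℂ)) = fun g => (l g : ℂ) := by
  rw [← character_linRep, detChar_eq, character_linRep]
  funext g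
  rw [detHom_apply, LinearMap.det_ring, linRep_apply, mul_one]

theorem detChar_twist {α : A → ℂ} (hα : IsCharacter A α) (l : A →* ℂˣ) (g : A) :
    detChar (fun k => (l k : ℂ) * α k) g = (l g : ℂ) ^ charDegree α * detChar α g := by
  have hdeg := deg_eq_aux hα
  obtain ⟨n, ρ, rfl⟩ := hα
  let η : Representation ℂ A (Fin n → ℂ) :=
    { toFun := fun k => (l k : ℂ) • ρ k
      map_one' := by simp
      map_mul' := fun a b => by
        simp only [map_mul, Units.val_mul, smul_mul_smul_comm] }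
  have hη : η.character = fun k => (l k : ℂ) * ρ.character k := funext fun k => by
    show LinearMap.trace ℂ (Fin n → ℂ) ((l k : ℂ) • ρ k) = _
    rw [map_smul, smul_eq_mul]
    rfl
  rw [← hη, detChar_eq, detChar_eq]
  rw [Representation.char_one, Module.finrank_fin_fun, Nat.cast_inj] at hdeg
  rw [← hdeg]
  have h := DFunLike.congr_fun (det_smul_rep ρ η l fun k => rfl) g
  rw [Module.finrank_fin_fun] at h
  show ((detHom η g : ℂˣ) : ℂ) = _
  rw [h]
  simp
where
  deg_eq_aux {α : A → ℂ} (hα : IsCharacter A α) : α 1 = (charDegree α : ℂ) :=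
    CharX.deg_spec hα

end Det

variable {G : Type u} [Group G] [Finite G] (N : Subgroup G) [N.Normal]

/-! ## Linear characters and their orbits -/

/-- The conjugate of a linear character. -/
def act (g : G) (μ : N →* ℂˣ) : N →* ℂˣ := μ.comp (conjHom N g)

theorem act_mul (a b : G) (μ : N →* ℂˣ) : act N (a * b) μ = act N b (act N a μ) :=
  MonoidHom.ext fun n => congrArg μ (conjHom_mul N a b n)

theorem act_map_mul (g : G) (μ ν : N →* ℂˣ) : act N g (μ * ν) = act N g μ * act N g ν := rfl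

/-- The inertia group of a linear character. -/
def inr (μ : N →* ℂˣ) : Subgroup G := inertia N (fun n : N => (μ n : ℂ))

theorem mem_inr {μ : N →* ℂˣ} {g : G} : g ∈ inr N μ ↔ act N g μ = μ := by
  refine (mem_inertia N).trans ⟨fun h => detHom_unique h, fun h => ?_⟩
  exact funext fun n => congrArg Units.val (DFunLike.congr_fun h n)

/-- The index of the inertia group. -/
noncomputable def idx (μ : N →* ℂˣ) : ℕ := (inr N μ).index

theorem idx_pos (μ : N →* ℂˣ) : 0 < idx N μ :=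
  Nat.pos_of_ne_zero Subgroup.index_ne_zero_of_finite

open scoped Classical in
/-- The orbit of a linear character. -/
noncomputable def orb (μ : N →* ℂˣ) : Finset (N →* ℂˣ) :=
  haveI := Fintype.ofFinite G
  Finset.univ.image fun g => act N g μ

theorem mem_orb {μ ν : N →* ℂˣ} : ν ∈ orb N μ ↔ ∃ g, act N g μ = ν := by
  classical
  simp [orb]

theorem card_orb (μ : N →* ℂˣ) : (orb N μ).card = idx N μ := by
  classical
  haveI := Fintype.ofFinite G
  rw [idx, inr, ← card_conjOrbit N fun n : N => (μ n : ℂ)]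
  have e : conjOrbit N (fun n : N => (μ n : ℂ)) = (orb N μ).image fun f => fun n : N => (f n : ℂ) := by
    ext θ
    simp only [mem_conjOrbit, Finset.mem_image, mem_orb]
    constructor
    · rintro ⟨g, rfl⟩
      exact ⟨_, ⟨g, rfl⟩, rfl⟩
    · rintro ⟨f, ⟨g, rfl⟩, rfl⟩
      exact ⟨g, rfl⟩
  rw [e, Finset.card_image_of_injective _ fun f f' h => detHom_unique h]

theorem hom_pow_card {A : Type u} [Group A] [Finite A] (μ : A →* ℂˣ) : μ ^ Nat.card A = 1 :=
  MonoidHom.ext fun n => by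
    rw [hom_pow_apply, ← map_pow, pow_card_eq_one', map_one, MonoidHom.one_apply]

/-- A non-trivial linear character of order a power of `r`. -/
def IsR (r : ℕ) (μ : N →* ℂˣ) : Prop := μ ≠ 1 ∧ ∃ a : ℕ, μ ^ r ^ a = 1

/-- An exponent that projects onto the `r`-part. -/
def IsProj (r k : ℕ) : Prop :=
  (∀ (x : ℂˣ) (c : ℕ), x ^ r ^ c = 1 → x ^ Nat.card N = 1 → x ^ k = x) ∧
    (∀ (s : ℕ), s.Prime → s ≠ r → ∀ (x : ℂˣ) (c : ℕ), x ^ s ^ c = 1 →
      x ^ Nat.card N = 1 → x ^ k = 1) ∧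
    ∀ δ : N →* ℂˣ, ∃ a : ℕ, (δ ^ k) ^ r ^ a = 1

theorem exists_proj {r : ℕ} (hr : r.Prime) : ∃ k, IsProj N r k := by
  obtain ⟨a, b, hb, hM⟩ :=
    Nat.exists_eq_pow_mul_and_not_dvd (Nat.card_pos (α := N)).ne' r hr.ne_one
  have hrb : Nat.Coprime r b := (Nat.Prime.coprime_iff_not_dvd hr).2 hb
  obtain ⟨k, hk1, hk0⟩ := Nat.chineseRemainder (hrb.pow_left a) 1 0
  have hbk : b ∣ k := Nat.modEq_zero_iff_dvd.1 hk0
  refine ⟨k, fun x c hc hMx => ?_, fun s hs hsr x c hc hMx => ?_, fun δ => ⟨a, ?_⟩⟩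
  · have ho : orderOf x ∣ r ^ a := by
      have h1 := orderOf_dvd_of_pow_eq_one hc
      have h2 := orderOf_dvd_of_pow_eq_one hMx
      rw [hM] at h2
      exact ((hrb.pow_left c).coprime_dvd_left h1).dvd_of_dvd_mul_right h2
    conv_rhs => rw [← pow_one x]
    have hfin : IsOfFinOrder x :=
      isOfFinOrder_iff_pow_eq_one.2 ⟨Nat.card N, Nat.card_pos, hMx⟩
    exact hfin.pow_eq_pow_iff_modEq.2 (hk1.of_dvd ho)
  · refine orderOf_dvd_iff_pow_eq_one.1 (dvd_trans ?_ hbk)
    have h1 := orderOf_dvd_of_pow_eq_one hc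
    have h2 := orderOf_dvd_of_pow_eq_one hMx
    rw [hM] at h2
    exact ((((Nat.coprime_primes hs hr).2 hsr).pow c a).coprime_dvd_left h1).dvd_of_dvd_mul_left h2
  · obtain ⟨q, rfl⟩ := hbk
    rw [← pow_mul, show b * q * r ^ a = Nat.card N * q by rw [hM]; ring, pow_mul, hom_pow_card,
      hom_one_pow]

theorem IsProj.self {r k : ℕ} (hk : IsProj N r k) {μ : N →* ℂˣ} {a : ℕ} (h : μ ^ r ^ a = 1) :
    μ ^ k = μ := MonoidHom.ext fun n => by
  rw [hom_pow_apply]
  exact hk.1 (μ n) a (by rw [← hom_pow_apply, h]; rfl) (by rw [← hom_pow_apply, hom_pow_card]; rfl)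

theorem IsProj.other {r s k : ℕ} (hk : IsProj N r k) (hs : s.Prime) (hsr : s ≠ r) {μ : N →* ℂˣ}
    {a : ℕ} (h : μ ^ s ^ a = 1) : μ ^ k = 1 := MonoidHom.ext fun n => by
  rw [hom_pow_apply]
  exact hk.2.1 s hs hsr (μ n) a (by rw [← hom_pow_apply, h]; rfl)
    (by rw [← hom_pow_apply, hom_pow_card]; rfl)

/-! ## The divisor attached to a linear character -/

/-- The divisor forced on degrees over `μ`. -/
noncomputable def wt (r : ℕ) (μ : N →* ℂˣ) : ℕ := if idx N μ = 1 then r else idx N μ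

theorem one_lt_wt {r : ℕ} (hr : r.Prime) (μ : N →* ℂˣ) : 1 < wt N r μ := by
  have := idx_pos N μ
  have := hr.one_lt
  rw [wt]
  split_ifs <;> omega

theorem wt_of_not_dvd {r : ℕ} {μ : N →* ℂˣ} (h : ¬ r ∣ wt N r μ) :
    wt N r μ = idx N μ ∧ idx N μ ≠ 1 := by
  rw [wt] at h ⊢
  split_ifs at h ⊢ with hi
  · exact absurd dvd_rfl h
  · exact ⟨rfl, hi⟩

variable (hNG : N ≤ commutator G)

include hNG in
theorem wt_dvd_degree {χ : G → ℂ} (hχ : IsIrrCharacter G χ) {φ : N → ℂ}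
    (hφ : IsIrrCharacter N φ) [Fintype N] (hc : classInner (fun n : N => χ n) φ ≠ 0)
    {δ : N →* ℂˣ} (hδ : ∀ n, detChar φ n = δ n) {r k : ℕ} (hr : r.Prime) {μ : N →* ℂˣ}
    (hμ : IsR N r μ) (hμδ : μ = δ ^ k) : wt N r μ ∣ charDegree χ := by
  classical
  haveI := Fintype.ofFinite G
  have hχc := IsIrrCharacter.isCharacter hχ
  have hφc := IsIrrCharacter.isCharacter hφ
  obtain ⟨e, he⟩ := IsCharacter.exists_classInner_nat (IsCharacter.restrict hχc N) hφc
  have hdeg : charDegree χ = e * (inertia N φ).index * charDegree φ := by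
    have h := clifford_degree N hχ hφ hc
    rw [he, CharX.deg_spec hχc, CharX.deg_spec hφc] at h
    exact_mod_cast h
  have hconj : ∀ (g : G) (n : N), detChar (conjChar N g φ) n = δ (conjHom N g n) := fun g n => by
    rw [← hδ, ← congrFun (DetComp.detChar_comp (conjHom N g) hφc) n]
    rfl
  have hle : inertia N φ ≤ inr N μ := fun g hg => by
    rw [mem_inr]
    have : act N g δ = δ := MonoidHom.ext fun n => Units.ext <| by
      show (δ (conjHom N g n) : ℂ) = δ n
      rw [← hconj, (mem_inertia N).1 hg, hδ]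
    refine MonoidHom.ext fun n => ?_
    show μ (conjHom N g n) = μ n
    rw [hμδ, hom_pow_apply, hom_pow_apply]
    exact congrArg (· ^ k) (DFunLike.congr_fun this n)
  rw [hdeg]
  refine Dvd.dvd.mul_right ?_ _
  rw [wt]
  split_ifs with hi
  · -- the invariant case: the determinant is trivial on `N`
    have htop : inr N μ = ⊤ := Subgroup.index_eq_one.1 hi
    have hinv : ∀ (g : G) (n : N), μ (conjHom N g n) = μ n := fun g n =>
      DFunLike.congr_fun ((mem_inr N).1 (htop ▸ Subgroup.mem_top g)) n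
    obtain ⟨ε, hε⟩ := exists_det hχc
    have hirr : ∀ ψ ∈ conjOrbit N φ, IsCharacter N ψ := fun ψ hψ => by
      obtain ⟨g, rfl⟩ := (mem_conjOrbit N).1 hψ
      exact isCharacter_conjChar N hφc g
    have hdet : detChar (fun n : N => χ n) = (∏ ψ ∈ conjOrbit N φ, detChar ψ) ^ e := by
      rw [clifford N hχ hφ hc, he, detChar_nsmul (isCharacter_sum _ hirr), detChar_sum _ _ hirr]
    have hres : detChar (fun n : N => χ n) = fun n : N => detChar χ n :=
      DetComp.detChar_comp N.subtype hχc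
    have hpow : μ ^ (e * (inertia N φ).index) = 1 := by
      refine MonoidHom.ext fun n => Units.ext ?_
      rw [← card_conjOrbit N φ, hom_pow_apply, MonoidHom.one_apply, Units.val_pow_eq_pow_val,
        Units.val_one]
      have h1 : (∏ ψ ∈ conjOrbit N φ, detChar ψ n) ^ e = 1 := by
        rw [← Finset.prod_apply, ← Pi.pow_apply, ← hdet, hres]
        show detChar χ (n : G) = 1
        rw [hε, MonoidHom.mem_ker.1 (Abelianization.commutator_subset_ker ε (hNG n.2)),
          Units.val_one]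
      have h2 : ∀ ψ ∈ conjOrbit N φ, detChar ψ n ^ k = (μ n : ℂ) := fun ψ hψ => by
        obtain ⟨g, rfl⟩ := (mem_conjOrbit N).1 hψ
        rw [hconj, ← hinv g n, hμδ, hom_pow_apply, Units.val_pow_eq_pow_val]
      have h3 : (∏ ψ ∈ conjOrbit N φ, detChar ψ n ^ k) ^ e = 1 := by
        rw [Finset.prod_pow, ← pow_mul, mul_comm, pow_mul, h1, one_pow]
      rw [Finset.prod_congr rfl h2, Finset.prod_const, ← pow_mul, mul_comm] at h3
      exact h3
    obtain ⟨hne, a, ha⟩ := hμ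
    obtain ⟨b, -, hb⟩ := (Nat.dvd_prime_pow hr).1 (orderOf_dvd_of_pow_eq_one ha)
    have hb0 : b ≠ 0 := fun h0 => hne (orderOf_eq_one_iff.1 (by rw [hb, h0, pow_zero]))
    exact (dvd_pow_self r hb0).trans (hb ▸ orderOf_dvd_of_pow_eq_one hpow)
  · exact Dvd.dvd.mul_left (Subgroup.index_dvd_of_le hle) _

/-! ## Degrees over a character of `N` -/

theorem deg_pos {c : ℕ} (hc : c ∈ relCharDegrees N) : 0 < c := by
  obtain ⟨χ, -, rfl⟩ := hc
  exact CharX.irr_deg_pos χ

theorem exists_over [Fintype N] {φ : N → ℂ} (hφ : IsIrrCharacter N φ)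
    (hne : φ ≠ fun _ => 1) : ∃ χ : G → ℂ, IsIrrCharacter G χ ∧
      classInner (fun n : N => χ n) φ ≠ 0 ∧ charDegree χ ∈ relCharDegrees N ∧
      charDegree φ ∣ charDegree χ := by
  classical
  haveI := Fintype.ofFinite G
  have hindc := isCharacter_indFun N (IsIrrCharacter.isCharacter hφ)
  have hind : Cfsg.indFun N φ ≠ 0 := fun e => by
    have := congrFun e 1
    rw [indFun_one_apply, Pi.zero_apply, mul_eq_zero] at this
    exact this.elim (Nat.cast_ne_zero.mpr Subgroup.index_ne_zero_of_finite)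
      (IsIrrCharacter.one_ne_zero hφ)
  obtain ⟨χ, hχne⟩ := IsCharacter.exists_constituent hindc hind
  have hres : classInner (fun n : N => (χ : G → ℂ) n) φ ≠ 0 := by
    rw [← classInner_conj_symm, ← classInner_indFun_left N φ
      (IsCharacter.isClassFunction (IsIrrCharacter.isCharacter χ.2))]
    simpa using hχne
  refine ⟨χ, χ.2, hres, ⟨χ, ?_, rfl⟩, ?_⟩
  · by_contra hall
    push Not at hall
    refine hres ?_
    rw [show (fun n : N => (χ : G → ℂ) n) = (χ : G → ℂ) 1 • fun _ : N => (1 : ℂ) from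
      funext fun n => by rw [Pi.smul_apply, smul_eq_mul, mul_one]; exact hall n n.2,
      classInner_smul_left, classInner_irr_of_ne isIrrCharacter_one hφ (Ne.symm hne), mul_zero]
  · obtain ⟨e, he⟩ := IsCharacter.exists_classInner_nat
      (IsCharacter.restrict (IsIrrCharacter.isCharacter χ.2) N) (IsIrrCharacter.isCharacter hφ)
    have h := clifford_degree N χ.2 hφ hres
    rw [he, CharX.deg_spec (IsIrrCharacter.isCharacter χ.2),
      CharX.deg_spec (IsIrrCharacter.isCharacter hφ)] at h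
    have h' : charDegree (χ : G → ℂ) = e * (inertia N φ).index * charDegree φ := by exact_mod_cast h
    exact h' ▸ Dvd.intro_left _ rfl

theorem linear_ne_one {μ : N →* ℂˣ} (h : μ ≠ 1) :
    (fun n : N => (μ n : ℂ)) ≠ fun _ => 1 := fun e =>
  h (MonoidHom.ext fun n => Units.ext (by simpa using congrFun e n))

/-- Connectivity of two relative degrees. -/
def Conn (a b : ℕ) : Prop := ∃ (ha : a ∈ relCharDegrees N) (hb : b ∈ relCharDegrees N),
  (commonDivisorGraph.induce (relCharDegrees N)).Reachable ⟨a, ha⟩ ⟨b, hb⟩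

variable {N}

theorem Conn.symm {a b : ℕ} (h : Conn N a b) : Conn N b a := by
  obtain ⟨ha, hb, h⟩ := h
  exact ⟨hb, ha, SimpleGraph.Reachable.symm h⟩

theorem Conn.trans {a b c : ℕ} (h : Conn N a b) (h' : Conn N b c) : Conn N a c := by
  obtain ⟨ha, hb, h⟩ := h
  obtain ⟨_, hc, h'⟩ := h'
  exact ⟨ha, hc, SimpleGraph.Reachable.trans h h'⟩

variable (N)

theorem conn_of_dvd {a b : ℕ} (ha : a ∈ relCharDegrees N) (hb : b ∈ relCharDegrees N) {p : ℕ}
    (hp : 1 < p) (hpa : p ∣ a) (hpb : p ∣ b) : Conn N a b := by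
  refine ⟨ha, hb, ?_⟩
  by_cases hab : a = b
  · subst hab; exact SimpleGraph.Reachable.refl _
  · refine SimpleGraph.Adj.reachable ?_
    show a ≠ b ∧ 1 < Nat.gcd a b
    exact ⟨hab, hp.trans_le (Nat.le_of_dvd (Nat.gcd_pos_of_pos_left _ (deg_pos N ha))
      (Nat.dvd_gcd hpa hpb))⟩

/-- Two numbers with a common divisor greater than one. -/
def Share (a b : ℕ) : Prop := ∃ p : ℕ, 1 < p ∧ p ∣ a ∧ p ∣ b

theorem Share.symm {a b : ℕ} : Share a b → Share b a := fun ⟨p, h, h1, h2⟩ => ⟨p, h, h2, h1⟩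

theorem conn_of_share {a b : ℕ} (ha : a ∈ relCharDegrees N) (hb : b ∈ relCharDegrees N)
    (h : Share a b) : Conn N a b :=
  let ⟨_, hp, h1, h2⟩ := h; conn_of_dvd N ha hb hp h1 h2

include hNG in
theorem exists_node {r : ℕ} (hr : r.Prime) {μ : N →* ℂˣ} (hμ : IsR N r μ) :
    ∃ c ∈ relCharDegrees N, wt N r μ ∣ c := by
  haveI := Fintype.ofFinite N
  obtain ⟨χ, hχ, hc, hmem, -⟩ :=
    exists_over N (isIrrCharacter_linear μ) (linear_ne_one N hμ.1)
  exact ⟨_, hmem, wt_dvd_degree N hNG hχ (isIrrCharacter_linear μ) hc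
    (congrFun (detChar_linear μ)) (k := 1) hr hμ (pow_one μ).symm⟩

include hNG in
theorem conn_two_primes {r s : ℕ} (hr : r.Prime) (hs : s.Prime) (hrs : r ≠ s) {μ ν : N →* ℂˣ}
    (hμ : IsR N r μ) (hν : IsR N s ν) :
    ∃ c ∈ relCharDegrees N, wt N r μ ∣ c ∧ wt N s ν ∣ c := by
  haveI := Fintype.ofFinite N
  obtain ⟨k, hk⟩ := exists_proj N hr
  obtain ⟨l, hl⟩ := exists_proj N hs
  obtain ⟨hμ1, a, ha⟩ := hμ
  obtain ⟨hν1, b, hb⟩ := hν
  have hk' : μ = (μ * ν) ^ k := by
    rw [hom_mul_pow, hk.self N ha, hk.other N hs hrs.symm hb]; exact (mul_one μ).symm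
  have hl' : ν = (μ * ν) ^ l := by
    rw [hom_mul_pow, hl.self N hb, hl.other N hr hrs ha]; exact (one_mul ν).symm
  have hne : μ * ν ≠ 1 := fun e => hμ1 (by rw [hk', e, hom_one_pow])
  obtain ⟨χ, hχ, hc, hmem, -⟩ :=
    exists_over N (isIrrCharacter_linear (μ * ν)) (linear_ne_one N hne)
  exact ⟨_, hmem, wt_dvd_degree N hNG hχ (isIrrCharacter_linear (μ * ν)) hc
    (congrFun (detChar_linear (μ * ν))) hr ⟨hμ1, a, ha⟩ hk',
    wt_dvd_degree N hNG hχ (isIrrCharacter_linear (μ * ν)) hc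
    (congrFun (detChar_linear (μ * ν))) hs ⟨hν1, b, hb⟩ hl'⟩

/-- The index of the product is not prime to either coprime index. -/
theorem not_coprime_idx_mul {r : ℕ} (hr : r.Prime) {μ ν : N →* ℂˣ} (hμ : IsR N r μ)
    (hij : Nat.Coprime (idx N μ) (idx N ν)) (hi : idx N μ ≠ 1) (hj : ¬ r ∣ idx N ν) :
    ¬ Nat.Coprime (idx N (μ * ν)) (idx N μ) := by
  intro hco
  classical
  have h3 : (inr N μ ⊓ inr N ν).index = idx N μ * idx N ν :=
    le_antisymm Subgroup.index_inf_le (Nat.le_of_dvd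
      (Nat.pos_of_ne_zero Subgroup.index_ne_zero_of_finite)
      (hij.mul_dvd_of_dvd_of_dvd (Subgroup.index_dvd_of_le inf_le_left)
        (Subgroup.index_dvd_of_le inf_le_right)))
  have hle : inr N μ ⊓ inr N ν ≤ inr N (μ * ν) := fun g hg => by
    obtain ⟨h1, h2⟩ := Subgroup.mem_inf.1 hg
    rw [mem_inr, act_map_mul, (mem_inr N).1 h1, (mem_inr N).1 h2]
  have hkj : idx N (μ * ν) ∣ idx N ν :=
    hco.dvd_of_dvd_mul_left (h3 ▸ Subgroup.index_dvd_of_le hle)
  have himg : ∀ g : G, (orb N ν).image (act N g μ * ·) = orb N (μ * ν) := by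
    intro g
    refine Finset.eq_of_subset_of_card_le ?_ ?_
    · intro x hx
      obtain ⟨y, hy, rfl⟩ := Finset.mem_image.1 hx
      obtain ⟨h, rfl⟩ := (mem_orb N).1 hy
      obtain ⟨t, ht, u, hu, e⟩ := HallSolv.exists_mul_of_coprime_index hij (g * h⁻¹)
      refine (mem_orb N).2 ⟨u * h, ?_⟩
      rw [act_map_mul]
      congr 1
      · have hg : g = t * (u * h) := by rw [← mul_assoc, ← e, inv_mul_cancel_right]
        rw [hg, act_mul N t, (mem_inr N).1 ht]
      · rw [act_mul N u, (mem_inr N).1 hu]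
    · rw [Finset.card_image_of_injective _ (mul_right_injective _), card_orb, card_orb]
      exact Nat.le_of_dvd (idx_pos N ν) hkj
  obtain ⟨g, hg⟩ : ∃ g, g ∉ inr N μ := by
    by_contra hall
    push Not at hall
    exact hi (Subgroup.index_eq_one.2 ((Subgroup.eq_top_iff' _).2 hall))
  refine hg ((mem_inr N).2 ?_)
  have hprod : ∀ g : G, ∏ x ∈ orb N (μ * ν), x = act N g μ ^ idx N ν * ∏ x ∈ orb N ν, x := fun g => by
    rw [← himg g, Finset.prod_image fun x _ y _ h => mul_right_injective _ h,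
      Finset.prod_mul_distrib, Finset.prod_const, card_orb]
  have h1 : act N (1 : G) μ = μ := (mem_inr N).1 (one_mem _)
  have heq : act N g μ ^ idx N ν = μ ^ idx N ν := by
    have := (hprod g).symm.trans (hprod 1)
    rw [h1] at this
    exact mul_right_cancel this
  obtain ⟨-, a, ha⟩ := hμ
  refine div_eq_one.1 (CharExtend.eq_one_of_pow_coprime (a := r ^ a) (b := idx N ν) ?_ ?_
    ((((Nat.Prime.coprime_iff_not_dvd hr).2 hj).pow_left a)))
  · rw [hom_div_pow, ha, div_one]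
    refine MonoidHom.ext fun n => ?_
    exact DFunLike.congr_fun ha (conjHom N g n)
  · rw [hom_div_pow, heq, div_self']

include hNG in
theorem link_same_prime {r : ℕ} (hr : r.Prime) {μ ν : N →* ℂˣ} (hμ : IsR N r μ)
    (hν : IsR N r ν) (hμw : ¬ r ∣ wt N r μ) (hνw : ¬ r ∣ wt N r ν) {c c' : ℕ}
    (hc : c ∈ relCharDegrees N) (hc' : c' ∈ relCharDegrees N) (hcw : wt N r μ ∣ c)
    (hcw' : wt N r ν ∣ c') : ∃ d ∈ relCharDegrees N, Share c d ∧ Share d c' := by
  obtain ⟨ei, hi⟩ := wt_of_not_dvd N hμw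
  obtain ⟨ej, hj⟩ := wt_of_not_dvd N hνw
  rw [ei] at hcw hμw
  rw [ej] at hcw' hνw
  by_cases hij : Nat.Coprime (idx N μ) (idx N ν)
  · have hne : μ * ν ≠ 1 := fun e => by
      have he : inr N μ = inr N ν := by
        rw [hom_inv_of_mul e]
        ext g
        rw [mem_inr, mem_inr]
        exact ⟨fun h => inv_injective h, fun h => congrArg (·⁻¹) h⟩
      rw [show idx N ν = idx N μ from (congrArg Subgroup.index he).symm,
        Nat.coprime_self] at hij
      exact hi hij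
    obtain ⟨-, a, ha⟩ := id hμ
    obtain ⟨-, b, hb⟩ := id hν
    have hη : IsR N r (μ * ν) := ⟨hne, a + b, by
      rw [hom_mul_pow, pow_add, pow_mul, ha, hom_one_pow, mul_comm (r ^ a), pow_mul, hb, hom_one_pow]
      exact one_mul (1 : N →* ℂˣ)⟩
    obtain ⟨d, hd, hdw⟩ := exists_node N hNG hr hη
    have aux : ∀ {x y : N →* ℂˣ} {e : ℕ}, e ∈ relCharDegrees N → IsR N r x →
        Nat.Coprime (idx N x) (idx N y) → idx N x ≠ 1 → ¬ r ∣ idx N y → idx N x ∣ e →
        wt N r (x * y) ∣ d → Share e d := by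
      intro x y e he hx hxy hx1 hy hxe hxd
      have hnc := not_coprime_idx_mul N hr hx hxy hx1 hy
      obtain ⟨p, hp, hp1, hp2⟩ := Nat.Prime.not_coprime_iff_dvd.1 hnc
      have hw : wt N r (x * y) = idx N (x * y) := if_neg fun h1 => hnc (by rw [h1]; exact Nat.coprime_one_left _)
      exact ⟨p, hp.one_lt, hp2.trans hxe, hp1.trans (hw ▸ hxd)⟩
    exact ⟨d, hd, aux hc hμ hij hi hνw hcw hdw,
      (aux hc' hν hij.symm hj hμw hcw' (mul_comm μ ν ▸ hdw)).symm⟩
  · obtain ⟨p, hp, hp1, hp2⟩ := Nat.Prime.not_coprime_iff_dvd.1 hij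
    exact ⟨c', hc', ⟨p, hp.one_lt, hp1.trans hcw, hp2.trans hcw'⟩,
      ⟨p, hp.one_lt, hp2.trans hcw', hp2.trans hcw'⟩⟩

include hNG in
theorem conn_same_prime {r : ℕ} (hr : r.Prime) {μ ν : N →* ℂˣ} (hμ : IsR N r μ)
    (hν : IsR N r ν) (hμw : ¬ r ∣ wt N r μ) (hνw : ¬ r ∣ wt N r ν) {c c' : ℕ}
    (hc : c ∈ relCharDegrees N) (hc' : c' ∈ relCharDegrees N) (hcw : wt N r μ ∣ c)
    (hcw' : wt N r ν ∣ c') : Conn N c c' := by
  obtain ⟨d, hd, h1, h2⟩ := link_same_prime N hNG hr hμ hν hμw hνw hc hc' hcw hcw'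
  exact (conn_of_share N hc hd h1).trans (conn_of_share N hd hc' h2)

/-! ## The primes of the abelianization of `N` -/

theorem relIndex_eq : ⁅N, N⁆.relIndex N = (commutator N).index := by
  rw [Subgroup.relIndex, ← Subgroup.map_subtype_commutator, Subgroup.subgroupOf,
    Subgroup.comap_map_eq_self_of_injective N.subtype_injective]

theorem exists_isR {r : ℕ} (hr : r.Prime) (hrm : r ∣ (commutator N).index) :
    ∃ μ : N →* ℂˣ, IsR N r μ := by
  haveI : Fact r.Prime := ⟨hr⟩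
  obtain ⟨k, hk⟩ := exists_proj N hr
  haveI : Finite (Abelianization N) := Quotient.finite _
  obtain ⟨x, hx⟩ := exists_prime_orderOf_dvd_card' (G := Abelianization N) r hrm
  haveI : NeZero (Monoid.exponent (Abelianization N) : ℂ) :=
    ⟨Nat.cast_ne_zero.mpr Monoid.exponent_ne_zero_of_finite⟩
  obtain ⟨f, hf⟩ := CommGroup.exists_apply_ne_one_of_hasEnoughRootsOfUnity (Abelianization N) ℂ
    (show x ≠ 1 from fun h => hr.ne_one (by rw [← hx, h, orderOf_one]))
  obtain ⟨n, hn⟩ := QuotientGroup.mk_surjective (s := commutator N) x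
  obtain ⟨a, ha⟩ := hk.2.2 (f.comp Abelianization.of)
  refine ⟨(f.comp Abelianization.of) ^ k, fun e => hf ?_, a, ha⟩
  have hx1 : f x ^ r ^ 1 = 1 := by rw [pow_one, ← map_pow, ← hx, pow_orderOf_eq_one, map_one]
  have hxM : f x ^ Nat.card N = 1 := by
    rw [← hn]
    exact DFunLike.congr_fun (hom_pow_card (f.comp Abelianization.of)) n
  rw [← hk.1 (f x) 1 hx1 hxM, ← hn]
  exact DFunLike.congr_fun e n

theorem dvd_of_isR {r : ℕ} (hr : r.Prime) {μ : N →* ℂˣ} (hμ : IsR N r μ) :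
    r ∣ (commutator N).index := by
  obtain ⟨hne, a, ha⟩ := hμ
  obtain ⟨b, -, hb⟩ := (Nat.dvd_prime_pow hr).1 (orderOf_dvd_of_pow_eq_one ha)
  have hb0 : b ≠ 0 := fun h0 => hne (orderOf_eq_one_iff.1 (by rw [hb, h0, pow_zero]))
  refine (dvd_pow_self r hb0).trans (hb ▸ orderOf_dvd_of_pow_eq_one (MonoidHom.ext fun n => ?_))
  rw [hom_pow_apply, ← map_pow, MonoidHom.one_apply]
  exact MonoidHom.mem_ker.1 (Abelianization.commutator_subset_ker μ (Subgroup.pow_index_mem _ n))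

/-! ## Constituents on `N` -/

theorem exists_constituent_nontrivial [Fintype N] {a : ℕ} (ha : a ∈ relCharDegrees N) :
    ∃ (χ : Cfsg.IrrCharacter G) (θ : Cfsg.IrrCharacter N), charDegree (χ : G → ℂ) = a ∧
      classInner (fun n : N => (χ : G → ℂ) n) θ ≠ 0 ∧ (θ : N → ℂ) ≠ (fun _ => 1) ∧
      charDegree (θ : N → ℂ) ∣ a := by
  classical
  haveI := Fintype.ofFinite G
  obtain ⟨χ, ⟨x, hx, hχx⟩, rfl⟩ := ha
  obtain ⟨θ, hθ⟩ := exists_restrict_constituent χ.2 N
  have hθ1 : (θ : N → ℂ) ≠ fun _ => 1 := by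
    intro e
    apply hχx
    rw [e] at hθ
    have horb : conjOrbit N (fun _ : N => (1 : ℂ)) = {fun _ => 1} := by
      ext ψ
      simp only [mem_conjOrbit, Finset.mem_singleton]
      exact ⟨fun ⟨g, h⟩ => h, fun h => ⟨1, h⟩⟩
    have h := clifford N χ.2 isIrrCharacter_one hθ
    rw [horb, Finset.sum_singleton] at h
    exact (congrFun h ⟨x, hx⟩).trans (congrFun h 1).symm
  have hθc := IsIrrCharacter.isCharacter θ.2
  obtain ⟨e, he⟩ := IsCharacter.exists_classInner_nat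
    (IsCharacter.restrict (IsIrrCharacter.isCharacter χ.2) N) hθc
  refine ⟨χ, θ, rfl, hθ, hθ1, ?_⟩
  have h := clifford_degree N χ.2 θ.2 hθ
  rw [he, CharX.deg_spec (IsIrrCharacter.isCharacter χ.2), CharX.deg_spec hθc] at h
  have h' : charDegree (χ : G → ℂ) = e * (inertia N (θ : N → ℂ)).index * charDegree (θ : N → ℂ) := by
    exact_mod_cast h
  exact h' ▸ Dvd.intro_left _ rfl

include hNG in
theorem exists_over_twist [Fintype N] (θ : Cfsg.IrrCharacter N)
    (hf : charDegree (θ : N → ℂ) ≠ 1) {r : ℕ} (hr : r.Prime)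
    (hrf : ¬ r ∣ charDegree (θ : N → ℂ)) {μ : N →* ℂˣ} (hμ : IsR N r μ) :
    ∃ c ∈ relCharDegrees N, charDegree (θ : N → ℂ) ∣ c ∧ wt N r μ ∣ c := by
  classical
  have hθc := IsIrrCharacter.isCharacter θ.2
  obtain ⟨δ, hδ⟩ := exists_det hθc
  obtain ⟨k, hk⟩ := exists_proj N hr
  obtain ⟨hμ1, b, hb⟩ := id hμ
  obtain ⟨b', hb'⟩ := hk.2.2 δ
  set ε := μ / δ ^ k with hε
  have hεR : ε ^ r ^ (b + b') = 1 := by
    rw [hε, hom_div_pow, pow_add, pow_mul, hb, hom_one_pow, mul_comm (r ^ b), pow_mul, hb', hom_one_pow,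
      div_one]
  have hcop : Nat.Coprime (charDegree (θ : N → ℂ)) (orderOf ε) :=
    (((Nat.Prime.coprime_iff_not_dvd hr).2 hrf).pow_left (b + b')).symm.coprime_dvd_right
      (orderOf_dvd_of_pow_eq_one hεR)
  obtain ⟨t, ht⟩ := exists_pow_eq_self_of_coprime hcop
  set φ : N → ℂ := fun n => ((ε ^ t) n : ℂ) * (θ : N → ℂ) n with hφ
  have hφirr : IsIrrCharacter N φ := ChiefRestrict.isIrr_mul_linear θ.2 (ε ^ t)
  have hdφ : charDegree φ = charDegree (θ : N → ℂ) := by
    refine Nat.cast_injective (R := ℂ) ?_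
    rw [← CharX.deg_spec (IsIrrCharacter.isCharacter hφirr), ← CharX.deg_spec hθc, hφ]
    simp
  have hφ1 : φ ≠ fun _ => 1 := fun h1 => by
    have := congrArg Cfsg.charDegree h1
    rw [hdφ, CharX.charDegree_one] at this
    exact hf this
  have hdet : ∀ n, detChar φ n = (((ε ^ t) ^ charDegree (θ : N → ℂ) * δ) n : ℂˣ) := fun n => by
    rw [hφ, detChar_twist hθc, hδ]
    simp
  have hμk : μ = ((ε ^ t) ^ charDegree (θ : N → ℂ) * δ) ^ k := by
    rw [hom_mul_pow, ← pow_mul ε t, mul_comm t, pow_mul, ht, hk.self N hεR, hε, div_mul_cancel]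
  obtain ⟨χ', hχ', hc', hmem, hfc⟩ := exists_over N hφirr hφ1
  exact ⟨_, hmem, hdφ ▸ hfc, wt_dvd_degree N hNG hχ' hφirr hc' hdet hr hμ hμk⟩

include hNG in
theorem exists_wt_dvd_of_linear [Fintype N] {χ : Cfsg.IrrCharacter G} {θ : Cfsg.IrrCharacter N}
    (hθ : classInner (fun n : N => (χ : G → ℂ) n) θ ≠ 0) (hθ1 : (θ : N → ℂ) ≠ fun _ => 1)
    (hf : charDegree (θ : N → ℂ) = 1) :
    ∃ (s : ℕ) (ν : N →* ℂˣ), s.Prime ∧ IsR N s ν ∧ wt N s ν ∣ charDegree (χ : G → ℂ) := by
  have hθc := IsIrrCharacter.isCharacter θ.2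
  obtain ⟨l, hl⟩ := exists_hom_of_degree_one hθc (by rw [CharX.deg_spec hθc, hf, Nat.cast_one])
  have hl1 : l ≠ 1 := fun h => hθ1 (by rw [hl, h]; rfl)
  obtain ⟨s, hs, hso⟩ := Nat.exists_prime_and_dvd
    (show orderOf l ≠ 1 from fun h => hl1 (orderOf_eq_one_iff.1 h))
  obtain ⟨k, hk⟩ := exists_proj N hs
  have hs1 : l ^ k ≠ 1 := fun h => by
    have hpos : orderOf l ≠ 0 :=
      (IsOfFinOrder.orderOf_pos (isOfFinOrder_iff_pow_eq_one.2
        ⟨_, Nat.card_pos, hom_pow_card l⟩)).ne'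
    obtain ⟨q, hq⟩ := hso
    have hu : orderOf (l ^ q) = s := by
      have hq0 : q ≠ 0 := fun h0 => hpos (by rw [hq, h0, mul_zero])
      rw [orderOf_pow' l hq0, hq, Nat.gcd_mul_left_left, Nat.mul_div_cancel _ (Nat.pos_of_ne_zero hq0)]
    have := hk.self N (μ := l ^ q) (a := 1) (by
      rw [show s ^ 1 = orderOf (l ^ q) by rw [pow_one, hu]]
      exact pow_orderOf_eq_one _)
    rw [← pow_mul, mul_comm, pow_mul, h, hom_one_pow] at this
    rw [← this, orderOf_one] at hu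
    exact hs.ne_one hu.symm
  obtain ⟨b, hb⟩ := hk.2.2 l
  exact ⟨s, l ^ k, hs, ⟨hs1, b, hb⟩, wt_dvd_degree N hNG χ.2 θ.2 hθ (δ := l)
    (fun n => by rw [hl, detChar_linear]) hs ⟨hs1, b, hb⟩ rfl⟩

/-! ## The two components -/

include hNG in
theorem exists_anchor (hm : (commutator N).index ≠ 1) :
    ∃ d₀ ∈ relCharDegrees N, ∀ a ∈ relCharDegrees N, ∀ r : ℕ, r.Prime →
      r ∣ (commutator N).index → ¬ r ∣ a → Conn N a d₀ := by
  classical
  haveI := Fintype.ofFinite N
  haveI := Fintype.ofFinite G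
  obtain ⟨r₀, μ₀, hr₀, hμ₀, hpref⟩ : ∃ r₀ μ₀, Nat.Prime r₀ ∧ IsR N r₀ μ₀ ∧
      ((∃ r μ, Nat.Prime r ∧ IsR N r μ ∧ ¬ r ∣ wt N r μ) → ¬ r₀ ∣ wt N r₀ μ₀) := by
    by_cases hex : ∃ r μ, Nat.Prime r ∧ IsR N r μ ∧ ¬ r ∣ wt N r μ
    · obtain ⟨r, μ, h1, h2, h3⟩ := hex
      exact ⟨r, μ, h1, h2, fun _ => h3⟩
    · obtain ⟨r, hr, hrm⟩ := Nat.exists_prime_and_dvd hm
      obtain ⟨μ, hμ⟩ := exists_isR N hr hrm
      exact ⟨r, μ, hr, hμ, fun h => absurd h hex⟩
  obtain ⟨d₀, hd₀, hd₀w⟩ := exists_node N hNG hr₀ hμ₀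
  refine ⟨d₀, hd₀, ?_⟩
  -- a degree divisible by the weight of some linear character is near the anchor
  have near : ∀ {s : ℕ} {ν : N →* ℂˣ} {c : ℕ}, s.Prime → IsR N s ν → c ∈ relCharDegrees N →
      wt N s ν ∣ c → (¬ s ∣ wt N s ν ∨ ∃ t : ℕ, t.Prime ∧ t ∣ (commutator N).index ∧ t ≠ s) →
      Conn N c d₀ := by
    intro s ν c hs hν hc hcw hor
    have other : ∀ {q t : ℕ} {ξ η : N →* ℂˣ} {e e' : ℕ}, q.Prime → t.Prime → q ≠ t →
        IsR N q ξ → IsR N t η → e ∈ relCharDegrees N → e' ∈ relCharDegrees N →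
        wt N q ξ ∣ e → wt N t η ∣ e' → Conn N e e' := by
      intro q t ξ η e e' hq ht hqt hξ hη he he' hew hew'
      obtain ⟨f, hf, hf1, hf2⟩ := conn_two_primes N hNG hq ht hqt hξ hη
      exact (conn_of_dvd N he hf (one_lt_wt N hq ξ) hew hf1).trans
        (conn_of_dvd N hf he' (one_lt_wt N ht η) hf2 hew')
    rcases eq_or_ne s r₀ with rfl | hne
    · rcases hor with h | ⟨t, ht, htm, hts⟩
      · exact conn_same_prime N hNG hs hν hμ₀ h (hpref ⟨s, ν, hs, hν, h⟩) hc hd₀ hcw hd₀w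
      · obtain ⟨η, hη⟩ := exists_isR N ht htm
        obtain ⟨e, he, hew⟩ := exists_node N hNG ht hη
        exact (other hs ht hts.symm hν hη hc he hcw hew).trans
          (other ht hr₀ hts hη hμ₀ he hd₀ hew hd₀w)
    · exact other hs hr₀ hne hν hμ₀ hc hd₀ hcw hd₀w
  intro a ha r hr hrm hra
  obtain ⟨χ, θ, rfl, hθ, hθ1, hfa⟩ := exists_constituent_nontrivial N ha
  rcases eq_or_ne (charDegree (θ : N → ℂ)) 1 with hf | hf
  · -- a linear constituent
    obtain ⟨s, ν, hs, hν, hwa⟩ := exists_wt_dvd_of_linear N hNG hθ hθ1 hf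
    refine near hs hν ha hwa ?_
    rcases eq_or_ne r s with rfl | hne
    · exact Or.inl fun h => hra (h.trans hwa)
    · exact Or.inr ⟨r, hr, hrm, hne⟩
  · -- a constituent of degree greater than one
    have hf1 : 1 < charDegree (θ : N → ℂ) := by
      have := CharX.irr_deg_pos θ
      omega
    have hrf : ¬ r ∣ charDegree (θ : N → ℂ) := fun h => hra (h.trans hfa)
    obtain ⟨μ, hμ, hμ'⟩ : ∃ μ : N →* ℂˣ, IsR N r μ ∧ (r = r₀ → μ = μ₀) := by
      by_cases h : r = r₀
      · subst h; exact ⟨μ₀, hμ₀, fun _ => rfl⟩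
      · obtain ⟨μ, hμ⟩ := exists_isR N hr hrm
        exact ⟨μ, hμ, fun e => absurd e h⟩
    obtain ⟨c, hc, hfc, hwc⟩ := exists_over_twist N hNG θ hf hr hrf hμ
    have h1 : Conn N (charDegree (χ : G → ℂ)) c := conn_of_dvd N ha hc hf1 hfa hfc
    rcases eq_or_ne r r₀ with rfl | hne
    · rw [hμ' rfl] at hwc
      exact h1.trans (conn_of_dvd N hc hd₀ (one_lt_wt N hr μ₀) hwc hd₀w)
    · exact h1.trans (near hr hμ hc hwc
        (Or.inr ⟨r₀, hr₀, dvd_of_isR N hr₀ hμ₀, hne.symm⟩))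

include hNG in
theorem two_components (hN : ⁅N, N⁆ < N) :
    Nat.card (commonDivisorGraph.induce (relCharDegrees N)).ConnectedComponent ≤ 2 ∧
    ∀ (a b : ℕ) (ha : a ∈ relCharDegrees N) (hb : b ∈ relCharDegrees N),
      ¬ (commonDivisorGraph.induce (relCharDegrees N)).Reachable ⟨a, ha⟩ ⟨b, hb⟩ →
      (Nat.Coprime a (⁅N, N⁆.relIndex N) ∧
          ∀ r : ℕ, r.Prime → r ∣ ⁅N, N⁆.relIndex N → r ∣ b) ∨
        (Nat.Coprime b (⁅N, N⁆.relIndex N) ∧
          ∀ r : ℕ, r.Prime → r ∣ ⁅N, N⁆.relIndex N → r ∣ a) := by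
  classical
  have hm : (commutator N).index ≠ 1 := fun h => hN.not_ge (by
    rwa [← Subgroup.relIndex_eq_one, relIndex_eq])
  rw [relIndex_eq]
  obtain ⟨d₀, hd₀, hanchor⟩ := exists_anchor N hNG hm
  obtain ⟨q, hq, hqm⟩ := Nat.exists_prime_and_dvd hm
  let All : ℕ → Prop := fun a => ∀ r : ℕ, r.Prime → r ∣ (commutator N).index → r ∣ a
  have htwo : ∀ a ∈ relCharDegrees N, All a ∨ Conn N a d₀ := by
    intro a ha
    by_cases h : All a
    · exact Or.inl h
    · simp only [All] at h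
      push Not at h
      obtain ⟨r, hr, hrm, hra⟩ := h
      exact Or.inr (hanchor a ha r hr hrm hra)
  have hall : ∀ a ∈ relCharDegrees N, ∀ b ∈ relCharDegrees N, All a → All b → Conn N a b :=
    fun a ha b hb h h' => conn_of_dvd N ha hb hq.one_lt (h q hq hqm) (h' q hq hqm)
  refine ⟨?_, fun a b ha hb hnr => ?_⟩
  · obtain ⟨d₁, hd₁, hd₁all⟩ : ∃ d₁, ∃ _ : d₁ ∈ relCharDegrees N,
        ∀ a ∈ relCharDegrees N, Conn N a d₀ ∨ Conn N a d₁ := by
      by_cases hex : ∃ d₁ ∈ relCharDegrees N, All d₁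
      · obtain ⟨d₁, hd₁, h⟩ := hex
        exact ⟨d₁, hd₁, fun a ha => (htwo a ha).elim (fun h' => Or.inr (hall a ha d₁ hd₁ h' h)) Or.inl⟩
      · push Not at hex
        exact ⟨d₀, hd₀, fun a ha => (htwo a ha).elim (fun h' => absurd h' (hex a ha)) Or.inl⟩
    let f : Bool → (commonDivisorGraph.induce (relCharDegrees N)).ConnectedComponent := fun t =>
      SimpleGraph.connectedComponentMk _ (if t then ⟨d₀, hd₀⟩ else ⟨d₁, hd₁⟩)
    refine (Nat.card_le_card_of_surjective f fun C => ?_).trans (by simp)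
    induction C using SimpleGraph.ConnectedComponent.ind with
    | _ v =>
      rcases hd₁all v.1 v.2 with ⟨_, _, h⟩ | ⟨_, _, h⟩
      · exact ⟨true, (SimpleGraph.ConnectedComponent.sound h).symm⟩
      · exact ⟨false, (SimpleGraph.ConnectedComponent.sound h).symm⟩
  · have hnc : ¬ Conn N a b := fun ⟨_, _, h⟩ => hnr h
    have hone : ∀ {x y : ℕ}, x ∈ relCharDegrees N → y ∈ relCharDegrees N → ¬ Conn N x y → All y →
        Nat.Coprime x (commutator N).index := fun {x y} hx hy hxy hy' => by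
      by_contra hco
      obtain ⟨p, hp, hpx, hpm⟩ := Nat.Prime.not_coprime_iff_dvd.1 hco
      exact hxy (conn_of_dvd N hx hy hp.one_lt hpx (hy' p hp hpm))
    rcases htwo b hb with hB | hB
    · exact Or.inl ⟨hone ha hb hnc hB, hB⟩
    · rcases htwo a ha with hA | hA
      · exact Or.inr ⟨hone hb ha (fun h => hnc h.symm) hA, hA⟩
      · exact absurd (hA.trans hB.symm) hnc

end Cfsg.Agent.RelDegGraph
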