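import Cfsg.Agent.Lib.Char.RelDegreeGraph
import Cfsg.Agent.Lib.Char.Multiplicity

/-!
# The shape of a disconnected common-divisor graph over a solvable normal subgroup

The component of degrees divisible by every prime of the abelianization of `N` is complete; in the
other one all degrees with a non-linear constituent on `N` share the primes of the abelianization
of the derived subgroup of `N`, so any two vertices have distance at most two.
-/

set_option autoImplicit false
set_option linter.style.haveILetI false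
set_option linter.unusedSectionVars false

namespace Cfsg.Agent.RelDegGraph

open Cfsg Cfsg.Agent.Char Cfsg.Agent.CharExtend

attribute [-instance] MonoidHom.instPow MonoidHom.mul instOneMonoidHom MonoidHom.instInv MonoidHom.instDiv

universe u

variable {G : Type u} [Group G] [Finite G]

theorem relCharDegrees_mono {K N : Subgroup G} (h : K ≤ N) :
    relCharDegrees K ⊆ relCharDegrees N :=
  fun _ ⟨χ, ⟨x, hx, hne⟩, hd⟩ => ⟨χ, ⟨x, h hx, hne⟩, hd⟩

/-- A constituent of a constituent is a constituent. -/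
theorem constituent_trans {K N : Subgroup G} [Fintype K] [Fintype N] (h : K ≤ N) {χ : G → ℂ}
    (hχ : IsIrrCharacter G χ) {θ : N → ℂ} (hθ : IsIrrCharacter N θ)
    (h1 : classInner (fun n : N => χ n) θ ≠ 0) {α : K → ℂ} (hα : IsIrrCharacter K α)
    (h2 : classInner (fun k : K => θ ⟨k, h k.2⟩) α ≠ 0) :
    classInner (fun k : K => χ k) α ≠ 0 := by
  classical
  obtain ⟨m, hm⟩ := IsCharacter.exists_decomp (IsCharacter.restrict (IsIrrCharacter.isCharacter hχ) N)
  let ι : K →* N := Subgroup.inclusion h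
  choose k hk using fun τ : Cfsg.IrrCharacter N =>
    IsCharacter.exists_classInner_nat (IsCharacter.comp (IsIrrCharacter.isCharacter τ.2) ι)
      (IsIrrCharacter.isCharacter hα)
  have e : (fun x : K => χ x) = ∑ τ, (m τ : ℂ) • fun x : K => (τ : N → ℂ) (ι x) := by
    funext x
    have := congrFun hm (ι x)
    simp only [Finset.sum_apply, Pi.smul_apply] at this ⊢
    exact this
  have hsum : classInner (fun x : K => χ x) α = ((∑ τ, m τ * k τ : ℕ) : ℂ) := by
    rw [e, classInner_sum_left]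
    push_cast
    exact Finset.sum_congr rfl fun τ _ => by rw [classInner_smul_left, hk τ]
  rw [hsum, Nat.cast_ne_zero]
  rw [hm, show θ = ((⟨θ, hθ⟩ : Cfsg.IrrCharacter N) : N → ℂ) from rfl, classInner_combination,
    Nat.cast_ne_zero] at h1
  have h2' : k ⟨θ, hθ⟩ ≠ 0 := fun h0 => h2 ((hk ⟨θ, hθ⟩).trans (by rw [h0, Nat.cast_zero]))
  intro h0
  exact mul_ne_zero h1 h2' (Finset.sum_eq_zero_iff.1 h0 _ (Finset.mem_univ _))

variable (N : Subgroup G) [N.Normal]

theorem commutator_eq_subgroupOf : ⁅N, N⁆.subgroupOf N = commutator N := by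
  rw [← Subgroup.map_subtype_commutator, Subgroup.subgroupOf,
    Subgroup.comap_map_eq_self_of_injective N.subtype_injective]

/-- A constituent on the derived subgroup of `N`, with the degree ratio dividing the index. -/
theorem exists_constituent_derived [Fintype N] [Fintype (⁅N, N⁆ : Subgroup G)] {θ : N → ℂ}
    (hθ : IsIrrCharacter N θ) :
    ∃ (α : Cfsg.IrrCharacter (⁅N, N⁆ : Subgroup G)) (e : ℕ),
      classInner (fun k : (⁅N, N⁆ : Subgroup G) => θ ⟨k, Subgroup.commutator_le_self N k.2⟩) α ≠ 0 ∧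
      θ 1 = (e : ℂ) * (α : (⁅N, N⁆ : Subgroup G) → ℂ) 1 ∧ e ∣ (commutator N).index := by
  classical
  haveI : ((⁅N, N⁆ : Subgroup G).subgroupOf N).Normal := by
    rw [commutator_eq_subgroupOf]; infer_instance
  haveI : Fintype ((⁅N, N⁆ : Subgroup G).subgroupOf N) := Fintype.ofFinite _
  obtain ⟨β, hβ⟩ := exists_restrict_constituent hθ ((⁅N, N⁆ : Subgroup G).subgroupOf N)
  obtain ⟨e, he, hdvd⟩ := exists_ratio_dvd_index _ hθ β.2 hβ
  let eqv := Subgroup.subgroupOfEquivOfLe (Subgroup.commutator_le_self N)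
  refine ⟨⟨fun k => (β : _ → ℂ) (eqv.symm k),
    IsIrrCharacter.comp β.2 eqv.symm.toMonoidHom eqv.symm.surjective⟩, e, ?_, ?_, ?_⟩
  · intro h0
    apply hβ
    rw [← h0]
    simp only [Cfsg.classInner]
    rw [Nat.card_congr eqv.toEquiv]
    congr 1
    refine Fintype.sum_equiv eqv.toEquiv _ _ fun y => ?_
    show _ = θ _ * _
    rw [MulEquiv.toEquiv_eq_coe, MulEquiv.coe_toEquiv, MulEquiv.symm_apply_apply]
    rfl
  · show θ 1 = (e : ℂ) * (β : _ → ℂ) (eqv.symm 1)
    rw [map_one, he]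
  · rwa [← commutator_eq_subgroupOf N]

variable (hNG : N ≤ commutator G)

include hNG in
/-- In the component of degrees prime to the index, a non-linear constituent degree contains all
the primes of the abelianization of the derived subgroup. -/
theorem dvd_nonlinear {a : ℕ} (ha : a ∈ relCharDegrees N) [Fintype N]
    (hclo : ∀ c, Conn N a c → Nat.Coprime c (commutator N).index) (θ : Cfsg.IrrCharacter N)
    (hf : charDegree (θ : N → ℂ) ≠ 1) (hfa : charDegree (θ : N → ℂ) ∣ a) {r : ℕ} (hr : r.Prime)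
    (hrm : r ∣ (commutator (⁅N, N⁆ : Subgroup G)).index) : r ∣ charDegree (θ : N → ℂ) := by
  classical
  haveI := Fintype.ofFinite G
  haveI : Fintype (⁅N, N⁆ : Subgroup G) := Fintype.ofFinite _
  have hle : (⁅N, N⁆ : Subgroup G) ≤ N := Subgroup.commutator_le_self N
  have hKG : (⁅N, N⁆ : Subgroup G) ≤ commutator G := hle.trans hNG
  have hacop := hclo a ⟨ha, ha, SimpleGraph.Reachable.refl _⟩
  by_contra hrf
  obtain ⟨α, e, -, he, hem⟩ := exists_constituent_derived N θ.2
  have hαc := IsIrrCharacter.isCharacter α.2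
  have heq : charDegree (α : (⁅N, N⁆ : Subgroup G) → ℂ) = charDegree (θ : N → ℂ) := by
    rw [CharX.deg_spec (IsIrrCharacter.isCharacter θ.2), CharX.deg_spec hαc, ← Nat.cast_mul,
      Nat.cast_inj] at he
    have h1 : e = 1 := Nat.eq_one_of_dvd_coprimes hacop
      ((Dvd.intro _ he.symm).trans hfa) hem
    rw [he, h1, one_mul]
  obtain ⟨μ, hμ⟩ := exists_isR (⁅N, N⁆ : Subgroup G) hr hrm
  obtain ⟨c, hc, hfc, hwc⟩ :=
    exists_over_twist (⁅N, N⁆ : Subgroup G) hKG α (heq.symm ▸ hf) hr (heq.symm ▸ hrf) hμ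
  obtain ⟨χ, hχ, hχμ, hmem, -⟩ :=
    exists_over (⁅N, N⁆ : Subgroup G) (isIrrCharacter_linear μ) (linear_ne_one _ hμ.1)
  have hwχ : wt (⁅N, N⁆ : Subgroup G) r μ ∣ charDegree χ :=
    wt_dvd_degree _ hKG hχ (isIrrCharacter_linear μ) hχμ (congrFun (detChar_linear μ)) (k := 1)
      hr hμ (pow_one μ).symm
  have hc' := relCharDegrees_mono hle hc
  have hmem' := relCharDegrees_mono hle hmem
  have hf1 : 1 < charDegree (θ : N → ℂ) := by
    have := CharX.irr_deg_pos θ
    omega
  have hχcop : Nat.Coprime (charDegree χ) (commutator N).index :=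
    hclo _ ((conn_of_dvd N ha hc' hf1 hfa (heq ▸ hfc)).trans
      (conn_of_dvd N hc' hmem' (one_lt_wt _ hr μ) hwc hwχ))
  -- every character over `μ` has degree sharing a prime with the index
  obtain ⟨θ', hθ'⟩ := exists_restrict_constituent hχ N
  have hθ'c := IsIrrCharacter.isCharacter θ'.2
  have hf' : charDegree (θ' : N → ℂ) ∣ charDegree χ := by
    obtain ⟨n, hn⟩ := IsCharacter.exists_classInner_nat
      (IsCharacter.restrict (IsIrrCharacter.isCharacter hχ) N) hθ'c
    have h := clifford_degree N hχ θ'.2 hθ'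
    rw [hn, CharX.deg_spec (IsIrrCharacter.isCharacter hχ), CharX.deg_spec hθ'c] at h
    have h' : charDegree χ = n * (inertia N (θ' : N → ℂ)).index * charDegree (θ' : N → ℂ) := by
      exact_mod_cast h
    exact h' ▸ Dvd.intro_left _ rfl
  obtain ⟨α', e', hα', he', hem'⟩ := exists_constituent_derived N θ'.2
  obtain ⟨g, hg⟩ := (mem_conjOrbit _).1 (restrict_constituent_conj (⁅N, N⁆ : Subgroup G) hχ
    (isIrrCharacter_linear μ) α'.2 hχμ (constituent_trans hle hχ θ'.2 hθ' α'.2 hα'))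
  have hα'1 : (α' : (⁅N, N⁆ : Subgroup G) → ℂ) 1 = 1 := by
    rw [hg]
    show ((μ (conjHom _ g 1) : ℂˣ) : ℂ) = 1
    rw [map_one, map_one, Units.val_one]
  rw [hα'1, mul_one] at he'
  have he1 : e' = 1 := Nat.eq_one_of_dvd_coprimes hχcop
    (by rw [CharX.deg_spec hθ'c, Nat.cast_inj] at he'; exact he' ▸ hf') hem'
  rw [he1, Nat.cast_one] at he'
  obtain ⟨l, hl⟩ := exists_hom_of_degree_one hθ'c he'
  apply hμ.1
  have hone : (fun k : (⁅N, N⁆ : Subgroup G) => (θ' : N → ℂ) ⟨k, hle k.2⟩) = fun _ => 1 := by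
    funext k
    rw [hl]
    have hk : (⟨(k : G), hle k.2⟩ : N) ∈ commutator N := by
      rw [← commutator_eq_subgroupOf N]; exact k.2
    show ((l ⟨(k : G), hle k.2⟩ : ℂˣ) : ℂ) = 1
    rw [MonoidHom.mem_ker.1 (Abelianization.commutator_subset_ker l hk), Units.val_one]
  rw [hone] at hα'
  have hα1 : (α' : (⁅N, N⁆ : Subgroup G) → ℂ) = fun _ => 1 := by
    by_contra hne
    exact hα' (classInner_irr_of_ne isIrrCharacter_one α'.2 (Ne.symm hne))
  refine MonoidHom.ext fun k => Units.ext ?_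
  obtain ⟨k', rfl⟩ := conjHom_surjective (⁅N, N⁆ : Subgroup G) g k
  have := congrFun (hg.symm.trans hα1) k'
  show ((μ ⟨g * k' * g⁻¹, _⟩ : ℂˣ) : ℂ) = ((1 : ℂˣ) : ℂ)
  rw [Units.val_one]
  exact this

include hNG in
theorem shape [Group.IsSolvable N]
    (hdisc : ¬ (commonDivisorGraph.induce (relCharDegrees N)).Preconnected) :
    ∃ a₀ : ↥(relCharDegrees N),
      (∀ b c : ↥(relCharDegrees N),
        (commonDivisorGraph.induce (relCharDegrees N)).Reachable a₀ b →
        (commonDivisorGraph.induce (relCharDegrees N)).Reachable a₀ c → b ≠ c →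
        (commonDivisorGraph.induce (relCharDegrees N)).Adj b c) ∧
      (∀ b c : ↥(relCharDegrees N),
        ¬ (commonDivisorGraph.induce (relCharDegrees N)).Reachable a₀ b →
        ¬ (commonDivisorGraph.induce (relCharDegrees N)).Reachable a₀ c → b ≠ c →
        (commonDivisorGraph.induce (relCharDegrees N)).Adj b c ∨
          ∃ d : ↥(relCharDegrees N), (commonDivisorGraph.induce (relCharDegrees N)).Adj b d ∧
            (commonDivisorGraph.induce (relCharDegrees N)).Adj d c) := by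
  classical
  haveI := Fintype.ofFinite N
  rw [SimpleGraph.Preconnected] at hdisc
  push Not at hdisc
  obtain ⟨⟨u, hu⟩, ⟨v, hv⟩, huv⟩ := hdisc
  have hNbot : Nontrivial N := by
    obtain ⟨χ, ⟨x, hx, hne⟩, -⟩ := hu
    exact ⟨⟨x, hx⟩, 1, fun h => hne (by rw [show x = (1 : G) from congrArg Subtype.val h])⟩
  have hlt : ⁅N, N⁆ < N := by
    refine lt_of_le_of_ne (Subgroup.commutator_le_self N) fun h => ?_
    refine (Group.IsSolvable.commutator_lt_top_of_nontrivial N).ne ?_
    rw [← commutator_eq_subgroupOf N, h, Subgroup.subgroupOf_self]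
  obtain ⟨-, hdich⟩ := two_components N hNG hlt
  rw [relIndex_eq] at hdich
  set m := (commutator N).index with hm
  have hm1 : m ≠ 1 := fun h => hlt.ne (le_antisymm hlt.le (by
    rwa [← Subgroup.relIndex_eq_one, relIndex_eq]))
  obtain ⟨q, hq, hqm⟩ := Nat.exists_prime_and_dvd hm1
  have hnot : ∀ {x : ℕ}, Nat.Coprime x m → ¬ q ∣ x := fun h hx =>
    hq.ne_one (Nat.eq_one_of_dvd_coprimes h hx hqm)
  -- the two distinguished vertices
  obtain ⟨a₀, b₀, ha₀, hb₀, hab, hacop, hball⟩ : ∃ a b : ℕ, ∃ ha : a ∈ relCharDegrees N,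
      ∃ hb : b ∈ relCharDegrees N,
        ¬ (commonDivisorGraph.induce (relCharDegrees N)).Reachable ⟨a, ha⟩ ⟨b, hb⟩ ∧
        Nat.Coprime a m ∧ ∀ r : ℕ, r.Prime → r ∣ m → r ∣ b := by
    rcases hdich u v hu hv huv with ⟨h1, h2⟩ | ⟨h1, h2⟩
    · exact ⟨u, v, hu, hv, huv, h1, h2⟩
    · exact ⟨v, u, hv, hu, fun h => huv h.symm, h1, h2⟩
  have hsep : ¬ Conn N a₀ b₀ := fun ⟨_, _, h⟩ => hab h
  have hcopA : ∀ {x : ℕ}, Conn N a₀ x → Nat.Coprime x m := by
    intro x hx
    by_contra hco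
    obtain ⟨p, hp, hpx, hpm⟩ := Nat.Prime.not_coprime_iff_dvd.1 hco
    obtain ⟨-, hx', -⟩ := id hx
    exact hsep (hx.trans (conn_of_dvd N hx' hb₀ hp.one_lt hpx (hball p hp hpm)))
  have hallB : ∀ {x : ℕ}, x ∈ relCharDegrees N → ¬ Conn N a₀ x → q ∣ x := by
    intro x hx hnc
    rcases hdich a₀ x ha₀ hx (fun h => hnc ⟨ha₀, hx, h⟩) with ⟨-, h⟩ | ⟨-, h⟩
    · exact h q hq hqm
    · exact absurd (h q hq hqm) (hnot hacop)
  have adj_of_share : ∀ {x y : ↥(relCharDegrees N)}, x ≠ y → Share x.1 y.1 →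
      (commonDivisorGraph.induce (relCharDegrees N)).Adj x y := by
    intro x y hne hs
    obtain ⟨p, hp, h1, h2⟩ := hs
    show x.1 ≠ y.1 ∧ 1 < Nat.gcd x.1 y.1
    exact ⟨fun h => hne (Subtype.ext h), hp.trans_le (Nat.le_of_dvd
      (Nat.gcd_pos_of_pos_left _ (deg_pos N x.2)) (Nat.dvd_gcd h1 h2))⟩
  -- two vertices in the component of `a₀` are linked through a third
  have link : ∀ {x y : ℕ}, Conn N a₀ x → Conn N a₀ y →
      ∃ d ∈ relCharDegrees N, Share x d ∧ Share d y := by
    intro x y hx hy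
    have hcx : ∀ c, Conn N x c → Nat.Coprime c m := fun c h => hcopA (hx.trans h)
    have hcy : ∀ c, Conn N y c → Nat.Coprime c m := fun c h => hcopA (hy.trans h)
    have hxc := hcopA hx
    have hyc := hcopA hy
    obtain ⟨-, hxm, -⟩ := id hx
    obtain ⟨-, hym, -⟩ := id hy
    have hmid : ∀ {e : ℕ} (θ : Cfsg.IrrCharacter N) {z : ℕ}, charDegree (θ : N → ℂ) ≠ 1 →
        charDegree (θ : N → ℂ) ∣ z → Nat.Coprime z m → ∀ {s : ℕ} {ν : N →* ℂˣ}, s.Prime →
        IsR N s ν → wt N s ν ∣ e → ∃ d ∈ relCharDegrees N, Share e d ∧ Share d z := by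
      intro e θ z hf hfz hzc s ν hs hν hwe
      have hsf : ¬ s ∣ charDegree (θ : N → ℂ) := fun h =>
        hs.ne_one (Nat.eq_one_of_dvd_coprimes hzc (h.trans hfz) (dvd_of_isR N hs hν))
      obtain ⟨d, hd, hfd, hwd⟩ := exists_over_twist N hNG θ hf hs hsf hν
      have := CharX.irr_deg_pos θ
      exact ⟨d, hd, ⟨_, one_lt_wt N hs ν, hwe, hwd⟩, ⟨_, by omega, hfd, hfz⟩⟩
    obtain ⟨χ, θ, rfl, hθ, hθ1, hfx⟩ := exists_constituent_nontrivial N hxm
    obtain ⟨χ', θ', rfl, hθ', hθ'1, hfy⟩ := exists_constituent_nontrivial N hym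
    by_cases hf : charDegree (θ : N → ℂ) = 1
    · obtain ⟨s, ν, hs, hν, hwx⟩ := exists_wt_dvd_of_linear N hNG hθ hθ1 hf
      by_cases hf' : charDegree (θ' : N → ℂ) = 1
      · obtain ⟨t, η, ht, hη, hwy⟩ := exists_wt_dvd_of_linear N hNG hθ' hθ'1 hf'
        by_cases hst : s = t
        · subst hst
          have hsm := dvd_of_isR N hs hν
          exact link_same_prime N hNG hs hν hη
            (fun h => hs.ne_one (Nat.eq_one_of_dvd_coprimes hxc (h.trans hwx) hsm))
            (fun h => hs.ne_one (Nat.eq_one_of_dvd_coprimes hyc (h.trans hwy) hsm)) hxm hym hwx hwy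
        · obtain ⟨d, hd, h1, h2⟩ := conn_two_primes N hNG hs ht hst hν hη
          exact ⟨d, hd, ⟨_, one_lt_wt N hs ν, hwx, h1⟩, ⟨_, one_lt_wt N ht η, h2, hwy⟩⟩
      · exact hmid θ' hf' hfy hyc hs hν hwx
    · by_cases hf' : charDegree (θ' : N → ℂ) = 1
      · obtain ⟨t, η, ht, hη, hwy⟩ := exists_wt_dvd_of_linear N hNG hθ' hθ'1 hf'
        obtain ⟨d, hd, h1, h2⟩ := hmid θ hf hfx hxc ht hη hwy
        exact ⟨d, hd, h2.symm, h1.symm⟩
      · -- both constituents are non-linear: they share a prime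
        haveI : Group.IsSolvable (⁅N, N⁆ : Subgroup G) :=
          Group.isSolvable_of_isSolvable_injective
            (Subgroup.inclusion_injective (Subgroup.commutator_le_self N))
        have hm' : (commutator (⁅N, N⁆ : Subgroup G)).index ≠ 1 := by
          intro h
          haveI : Fintype (⁅N, N⁆ : Subgroup G) := Fintype.ofFinite _
          rcases subsingleton_or_nontrivial (⁅N, N⁆ : Subgroup G) with hS | hS
          · obtain ⟨α, e, -, he, hem⟩ := exists_constituent_derived N θ.2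
            rw [degree_one_of_comm (fun a b => Subsingleton.elim _ _) α.2, mul_one,
              CharX.deg_spec (IsIrrCharacter.isCharacter θ.2), Nat.cast_inj] at he
            exact hf (Nat.eq_one_of_dvd_coprimes hxc hfx (he ▸ hem))
          · exact (Group.IsSolvable.commutator_lt_top_of_nontrivial _).ne
              (Subgroup.index_eq_one.1 h)
        obtain ⟨r, hr, hrm⟩ := Nat.exists_prime_and_dvd hm'
        have h1 := (dvd_nonlinear N hNG hxm hcx θ hf hfx hr hrm).trans hfx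
        have h2 := (dvd_nonlinear N hNG hym hcy θ' hf' hfy hr hrm).trans hfy
        exact ⟨_, hym, ⟨r, hr.one_lt, h1, h2⟩, ⟨r, hr.one_lt, h2, h2⟩⟩
  refine ⟨⟨b₀, hb₀⟩, fun b c hb hc hne => ?_, fun b c hb hc hne => ?_⟩
  · have key : ∀ {x : ↥(relCharDegrees N)},
        (commonDivisorGraph.induce (relCharDegrees N)).Reachable ⟨b₀, hb₀⟩ x → q ∣ x.1 := by
      intro x hx
      exact hallB x.2 fun ⟨_, _, h⟩ => hab (h.trans hx.symm)
    exact adj_of_share hne ⟨q, hq.one_lt, key hb, key hc⟩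
  · have key : ∀ {x : ↥(relCharDegrees N)},
        ¬ (commonDivisorGraph.induce (relCharDegrees N)).Reachable ⟨b₀, hb₀⟩ x → Conn N a₀ x.1 := by
      intro x hx
      by_contra hnc
      obtain ⟨_, _, h⟩ := conn_of_dvd N hb₀ x.2 hq.one_lt (hball q hq hqm) (hallB x.2 hnc)
      exact hx h
    obtain ⟨d, hd, h1, h2⟩ := link (key hb) (key hc)
    by_cases hbd : (⟨d, hd⟩ : ↥(relCharDegrees N)) = b
    · exact Or.inl (adj_of_share hne (by rw [← hbd]; exact h2))
    by_cases hdc : (⟨d, hd⟩ : ↥(relCharDegrees N)) = c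
    · exact Or.inl (adj_of_share hne (by rw [← hdc]; exact h1))
    exact Or.inr ⟨⟨d, hd⟩, adj_of_share (Ne.symm hbd) h1, adj_of_share hdc h2⟩

end Cfsg.Agent.RelDegGraph
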