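import Cfsg.Agent.Lib.Char.RelGlauberman

/-!
# The relative Glauberman correspondence: the main statement
-/

set_option linter.unusedSectionVars false
set_option linter.style.haveILetI false

namespace Cfsg.Agent.RelGlauberman

open Cfsg Cfsg.Agent.Char Cfsg.Agent.CharX
open Cfsg.Agent.GlaubermanMod (IsInv fixedSub mult)
open scoped ComplexConjugate

universe u v

variable {X : Type u} [Group X] [Fintype X] {R : Type v} [Group R] {φ : R →* MulAut X}
  {Q : Subgroup X} [hQn : Q.Normal] (hQ : ∀ u, ∀ q ∈ Q, φ u q ∈ Q)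

theorem le_relFixed : Q ≤ relFixed φ Q hQ :=
  fun _ hk u => Q.mul_mem (hQ u _ hk) (Q.inv_mem hk)

theorem apply_mem_relFixed (u : R) {k : X} (hk : k ∈ relFixed φ Q hQ) :
    φ u k ∈ relFixed φ Q hQ := by
  intro v
  have h := Q.mul_mem (hk (v * u)) (Q.inv_mem (hk u))
  rwa [map_mul, MulAut.mul_apply,
    show φ v (φ u k) * k⁻¹ * (φ u k * k⁻¹)⁻¹ = φ v (φ u k) * (φ u k)⁻¹ by group] at h

/-- The action on the subgroup of elements fixed modulo `Q`. -/
def actC : R →* MulAut (relFixed φ Q hQ) where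
  toFun u :=
    { toFun := fun t => ⟨φ u t, apply_mem_relFixed hQ u t.2⟩
      invFun := fun t => ⟨φ u⁻¹ t, apply_mem_relFixed hQ u⁻¹ t.2⟩
      left_inv := fun t => Subtype.ext (inv_apply_apply (φ := φ) u (t : X))
      right_inv := fun t => Subtype.ext (apply_inv_apply (φ := φ) u (t : X))
      map_mul' := fun a b => Subtype.ext (map_mul (φ u) (a : X) b) }
  map_one' := MulEquiv.ext fun t => Subtype.ext (by show φ 1 (t : X) = t; simp)
  map_mul' a b := MulEquiv.ext fun t => Subtype.ext (by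
    show φ (a * b) (t : X) = φ a (φ b t); simp)

theorem actC_mem (u : R) : ∀ q ∈ Q.subgroupOf (relFixed φ Q hQ),
    actC hQ u q ∈ Q.subgroupOf (relFixed φ Q hQ) := fun q hq => hQ u (q : X) hq

variable {p : ℕ} [hp : Fact p.Prime]

theorem not_dvd_index_subgroupOf (hidx : ¬ p ∣ Q.index) :
    ¬ p ∣ (Q.subgroupOf (relFixed φ Q hQ)).index :=
  fun h => hidx (h.trans ⟨(relFixed φ Q hQ).index,
    (Subgroup.relIndex_mul_index (le_relFixed hQ)).symm⟩)

/-- The function on `Q` seen on `Q` inside the fixed subgroup. -/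
def thetaC (θ : Q → ℂ) : Q.subgroupOf (relFixed φ Q hQ) → ℂ :=
  fun n => θ (Subgroup.subgroupOfEquivOfLe (le_relFixed hQ) n)

theorem conjChar_thetaC (θ : Q → ℂ) (c : relFixed φ Q hQ) :
    conjChar (Q.subgroupOf (relFixed φ Q hQ)) c (thetaC hQ θ) =
      thetaC hQ (conjChar Q (c : X) θ) := rfl

theorem mem_inertia_thetaC {θ : Q → ℂ} (c : relFixed φ Q hQ) :
    c ∈ inertia (Q.subgroupOf (relFixed φ Q hQ)) (thetaC hQ θ) ↔ (c : X) ∈ inertia Q θ := by
  rw [mem_inertia, mem_inertia, conjChar_thetaC]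
  refine ⟨fun h => funext fun q => ?_, fun h => by rw [h]⟩
  obtain ⟨n, rfl⟩ := (Subgroup.subgroupOfEquivOfLe (le_relFixed hQ)).surjective q
  exact congrFun h n

theorem over_thetaC [Fintype Q] [Fintype (Q.subgroupOf (relFixed φ Q hQ))] (f : X → ℂ)
    (θ : Q → ℂ) :
    classInner (fun n : Q.subgroupOf (relFixed φ Q hQ) => f ((n : relFixed φ Q hQ) : X))
      (thetaC hQ θ) = classInner (fun q : Q => f q) θ :=
  classInner_comp_surj (Subgroup.subgroupOfEquivOfLe (le_relFixed hQ)).toMonoidHom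
    (Subgroup.subgroupOfEquivOfLe (le_relFixed hQ)).surjective (fun q : Q => f q) θ

theorem local_data (hidx : ¬ p ∣ Q.index) (hQp : ∃ a : ℕ, Nat.card Q = p ^ a)
    (hR : IsPGroup p R) [Fintype Q] [Fintype (relFixed φ Q hQ)]
    [Fintype (Q.subgroupOf (relFixed φ Q hQ))]
    {θ : Q → ℂ} (hirr : IsIrrCharacter Q θ) (hθ : IsInvQ hQ θ) [Fintype (inertia Q θ)]
    [Fintype (inertia (Q.subgroupOf (relFixed φ Q hQ)) (thetaC hQ θ))]
    [Fintype (TQ θ)] [Fintype (fixedSub (actW hQ hθ))] :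
    ∃ (f : IrrCharacter (TQ θ) → IrrCharacter X)
      (g : IrrCharacter (fixedSub (actW hQ hθ)) → IrrCharacter (relFixed φ Q hQ)),
      (∀ w, IsInv φ (f w : X → ℂ) ↔ IsInv (actW hQ hθ) (w : TQ θ → ℂ)) ∧
      (∀ χ : IrrCharacter X, classInner (fun q : Q => (χ : X → ℂ) q) θ ≠ 0 → ∃ w, f w = χ) ∧
      (∀ v, IsInv (actC hQ) (g v : relFixed φ Q hQ → ℂ)) ∧
      (∀ ξ : IrrCharacter (relFixed φ Q hQ),
        classInner (fun n : Q.subgroupOf (relFixed φ Q hQ) => (ξ : relFixed φ Q hQ → ℂ) n)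
          (thetaC hQ θ) ≠ 0 → ∃ v, g v = ξ) ∧
      ∀ w v, classInner (fun c : relFixed φ Q hQ => (f w : X → ℂ) c)
        (g v : relFixed φ Q hQ → ℂ) = (mult (actW hQ hθ) w v : ℂ) := by
  classical
  obtain ⟨S, hπ, hext⟩ := exists_inv_extension hQ hirr hθ hQp hR hidx
  let j : inertia (Q.subgroupOf (relFixed φ Q hQ)) (thetaC hQ θ) →* inertia Q θ :=
    { toFun := fun t => ⟨((t : relFixed φ Q hQ) : X), (mem_inertia_thetaC hQ _).1 t.2⟩
      map_one' := rfl
      map_mul' := fun _ _ => rfl }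
  have hfix : ∀ t, S.π (j t) ∈ fixedSub (actW hQ hθ) := by
    intro t u
    rw [hπ]
    show ((actT hQ hθ u (j t) : inertia Q θ) : TQ θ) = ((j t : inertia Q θ) : TQ θ)
    rw [QuotientGroup.eq]
    show (φ u ((t : relFixed φ Q hQ) : X))⁻¹ * ((t : relFixed φ Q hQ) : X) ∈ Q
    have h := hQn.conj_mem _ ((t : relFixed φ Q hQ).2 u) ((t : relFixed φ Q hQ) : X)⁻¹
    have h' := Q.inv_mem h
    rwa [show (((t : relFixed φ Q hQ) : X)⁻¹ * (φ u ((t : relFixed φ Q hQ) : X) *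
      ((t : relFixed φ Q hQ) : X)⁻¹) * ((t : relFixed φ Q hQ) : X)⁻¹⁻¹)⁻¹ =
      (φ u ((t : relFixed φ Q hQ) : X))⁻¹ * ((t : relFixed φ Q hQ) : X) by group] at h'
  let SC : Setup (Q.subgroupOf (relFixed φ Q hQ)) (thetaC hQ θ) (fixedSub (actW hQ hθ)) :=
    { irr := IsIrrCharacter.comp hirr (Subgroup.subgroupOfEquivOfLe (le_relFixed hQ)).toMonoidHom
        (Subgroup.subgroupOfEquivOfLe (le_relFixed hQ)).surjective
      π := (S.π.comp j).codRestrict _ hfix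
      surj := fun w => by
        obtain ⟨t, ht⟩ := S.surj w.1
        have hc : (t : X) ∈ relFixed φ Q hQ := fun u => by
          have h := w.2 u
          rw [← ht, hπ] at h
          have h' : ((actT hQ hθ u t : inertia Q θ) : TQ θ) = (t : TQ θ) := h
          rw [QuotientGroup.eq, Subgroup.mem_subgroupOf] at h'
          have h2 : (φ u (t : X))⁻¹ * (t : X) ∈ Q := h'
          have h3 := Q.inv_mem (hQn.conj_mem _ h2 (t : X))
          rwa [show ((t : X) * ((φ u (t : X))⁻¹ * (t : X)) * (t : X)⁻¹)⁻¹ = φ u (t : X) * (t : X)⁻¹ by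
            group] at h3
        exact ⟨⟨⟨t, hc⟩, (mem_inertia_thetaC hQ _).2 t.2⟩, Subtype.ext ht⟩
      ker := fun t => by
        rw [Subgroup.mem_subgroupOf, show ((t : relFixed φ Q hQ) : X) = ((j t : inertia Q θ) : X) from rfl,
          ← S.ker (j t)]
        exact Subtype.ext_iff
      ext := fun t => S.ext (j t)
      isChar := IsCharacter.comp S.isChar j
      ext_eq := fun t ht => S.ext_eq (j t) ht }
  refine ⟨S.toIrr, SC.toIrr, isInv_of_toIrr hQ hθ S hπ hext, S.toIrr_surj, ?_,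
    fun ξ h => SC.toIrr_surj ξ h, ?_⟩
  · intro v u c
    refine (indFun_comp_equiv (actC hQ u) _ (fun x => ?_) _ _ (fun t => ?_) c).symm
    · rw [mem_inertia_thetaC, mem_inertia_thetaC]
      exact apply_mem_inertia hQ hθ u x
    · show (v : fixedSub (actW hQ hθ) → ℂ) (SC.π t) * S.ext (j t) =
        (v : fixedSub (actW hQ hθ) → ℂ) (SC.π ⟨actC hQ u t, _⟩) * S.ext (actT hQ hθ u (j t))
      rw [hext]
      refine congrArg (fun z => (v : fixedSub (actW hQ hθ) → ℂ) z * S.ext (j t)) (Subtype.ext ?_)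
      show S.π (j t) = S.π (actT hQ hθ u (j t))
      have := hfix t u
      rw [hπ] at this ⊢
      exact this.symm
  · intro w v
    have hc := IsCharacter.isClassFunction
      (IsCharacter.restrict (IsIrrCharacter.isCharacter (S.toIrr w).2) (relFixed φ Q hQ))
    refine (classInner_indFun_right _ _ hc).trans ?_
    refine (S.classInner_toIrr_comp w j SC.incl
      (Subgroup.subgroupOfEquivOfLe (le_relFixed hQ)) (fun z => Subtype.ext rfl)
      (SC.exists_gallagher.1 v) (SC.lift_over v)).trans ?_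
    refine (SC.classInner_lift (GlaubermanMod.isCharacter_resC (actW hQ hθ) w) v).trans ?_
    exact GlaubermanMod.classInner_resC (actW hQ hθ) w v

theorem exists_inv_constituent_C (hidx : ¬ p ∣ Q.index) (hR : IsPGroup p R)
    [Fintype Q] [Fintype (relFixed φ Q hQ)] [Fintype (Q.subgroupOf (relFixed φ Q hQ))]
    (ξ : IrrCharacter (relFixed φ Q hQ)) (hξ : IsInv (actC hQ) (ξ : relFixed φ Q hQ → ℂ)) :
    ∃ θ : IrrCharacter Q, IsInvQ hQ (θ : Q → ℂ) ∧
      classInner (fun n : Q.subgroupOf (relFixed φ Q hQ) => (ξ : relFixed φ Q hQ → ℂ) n)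
        (thetaC hQ (θ : Q → ℂ)) ≠ 0 := by
  obtain ⟨θ', hinv, hne⟩ := exists_inv_constituent (Q := Q.subgroupOf (relFixed φ Q hQ))
    (actC_mem hQ) hR (not_dvd_index_subgroupOf hQ hidx) ξ hξ
  let e := Subgroup.subgroupOfEquivOfLe (le_relFixed hQ)
  refine ⟨⟨fun q => (θ' : _ → ℂ) (e.symm q),
    IsIrrCharacter.comp θ'.2 e.symm.toMonoidHom e.symm.surjective⟩, fun u q => ?_, ?_⟩
  · exact (congrArg (θ' : _ → ℂ) (e.symm_apply_eq.2 rfl)).trans (hinv u (e.symm q))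
  · rwa [show thetaC hQ (fun q => (θ' : _ → ℂ) (e.symm q)) = (θ' : _ → ℂ) from
      funext fun n => congrArg (θ' : _ → ℂ) (e.symm_apply_apply n)]

theorem over_of_mult_ne_zero [Fintype Q] [Fintype (relFixed φ Q hQ)]
    [Fintype (Q.subgroupOf (relFixed φ Q hQ))] (χ : IrrCharacter X)
    (ξ : IrrCharacter (relFixed φ Q hQ)) {θ : Q → ℂ} (hθ : IsIrrCharacter Q θ)
    (h : classInner (fun c : relFixed φ Q hQ => (χ : X → ℂ) c) (ξ : relFixed φ Q hQ → ℂ) ≠ 0)
    (h' : classInner (fun n : Q.subgroupOf (relFixed φ Q hQ) => (ξ : relFixed φ Q hQ → ℂ) n)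
        (thetaC hQ θ) ≠ 0) : classInner (fun q : Q => (χ : X → ℂ) q) θ ≠ 0 := by
  rw [← over_thetaC hQ]
  exact mult_trans (Q.subgroupOf (relFixed φ Q hQ)).subtype
    (IsCharacter.restrict (IsIrrCharacter.isCharacter χ.2) (relFixed φ Q hQ)) ξ.2
    (IsCharacter.comp (IsIrrCharacter.isCharacter hθ)
      (Subgroup.subgroupOfEquivOfLe (le_relFixed hQ)).toMonoidHom) h h'

/-- The relative Glauberman correspondence. -/
theorem correspondence (hidx : ¬ p ∣ Q.index) (hQp : ∃ a : ℕ, Nat.card Q = p ^ a)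
    (hR : IsPGroup p R) [Fintype (relFixed φ Q hQ)] :
    (∀ χ : IrrCharacter X, IsInv φ (χ : X → ℂ) → ∃ ξ : IrrCharacter (relFixed φ Q hQ),
      IsInv (actC hQ) (ξ : relFixed φ Q hQ → ℂ) ∧
      (∃ m : ℕ, classInner (fun c : relFixed φ Q hQ => (χ : X → ℂ) c)
        (ξ : relFixed φ Q hQ → ℂ) = m ∧ ((m : ZMod p) = 1 ∨ (m : ZMod p) = -1)) ∧
      ∀ ξ' : IrrCharacter (relFixed φ Q hQ), IsInv (actC hQ) (ξ' : relFixed φ Q hQ → ℂ) → ξ' ≠ ξ →
        ∃ m : ℕ, classInner (fun c : relFixed φ Q hQ => (χ : X → ℂ) c)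
          (ξ' : relFixed φ Q hQ → ℂ) = m ∧ p ∣ m) ∧
    (∀ ξ : IrrCharacter (relFixed φ Q hQ), IsInv (actC hQ) (ξ : relFixed φ Q hQ → ℂ) →
      ∃ χ : IrrCharacter X, IsInv φ (χ : X → ℂ) ∧ ∃ m : ℕ,
        classInner (fun c : relFixed φ Q hQ => (χ : X → ℂ) c) (ξ : relFixed φ Q hQ → ℂ) = m ∧
          ¬ p ∣ m) ∧
    (∀ (χ χ' : IrrCharacter X) (ξ : IrrCharacter (relFixed φ Q hQ)), IsInv φ (χ : X → ℂ) →
      IsInv φ (χ' : X → ℂ) → IsInv (actC hQ) (ξ : relFixed φ Q hQ → ℂ) →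
      (∃ m : ℕ, classInner (fun c : relFixed φ Q hQ => (χ : X → ℂ) c)
        (ξ : relFixed φ Q hQ → ℂ) = m ∧ ¬ p ∣ m) →
      (∃ m : ℕ, classInner (fun c : relFixed φ Q hQ => (χ' : X → ℂ) c)
        (ξ : relFixed φ Q hQ → ℂ) = m ∧ ¬ p ∣ m) → χ = χ') := by
  classical
  haveI := Fintype.ofFinite Q
  haveI := Fintype.ofFinite (Q.subgroupOf (relFixed φ Q hQ))
  refine ⟨fun χ hχ => ?_, fun ξ hξ => ?_, fun χ χ' ξ hχ hχ' hξ hm hm' => ?_⟩
  · obtain ⟨θ, hθ, hover⟩ := exists_inv_constituent hQ hR hidx χ hχ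
    haveI := Fintype.ofFinite (inertia Q (θ : Q → ℂ))
    haveI := Fintype.ofFinite (inertia (Q.subgroupOf (relFixed φ Q hQ)) (thetaC hQ (θ : Q → ℂ)))
    haveI := Fintype.ofFinite (TQ (θ : Q → ℂ))
    haveI := Fintype.ofFinite (fixedSub (actW hQ hθ))
    obtain ⟨f, g, hf, hfs, hg, hgs, hmult⟩ := local_data hQ hidx hQp hR θ.2 hθ
    obtain ⟨w, rfl⟩ := hfs χ hover
    obtain ⟨v, hv1, hv2⟩ := GlaubermanMod.exists_unique_constituent (actW hQ hθ) hR
      (not_dvd_card_TQ hidx (IsCharacter.isClassFunction (IsIrrCharacter.isCharacter θ.2)))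
      w ((hf w).1 hχ)
    refine ⟨g v, hg v, ⟨_, hmult w v, hv1⟩, fun ξ' hξ' hne => ?_⟩
    obtain ⟨m, hm⟩ := IsCharacter.exists_classInner_nat
      (IsCharacter.restrict (IsIrrCharacter.isCharacter (f w).2) (relFixed φ Q hQ))
      (IsIrrCharacter.isCharacter ξ'.2)
    refine ⟨m, hm, ?_⟩
    by_cases h0 : m = 0
    · simp [h0]
    obtain ⟨θ', hθ', hover'⟩ := exists_inv_constituent_C hQ hidx hR ξ' hξ'
    have hχθ' := over_of_mult_ne_zero hQ (f w) ξ' θ'.2
      (fun h => h0 (Nat.cast_eq_zero.1 (hm.symm.trans h))) hover'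
    obtain ⟨x, hx⟩ := (mem_conjOrbit Q).1
      (restrict_constituent_conj Q (f w).2 θ.2 θ'.2 hover hχθ')
    obtain ⟨c, hc, hcθ⟩ := exists_fixed_conj hQ hR hidx hθ hθ'
      (IsCharacter.isClassFunction (IsIrrCharacter.isCharacter θ'.2)) hx.symm
    rw [← hcθ, ← conjChar_thetaC hQ (θ : Q → ℂ) ⟨c, hc⟩, classInner_restrict_conjChar _
      (IsCharacter.isClassFunction (IsIrrCharacter.isCharacter ξ'.2))] at hover'
    obtain ⟨v', rfl⟩ := hgs ξ' hover'
    have h2 := hm.symm.trans (hmult w v')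
    rw [Nat.cast_inj] at h2
    exact h2 ▸ hv2 v' (fun e => hne (e ▸ rfl))
  · obtain ⟨θ, hθ, hover⟩ := exists_inv_constituent_C hQ hidx hR ξ hξ
    haveI := Fintype.ofFinite (inertia Q (θ : Q → ℂ))
    haveI := Fintype.ofFinite (inertia (Q.subgroupOf (relFixed φ Q hQ)) (thetaC hQ (θ : Q → ℂ)))
    haveI := Fintype.ofFinite (TQ (θ : Q → ℂ))
    haveI := Fintype.ofFinite (fixedSub (actW hQ hθ))
    obtain ⟨f, g, hf, hfs, hg, hgs, hmult⟩ := local_data hQ hidx hQp hR θ.2 hθ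
    obtain ⟨v, rfl⟩ := hgs ξ hover
    obtain ⟨w, hw1, hw2⟩ := GlaubermanMod.exists_over (actW hQ hθ) hR
      (not_dvd_card_TQ hidx (IsCharacter.isClassFunction (IsIrrCharacter.isCharacter θ.2))) v
    exact ⟨f w, (hf w).2 hw1, _, hmult w v, hw2⟩
  · obtain ⟨θ, hθ, hover⟩ := exists_inv_constituent_C hQ hidx hR ξ hξ
    haveI := Fintype.ofFinite (inertia Q (θ : Q → ℂ))
    haveI := Fintype.ofFinite (inertia (Q.subgroupOf (relFixed φ Q hQ)) (thetaC hQ (θ : Q → ℂ)))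
    haveI := Fintype.ofFinite (TQ (θ : Q → ℂ))
    haveI := Fintype.ofFinite (fixedSub (actW hQ hθ))
    obtain ⟨f, g, hf, hfs, hg, hgs, hmult⟩ := local_data hQ hidx hQp hR θ.2 hθ
    obtain ⟨m, hm, hmd⟩ := hm
    obtain ⟨m', hm', hmd'⟩ := hm'
    obtain ⟨w, rfl⟩ := hfs χ (over_of_mult_ne_zero hQ χ ξ θ.2
      (fun h => hmd (by rw [Nat.cast_eq_zero.1 (hm.symm.trans h)]; exact dvd_zero p)) hover)
    obtain ⟨w', rfl⟩ := hfs χ' (over_of_mult_ne_zero hQ χ' ξ θ.2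
      (fun h => hmd' (by rw [Nat.cast_eq_zero.1 (hm'.symm.trans h)]; exact dvd_zero p)) hover)
    obtain ⟨v, rfl⟩ := hgs ξ hover
    have e : mult (actW hQ hθ) w v = m := Nat.cast_injective ((hmult w v).symm.trans hm)
    have e' : mult (actW hQ hθ) w' v = m' := Nat.cast_injective ((hmult w' v).symm.trans hm')
    rw [GlaubermanMod.eq_of_common (actW hQ hθ) hR
      (not_dvd_card_TQ hidx (IsCharacter.isClassFunction (IsIrrCharacter.isCharacter θ.2)))
      ((hf w).1 hχ) ((hf w').1 hχ') (γ := v) (e ▸ hmd) (e' ▸ hmd')]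

end Cfsg.Agent.RelGlauberman
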