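import Cfsg.Agent.Lib.Char.ChiefRestrict
import Cfsg.Agent.Lib.Char.PermChar
import Cfsg.Agent.Lib.Char.Monomial
import Mathlib.GroupTheory.Solvable

/-!
# Relative M-groups
-/

set_option linter.style.haveILetI false
set_option linter.unusedSectionVars false
set_option maxHeartbeats 800000

namespace Cfsg.Agent.Char.RelMonomial

open scoped ComplexConjugate commutatorElement
open Cfsg.Agent.Char

universe u

variable {G : Type u} [Group G] [Fintype G]

theorem indFun_top {χ : G → ℂ} (hχ : Cfsg.IsClassFunction G χ) :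
    Cfsg.indFun (⊤ : Subgroup G) (fun x : (⊤ : Subgroup G) => χ x) = χ := by
  funext g
  rw [indFun_apply, Finset.sum_congr rfl fun x _ => show
    Cfsg.extendByZero (⊤ : Subgroup G) (fun y : (⊤ : Subgroup G) => χ y) (x⁻¹ * g * x) = χ g by
      rw [extendByZero_mem _ _ (Subgroup.mem_top _)]
      have := hχ g x⁻¹
      rwa [inv_inv] at this,
    Finset.sum_const, Finset.card_univ, nsmul_eq_mul, Subgroup.card_top,
    ← Nat.card_eq_fintype_card, ← mul_assoc,
    inv_mul_cancel₀ (Nat.cast_ne_zero.mpr Nat.card_pos.ne'), one_mul]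

/-- If an induced character stays irreducible on `N` then so does the inducing character on the
intersection. -/
theorem isIrr_restrict_inducing (T N : Subgroup G) [Fintype T] [Fintype N] {η : T → ℂ}
    (hη : Cfsg.IsIrrCharacter T η)
    (hirrN : Cfsg.IsIrrCharacter N (fun n : N => Cfsg.indFun T η n)) :
    Cfsg.IsIrrCharacter (N.subgroupOf T) (fun d => η d) := by
  classical
  set D := T.subgroupOf N
  haveI : Fintype D := Fintype.ofFinite D
  let iT : D →* T := (N.subtype.comp D.subtype).codRestrict T fun d => Subgroup.mem_subgroupOf.mp d.2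
  have hηc := IsIrrCharacter.isCharacter hη
  have hψ := isCharacter_indFun T hηc
  have hψcl := IsCharacter.isClassFunction hψ
  set ψN : N → ℂ := fun n => Cfsg.indFun T η n with hψN
  have hβ : Cfsg.IsCharacter D (fun d => η (iT d)) := IsCharacter.comp hηc iT
  obtain ⟨a, -, ha⟩ := IsIrrCharacter.exists_degree hη
  obtain ⟨α, hα⟩ := IsCharacter.exists_constituent hβ fun h =>
    IsIrrCharacter.one_ne_zero hη (by simpa using congrFun h 1)
  obtain ⟨b, -, hb⟩ := IsIrrCharacter.exists_degree α.2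
  have hres : Cfsg.IsCharacter T (fun t : T => Cfsg.indFun T η t) := IsCharacter.restrict hψ T
  have hcon : Cfsg.classInner (fun t : T => Cfsg.indFun T η t) η ≠ 0 := by
    rw [← classInner_indFun_right T η hψcl]
    intro h
    have := classInner_self_eq_zero h
    exact IsIrrCharacter.one_ne_zero hη (by
      have h1 := congrFun this 1
      rw [indFun_one_apply, Pi.zero_apply, mul_eq_zero] at h1
      exact h1.resolve_left (Nat.cast_ne_zero.mpr Subgroup.index_ne_zero_of_finite))
  have hDψ : Cfsg.classInner (fun d : D => ψN d) (α : D → ℂ) ≠ 0 := by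
    obtain ⟨m, hm⟩ := IsCharacter.exists_decomp hres
    choose c hc using fun τ : Cfsg.IrrCharacter T => IsCharacter.exists_classInner_nat
      (IsCharacter.comp (IsIrrCharacter.isCharacter τ.2) iT) (IsIrrCharacter.isCharacter α.2)
    have e : (fun d : D => ψN d) = ∑ τ : Cfsg.IrrCharacter T, (m τ : ℂ) • fun d => (τ : T → ℂ) (iT d) := by
      funext d
      have h := congrFun hm (iT d)
      simp only [Finset.sum_apply, Pi.smul_apply] at h ⊢
      exact h
    have hmη : m ⟨η, hη⟩ ≠ 0 := by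
      rw [hm, show η = ((⟨η, hη⟩ : Cfsg.IrrCharacter T) : T → ℂ) from rfl, classInner_combination,
        Nat.cast_ne_zero] at hcon
      exact hcon
    have hcη : c ⟨η, hη⟩ ≠ 0 := fun h0 => hα (by rw [hc ⟨η, hη⟩, h0, Nat.cast_zero])
    rw [e, classInner_sum_left, Finset.sum_congr rfl fun τ _ => by
      rw [classInner_smul_left, hc, ← Nat.cast_mul], ← Nat.cast_sum, Nat.cast_ne_zero]
    intro h
    exact mul_ne_zero hmη hcη (Finset.sum_eq_zero_iff.mp h ⟨η, hη⟩ (Finset.mem_univ _))
  have hind : Cfsg.classInner (Cfsg.indFun D (α : D → ℂ)) ψN ≠ 0 := by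
    rw [classInner_indFun_left D _ (IsCharacter.isClassFunction (IsIrrCharacter.isCharacter hirrN)),
      classInner_comm_of_isCharacter (IsIrrCharacter.isCharacter α.2)
        (IsCharacter.restrict (IsIrrCharacter.isCharacter hirrN) D)]
    exact hDψ
  have hle : T.index * a ≤ D.index * b := by
    refine degree_le_of_constituent (isCharacter_indFun D (IsIrrCharacter.isCharacter α.2)) hirrN
      hind ?_ ?_
    · rw [indFun_one_apply, hb, Nat.cast_mul]
    · show Cfsg.indFun T η ((1 : N) : G) = _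
      rw [OneMemClass.coe_one, indFun_one_apply, ha, Nat.cast_mul]
  have hidx : D.index ≤ T.index := by
    show T.relIndex N ≤ T.index
    exact (Subgroup.relIndex_le_of_le_right (H := T) (le_top : N ≤ ⊤)
      (by rw [Subgroup.relIndex_top_right]; exact Subgroup.index_ne_zero_of_finite)).trans_eq
      (Subgroup.relIndex_top_right T)
  have hba : b ≤ a := degree_le_of_constituent hβ α.2 hα (by rw [map_one, ha]) hb
  have hab : a ≤ b := Nat.le_of_mul_le_mul_left (hle.trans (Nat.mul_le_mul_right b hidx))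
    (Nat.pos_of_ne_zero Subgroup.index_ne_zero_of_finite)
  have heq : (fun d => η (iT d)) = (α : D → ℂ) := eq_of_constituent_degree hβ α.2 hα
    (by rw [map_one, ha, hb, le_antisymm hab hba])
  let sw : N.subgroupOf T →* D :=
    { toFun := fun d => ⟨⟨((d : T) : G), Subgroup.mem_subgroupOf.mp d.2⟩,
        Subgroup.mem_subgroupOf.mpr (d : T).2⟩
      map_one' := rfl
      map_mul' := fun _ _ => rfl }
  have hsw : Function.Surjective sw := fun d =>
    ⟨⟨⟨((d : N) : G), Subgroup.mem_subgroupOf.mp d.2⟩, Subgroup.mem_subgroupOf.mpr (d : N).2⟩, rfl⟩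
  have hirr := IsIrrCharacter.comp α.2 sw hsw
  rw [← heq] at hirr
  exact hirr

/-- Chief factors of non-square order: every character is induced from one irreducible on `N`. -/
theorem exists_relative : ∀ (n : ℕ) (G : Type u) [Group G] [Fintype G], Nat.card G = n →
    ∀ (N : Subgroup G) [N.Normal], Group.IsSolvable (G ⧸ N) →
    (∀ (H K L : Subgroup G), N ≤ L → L < K → K ≤ H → (∀ h ∈ H, ∀ k ∈ K, h * k * h⁻¹ ∈ K) →
      (∀ h ∈ H, ∀ l ∈ L, h * l * h⁻¹ ∈ L) →
      (∀ M : Subgroup G, L ≤ M → M ≤ K → (∀ h ∈ H, ∀ m ∈ M, h * m * h⁻¹ ∈ M) → M = L ∨ M = K) →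
      ¬ IsSquare (L.relIndex K)) →
    ∀ χ : G → ℂ, Cfsg.IsIrrCharacter G χ → ∃ (H : Subgroup G) (hNH : N ≤ H) (ψ : H → ℂ),
      Cfsg.IsIrrCharacter H ψ ∧ Cfsg.indFun H ψ = χ ∧
      Cfsg.IsIrrCharacter N (fun n : N => ψ ⟨(n : G), hNH n.2⟩) := by
  classical
  intro n
  induction n using Nat.strong_induction_on with
  | _ n ih =>
  intro G _ _ hn N hNn hsolv hchief χ hχ
  by_cases hN : Cfsg.IsIrrCharacter N (fun x : N => χ x)
  · refine ⟨⊤, le_top, fun x => χ x, ?_, indFun_top
      (IsCharacter.isClassFunction (IsIrrCharacter.isCharacter hχ)), hN⟩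
    exact IsIrrCharacter.comp hχ (⊤ : Subgroup G).subtype fun g => ⟨⟨g, Subgroup.mem_top g⟩, rfl⟩
  -- the lowest normal subgroup with irreducible restriction
  obtain ⟨K, -, hKmin⟩ := Set.Finite.exists_le_minimal
    (Set.toFinite {M : Subgroup G | M.Normal ∧ N ≤ M ∧ Cfsg.IsIrrCharacter M (fun x : M => χ x)})
    (a := (⊤ : Subgroup G)) ⟨inferInstance, le_top,
      IsIrrCharacter.comp hχ (⊤ : Subgroup G).subtype fun g => ⟨⟨g, Subgroup.mem_top g⟩, rfl⟩⟩
  obtain ⟨hKn, hNK, hKirr⟩ := hKmin.prop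
  have hNKne : N ≠ K := fun e => hN (by subst e; exact hKirr)
  obtain ⟨L, -, hLmax⟩ := Set.Finite.exists_le_maximal
    (Set.toFinite {M : Subgroup G | M.Normal ∧ N ≤ M ∧ M < K})
    (a := N) ⟨hNn, le_rfl, lt_of_le_of_ne hNK hNKne⟩
  obtain ⟨hLn, hNL, hLK⟩ := hLmax.prop
  haveI := hKn
  haveI := hLn
  have hchiefG : ∀ M : Subgroup G, M.Normal → L ≤ M → M ≤ K → M = L ∨ M = K := by
    intro M hM hLM hMK
    by_cases h : M = K
    · exact Or.inr h
    · exact Or.inl (le_antisymm (hLmax.le_of_ge ⟨hM, hNL.trans hLM, lt_of_le_of_ne hMK h⟩ hLM) hLM)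
  have hab : ⁅K, K⁆ ≤ L := by
    rcases hchiefG (⁅K, K⁆ ⊔ L) inferInstance le_sup_right
      (sup_le (Subgroup.commutator_le_right K K) hLK.le) with h | h
    · exact le_sup_left.trans h.le
    · exfalso
      let q : G ⧸ N →* G ⧸ L := QuotientGroup.map N L (MonoidHom.id G) hNL
      have hq : Function.Surjective q := fun y => by
        obtain ⟨x, rfl⟩ := QuotientGroup.mk_surjective y
        exact ⟨x, rfl⟩
      haveI : Group.IsSolvable (G ⧸ N) := hsolv
      haveI : Group.IsSolvable (G ⧸ L) := Group.isSolvable_of_surjective hq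
      have hne : K.map (QuotientGroup.mk' L) ≠ ⊥ := by
        rw [Ne, Subgroup.map_eq_bot_iff, QuotientGroup.ker_mk']
        exact fun hle => hLK.ne (le_antisymm hLK.le hle)
      refine (Group.IsSolvable.commutator_lt_of_ne_bot hne).ne ?_
      conv_rhs => rw [← h, Subgroup.map_sup, Subgroup.map_commutator,
        (Subgroup.map_eq_bot_iff L).mpr (QuotientGroup.ker_mk' L).ge, sup_bot_eq]
  haveI : Fintype K := Fintype.ofFinite K
  haveI : Fintype L := Fintype.ofFinite L
  have hχc := IsIrrCharacter.isCharacter hχ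
  have hinvK : ∀ (g : G) (k : K), χ (conjHom K g k : G) = χ k := fun g k =>
    IsCharacter.isClassFunction hχc (k : G) g
  rcases ChiefRestrict.trichotomy K L hLK hchiefG hab (fun x : K => χ x) hKirr hinvK with
    h | ⟨φ, e, -, -, he⟩ | ⟨F, hFirr, hFcard, hFsum⟩
  · exact absurd (hKmin.le_of_le ⟨hLn, hNL, h⟩ hLK.le) (fun hle => hLK.ne (le_antisymm hLK.le hle))
  · exact absurd ⟨e, by rw [← he, sq]⟩ (hchief ⊤ K L hNL hLK le_top
      (fun g _ k hk => hKn.conj_mem k hk g) (fun g _ l hl => hLn.conj_mem l hl g)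
      fun M hLM hMK hM => hchiefG M ⟨fun m hm g => hM g (Subgroup.mem_top g) m hm⟩ hLM hMK)
  · have hidx : 1 < L.relIndex K := by
      have h1 : L.relIndex K ≠ 1 := fun e => hLK.not_ge (Subgroup.relIndex_eq_one.mp e)
      have h2 : L.relIndex K ≠ 0 := Subgroup.index_ne_zero_of_finite
      omega
    obtain ⟨φ, hφ, φ', hφ', hne⟩ := Finset.one_lt_card.mp (hFcard ▸ hidx)
    have hval : ∀ ψ ∈ F, Cfsg.classInner (fun x : L => χ x) ψ = 1 := fun ψ hψ => by
      rw [show (fun x : L => χ x) = ∑ φ ∈ F, φ from hFsum, classInner_sum_left,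
        Finset.sum_congr rfl fun a ha => classInner_irr (hFirr a ha) (hFirr ψ hψ),
        Finset.sum_ite_eq', if_pos hψ]
    have hcon : Cfsg.classInner (fun x : L => χ x) φ ≠ 0 := by rw [hval φ hφ]; exact one_ne_zero
    set T := inertia L φ with hTdef
    haveI : Fintype T := Fintype.ofFinite T
    have hTne : T ≠ ⊤ := by
      intro htop
      obtain ⟨g, hg⟩ := (mem_conjOrbit L).mp (restrict_constituent_conj L hχ (hFirr φ hφ)
        (hFirr φ' hφ') hcon (by rw [hval φ' hφ']; exact one_ne_zero))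
      exact hne (by rw [hg, (mem_inertia L).mp (show g ∈ T by rw [htop]; trivial)])
    have hLT : L ≤ T :=
      le_inertia L (IsCharacter.isClassFunction (IsIrrCharacter.isCharacter (hFirr φ hφ)))
    have hNT : N ≤ T := hNL.trans hLT
    obtain ⟨η, hη, hind, -⟩ :=
      clifford_correspondence_surjective L (hFirr φ hφ) hTdef hLT hχ hcon
    have hlt : Nat.card T < n := by
      rw [← hn]
      exact lt_of_le_of_ne (Nat.le_of_dvd Nat.card_pos (Subgroup.card_subgroup_dvd_card T))
        fun e => hTne (Subgroup.eq_top_of_card_eq _ e)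
    have hs : Group.IsSolvable (T ⧸ N.subgroupOf T) := by
      haveI : Group.IsSolvable (G ⧸ N) := hsolv
      refine Group.isSolvable_of_isSolvable_injective
        (f := QuotientGroup.map (N.subgroupOf T) N T.subtype fun x hx => hx) ?_
      rw [injective_iff_map_eq_one]
      intro y hy
      obtain ⟨x, rfl⟩ := QuotientGroup.mk_surjective y
      exact (QuotientGroup.eq_one_iff x).mpr
        (Subgroup.mem_subgroupOf.mpr ((QuotientGroup.eq_one_iff (x : G)).mp hy))
    have hch : ∀ (H K' L' : Subgroup T), N.subgroupOf T ≤ L' → L' < K' → K' ≤ H →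
        (∀ h ∈ H, ∀ k ∈ K', h * k * h⁻¹ ∈ K') → (∀ h ∈ H, ∀ l ∈ L', h * l * h⁻¹ ∈ L') →
        (∀ M : Subgroup T, L' ≤ M → M ≤ K' → (∀ h ∈ H, ∀ m ∈ M, h * m * h⁻¹ ∈ M) →
          M = L' ∨ M = K') → ¬ IsSquare (L'.relIndex K') := by
      intro H K' L' h1 h2 h3 h4 h5 h6
      rw [← Subgroup.relIndex_map_map_of_injective L' K' T.subtype_injective]
      refine hchief (H.map T.subtype) _ _ ?_ ?_ (Subgroup.map_mono h3) ?_ ?_ ?_
      · intro x hx
        exact ⟨⟨x, hNT hx⟩, h1 (Subgroup.mem_subgroupOf.mpr hx), rfl⟩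
      · refine lt_of_le_of_ne (Subgroup.map_mono h2.le) fun e =>
          h2.ne (Subgroup.map_injective T.subtype_injective e)
      · rintro _ ⟨h, hh, rfl⟩ _ ⟨k, hk, rfl⟩
        exact ⟨_, h4 h hh k hk, rfl⟩
      · rintro _ ⟨h, hh, rfl⟩ _ ⟨k, hk, rfl⟩
        exact ⟨_, h5 h hh k hk, rfl⟩
      · intro M hLM hMK hM
        have hMT : M ≤ T := hMK.trans (Subgroup.map_subtype_le K')
        have hMe : M = (M.subgroupOf T).map T.subtype :=
          (Subgroup.map_subgroupOf_eq_of_le hMT).symm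
        rcases h6 (M.subgroupOf T)
          (fun x hx => Subgroup.mem_subgroupOf.mpr (hLM ⟨x, hx, rfl⟩))
          (fun x hx => by
            obtain ⟨y, hy, e⟩ := hMK (Subgroup.mem_subgroupOf.mp hx)
            exact T.subtype_injective e ▸ hy)
          (fun h hh m hm => Subgroup.mem_subgroupOf.mpr (hM _ ⟨h, hh, rfl⟩ _ hm)) with h | h
        · left; rw [hMe, h]
        · right; rw [hMe, h]
    obtain ⟨U, hNU, ψ, hψ, hψind, hψN⟩ := ih _ hlt T rfl (N.subgroupOf T) hs hch η hη
    let eU := U.equivMapOfInjective T.subtype T.subtype_injective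
    have hNU' : N ≤ U.map T.subtype := fun x hx =>
      ⟨⟨x, hNT hx⟩, hNU (Subgroup.mem_subgroupOf.mpr hx), rfl⟩
    refine ⟨U.map T.subtype, hNU', fun y => ψ (eU.symm y),
      IsIrrCharacter.comp hψ eU.symm.toMonoidHom eU.symm.surjective, ?_, ?_⟩
    · rw [← hind, ← hψind]
      exact (indFun_map T U ψ _ fun u => congrArg ψ (eU.symm_apply_apply u)).symm
    · have h := IsIrrCharacter.comp hψN (Subgroup.subgroupOfEquivOfLe hNT).symm.toMonoidHom
        (Subgroup.subgroupOfEquivOfLe hNT).symm.surjective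
      convert h using 1
      funext x
      refine congrArg ψ (eU.injective ?_)
      rw [MulEquiv.apply_symm_apply]
      exact Subtype.ext rfl

/-- A character irreducible on a normal subgroup with abelian Sylow subgroups is monomial. -/
theorem exists_monomial : ∀ (n : ℕ) (G : Type u) [Group G] [Fintype G] [Group.IsSolvable G],
    Nat.card G = n → ∀ (N : Subgroup G) [N.Normal],
    (∀ (p : ℕ), p.Prime → ∀ P : Subgroup G, P ≤ N → IsPGroup p P →
      ∀ a ∈ P, ∀ b ∈ P, a * b = b * a) →
    ∀ χ : G → ℂ, Cfsg.IsIrrCharacter G χ → Cfsg.IsIrrCharacter N (fun x : N => χ x) →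
      ∃ (U : Subgroup G) (lam : U →* ℂˣ), χ = Cfsg.indFun U (fun x => (lam x : ℂ)) := by
  classical
  intro n
  induction n using Nat.strong_induction_on with
  | _ n ih =>
  intro G _ _ _ hn N hNn hP χ hχ hχN
  have hcl := IsCharacter.isClassFunction (IsIrrCharacter.isCharacter hχ)
  haveI : Fintype N := Fintype.ofFinite N
  obtain ⟨d, ρ, hρ, rfl⟩ := hχ
  by_cases hsc : ∀ x ∈ N, ∃ c : ℂ, ρ x = c • LinearMap.id
  · -- scalars on `N`: degree one
    have h1 : ρ.character 1 = 1 := by
      have h := classInner_self_irr hχN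
      unfold Cfsg.classInner at h
      rw [Finset.sum_congr rfl fun (x : N) _ =>
        show (fun y : N => ρ.character y) x * conj ((fun y : N => ρ.character y) x) = (d : ℂ) ^ 2 by
        show ρ.character x * conj (ρ.character x) = _
        rw [Complex.mul_conj', (norm_char_eq_iff ρ (x : G)).mpr (hsc x x.2)]
        simp, Finset.sum_const, Finset.card_univ, ← Nat.card_eq_fintype_card, nsmul_eq_mul,
        ← mul_assoc, inv_mul_cancel₀ (Nat.cast_ne_zero.mpr Nat.card_pos.ne'), one_mul] at h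
      have hd : d = 1 := by
        have : d ^ 2 = 1 := by exact_mod_cast h
        exact (Nat.pow_eq_one.mp this).resolve_right (by norm_num)
      rw [Representation.char_one, Module.finrank_fin_fun, hd, Nat.cast_one]
    obtain ⟨f, hf⟩ := exists_hom_of_degree_one (isCharacter_of_rep ρ) h1
    refine ⟨⊤, f.comp (⊤ : Subgroup G).subtype, ?_⟩
    conv_lhs => rw [← indFun_top hcl, hf]
    rfl
  obtain ⟨B, -, hBmin⟩ := Set.Finite.exists_le_minimal
    (Set.toFinite {M : Subgroup G | M.Normal ∧ M ≤ N ∧ ¬ ∀ x ∈ M, ∃ c : ℂ, ρ x = c • LinearMap.id})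
    (a := N) ⟨hNn, le_rfl, hsc⟩
  obtain ⟨hBn, hBN, hBns⟩ := hBmin.prop
  haveI := hBn
  haveI : Fintype B := Fintype.ofFinite B
  have hBne : B ≠ ⊥ := fun e => hBns fun x hx => ⟨1, by
    rw [e, Subgroup.mem_bot] at hx
    rw [hx, map_one, one_smul]
    rfl⟩
  have hcomm : ∀ x ∈ ⁅B, B⁆, ∃ c : ℂ, ρ x = c • LinearMap.id := by
    by_contra hc
    exact (Group.IsSolvable.commutator_lt_of_ne_bot hBne).not_ge (hBmin.le_of_le
      ⟨inferInstance, (Subgroup.commutator_le_right B B).trans hBN, hc⟩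
      (Subgroup.commutator_le_right B B))
  -- the image of `B` is abelian
  let f : B →* (Module.End ℂ (Fin d → ℂ))ˣ := ρ.toHomUnits.comp B.subtype
  haveI : Finite f.range := Finite.of_surjective _ f.rangeRestrict_surjective
  have hcen : ∀ a b : f.range, ⁅a, b⁆ ∈ Subgroup.center f.range := by
    rintro ⟨_, x, rfl⟩ ⟨_, y, rfl⟩
    rw [Subgroup.mem_center_iff]
    intro g
    obtain ⟨c, hc⟩ := hcomm _ (Subgroup.commutator_mem_commutator x.2 y.2)
    have hval : ((⁅(⟨f x, x, rfl⟩ : f.range), ⟨f y, y, rfl⟩⁆ : f.range) :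
        (Module.End ℂ (Fin d → ℂ))ˣ) = f ⁅x, y⁆ := by
      simp [commutatorElement_def]
    refine Subtype.ext (Units.ext ?_)
    rw [Subgroup.coe_mul, Subgroup.coe_mul, hval, Units.val_mul, Units.val_mul]
    show (g.1 : Module.End ℂ (Fin d → ℂ)) * ρ ((⁅x, y⁆ : B) : G) = ρ ((⁅x, y⁆ : B) : G) * g.1
    rw [show ((⁅x, y⁆ : B) : G) = ⁅(x : G), (y : G)⁆ by simp [commutatorElement_def], hc,
      mul_smul_comm, smul_mul_assoc]
    rfl
  haveI hnil : Group.IsNilpotent f.range := by
    letI : CommGroup (f.range ⧸ Subgroup.center f.range) :=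
      { (inferInstance : Group (f.range ⧸ Subgroup.center f.range)) with
        mul_comm := fun a b => by
          obtain ⟨a, rfl⟩ := QuotientGroup.mk_surjective a
          obtain ⟨b, rfl⟩ := QuotientGroup.mk_surjective b
          exact commutatorElement_eq_one_iff_mul_comm.mp
            ((QuotientGroup.eq_one_iff _).mpr (hcen a b)) }
    exact Group.of_quotient_center_nilpotent CommGroup.isNilpotent
  have hRcomm : ∀ a b : f.range, a * b = b * a := by
    obtain ⟨e⟩ := (Group.isNilpotent_of_finite_tfae (G := f.range)).out 0 4 rfl rfl |>.mp hnil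
    have hS : ∀ (p : (Nat.card f.range).primeFactors) (Q : Sylow p f.range),
        ∀ u v : (Q : Subgroup f.range), u * v = v * u := by
      intro p Q u v
      haveI : Fact (Nat.Prime p) := Fact.mk (Nat.prime_of_mem_primeFactors p.2)
      obtain ⟨P, rfl⟩ := Sylow.mapSurjective_surjective f.rangeRestrict_surjective p Q
      obtain ⟨x, hx, hxu⟩ : (u : f.range) ∈ (P : Subgroup B).map f.rangeRestrict := u.2
      obtain ⟨y, hy, hyv⟩ : (v : f.range) ∈ (P : Subgroup B).map f.rangeRestrict := v.2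
      have h := hP p Fact.out ((P : Subgroup B).map B.subtype)
        ((Subgroup.map_subtype_le _).trans hBN) (P.isPGroup'.map B.subtype) _ ⟨x, hx, rfl⟩ _
        ⟨y, hy, rfl⟩
      apply Subtype.ext
      rw [Subgroup.coe_mul, Subgroup.coe_mul, ← hxu, ← hyv, ← map_mul, ← map_mul]
      exact congrArg _ (Subtype.ext h)
    intro a b
    obtain ⟨u, rfl⟩ := e.surjective a
    obtain ⟨v, rfl⟩ := e.surjective b
    rw [← map_mul, ← map_mul]
    exact congrArg e (funext fun p => funext fun Q => hS p Q _ _)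
  have hker : ∀ x y : B, ρ ((x * y * x⁻¹ * y⁻¹ : B) : G) = 1 := fun x y => by
    have h : f (x * y * x⁻¹ * y⁻¹) = 1 := by
      have h1 := congrArg Subtype.val (hRcomm ⟨f x, x, rfl⟩ ⟨f y, y, rfl⟩)
      simp only [Subgroup.coe_mul] at h1
      rw [map_mul, map_mul, map_mul, map_inv, map_inv, h1]
      group
    exact congrArg Units.val h
  obtain ⟨θ, hθ⟩ := exists_restrict_constituent (isIrrCharacter_of_rep ρ) B
  set T := inertia B (θ : B → ℂ) with hTdef
  haveI : Fintype T := Fintype.ofFinite T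
  have hTne : T ≠ ⊤ := by
    intro htop
    have horb : conjOrbit B (θ : B → ℂ) = {(θ : B → ℂ)} := by
      ext φ
      rw [mem_conjOrbit, Finset.mem_singleton]
      have hall : ∀ g : G, conjChar B g (θ : B → ℂ) = θ := fun g =>
        (mem_inertia B).mp (show g ∈ T by rw [htop]; trivial)
      exact ⟨fun ⟨g, hg⟩ => hg.trans (hall g), fun h => ⟨1, h.trans (hall 1).symm⟩⟩
    have hres := clifford B (isIrrCharacter_of_rep ρ) θ.2 hθ
    rw [horb, Finset.sum_singleton] at hres
    have hθ1 : (θ : B → ℂ) 1 = 1 := degree_one_of_commutators θ.2 fun x y => by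
      have e1 := congrFun hres (x * y * x⁻¹ * y⁻¹)
      have e2 := congrFun hres 1
      simp only [Pi.smul_apply, smul_eq_mul] at e1 e2
      refine mul_left_cancel₀ hθ (e1.symm.trans (Eq.trans ?_ e2))
      show LinearMap.trace ℂ _ (ρ _) = LinearMap.trace ℂ _ (ρ _)
      rw [hker, OneMemClass.coe_one, MonoidHom.map_one]
    obtain ⟨l, hl⟩ := exists_hom_of_degree_one (IsIrrCharacter.isCharacter θ.2) hθ1
    apply hBns
    intro x hx
    have e1 := congrFun hres 1
    have ex : ρ.character x = Cfsg.classInner (fun h : B => ρ.character h) (θ : B → ℂ) *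
        (θ : B → ℂ) ⟨x, hx⟩ := congrFun hres ⟨x, hx⟩
    simp only [Pi.smul_apply, smul_eq_mul, OneMemClass.coe_one, hθ1, mul_one,
      Representation.char_one] at e1
    rw [← e1, hl] at ex
    refine (norm_char_eq_iff ρ x).mp ?_
    rw [ex, norm_mul, Complex.norm_natCast,
      norm_eq_one_of_pow (orderOf_pos (⟨x, hx⟩ : B)).ne' (by
        rw [← Units.val_pow_eq_pow_val, ← map_pow, pow_orderOf_eq_one, map_one, Units.val_one]),
      mul_one]
  have hBT : B ≤ T := le_inertia B (IsCharacter.isClassFunction (IsIrrCharacter.isCharacter θ.2))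
  obtain ⟨η, hη, hind, -⟩ :=
    clifford_correspondence_surjective B θ.2 hTdef hBT (isIrrCharacter_of_rep ρ) hθ
  have hlt : Nat.card T < n := by
    rw [← hn]
    exact lt_of_le_of_ne (Nat.le_of_dvd Nat.card_pos (Subgroup.card_subgroup_dvd_card T))
      fun e => hTne (Subgroup.eq_top_of_card_eq _ e)
  have hηN := isIrr_restrict_inducing T N hη (by rw [hind]; exact hχN)
  obtain ⟨U, lam, hlam⟩ := ih _ hlt T rfl (N.subgroupOf T) (fun p hp P hPN hPp a ha b hb =>
    T.subtype_injective (by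
      simpa using hP p hp (P.map T.subtype) (by
        rintro _ ⟨z, hz, rfl⟩
        exact Subgroup.mem_subgroupOf.mp (hPN hz)) (hPp.map T.subtype) _ ⟨a, ha, rfl⟩ _ ⟨b, hb, rfl⟩))
    η hη hηN
  let e := U.equivMapOfInjective T.subtype T.subtype_injective
  refine ⟨U.map T.subtype, lam.comp e.symm.toMonoidHom, ?_⟩
  rw [← hind, hlam]
  exact indFun_map T U _ _ fun u => congrArg (fun y => (lam y : ℂ)) (e.symm_apply_apply u)

theorem sylow_abelian_pgroup {G : Type u} [Group G] [Finite G] (N : Subgroup G)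
    (hab : ∀ (p : ℕ) [Fact p.Prime] (P : Sylow p N), ∀ a ∈ P, ∀ b ∈ P, a * b = b * a)
    (p : ℕ) (hp : p.Prime) (P : Subgroup G) (hPN : P ≤ N) (hPp : IsPGroup p P) :
    ∀ a ∈ P, ∀ b ∈ P, a * b = b * a := by
  haveI := Fact.mk hp
  intro a ha b hb
  obtain ⟨Q, hQ⟩ := (hPp.comap_of_injective N.subtype N.subtype_injective).exists_le_sylow
  exact congrArg Subtype.val (hab p Q ⟨a, hPN ha⟩ (hQ ha) ⟨b, hPN hb⟩ (hQ hb))

end Cfsg.Agent.Char.RelMonomial
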