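import Cfsg.Agent.Lib.Char.TIComplement
import Cfsg.Agent.Lib.FGStruct.Counting

/-!
# The Frobenius-Wielandt theorem without a complement
-/

set_option autoImplicit false
set_option linter.style.haveILetI false

namespace Cfsg.Agent.Char.RelFrob

open Cfsg Cfsg.Agent Cfsg.Agent.Char

universe u

variable {G : Type u} [Group G] [Finite G]

/-- A subgroup `X` meeting its conjugates by outside elements inside its normal subgroup `X₀` has a
normal supplement meeting it in `X₀`. -/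
theorem exists_normal_supplement {X X₀ : Subgroup G} (hX : RelMalnormal X X₀) (hX0X : X₀ ≤ X)
    (hX0n : (X₀.subgroupOf X).Normal) :
    ∃ N : Subgroup G, N.Normal ∧ N ⊓ X = X₀ ∧ N ⊔ X = ⊤ := by
  classical
  haveI := hX0n
  haveI : Fintype G := Fintype.ofFinite G
  haveI : Fintype X := Fintype.ofFinite X
  let π : X →* X ⧸ X₀.subgroupOf X := QuotientGroup.mk' _
  haveI : Fintype (X ⧸ X₀.subgroupOf X) := Fintype.ofFinite _
  have hπ0 : ∀ x : X, (x : G) ∈ X₀ → π x = 1 := fun x hx =>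
    (QuotientGroup.eq_one_iff x).mpr (Subgroup.mem_subgroupOf.mpr hx)
  have hext : ∀ φ : Cfsg.IrrCharacter (X ⧸ X₀.subgroupOf X), ∃ χ : G → ℂ, Cfsg.IsIrrCharacter G χ ∧
      (∀ x : X, (x : G) ∉ X₀ → χ (x : G) = (φ : X ⧸ X₀.subgroupOf X → ℂ) (π x)) ∧
      χ 1 = (φ : X ⧸ X₀.subgroupOf X → ℂ) 1 ∧
      ∀ g : G, (∀ x : G, x⁻¹ * g * x ∈ X → x⁻¹ * g * x ∈ X₀) →
        χ g = (φ : X ⧸ X₀.subgroupOf X → ℂ) 1 := by
    intro φ
    obtain ⟨χ, hirr, hon, h1, hoff⟩ := exists_extension hX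
      (IsIrrCharacter.comp φ.2 π (QuotientGroup.mk'_surjective _))
      (fun x hx => by simp only [hπ0 x hx, map_one])
    exact ⟨χ, hirr, fun x hx => hon x hx, by rw [h1, map_one], fun g hg => by rw [hoff g hg, map_one]⟩
  choose χ hirr hon hχ1 hoff using hext
  choose N hNn hNmem _hNmul using fun φ => IsCharacter.exists_kernel (IsIrrCharacter.isCharacter (hirr φ))
  have hoffmem : ∀ g : G, (∀ x : G, x⁻¹ * g * x ∈ X → x⁻¹ * g * x ∈ X₀) → g ∈ ⨅ φ, N φ :=
    fun g hg => Subgroup.mem_iInf.mpr fun φ => (hNmem φ g).mpr (by rw [hoff φ g hg, hχ1 φ])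
  haveI hKn : (⨅ φ, N φ).Normal := Subgroup.normal_iInf_normal hNn
  refine ⟨⨅ φ, N φ, hKn, le_antisymm ?_ (le_inf (fun x hx => hoffmem x fun y hy => ?_) hX0X), ?_⟩
  · intro x hx
    obtain ⟨hxK, hxX⟩ := Subgroup.mem_inf.1 hx
    by_contra hx0
    have hc : IsConj (π ⟨x, hxX⟩) 1 := (isConj_iff_forall_irr _ _).mpr fun φ => by
      rw [← hon φ ⟨x, hxX⟩ hx0, ← hχ1 φ]
      exact (hNmem φ x).mp (Subgroup.mem_iInf.mp hxK φ)
    exact hx0 (Subgroup.mem_subgroupOf.mp ((QuotientGroup.eq_one_iff _).mp (isConj_one_left.mp hc)))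
  · by_cases hyX : y ∈ X
    · have := hX0n.conj_mem ⟨x, hX0X hx⟩ (Subgroup.mem_subgroupOf.mpr hx) ⟨y⁻¹, X.inv_mem hyX⟩
      rw [Subgroup.mem_subgroupOf] at this
      simpa using this
    · refine hX y hyX _ hy ?_
      simpa [mul_assoc] using hX0X hx
  · refine Counting.eq_top_of_conj_cover _ fun g => ?_
    by_cases hg : ∀ x : G, x⁻¹ * g * x ∈ X → x⁻¹ * g * x ∈ X₀
    · exact ⟨1, by simpa using Subgroup.mem_sup_left (hoffmem g hg)⟩
    · push Not at hg
      obtain ⟨y, hy, -⟩ := hg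
      exact ⟨y, Subgroup.mem_sup_right hy⟩

end Cfsg.Agent.Char.RelFrob
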