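import Cfsg.Agent.Lib.Char.Clifford
import Cfsg.Agent.Lib.Char.Degree
import Cfsg.Agent.Lib.Char.Orbit
import Mathlib

/-!
# A faithful character that is a root of unity on all `p`-singular elements
-/

set_option autoImplicit false
set_option linter.style.haveILetI false
set_option linter.unusedSectionVars false

namespace Cfsg.Agent.RootUnity

open Cfsg Cfsg.Agent.Char Cfsg.Agent.CharX
open scoped ComplexConjugate Classical

universe u

variable {G : Type u} [Group G] [Fintype G]

theorem mem_center_of_norm {χ : G → ℂ} (hχ : Cfsg.IsIrrCharacter G χ)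
    (hfaith : ∀ g, χ g = χ 1 → g = 1) {g : G} (hg : (‖χ g‖ : ℂ) = χ 1) :
    g ∈ Subgroup.center G := by
  obtain ⟨n, ρ, hρ, rfl⟩ := hχ
  obtain ⟨c, hc⟩ := (norm_char_eq_iff ρ g).mp (by
    rw [Representation.char_one] at hg
    exact_mod_cast hg)
  refine Subgroup.mem_center_iff.mpr fun h => ?_
  have h1 : ρ (h * g * h⁻¹ * g⁻¹) = 1 := by
    rw [map_mul, map_mul, map_mul, show ρ h * ρ g = ρ g * ρ h by rw [hc]; ext; simp,
      mul_assoc (ρ g), ← map_mul ρ h, mul_inv_cancel, map_one, mul_one, ← map_mul, mul_inv_cancel,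
      map_one]
  have h2 := hfaith (h * g * h⁻¹ * g⁻¹) (by simp [Representation.character, h1])
  rwa [mul_inv_eq_one, mul_inv_eq_iff_eq_mul] at h2

theorem norm_eq_of_conj_mul {z : ℂ} {r : ℝ} (hr : 0 ≤ r) (h : z * conj z = (r : ℂ) ^ 2) :
    ‖z‖ = r := by
  rw [Complex.mul_conj', ← Complex.ofReal_pow, ← Complex.ofReal_pow, Complex.ofReal_inj] at h
  exact (pow_left_inj₀ (norm_nonneg _) hr two_ne_zero).mp h

theorem card_irr_of_comm {A : Type u} [Group A] [Fintype A] (h : ∀ a b : A, a * b = b * a) :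
    Fintype.card (Cfsg.IrrCharacter A) = Nat.card A := by
  rw [← sum_deg_sq (G := A), Finset.card_univ.symm, Finset.card_eq_sum_ones]
  refine Finset.sum_congr rfl fun θ _ => ?_
  have := degree_one_of_comm h θ.2
  rw [irr_deg, Nat.cast_eq_one] at this
  rw [this, one_pow]

/-- The value of a character restricted to a subgroup, via multiplicities. -/
theorem mul_conj_sum {α : Type*} [Fintype α] (f : α → ℂ) :
    (∑ a, f a) * conj (∑ a, f a) = ∑ a, ∑ b, f a * conj (f b) := by
  rw [map_sum, Finset.sum_mul_sum]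

variable (p : ℕ) [Fact p.Prime]

/-- The standing hypotheses. -/
structure Hyp (χ : G → ℂ) (P : Subgroup G) : Prop where
  irr : Cfsg.IsIrrCharacter G χ
  faith : ∀ g, χ g = χ 1 → g = 1
  nl : χ 1 ≠ 1
  normal : P.Normal
  pgroup : IsPGroup p P
  nt : P ≠ ⊥
  unit : ∀ g : G, p ∣ orderOf g → χ g * conj (χ g) = 1

variable {p} {χ : G → ℂ} {P : Subgroup G}

theorem Hyp.dvd_order (h : Hyp p χ P) {x : G} (hx : x ∈ P) (hx1 : x ≠ 1) : p ∣ orderOf x := by
  obtain ⟨k, hk⟩ := IsPGroup.iff_orderOf.mp h.pgroup ⟨x, hx⟩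
  rw [Subgroup.orderOf_mk] at hk
  rcases Nat.eq_zero_or_pos k with rfl | hk0
  · exact absurd (orderOf_eq_one_iff.mp (hk.trans (pow_zero p))) hx1
  · exact hk ▸ dvd_pow_self p hk0.ne'

theorem Hyp.two_le (h : Hyp p χ P) : ∃ d : ℕ, χ 1 = d ∧ 2 ≤ d := by
  obtain ⟨d, hd0, hd⟩ := IsIrrCharacter.exists_degree h.irr
  refine ⟨d, hd, ?_⟩
  have : d ≠ 1 := fun e => h.nl (by rw [hd, e, Nat.cast_one])
  omega

theorem Hyp.center_inf (h : Hyp p χ P) : P ⊓ Subgroup.center G = ⊥ := by
  rw [Subgroup.eq_bot_iff_forall]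
  intro x hx
  by_contra hx1
  obtain ⟨c, hc, hmul, -⟩ := IsIrrCharacter.exists_central_scalar h.irr hx.2
  obtain ⟨d, hd, hd2⟩ := h.two_le
  have h1 := h.unit x (h.dvd_order hx.1 hx1)
  have h2 := hmul 1
  rw [mul_one, hd] at h2
  rw [h2, map_mul, mul_mul_mul_comm, Complex.mul_conj', hc, map_natCast] at h1
  norm_num at h1
  have : d * d = 1 := by exact_mod_cast h1
  have := Nat.eq_one_of_mul_eq_one_left this
  omega

theorem Hyp.sum_sq (h : Hyp p χ P) [Fintype P] :
    ∑ x : P, χ x * conj (χ x) = χ 1 * conj (χ 1) + ((Nat.card P : ℂ) - 1) := by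
  rw [← Finset.add_sum_erase _ _ (Finset.mem_univ (1 : P)), OneMemClass.coe_one]
  congr 1
  rw [Finset.sum_congr rfl (g := fun _ => (1 : ℂ)), Finset.sum_const,
    Finset.card_erase_of_mem (Finset.mem_univ _), Finset.card_univ, ← Nat.card_eq_fintype_card,
    nsmul_one, Nat.cast_sub Nat.card_pos, Nat.cast_one]
  intro x hx
  exact h.unit x (h.dvd_order x.2 fun e => (Finset.mem_erase.mp hx).1 (Subtype.ext e))

theorem arith_key {q m t : ℕ} (hm : 1 ≤ m) (ht1 : 1 ≤ t) (htq : t ≤ q - 1)
    (heq : (m * t) * (m * t) + (q - 1) = q * (m * m * t)) :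
    m = 1 ∧ (t = 1 ∨ t = q - 1) := by
  obtain ⟨s, hs⟩ : ∃ s, q = t + s + 1 := ⟨q - 1 - t, by omega⟩
  subst hs
  simp only [Nat.add_sub_cancel] at heq
  have e : m * m * (t * s) + m * m * t = t + s := by
    have e1 : (t + s + 1) * (m * m * t) = (m * t) * (m * t) + (m * m * (t * s) + m * m * t) := by ring
    omega
  have hmm : 1 ≤ m * m := Nat.one_le_iff_ne_zero.mpr (by positivity)
  have h1 : s ≤ m * m * (t * s) := le_trans (Nat.le_mul_of_pos_left s ht1)
    (Nat.le_mul_of_pos_left _ hmm)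
  have h2 : t ≤ m * m * t := Nat.le_mul_of_pos_left t hmm
  have h3 : m * m * t = t := by omega
  have h4 : m * m = 1 := by
    rcases Nat.lt_or_ge 1 (m * m) with hlt | hge
    · have := Nat.mul_lt_mul_of_pos_right hlt ht1
      omega
    · omega
  have h5 : m = 1 := Nat.eq_one_of_mul_eq_one_left h4
  refine ⟨h5, ?_⟩
  rcases Nat.eq_zero_or_pos s with rfl | hs0
  · right; omega
  · left
    have h6 : m * m * (t * s) = s := by omega
    rw [h4, one_mul] at h6
    exact Nat.eq_of_mul_eq_mul_right hs0 (by rw [h6, one_mul])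

/-- The restriction to `P`. -/
theorem Hyp.restrict (h : Hyp p χ P) [Fintype P] :
    (∀ a b : P, a * b = b * a) ∧ χ 1 = ((Nat.card P - 1 : ℕ) : ℂ) ∧
      (∀ φ : Cfsg.IrrCharacter P, Cfsg.classInner (fun x : P => χ x) φ =
        if (φ : P → ℂ) = fun _ => 1 then 0 else 1) ∧
      (∀ φ φ' : Cfsg.IrrCharacter P, (φ : P → ℂ) ≠ (fun _ => 1) → (φ' : P → ℂ) ≠ (fun _ => 1) →
        ∃ g : G, ∀ (x : P) (hx : g * x * g⁻¹ ∈ P), (φ' : P → ℂ) x = (φ : P → ℂ) ⟨g * x * g⁻¹, hx⟩) := by
  haveI := h.normal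
  have hp : p.Prime := Fact.out
  obtain ⟨d, hd, hd2⟩ := h.two_le
  obtain ⟨θ, hθ⟩ := exists_restrict_constituent h.irr P
  have hres := IsCharacter.restrict (IsIrrCharacter.isCharacter h.irr) P
  obtain ⟨m, hm⟩ : ∃ m : ℕ, Cfsg.classInner (fun x : P => χ x) θ = m :=
    IsCharacter.exists_classInner_nat hres (IsIrrCharacter.isCharacter θ.2)
  obtain ⟨e, he0, he⟩ := IsIrrCharacter.exists_degree θ.2
  set t := (conjOrbit P (θ : P → ℂ)).card with ht
  have hcl := clifford P h.irr θ.2 hθ
  have hdeg : d = m * t * e := by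
    have := clifford_degree P h.irr θ.2 hθ
    rw [hd, hm, he, ← card_conjOrbit] at this
    exact_mod_cast this
  -- the norm
  obtain ⟨r, hr⟩ := IsCharacter.exists_classInner_nat hres hres
  have hsum : ((Nat.card P : ℕ) : ℂ) * r = ((d * d + (Nat.card P - 1) : ℕ) : ℂ) := by
    rw [← hr, Cfsg.classInner, ← mul_assoc, mul_inv_cancel₀ (Nat.cast_ne_zero.mpr Nat.card_pos.ne'),
      one_mul, h.sum_sq, hd, map_natCast, Nat.cast_add, Nat.cast_mul, Nat.cast_sub Nat.card_pos,
      Nat.cast_one]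
  have hsum' : Nat.card P * r = d * d + (Nat.card P - 1) := by exact_mod_cast hsum
  have hq1 : 1 < Nat.card P := (Subgroup.one_lt_card_iff_ne_bot P).mpr h.nt
  obtain ⟨a, ha⟩ := h.pgroup.exists_card_eq
  have hpd : ¬ p ∣ d := by
    intro hdvd
    have ha0 : a ≠ 0 := by rintro rfl; simp only [pow_zero] at ha; omega
    have h1 : p ∣ Nat.card P := ha ▸ dvd_pow_self p ha0
    have h2 : p ∣ d * d + (Nat.card P - 1) := hsum' ▸ h1.mul_right r
    have h3 : p ∣ Nat.card P - 1 := (Nat.dvd_add_right (hdvd.mul_right d)).mp h2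
    have h4 := Nat.dvd_sub h1 h3
    rw [show Nat.card P - (Nat.card P - 1) = 1 by omega, Nat.dvd_one] at h4
    exact hp.ne_one h4
  have hlin : e = 1 := by
    have h1 : e ∣ Nat.card P := by
      have := irr_deg_dvd_card θ
      rwa [show Cfsg.charDegree (θ : P → ℂ) = e by simp [Cfsg.charDegree, he]] at this
    rw [ha] at h1
    obtain ⟨i, hi, rfl⟩ := (Nat.dvd_prime_pow hp).mp h1
    rcases Nat.eq_zero_or_pos i with rfl | hi0
    · rfl
    · exact absurd (hdeg ▸ (dvd_pow_self p hi0.ne').mul_left (m * t)) hpd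
  have horb : ∀ φ ∈ conjOrbit P (θ : P → ℂ), Cfsg.IsIrrCharacter P φ ∧ φ 1 = 1 := fun φ hφ => by
    obtain ⟨g, rfl⟩ := (mem_conjOrbit P).mp hφ
    refine ⟨isIrrCharacter_conjChar P θ.2 g, ?_⟩
    show (θ : P → ℂ) _ = 1
    rw [show (⟨g * ((1 : P) : G) * g⁻¹, _⟩ : P) = 1 from Subtype.ext (by simp), he, hlin, Nat.cast_one]
  -- commutative
  have hcomm : ∀ a b : P, a * b = b * a := by
    intro a b
    have h1 : χ ((a * b * a⁻¹ * b⁻¹ : P) : G) = χ ((1 : P) : G) := by
      show (fun x : P => χ x) (a * b * a⁻¹ * b⁻¹) = (fun x : P => χ x) 1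
      refine (congrFun hcl _).trans (Eq.trans ?_ (congrFun hcl _).symm)
      simp only [Pi.smul_apply, Finset.sum_apply]
      congr 1
      refine Finset.sum_congr rfl fun φ hφ => ?_
      obtain ⟨hφi, hφ1⟩ := horb φ hφ
      obtain ⟨f, rfl⟩ := exists_hom_of_degree_one (IsIrrCharacter.isCharacter hφi) hφ1
      simp [mul_comm, mul_left_comm]
    have h2 : a * b * a⁻¹ * b⁻¹ = 1 := Subtype.ext (h.faith _ h1)
    rwa [mul_inv_eq_one, mul_inv_eq_iff_eq_mul] at h2
  -- the trivial character is not in the orbit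
  let one : Cfsg.IrrCharacter P := ⟨fun _ => 1, isIrrCharacter_one⟩
  have hnot : ∀ φ ∈ conjOrbit P (θ : P → ℂ), φ ≠ fun _ => 1 := by
    intro φ hφ e1
    obtain ⟨g, rfl⟩ := (mem_conjOrbit P).mp hφ
    have hθ1 : (θ : P → ℂ) = fun _ => 1 := by
      have := congrArg (conjChar P g⁻¹) e1
      rw [← conjChar_mul, mul_inv_cancel, conjChar_one] at this
      exact this.trans rfl
    apply h.nt
    rw [Subgroup.eq_bot_iff_forall]
    intro x hx
    refine h.faith x ?_
    show (fun x : P => χ x) ⟨x, hx⟩ = (fun x : P => χ x) 1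
    refine (congrFun hcl _).trans (Eq.trans ?_ (congrFun hcl _).symm)
    simp only [Pi.smul_apply, Finset.sum_apply]
    congr 1
    refine Finset.sum_congr rfl fun φ' hφ' => ?_
    obtain ⟨k, rfl⟩ := (mem_conjOrbit P).mp hφ'
    simp only [conjChar, hθ1]
  let S : Finset (Cfsg.IrrCharacter P) :=
    Finset.univ.filter fun φ => (φ : P → ℂ) ∈ conjOrbit P (θ : P → ℂ)
  have hSt : S.card = t := by
    refine Finset.card_bij (fun φ _ => (φ : P → ℂ)) (fun φ hφ => (Finset.mem_filter.mp hφ).2)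
      (fun _ _ _ _ e => Subtype.ext e) fun φ hφ => ⟨⟨φ, (horb φ hφ).1⟩, ?_, rfl⟩
    simp [S, hφ]
  have hS1 : S ⊆ Finset.univ.erase one := fun φ hφ =>
    Finset.mem_erase.mpr ⟨fun e => hnot _ (Finset.mem_filter.mp hφ).2 (congrArg Subtype.val e),
      Finset.mem_univ _⟩
  have herase : (Finset.univ.erase one).card = Nat.card P - 1 := by
    rw [Finset.card_erase_of_mem (Finset.mem_univ _), Finset.card_univ, card_irr_of_comm hcomm]
  have hm1 : 1 ≤ m := Nat.one_le_iff_ne_zero.mpr fun e0 => hθ (by rw [hm, e0, Nat.cast_zero])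
  have ht1 : 1 ≤ t := Finset.card_pos.mpr ⟨_, (mem_conjOrbit P).mpr ⟨1, (conjChar_one P _).symm⟩⟩
  have htq : t ≤ Nat.card P - 1 := hSt ▸ herase ▸ Finset.card_le_card hS1
  have hr' : r = m * m * t := by
    have h1 : (r : ℂ) = ((m * m * t : ℕ) : ℂ) := by
      rw [← hr]
      conv_lhs => rw [hcl, classInner_smul_left, classInner_smul_right, hm, map_natCast,
        classInner_sum_left]
      rw [Finset.sum_congr rfl (g := fun _ => (1 : ℂ))]
      · rw [Finset.sum_const, nsmul_one, ← ht]; push_cast; ring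
      · intro φ hφ
        rw [classInner_sum_right, Finset.sum_eq_single φ, classInner_self_irr (horb φ hφ).1]
        · exact fun b hb hne => classInner_irr_of_ne (horb φ hφ).1 (horb b hb).1 hne.symm
        · exact fun hn => absurd hφ hn
    exact_mod_cast h1
  rw [hlin, mul_one] at hdeg
  obtain ⟨hm', ht'⟩ := arith_key hm1 ht1 htq (by rw [← hdeg, ← hr']; exact hsum'.symm)
  rw [hm', one_mul] at hdeg
  have ht2 : t = Nat.card P - 1 := ht'.resolve_left fun e => by omega
  have hSeq : S = Finset.univ.erase one :=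
    Finset.eq_of_subset_of_card_le hS1 (by rw [hSt, herase, ht2])
  have hmem : ∀ φ : Cfsg.IrrCharacter P, (φ : P → ℂ) ≠ (fun _ => 1) →
      (φ : P → ℂ) ∈ conjOrbit P (θ : P → ℂ) := fun φ hφ => by
    have : φ ∈ S := hSeq ▸ Finset.mem_erase.mpr ⟨fun e => hφ (congrArg Subtype.val e), Finset.mem_univ _⟩
    exact (Finset.mem_filter.mp this).2
  refine ⟨hcomm, by rw [hd, hdeg, ht2], fun φ => ?_, fun φ φ' hφ hφ' => ?_⟩
  · rw [hcl, classInner_smul_left, hm, hm', Nat.cast_one, one_mul, classInner_sum_left]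
    split_ifs with hone
    · exact Finset.sum_eq_zero fun b hb => classInner_irr_of_ne (horb b hb).1 φ.2
        (hone ▸ hnot b hb)
    · rw [Finset.sum_eq_single (φ : P → ℂ), classInner_self_irr φ.2]
      · exact fun b hb hne => classInner_irr_of_ne (horb b hb).1 φ.2 hne
      · exact fun hn => absurd (hmem φ hone) hn
  · obtain ⟨a, ha⟩ := (mem_conjOrbit P).mp (hmem φ hφ)
    obtain ⟨b, hb⟩ := (mem_conjOrbit P).mp (hmem φ' hφ')
    refine ⟨a⁻¹ * b, fun x hx => ?_⟩
    have : (φ' : P → ℂ) = conjChar P (a⁻¹ * b) φ := by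
      rw [ha, ← conjChar_mul, mul_inv_cancel_left, hb]
    rw [this]

/-- An element inducing the identity on all nontrivial characters centralises `P`. -/
theorem Hyp.mem_centralizer_iff (h : Hyp p χ P) [Fintype P] [P.Normal] (g : G) :
    g ∈ Subgroup.centralizer (P : Set G) ↔
      ∀ φ : Cfsg.IrrCharacter P, conjChar P g (φ : P → ℂ) = φ := by
  obtain ⟨hcomm, -, -, -⟩ := h.restrict
  constructor
  · intro hg φ
    funext x
    refine congrArg (φ : P → ℂ) (Subtype.ext ?_)
    show g * x * g⁻¹ = x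
    rw [← Subgroup.mem_centralizer_iff.mp hg x x.2, mul_inv_cancel_right]
  · intro hall
    refine Subgroup.mem_centralizer_iff.mpr fun x hx => ?_
    obtain ⟨y, hy⟩ : ∃ y : P, (y : G) = g * x * g⁻¹ := ⟨⟨_, h.normal.conj_mem x hx g⟩, rfl⟩
    have hone : ∀ φ : Cfsg.IrrCharacter P, (φ : P → ℂ) (y * (⟨x, hx⟩ : P)⁻¹) = (φ : P → ℂ) 1 := by
      intro φ
      have h1 : (φ : P → ℂ) y = (φ : P → ℂ) ⟨x, hx⟩ := by
        rw [← congrFun (hall φ) ⟨x, hx⟩]
        exact congrArg _ (Subtype.ext hy)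
      obtain ⟨f, hf⟩ := exists_hom_of_degree_one (IsIrrCharacter.isCharacter φ.2)
        (degree_one_of_comm hcomm φ.2)
      rw [hf] at h1 ⊢
      simp only at h1 ⊢
      rw [map_mul, map_inv, Units.val_mul, h1, Units.val_inv_eq_inv_val, map_one, Units.val_one,
        mul_inv_cancel₀ (Units.ne_zero _)]
    have h2 : y * (⟨x, hx⟩ : P)⁻¹ = 1 := by
      refine Subtype.ext (h.faith _ ?_)
      have hd := IsCharacter.eq_sum (IsCharacter.restrict (IsIrrCharacter.isCharacter h.irr) P)
      have e1 := congrFun hd (y * (⟨x, hx⟩ : P)⁻¹)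
      have e2 := congrFun hd 1
      simp only [Finset.sum_apply, Pi.smul_apply, OneMemClass.coe_one] at e1 e2
      rw [e2]
      exact e1.trans (Finset.sum_congr rfl fun φ _ => by rw [hone φ])
    rw [mul_inv_eq_one] at h2
    have h3 := congrArg Subtype.val h2
    rw [hy] at h3
    exact (mul_inv_eq_iff_eq_mul.mp h3).symm

/-- The centraliser of `P` is abelian and its elements of order prime to `p` are central. -/
theorem Hyp.centralizer_structure (h : Hyp p χ P) :
    (∀ a ∈ Subgroup.centralizer (P : Set G), ∀ b ∈ Subgroup.centralizer (P : Set G), a * b = b * a) ∧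
      ∀ y ∈ Subgroup.centralizer (P : Set G), ¬ p ∣ orderOf y → y ∈ Subgroup.center G := by
  haveI := h.normal
  haveI : Fintype P := Fintype.ofFinite P
  set C := Subgroup.centralizer (P : Set G) with hC
  haveI : C.Normal := inferInstance
  haveI : Fintype C := Fintype.ofFinite C
  obtain ⟨hcomm, hd, hmult, htr⟩ := h.restrict
  obtain ⟨d, hd', hd2⟩ := h.two_le
  rw [hd, Nat.cast_inj] at hd'
  subst hd'
  have hPC : P ≤ C := fun x hx => Subgroup.mem_centralizer_iff.mpr fun y hy =>
    congrArg Subtype.val (hcomm ⟨y, hy⟩ ⟨x, hx⟩)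
  obtain ⟨θ, hθ⟩ := exists_restrict_constituent h.irr C
  obtain ⟨m, hm⟩ : ∃ m : ℕ, Cfsg.classInner (fun x : C => χ x) θ = m :=
    IsCharacter.exists_classInner_nat (IsCharacter.restrict (IsIrrCharacter.isCharacter h.irr) C)
      (IsIrrCharacter.isCharacter θ.2)
  obtain ⟨e, he0, he⟩ := IsIrrCharacter.exists_degree θ.2
  set O := conjOrbit C (θ : C → ℂ) with hO
  have hcl := clifford C h.irr θ.2 hθ
  let ι : P →* C := Subgroup.inclusion hPC
  have hcen : ∀ x : P, ι x ∈ Subgroup.center C := fun x => Subgroup.mem_center_iff.mpr fun c =>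
    Subtype.ext (Subgroup.mem_centralizer_iff.mp c.2 x x.2).symm
  -- the normalised restriction to `P`
  let R : (C → ℂ) → (P → ℂ) := fun ψ x => ψ (ι x) / (e : ℂ)
  have hscal : ∀ ψ ∈ O, Cfsg.IsIrrCharacter C ψ ∧ ψ 1 = (e : ℂ) := fun ψ hψ => by
    obtain ⟨g, rfl⟩ := (mem_conjOrbit C).mp hψ
    refine ⟨isIrrCharacter_conjChar C θ.2 g, ?_⟩
    show (θ : C → ℂ) _ = _
    rw [show (⟨g * ((1 : C) : G) * g⁻¹, _⟩ : C) = 1 from Subtype.ext (by simp), he]
  have hmul : ∀ ψ ∈ O, ∀ (x : P) (c : C), ψ (ι x * c) = R ψ x * ψ c := fun ψ hψ x c => by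
    obtain ⟨hψi, hψ1⟩ := hscal ψ hψ
    obtain ⟨s, -, hs, -⟩ := IsIrrCharacter.exists_central_scalar hψi (hcen x)
    have h1 := hs 1
    rw [mul_one, hψ1] at h1
    show _ = ψ (ι x) / (e : ℂ) * ψ c
    rw [h1, mul_div_assoc, div_self (Nat.cast_ne_zero.mpr he0.ne'), mul_one, hs]
  have hhom : ∀ ψ ∈ O, Cfsg.IsIrrCharacter P (R ψ) := fun ψ hψ => by
    let f : P →* ℂ :=
      { toFun := R ψ
        map_one' := by
          show ψ (ι 1) / _ = 1
          rw [map_one, (hscal ψ hψ).2, div_self (Nat.cast_ne_zero.mpr he0.ne')]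
        map_mul' := fun x y => by
          show ψ (ι (x * y)) / _ = _
          rw [map_mul, hmul ψ hψ, mul_div_assoc] }
    exact isIrrCharacter_linear f.toHomUnits
  have hequiv : ∀ g : G, R (conjChar C g θ) = conjChar P g (R θ) := fun g => by
    funext x
    exact congrArg (fun c : C => (θ : C → ℂ) c / (e : ℂ)) (Subtype.ext rfl)
  have hθO : (θ : C → ℂ) ∈ O := (mem_conjOrbit C).mpr ⟨1, (conjChar_one C _).symm⟩
  have hRne : R θ ≠ fun _ => 1 := by
    intro hR
    apply h.nt
    rw [Subgroup.eq_bot_iff_forall]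
    intro x hx
    refine h.faith x ?_
    show (fun c : C => χ c) (ι ⟨x, hx⟩) = (fun c : C => χ c) 1
    refine (congrFun hcl _).trans (Eq.trans ?_ (congrFun hcl _).symm)
    simp only [Pi.smul_apply, Finset.sum_apply]
    congr 1
    refine Finset.sum_congr rfl fun ψ hψ => ?_
    obtain ⟨g, hg⟩ := (mem_conjOrbit C).mp hψ
    have h1 := hmul ψ hψ ⟨x, hx⟩ 1
    rw [mul_one] at h1
    rw [h1, hg, hequiv g, show conjChar P g (R θ) ⟨x, hx⟩ = 1 from congrFun hR _, one_mul]
  -- the image of the orbit contains all nontrivial characters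
  let N : Finset (Cfsg.IrrCharacter P) := Finset.univ.erase ⟨fun _ => 1, isIrrCharacter_one⟩
  have hN : N.card = Nat.card P - 1 := by
    rw [Finset.card_erase_of_mem (Finset.mem_univ _), Finset.card_univ, card_irr_of_comm hcomm]
  have hle : N.card ≤ O.card := by
    refine (Finset.card_le_card_of_injOn (t := O.image R) (Subtype.val : Cfsg.IrrCharacter P → (P → ℂ)) ?_
      Subtype.val_injective.injOn).trans (Finset.card_image_le (f := R))
    intro φ hφ
    obtain ⟨g, hg⟩ := htr ⟨R θ, hhom _ hθO⟩ φ hRne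
      (fun e => (Finset.mem_erase.mp hφ).1 (Subtype.ext e))
    refine Finset.mem_image.mpr ⟨conjChar C g θ, (mem_conjOrbit C).mpr ⟨g, rfl⟩, ?_⟩
    rw [hequiv]
    funext x
    exact (hg x (h.normal.conj_mem x x.2 g)).symm
  have hdeg : Nat.card P - 1 = m * O.card * e := by
    have := clifford_degree C h.irr θ.2 hθ
    rw [hd, hm, he, ← card_conjOrbit] at this
    exact_mod_cast this
  have hm1 : 1 ≤ m := Nat.one_le_iff_ne_zero.mpr fun e0 => hθ (by rw [hm, e0, Nat.cast_zero])
  rw [hN] at hle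
  have hOpos : 0 < O.card := by omega
  have hme : m = 1 ∧ e = 1 ∧ O.card = Nat.card P - 1 := by
    have h1 : m * e * O.card ≤ 1 * O.card := by
      rw [one_mul, mul_right_comm, ← hdeg]; exact hle
    have h2 : m * e ≤ 1 := Nat.le_of_mul_le_mul_right h1 hOpos
    have h3 : m * e = 1 := le_antisymm h2 (Nat.one_le_iff_ne_zero.mpr
      (mul_ne_zero (by omega) (by omega)))
    have h4 := Nat.eq_one_of_mul_eq_one_right h3
    have h5 := Nat.eq_one_of_mul_eq_one_left h3
    subst h4 h5
    exact ⟨rfl, rfl, by simpa using hdeg.symm⟩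
  obtain ⟨hm', he', hOcard⟩ := hme
  have hlin : ∀ ψ ∈ O, ∃ f : C →* ℂˣ, ψ = fun c => (f c : ℂ) := fun ψ hψ =>
    exists_hom_of_degree_one (IsIrrCharacter.isCharacter (hscal ψ hψ).1)
      (by rw [(hscal ψ hψ).2, he', Nat.cast_one])
  have hRinj : Set.InjOn R O := by
    intro a ha b hb hab
    by_contra hne
    have h1 : (O.image R).card < O.card := by
      refine lt_of_le_of_ne Finset.card_image_le fun heq => hne ?_
      exact Finset.card_image_iff.mp heq ha hb hab
    have h2 : N.card ≤ (O.image R).card := by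
      refine Finset.card_le_card_of_injOn (fun φ => (φ : P → ℂ)) ?_ (fun _ _ _ _ e => Subtype.ext e)
      intro φ hφ
      obtain ⟨g, hg⟩ := htr ⟨R θ, hhom _ hθO⟩ φ hRne
        (fun e => (Finset.mem_erase.mp hφ).1 (Subtype.ext e))
      refine Finset.mem_image.mpr ⟨conjChar C g θ, (mem_conjOrbit C).mpr ⟨g, rfl⟩, ?_⟩
      rw [hequiv]
      funext x
      exact (hg x (h.normal.conj_mem x x.2 g)).symm
    omega
  have hval : ∀ c : C, χ c = ∑ ψ ∈ O, ψ c := fun c => by
    have := congrFun hcl c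
    simp only [Pi.smul_apply, Finset.sum_apply, hm, hm', Nat.cast_one, one_smul] at this
    exact this
  constructor
  · intro a ha b hb
    have h1 : ⟨a, ha⟩ * (⟨b, hb⟩ : C) * (⟨a, ha⟩ : C)⁻¹ * (⟨b, hb⟩ : C)⁻¹ = 1 := by
      refine Subtype.ext (h.faith _ ?_)
      rw [hval, ← Subgroup.coe_one C, hval]
      refine Finset.sum_congr rfl fun ψ hψ => ?_
      obtain ⟨f, rfl⟩ := hlin ψ hψ
      simp only [map_mul, map_inv, map_one]
      simp [mul_comm]
    rw [mul_inv_eq_one, mul_inv_eq_iff_eq_mul] at h1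
    exact congrArg Subtype.val h1
  · intro y hy hyp
    set yC : C := ⟨y, hy⟩ with hyC
    have hsum : ∑ x : P, χ ((x : G) * y) * conj (χ ((x : G) * y)) =
        ((Nat.card P * O.card : ℕ) : ℂ) := by
      have e : ∀ x : P, χ ((x : G) * y) = ∑ ψ ∈ O, R ψ x * ψ yC := fun x => by
        rw [show ((x : G) * y) = ((ι x * yC : C) : G) from rfl, hval]
        exact Finset.sum_congr rfl fun ψ hψ => hmul ψ hψ x yC
      simp only [e, map_sum, map_mul, Finset.sum_mul_sum]
      rw [Finset.sum_comm, Nat.cast_mul, mul_comm, ← nsmul_eq_mul, ← Finset.sum_const]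
      refine Finset.sum_congr rfl fun a ha => ?_
      rw [Finset.sum_comm, Finset.sum_eq_single a ?_ (fun hn => absurd ha hn)]
      · obtain ⟨f, hf⟩ := hlin a ha
        have h1 : a yC * conj (a yC) = 1 := by
          rw [hf, Complex.mul_conj', norm_eq_one_of_pow (orderOf_pos yC).ne'
            (by rw [← Units.val_pow_eq_pow_val, ← map_pow, pow_orderOf_eq_one, map_one, Units.val_one])]
          simp
        have h2 : ∑ x : P, R a x * conj (R a x) = (Nat.card P : ℂ) := by
          have h3 := classInner_self_irr (G := P) (hhom a ha)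
          rwa [Cfsg.classInner, inv_mul_eq_one₀ (Nat.cast_ne_zero.mpr Nat.card_pos.ne'),
            eq_comm] at h3
        calc ∑ x : P, R a x * a yC * (conj (R a x) * conj (a yC))
            = (∑ x : P, R a x * conj (R a x)) * (a yC * conj (a yC)) := by
              rw [Finset.sum_mul]; exact Finset.sum_congr rfl fun x _ => by ring
          _ = _ := by rw [h1, h2, mul_one]
      · intro b hb hne
        have h3 : Cfsg.classInner (R a) (R b) = 0 :=
          classInner_irr_of_ne (hhom a ha) (hhom b hb) fun e => hne (hRinj hb ha e.symm)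
        rw [Cfsg.classInner, mul_eq_zero] at h3
        have h4 := h3.resolve_left (inv_ne_zero (Nat.cast_ne_zero.mpr Nat.card_pos.ne'))
        calc ∑ x : P, R a x * a yC * (conj (R b x) * conj (b yC))
            = (∑ x : P, R a x * conj (R b x)) * (a yC * conj (b yC)) := by
              rw [Finset.sum_mul]; exact Finset.sum_congr rfl fun x _ => by ring
          _ = 0 := by rw [h4, zero_mul]
    rw [← Finset.add_sum_erase _ _ (Finset.mem_univ (1 : P)), OneMemClass.coe_one, one_mul,
      Finset.sum_congr rfl (g := fun _ => (1 : ℂ))] at hsum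
    · rw [Finset.sum_const, Finset.card_erase_of_mem (Finset.mem_univ _), Finset.card_univ,
        ← Nat.card_eq_fintype_card, nsmul_one, hOcard] at hsum
      refine mem_center_of_norm h.irr h.faith ?_
      have h5 : χ y * conj (χ y) = (((Nat.card P - 1 : ℕ) : ℝ) : ℂ) ^ 2 := by
        rw [eq_sub_of_add_eq hsum, Complex.ofReal_natCast, Nat.cast_mul,
          Nat.cast_sub (Nat.card_pos (α := P)), Nat.cast_one]
        ring
      rw [norm_eq_of_conj_mul (Nat.cast_nonneg _) h5, hd, Complex.ofReal_natCast]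
    · intro x hx
      refine h.unit _ ?_
      have hc : Commute (x : G) y := Subgroup.mem_centralizer_iff.mp hy x x.2
      have hx1 : (x : G) ≠ 1 := fun e => (Finset.mem_erase.mp hx).1 (Subtype.ext e)
      have hcop : (orderOf (x : G)).Coprime (orderOf y) := by
        obtain ⟨k, hk⟩ := IsPGroup.iff_orderOf.mp h.pgroup x
        rw [← Subgroup.orderOf_coe] at hk
        rw [hk]
        exact Nat.Coprime.pow_left k ((Nat.Prime.coprime_iff_not_dvd Fact.out).mpr hyp)
      rw [hc.orderOf_mul_eq_mul_orderOf_of_coprime hcop]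
      exact (h.dvd_order x.2 hx1).mul_right _

/-- An element of `p`-power order outside `P` forces `p = 2` and fixes exactly one character. -/
theorem Hyp.fixed_unique (h : Hyp p χ P) [Fintype P] [P.Normal] {S : Subgroup G} (hS : IsPGroup p S)
    (hPS : P ≤ S) {g : G} (hgS : g ∈ S) (hgP : g ∉ P) :
    (Finset.univ.filter fun φ : Cfsg.IrrCharacter P => conjChar P g (φ : P → ℂ) = φ).card = 2 := by
  obtain ⟨hcomm, hd, hmult, htr⟩ := h.restrict
  obtain ⟨d, hd', hd2⟩ := h.two_le
  rw [hd, Nat.cast_inj] at hd'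
  subst hd'
  have hlin : ∀ φ : Cfsg.IrrCharacter P, ∃ f : P →* ℂˣ, (φ : P → ℂ) = fun x => (f x : ℂ) := fun φ =>
    exists_hom_of_degree_one (IsIrrCharacter.isCharacter φ.2) (degree_one_of_comm hcomm φ.2)
  let one : Cfsg.IrrCharacter P := ⟨fun _ => 1, isIrrCharacter_one⟩
  let F : P → ℂ := fun x => χ (g * x)
  -- every translate is a root of unity
  have hF1 : ∑ x : P, F x * conj (F x) = (Nat.card P : ℂ) := by
    rw [Finset.sum_congr rfl (g := fun _ => (1 : ℂ)), Finset.sum_const, Finset.card_univ,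
      ← Nat.card_eq_fintype_card, nsmul_one]
    intro x _
    refine h.unit _ ?_
    obtain ⟨k, hk⟩ := IsPGroup.iff_orderOf.mp hS ⟨g * x, S.mul_mem hgS (hPS x.2)⟩
    rw [Subgroup.orderOf_mk] at hk
    rcases Nat.eq_zero_or_pos k with rfl | hk0
    · have h1 : g * x = 1 := orderOf_eq_one_iff.mp (hk.trans (pow_zero p))
      exact absurd ((eq_inv_of_mul_eq_one_left h1).symm ▸ P.inv_mem x.2) hgP
    · exact hk ▸ dvd_pow_self p hk0.ne'
  have hFc : Cfsg.IsClassFunction P F := fun a b => by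
    show χ (g * ((b * a * b⁻¹ : P) : G)) = χ (g * a)
    rw [hcomm b a, mul_inv_cancel_right]
  set c : Cfsg.IrrCharacter P → ℂ := fun φ => Cfsg.classInner F φ with hc
  have hFdec : F = ∑ φ : Cfsg.IrrCharacter P, c φ • (φ : P → ℂ) := classFunction_eq_sum hFc
  have hparseval : ∑ φ, c φ * conj (c φ) = 1 := by
    rw [← classInner_combination₂, ← hFdec, Cfsg.classInner, hF1,
      inv_mul_cancel₀ (Nat.cast_ne_zero.mpr Nat.card_pos.ne')]
  -- the coefficients
  have hc_one : c one = 0 := by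
    have h1 : ∑ x : P, χ (g * x) = 0 := by
      refine sum_coset_eq_zero h.irr P ?_ g
      obtain ⟨x, hx, hx1⟩ : ∃ x ∈ P, x ≠ 1 := by
        by_contra hno
        exact h.nt ((Subgroup.eq_bot_iff_forall _).mpr fun x hx =>
          by_contra fun hx1 => hno ⟨x, hx, hx1⟩)
      exact ⟨x, hx, fun e => hx1 (h.faith x e)⟩
    simp only [hc, one, Cfsg.classInner, map_one, mul_one, F, h1, mul_zero]
  have hc_move : ∀ φ : Cfsg.IrrCharacter P, conjChar P g (φ : P → ℂ) ≠ φ → c φ = 0 := by
    intro φ hφ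
    obtain ⟨y, hy⟩ := Function.ne_iff.mp hφ
    let gy : P := ⟨g * y * g⁻¹, h.normal.conj_mem y y.2 g⟩
    -- `χ (g * (z * y)) = χ (g * (gy * z))`
    have hshift : ∀ z : P, F (z * y) = F (z * gy) := by
      intro z
      have h1 := IsCharacter.isClassFunction (IsIrrCharacter.isCharacter h.irr)
        (g * (z * (g * y * g⁻¹))) (g * y * g⁻¹)
      show χ (g * ((z : G) * y)) = χ (g * ((z : G) * (g * y * g⁻¹)))
      rw [← h1]
      congr 1
      have hzy : (z : G) * y = y * z := congrArg Subtype.val (hcomm z y)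
      rw [hzy]
      group
    obtain ⟨f, hf⟩ := hlin φ
    have hkey : ∀ w : P, ∑ x : P, F (x * w) * conj ((φ : P → ℂ) x) =
        (f w : ℂ) * ∑ x : P, F x * conj ((φ : P → ℂ) x) := fun w => by
      rw [← Equiv.sum_comp (Equiv.mulRight w) (fun x => F x * conj ((φ : P → ℂ) x)), Finset.mul_sum]
      refine Finset.sum_congr rfl fun x _ => ?_
      have hnorm : (f w : ℂ) * conj (f w : ℂ) = 1 := by
        rw [Complex.mul_conj', norm_eq_one_of_pow (orderOf_pos w).ne'
          (by rw [← Units.val_pow_eq_pow_val, ← map_pow, pow_orderOf_eq_one, map_one, Units.val_one])]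
        simp
      simp only [Equiv.coe_mulRight, hf, map_mul, Units.val_mul]
      rw [show (f w : ℂ) * (F (x * w) * (conj (f x : ℂ) * conj (f w : ℂ))) =
        F (x * w) * conj (f x : ℂ) * ((f w : ℂ) * conj (f w : ℂ)) by ring, hnorm, mul_one]
    set s := ∑ x : P, F x * conj ((φ : P → ℂ) x)
    have h2 : (f y : ℂ) * s = (f gy : ℂ) * s := by
      rw [← hkey, ← hkey]
      exact Finset.sum_congr rfl fun x _ => by rw [hshift]
    have h3 : s = 0 := by
      by_contra hs
      refine hy ?_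
      show (φ : P → ℂ) gy = (φ : P → ℂ) y
      rw [hf]
      exact (mul_right_cancel₀ hs h2).symm
    show (Nat.card P : ℂ)⁻¹ * s = 0
    rw [h3, mul_zero]
  have hc_fix : ∀ φ : Cfsg.IrrCharacter P, φ ≠ one → conjChar P g (φ : P → ℂ) = φ →
      c φ * conj (c φ) = 1 := by
    intro φ hφ1 hfix
    set T := inertia P (φ : P → ℂ) with hT
    have hPT : P ≤ T := le_inertia P (IsCharacter.isClassFunction (IsIrrCharacter.isCharacter φ.2))
    haveI : Fintype T := Fintype.ofFinite T
    have hφne : (φ : P → ℂ) ≠ fun _ => 1 := fun e => hφ1 (Subtype.ext e)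
    obtain ⟨ψ, hψ, hind, hψφ⟩ := clifford_correspondence_surjective P φ.2 hT hPT h.irr
      (by rw [hmult, if_neg hφne]; exact one_ne_zero)
    rw [hmult, if_neg hφne] at hψφ
    obtain ⟨f, hf⟩ := hlin φ
    obtain ⟨k, hk0, hk⟩ := IsIrrCharacter.exists_degree hψ
    have horb : T.index = Nat.card P - 1 := by
      rw [hT, ← card_conjOrbit]
      have : conjOrbit P (φ : P → ℂ) =
          ((Finset.univ : Finset (Cfsg.IrrCharacter P)).erase one).image Subtype.val := by
        ext a
        rw [mem_conjOrbit, Finset.mem_image]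
        constructor
        · rintro ⟨b, rfl⟩
          refine ⟨⟨_, isIrrCharacter_conjChar P φ.2 b⟩, Finset.mem_erase.mpr ⟨fun e => hφne ?_,
            Finset.mem_univ _⟩, rfl⟩
          have := congrArg (fun a : Cfsg.IrrCharacter P => conjChar P b⁻¹ (a : P → ℂ)) e
          simp only [← conjChar_mul, mul_inv_cancel, conjChar_one] at this
          exact this.trans rfl
        · rintro ⟨a, ha, rfl⟩
          obtain ⟨b, hb⟩ := htr φ a hφne fun e => (Finset.mem_erase.mp ha).1 (Subtype.ext e)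
          exact ⟨b, funext fun x => hb x (h.normal.conj_mem x x.2 b)⟩
      rw [this, Finset.card_image_of_injective _ Subtype.val_injective,
        Finset.card_erase_of_mem (Finset.mem_univ _), Finset.card_univ, card_irr_of_comm hcomm]
    have hk1 : k = 1 := by
      have h1 := congrFun hind 1
      rw [indFun_one_apply, hk, hd, horb, ← Nat.cast_mul, Nat.cast_inj] at h1
      exact Nat.eq_of_mul_eq_mul_left (show 0 < Nat.card P - 1 by omega) (by rw [mul_one]; exact h1)
    obtain ⟨fψ, hfψ⟩ := exists_hom_of_degree_one (IsIrrCharacter.isCharacter hψ)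
      (by rw [hk, hk1, Nat.cast_one])
    haveI : Fintype (P.subgroupOf T) := Fintype.ofFinite _
    haveI : (P.subgroupOf T).Normal := inferInstance
    let ι : P →* T := Subgroup.inclusion hPT
    -- `ψ` extends `φ`
    have hext : ∀ x : P, fψ (ι x) = f x := by
      let lψ : P →* ℂˣ := fψ.comp ι
      by_contra hne
      push Not at hne
      obtain ⟨x, hx⟩ := hne
      have h0 : Cfsg.classInner (fun y : P => (lψ y : ℂ)) (φ : P → ℂ) = 0 :=
        classInner_irr_of_ne (isIrrCharacter_linear lψ) φ.2 fun e => hx (Units.ext (by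
          have := congrFun e x
          rw [hf] at this
          exact this))
      rw [hfψ] at hψφ
      exact one_ne_zero (hψφ.symm.trans h0)
    -- twist the restriction
    let γ : T → ℂ := fun t => χ t * conj (fψ t : ℂ)
    have hγ : Cfsg.IsCharacter T γ := IsCharacter.mul
      (IsCharacter.restrict (IsIrrCharacter.isCharacter h.irr) T)
      (IsCharacter.conj (IsIrrCharacter.isCharacter (isIrrCharacter_linear fψ)))
    obtain ⟨m, hm⟩ := IsCharacter.exists_decomp hγ
    set Tr : Finset (Cfsg.IrrCharacter T) :=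
      Finset.univ.filter fun η => ∀ x : P, (η : T → ℂ) (ι x) = (η : T → ℂ) 1
    have hsum : ∀ t : T, ∑ x : P, γ (t * ι x) =
        (Nat.card P : ℂ) * ∑ η ∈ Tr, (m η : ℂ) * (η : T → ℂ) t := by
      intro t
      simp only [hm, Finset.sum_apply, Pi.smul_apply, smul_eq_mul]
      rw [Finset.sum_comm, Finset.mul_sum, Finset.sum_filter]
      refine Finset.sum_congr rfl fun η _ => ?_
      split_ifs with hη
      · obtain ⟨K, -, hK, hKmul⟩ := IsCharacter.exists_kernel (IsIrrCharacter.isCharacter η.2)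
        have h1 : ∀ x : P, (η : T → ℂ) (t * ι x) = (η : T → ℂ) t := fun x => by
          rw [← IsCharacter.isClassFunction (IsIrrCharacter.isCharacter η.2) (t * ι x) (ι x),
            show ι x * (t * ι x) * (ι x)⁻¹ = ι x * t by group]
          exact hKmul _ ((hK _).mpr (hη x)) t
        simp only [h1, Finset.sum_const, Finset.card_univ, ← Nat.card_eq_fintype_card, nsmul_eq_mul]
      · push Not at hη
        obtain ⟨x, hx⟩ := hη
        have h1 := sum_coset_eq_zero η.2 (P.subgroupOf T) ⟨ι x, x.2, hx⟩ t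
        rw [← Finset.mul_sum]
        convert mul_zero _
        rw [← h1]
        exact Fintype.sum_equiv (Subgroup.subgroupOfEquivOfLe hPT).symm.toEquiv _ _ fun x => rfl
    have hγsum : ∀ t : T, ∑ x : P, γ (t * ι x) =
        conj (fψ t : ℂ) * ∑ x : P, χ ((t : G) * x) * conj ((φ : P → ℂ) x) := fun t => by
      rw [Finset.mul_sum]
      refine Finset.sum_congr rfl fun x _ => ?_
      simp only [γ, map_mul, hext, hf, Units.val_mul, Subgroup.coe_mul]
      rw [show ((ι x : T) : G) = x from rfl]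
      ring
    have htot : ∑ η ∈ Tr, (m η : ℂ) * (η : T → ℂ) 1 = 1 := by
      have h1 := hsum 1
      rw [hγsum, map_one, Units.val_one, map_one, one_mul] at h1
      have h2 : ∑ x : P, χ (((1 : T) : G) * x) * conj ((φ : P → ℂ) x) = (Nat.card P : ℂ) * 1 := by
        have h3 := hmult φ
        rw [if_neg hφne, Cfsg.classInner, inv_mul_eq_one₀ (Nat.cast_ne_zero.mpr Nat.card_pos.ne')] at h3
        rw [mul_one, h3]
        simp
      rw [h2] at h1
      exact (mul_left_cancel₀ (Nat.cast_ne_zero.mpr Nat.card_pos.ne') h1).symm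
    obtain ⟨η, hηT, hη1⟩ : ∃ η ∈ Tr, m η ≠ 0 := by
      by_contra hno
      push Not at hno
      rw [Finset.sum_eq_zero fun η hη => by rw [hno η hη, Nat.cast_zero, zero_mul]] at htot
      exact zero_ne_one htot
    have htot' : ∑ η ∈ Tr, m η * Cfsg.charDegree (η : T → ℂ) = 1 := by
      rw [← Nat.cast_inj (R := ℂ), Nat.cast_sum, Nat.cast_one, ← htot]
      exact Finset.sum_congr rfl fun η _ => by rw [Nat.cast_mul, irr_deg]
    have hle := Finset.single_le_sum (f := fun η => m η * Cfsg.charDegree (η : T → ℂ))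
      (fun _ _ => Nat.zero_le _) hηT
    have hpos := irr_deg_pos η
    have hprod : m η * Cfsg.charDegree (η : T → ℂ) = 1 := le_antisymm (hle.trans htot'.le)
      (Nat.one_le_iff_ne_zero.mpr (mul_ne_zero hη1 hpos.ne'))
    have hothers : ∀ b ∈ Tr, b ≠ η → m b = 0 := by
      intro b hb hne
      have h1 := Finset.add_sum_erase Tr (fun η => m η * Cfsg.charDegree (η : T → ℂ)) hηT
      have h2 := Finset.single_le_sum (f := fun η => m η * Cfsg.charDegree (η : T → ℂ))
        (fun _ _ => Nat.zero_le _) (Finset.mem_erase.mpr ⟨hne, hb⟩)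
      have h3 : m b * Cfsg.charDegree (b : T → ℂ) = 0 := by omega
      exact (mul_eq_zero.mp h3).resolve_right (irr_deg_pos b).ne'
    let tg : T := ⟨g, hfix⟩
    have hval : ∑ η ∈ Tr, (m η : ℂ) * (η : T → ℂ) tg = (η : T → ℂ) tg := by
      rw [Finset.sum_eq_single η (fun b hb hne => by rw [hothers b hb hne, Nat.cast_zero, zero_mul])
        (fun hn => absurd hηT hn), Nat.eq_one_of_mul_eq_one_right hprod, Nat.cast_one, one_mul]
    obtain ⟨fη, hfη⟩ := exists_hom_of_degree_one (IsIrrCharacter.isCharacter η.2)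
      (by rw [irr_deg, Nat.eq_one_of_mul_eq_one_left hprod, Nat.cast_one])
    have hroot : ∀ f' : T →* ℂˣ, (f' tg : ℂ) * conj (f' tg : ℂ) = 1 := fun f' => by
      rw [Complex.mul_conj', norm_eq_one_of_pow (orderOf_pos tg).ne'
        (by rw [← Units.val_pow_eq_pow_val, ← map_pow, pow_orderOf_eq_one, map_one, Units.val_one])]
      simp
    have hfinal : c φ = (fψ tg : ℂ) * (fη tg : ℂ) := by
      have h1 := hsum tg
      rw [hγsum, hval, hfη] at h1
      show (Nat.card P : ℂ)⁻¹ * ∑ x : P, χ (g * x) * conj ((φ : P → ℂ) x) = _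
      have h2 : ∑ x : P, χ (g * x) * conj ((φ : P → ℂ) x) =
          (Nat.card P : ℂ) * ((fψ tg : ℂ) * (fη tg : ℂ)) := by
        calc ∑ x : P, χ (g * x) * conj ((φ : P → ℂ) x)
            = ((fψ tg : ℂ) * conj (fψ tg : ℂ)) * ∑ x : P, χ ((tg : G) * x) * conj ((φ : P → ℂ) x) := by
              rw [hroot, one_mul]
          _ = _ := by rw [mul_assoc, h1]; ring
      rw [h2, inv_mul_cancel_left₀ (Nat.cast_ne_zero.mpr Nat.card_pos.ne')]
    rw [hfinal, map_mul, mul_mul_mul_comm, hroot, hroot, one_mul]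
  -- count
  set Fx := Finset.univ.filter fun φ : Cfsg.IrrCharacter P => conjChar P g (φ : P → ℂ) = φ with hFx
  have honeFx : one ∈ Fx := Finset.mem_filter.mpr ⟨Finset.mem_univ _, rfl⟩
  have hcount : ((Fx.erase one).card : ℂ) = 1 := by
    rw [← hparseval, Finset.card_eq_sum_ones, Nat.cast_sum]
    refine (Finset.sum_congr rfl fun φ hφ => ?_).trans
      (Finset.sum_subset (Finset.subset_univ _) fun φ _ hφ => ?_)
    · rw [Finset.mem_erase, hFx, Finset.mem_filter] at hφ
      rw [hc_fix φ hφ.1 hφ.2.2, Nat.cast_one]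
    · rw [Finset.mem_erase, hFx, Finset.mem_filter, not_and_or, not_not] at hφ
      rcases hφ with rfl | hφ
      · rw [hc_one, zero_mul]
      · rw [hc_move φ fun e => hφ ⟨Finset.mem_univ _, e⟩, zero_mul]
  rw [Nat.cast_eq_one, Finset.card_erase_of_mem honeFx] at hcount
  omega

end Cfsg.Agent.RootUnity
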