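import Cfsg.Agent.Lib.Char.RootUnityPSingular
import Cfsg.Agent.Lib.Solvable.Basic
import Cfsg.Agent.Lib.FiniteGroup.FittingPow

/-!
# Structure from a faithful character with root-of-unity values on `p`-singular elements
-/

set_option autoImplicit false
set_option linter.style.haveILetI false
set_option linter.unusedSectionVars false

namespace Cfsg.Agent.RootUnity

theorem perm_three : ∀ a b : Equiv.Perm (Fin 3), (a * a = 1 ∧ a ≠ 1 ∧ b * b * b = 1 ∧ b ≠ 1) →
    (a * (b * a * b⁻¹)) * (a * (b * a * b⁻¹)) * (a * (b * a * b⁻¹)) = 1 ∧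
      a * (b * a * b⁻¹) ≠ 1 := by decide +kernel

open Cfsg Cfsg.Agent.Char Cfsg.Agent.CharX
open scoped ComplexConjugate Classical Pointwise

universe u

variable {G : Type u} [Group G] [Fintype G] {p : ℕ} [Fact p.Prime] {χ : G → ℂ} {P : Subgroup G}

theorem eq_one_of_all_chars (h : Hyp p χ P) [Fintype P] {y : P}
    (hy : ∀ φ : Cfsg.IrrCharacter P, (φ : P → ℂ) y = (φ : P → ℂ) 1) : y = 1 := by
  refine Subtype.ext (h.faith _ ?_)
  have hd := IsCharacter.eq_sum (IsCharacter.restrict (IsIrrCharacter.isCharacter h.irr) P)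
  have e1 := congrFun hd y
  have e2 := congrFun hd 1
  simp only [Finset.sum_apply, Pi.smul_apply, OneMemClass.coe_one] at e1 e2
  rw [e2]
  exact e1.trans (Finset.sum_congr rfl fun φ _ => by rw [hy φ])

theorem Hyp.exponent (h : Hyp p χ P) [Fintype P] : ∀ x ∈ P, x ^ p = 1 := by
  haveI := h.normal
  obtain ⟨hcomm, -, -, htr⟩ := h.restrict
  have key : ∀ f : P →* ℂˣ, f ^ p = 1 := by
    intro f
    by_contra hp
    have hf : f ≠ 1 := fun e => hp (by ext x; simp [e])
    have hne : ∀ k : P →* ℂˣ, k ≠ 1 → (fun x : P => (k x : ℂ)) ≠ fun _ => 1 := fun k hk e =>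
      hk (MonoidHom.ext fun x => Units.ext (congrFun e x))
    obtain ⟨g, hg⟩ := htr ⟨_, isIrrCharacter_linear f⟩ ⟨_, isIrrCharacter_linear (f ^ p)⟩
      (hne f hf) (hne _ hp)
    have e : f ^ p = f.comp (conjHom P g) := MonoidHom.ext fun x => Units.ext
      (hg x (h.normal.conj_mem x x.2 g))
    have hpow : ∀ n : ℕ, (f.comp (conjHom P g)) ^ n = 1 ↔ f ^ n = 1 := fun n => by
      constructor
      · intro h1
        ext x
        obtain ⟨y, rfl⟩ := conjHom_surjective P g x
        exact congrArg Units.val (DFunLike.congr_fun h1 y)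
      · intro h1
        ext x
        exact congrArg Units.val (DFunLike.congr_fun h1 (conjHom P g x))
    obtain ⟨a, ha⟩ := h.pgroup.exists_card_eq
    have hfa : f ^ (p ^ a) = 1 := MonoidHom.ext fun x => by
      rw [MonoidHom.pow_apply, ← map_pow, ← ha, pow_card_eq_one', map_one, MonoidHom.one_apply]
    obtain ⟨i, hi, hmin⟩ : ∃ i, f ^ (p ^ i) = 1 ∧ ∀ j < i, f ^ (p ^ j) ≠ 1 :=
      ⟨Nat.find (⟨a, hfa⟩ : ∃ i, f ^ (p ^ i) = 1), Nat.find_spec (⟨a, hfa⟩ : ∃ i, f ^ (p ^ i) = 1),
        fun j hj => Nat.find_min _ hj⟩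
    cases i with
    | zero => exact hf (MonoidHom.ext fun x => by simpa using DFunLike.congr_fun hi x)
    | succ i =>
      refine hmin i (Nat.lt_succ_self i) ((hpow _).mp ?_)
      rw [← e]
      ext x
      have h2 : (f x) ^ p ^ (i + 1) = 1 := by simpa using DFunLike.congr_fun hi x
      have h3 : ((f ^ p) ^ p ^ i) x = 1 := by
        simp only [MonoidHom.pow_apply, ← pow_mul, ← pow_succ']
        exact h2
      exact congrArg Units.val h3
  intro x hx
  have h1 : (⟨x, hx⟩ : P) ^ p = 1 := eq_one_of_all_chars h fun φ => by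
    obtain ⟨f, hf⟩ := exists_hom_of_degree_one (IsIrrCharacter.isCharacter φ.2)
      (degree_one_of_comm hcomm φ.2)
    simp only [hf, map_pow, map_one]
    rw [← MonoidHom.pow_apply, key f, MonoidHom.one_apply]
  exact congrArg Subtype.val h1

/-- The centraliser of `P = O_p(G)` is `P × Z(G)`. -/
theorem Hyp.centralizer_eq (h : Hyp p χ (Cfsg.pCore p G)) :
    Subgroup.centralizer ((Cfsg.pCore p G : Subgroup G) : Set G) =
      Cfsg.pCore p G ⊔ Subgroup.center G := by
  haveI : Fintype (Cfsg.pCore p G) := Fintype.ofFinite _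
  set P := Cfsg.pCore p G with hP
  haveI := h.normal
  obtain ⟨hab, hcen⟩ := h.centralizer_structure
  obtain ⟨hcomm, -, -, -⟩ := h.restrict
  refine le_antisymm ?_ (sup_le ?_ ?_)
  · set C := Subgroup.centralizer (P : Set G) with hC
    haveI : C.Normal := inferInstance
    let S : Subgroup G :=
      { carrier := {x | x ∈ C ∧ ∃ k : ℕ, x ^ p ^ k = 1}
        one_mem' := ⟨C.one_mem, 0, one_pow _⟩
        mul_mem' := by
          rintro a b ⟨ha, i, hi⟩ ⟨hb, j, hj⟩
          refine ⟨C.mul_mem ha hb, i + j, ?_⟩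
          rw [Commute.mul_pow (hab a ha b hb), pow_add, pow_mul, hi, one_pow, one_mul,
            mul_comm (p ^ i), pow_mul, hj, one_pow]
        inv_mem' := by
          rintro a ⟨ha, i, hi⟩
          exact ⟨C.inv_mem ha, i, by rw [inv_pow, hi, inv_one]⟩ }
    have hSn : S.Normal := ⟨fun x hx g => ⟨‹C.Normal›.conj_mem x hx.1 g, hx.2.choose,
      by rw [conj_pow, hx.2.choose_spec, mul_one, mul_inv_cancel]⟩⟩
    have hSp : IsPGroup p S := fun x => ⟨x.2.2.choose, Subtype.ext x.2.2.choose_spec⟩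
    have hSP : S ≤ P := le_sSup (show S ∈ {N : Subgroup G | N.Normal ∧ IsPGroup p N} from ⟨hSn, hSp⟩)
    intro c hc
    have hord := (orderOf_pos c).ne'
    set i := (orderOf c).factorization p with hi
    set m := orderOf c / p ^ i with hm
    have hmul : p ^ i * m = orderOf c := Nat.mul_div_cancel' (Nat.ordProj_dvd _ _)
    have hpm : ¬ p ∣ m := Nat.not_dvd_ordCompl Fact.out hord
    have hcop : Nat.Coprime (p ^ i) m :=
      Nat.Coprime.pow_left _ ((Nat.Prime.coprime_iff_not_dvd Fact.out).mpr hpm)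
    have h1 : c ^ m ∈ P := hSP ⟨C.pow_mem hc m, i, by rw [← pow_mul, mul_comm, hmul, pow_orderOf_eq_one]⟩
    have h2 : c ^ p ^ i ∈ Subgroup.center G := hcen _ (C.pow_mem hc _) fun hd => hpm (hd.trans
      (orderOf_dvd_of_pow_eq_one (by rw [← pow_mul, hmul, pow_orderOf_eq_one])))
    have hb : (c : G) = (c ^ p ^ i) ^ (Nat.gcdA (p ^ i) m) * (c ^ m) ^ (Nat.gcdB (p ^ i) m) := by
      rw [← zpow_natCast c, ← zpow_natCast c m, ← zpow_mul, ← zpow_mul, ← zpow_add,
        ← Nat.gcd_eq_gcd_ab, hcop.gcd_eq_one, Nat.cast_one, zpow_one]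
    rw [hb]
    exact Subgroup.mul_mem _ ((le_sup_right : Subgroup.center G ≤ _) (Subgroup.zpow_mem _ h2 _))
      ((le_sup_left : P ≤ _) (Subgroup.zpow_mem _ h1 _))
  · exact fun x hx => Subgroup.mem_centralizer_iff.mpr fun y hy =>
      congrArg Subtype.val (hcomm ⟨y, hy⟩ ⟨x, hx⟩)
  · exact fun x hx => Subgroup.mem_centralizer_iff.mpr fun y _ => Subgroup.mem_center_iff.mp hx y

/-- Four points: `P ⋊ S₃` inside `G`. -/
theorem exists_sym_four (h : Hyp 2 χ (Cfsg.pCore 2 G)) (hcard : Nat.card (Cfsg.pCore 2 G) = 4)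
    {g : G} (hg : g ∉ Cfsg.pCore 2 G) (hg2 : g * g ∈ Cfsg.pCore 2 G)
    (hgC : g ∉ Subgroup.centralizer ((Cfsg.pCore 2 G : Subgroup G) : Set G))
    (h3 : 3 ∣ (Subgroup.centralizer ((Cfsg.pCore 2 G : Subgroup G) : Set G)).index) :
    Odd (Nat.card ↥(Subgroup.center G)) ∧ ∃ H : Subgroup G,
      Nonempty (↥H ≃* Equiv.Perm (Fin 4)) ∧ H ⊓ Subgroup.center G = ⊥ ∧ H ⊔ Subgroup.center G = ⊤ := by
  haveI : Fintype (Cfsg.pCore 2 G) := Fintype.ofFinite _
  set P := Cfsg.pCore 2 G with hP
  set C := Subgroup.centralizer (P : Set G) with hCdef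
  haveI := h.normal
  have hC : C = P ⊔ Subgroup.center G := h.centralizer_eq
  have hexp := h.exponent
  have hPZ := h.center_inf
  obtain ⟨hcomm, -, -, -⟩ := h.restrict
  have hcomm' : ∀ a ∈ P, ∀ b ∈ P, a * b = b * a := fun a ha b hb =>
    congrArg Subtype.val (hcomm ⟨a, ha⟩ ⟨b, hb⟩)
  -- the centre has odd order
  have hodd : Odd (Nat.card ↥(Subgroup.center G)) := by
    rw [← Nat.not_even_iff_odd, even_iff_two_dvd]
    intro hd
    obtain ⟨z, hz⟩ := exists_prime_orderOf_dvd_card' 2 hd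
    have hz2 : (z : G) ^ 2 = 1 := by
      rw [← Subgroup.coe_pow, ← hz, pow_orderOf_eq_one]; rfl
    have hzP : (z : G) ∈ P := by
      refine le_sSup (show Subgroup.zpowers (z : G) ∈ {N : Subgroup G | N.Normal ∧ IsPGroup 2 N} from
        ⟨⟨fun x hx y => ?_⟩, ?_⟩) (Subgroup.mem_zpowers _)
      · obtain ⟨k, rfl⟩ := Subgroup.mem_zpowers_iff.mp hx
        rw [Subgroup.mem_center_iff.mp (Subgroup.zpow_mem _ z.2 k) y, mul_inv_cancel_right]
        exact hx
      · exact IsPGroup.of_card (n := 1) (by rw [Nat.card_zpowers, Subgroup.orderOf_coe, hz, pow_one])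
    have h1 : (z : G) = 1 := (Subgroup.eq_bot_iff_forall _).mp hPZ z ⟨hzP, z.2⟩
    have h2 : z = 1 := Subtype.ext h1
    rw [h2, orderOf_one] at hz
    norm_num at hz
  refine ⟨hodd, ?_⟩
  -- the action on the three involutions
  let X := {x : G // x ∈ P ∧ x ≠ 1}
  have hX : Nat.card X = 3 := by
    have e : X ≃ ({(1 : P)}ᶜ : Set P) :=
      { toFun := fun x => ⟨⟨x.1, x.2.1⟩, fun e => x.2.2 (congrArg Subtype.val (Set.mem_singleton_iff.mp e))⟩
        invFun := fun x => ⟨x.1.1, x.1.2, fun e => x.2 (Subtype.ext e)⟩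
        left_inv := fun x => rfl
        right_inv := fun x => rfl }
    rw [Nat.card_congr e, Nat.card_coe_set_eq, Set.ncard_compl, Set.ncard_singleton, hcard]
  haveI : Finite X := inferInstanceAs (Finite {x : G // x ∈ P ∧ x ≠ 1})
  let act : G →* Equiv.Perm X :=
    { toFun := fun a =>
        { toFun := fun x => ⟨a * x.1 * a⁻¹, h.normal.conj_mem _ x.2.1 a, fun e => x.2.2 (by
            rw [mul_inv_eq_one, mul_eq_left] at e; exact e)⟩
          invFun := fun x => ⟨a⁻¹ * x.1 * a⁻¹⁻¹, h.normal.conj_mem _ x.2.1 a⁻¹, fun e => x.2.2 (by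
            rw [mul_inv_eq_one, mul_eq_left] at e; exact e)⟩
          left_inv := fun x => Subtype.ext (by group)
          right_inv := fun x => Subtype.ext (by group) }
      map_one' := Equiv.ext fun x => Subtype.ext (by simp)
      map_mul' := fun a b => Equiv.ext fun x => Subtype.ext (by simp [mul_assoc]) }
  have eX : X ≃ Fin 3 := (Finite.equivFin X).trans (finCongr hX)
  let f : G →* Equiv.Perm (Fin 3) := (eX.permCongrHom.toMonoidHom).comp act
  have hker : f.ker = C := by
    ext a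
    rw [MonoidHom.mem_ker, MonoidHom.comp_apply, MulEquiv.coe_toMonoidHom, MulEquiv.map_eq_one_iff]
    constructor
    · intro ha
      refine Subgroup.mem_centralizer_iff.mpr fun x hx => ?_
      rcases eq_or_ne x 1 with rfl | hx1
      · simp
      have h1 : a * x * a⁻¹ = x := congrArg (fun σ : Equiv.Perm X => (σ ⟨x, hx, hx1⟩).1) ha
      exact (mul_inv_eq_iff_eq_mul.mp h1).symm
    · intro ha
      refine Equiv.ext fun x => Subtype.ext ?_
      show a * x.1 * a⁻¹ = x.1
      rw [← Subgroup.mem_centralizer_iff.mp ha x.1 x.2.1, mul_inv_cancel_right]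
  have hPC : P ≤ C := hC ▸ le_sup_left
  have hfg : f g ≠ 1 := fun e => hgC (hker ▸ MonoidHom.mem_ker.mpr e)
  -- an involution outside `P`
  obtain ⟨s, hs2, hsC⟩ : ∃ s : G, s * s = 1 ∧ s ∉ C := by
    rcases eq_or_ne (g * g) 1 with e | hne
    · exact ⟨g, e, hgC⟩
    obtain ⟨x, hx, hxg⟩ : ∃ x ∈ P, g * x * g⁻¹ ≠ x := by
      by_contra hno
      push Not at hno
      exact hgC (Subgroup.mem_centralizer_iff.mpr fun x hx => (mul_inv_eq_iff_eq_mul.mp (hno x hx)).symm)
    set y := g * x * g⁻¹ with hy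
    have hyP : y ∈ P := h.normal.conj_mem x hx g
    set w := y * x with hw
    have hwP : w ∈ P := P.mul_mem hyP hx
    have hzfix : g * (g * g) * g⁻¹ = g * g := by group
    have hgy : g * y * g⁻¹ = x := by
      rw [show g * y * g⁻¹ = (g * g) * x * (g * g)⁻¹ by rw [hy]; group, hcomm' _ hg2 x hx,
        mul_inv_cancel_right]
    have hwfix : g * w * g⁻¹ = w := by
      rw [show g * w * g⁻¹ = (g * y * g⁻¹) * (g * x * g⁻¹) by rw [hw]; group, hgy, ← hy, hw,
        hcomm' x hx y hyP]
    have hw1 : w ≠ 1 := by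
      intro e
      refine hxg ?_
      rw [eq_inv_of_mul_eq_one_left e]
      have := hexp x hx
      rw [pow_two] at this
      exact (eq_inv_of_mul_eq_one_left this).symm
    have hsq : w = g * g := by
      by_contra hwz
      -- `P = {1, g², w, g²w}` would be fixed pointwise
      let Fix : Subgroup G := P ⊓ Subgroup.centralizer ({g} : Set G)
      have hfix : ∀ a ∈ P, g * a * g⁻¹ = a → a ∈ Fix := fun a ha e =>
        ⟨ha, Subgroup.mem_centralizer_singleton_iff.mpr (mul_inv_eq_iff_eq_mul.mp e).symm⟩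
      have hlt : Fix < P := lt_of_le_of_ne inf_le_left fun e => hgC (Subgroup.mem_centralizer_iff.mpr
        fun a ha => by
          have h1 : a ∈ Fix := e ▸ ha
          exact Subgroup.mem_centralizer_singleton_iff.mp h1.2)
      have hdvd : Nat.card Fix ∣ 4 := hcard ▸ Subgroup.card_dvd_of_le inf_le_left
      have h3le : 3 ≤ Nat.card Fix := by
        have hsub : ({1, g * g, w} : Finset G).card ≤ Nat.card Fix := by
          rw [← Nat.card_eq_finsetCard]
          refine Nat.card_le_card_of_injective (fun a => (⟨a.1, ?_⟩ : Fix)) fun a b e =>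
            Subtype.ext (congrArg Subtype.val e : _)
          have := a.2
          simp only [Finset.mem_insert, Finset.mem_singleton] at this
          rcases this with e | e | e <;> rw [e]
          exacts [Fix.one_mem, hfix _ hg2 hzfix, hfix _ hwP hwfix]
        rwa [Finset.card_insert_of_notMem (by simp [hne.symm, hw1.symm]),
          Finset.card_insert_of_notMem (by simp [Ne.symm hwz]), Finset.card_singleton] at hsub
      have h4 : Nat.card Fix = 4 := by
        have := Nat.le_of_dvd (by norm_num) hdvd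
        interval_cases Nat.card Fix <;> omega
      exact hlt.ne (Subgroup.eq_of_le_of_card_ge inf_le_left (by omega))
    refine ⟨g * x, ?_, fun e => hgC ?_⟩
    · rw [show g * x * (g * x) = y * (g * g) * x by rw [hy]; group, ← hsq, hw,
        hcomm' (y) hyP (y * x) (P.mul_mem hyP hx), mul_assoc, mul_assoc]
      have hx2 := hexp x hx
      have hy2 := hexp y hyP
      rw [pow_two] at hx2 hy2
      rw [show y * (x * (y * x)) = (y * x) * (y * x) by group]
      have := hexp _ hwP
      rw [pow_two, hw] at this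
      exact this
    · have : g = g * x * x⁻¹ := by group
      rw [this]
      exact C.mul_mem e (C.inv_mem (hPC hx))
  have hfs : f s * f s = 1 := by rw [← map_mul, hs2, map_one]
  have hfs1 : f s ≠ 1 := fun e => hsC (hker ▸ MonoidHom.mem_ker.mpr e)
  -- an element of order three in the image
  have hindex : C.index = Nat.card f.range := by rw [← hker, Subgroup.index_ker]
  obtain ⟨b, hb⟩ := exists_prime_orderOf_dvd_card' (G := f.range) 3 (hindex ▸ h3)
  obtain ⟨r, hr⟩ := b.2
  have hr3 : f r * f r * f r = 1 ∧ f r ≠ 1 := by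
    have h1 : (b : Equiv.Perm (Fin 3)) ^ 3 = 1 := by
      have h0 := pow_orderOf_eq_one b
      rw [hb] at h0
      exact congrArg Subtype.val h0
    rw [← hr] at h1
    refine ⟨by rw [← h1]; simp [pow_succ], fun e => ?_⟩
    have h2 : b = 1 := Subtype.ext (hr.symm.trans e)
    rw [h2, orderOf_one] at hb
    norm_num at hb
  obtain ⟨hp3, hp3'⟩ := perm_three (f s) (f r) ⟨hfs, hfs1, hr3.1, hr3.2⟩
  set t₀ := s * (r * s * r⁻¹) with ht₀
  have hft₀ : f t₀ = f s * (f r * f s * (f r)⁻¹) := by simp [ht₀]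
  rw [← hft₀] at hp3 hp3'
  have hsinv : s⁻¹ = s := inv_eq_of_mul_eq_one_right hs2
  have hinv₀ : s * t₀ * s = t₀⁻¹ := by
    have hu : (r * s * r⁻¹)⁻¹ = r * s * r⁻¹ := by simp [mul_assoc, hsinv]
    rw [ht₀, mul_inv_rev, hu, hsinv, ← mul_assoc, hs2, one_mul]
  have hc3 : t₀ * t₀ * t₀ ∈ C := hker ▸ MonoidHom.mem_ker.mpr (by rw [map_mul, map_mul]; exact hp3)
  have hc6 : t₀ ^ 6 = 1 := by
    rw [hC, SolvBasic.mem_sup_iff_of_le_normalizer (fun a _ => by
      rw [Subgroup.normalizer_eq_top]; trivial)] at hc3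
    obtain ⟨x, hx, z, hz, hxz⟩ := hc3
    have hcinv : s * (x * z) * s = (x * z)⁻¹ := by
      rw [← hxz]
      have e : s * (t₀ * t₀ * t₀) * s = (s * t₀ * s) * (s * t₀ * s) * (s * t₀ * s) := by
        rw [show (s * t₀ * s) * (s * t₀ * s) * (s * t₀ * s) =
          s * t₀ * (s * s) * t₀ * (s * s) * t₀ * s by group, hs2]
        group
      rw [e, hinv₀]; group
    have hzc := Subgroup.mem_center_iff.mp hz
    have hzz : z * z = (s * x * s)⁻¹ * x⁻¹ := by
      have e : s * (x * z) * s = s * x * s * z := by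
        rw [mul_assoc (s * x) s z, hzc s]; group
      rw [e, mul_inv_rev] at hcinv
      have h1 : z = (s * x * s)⁻¹ * (z⁻¹ * x⁻¹) := by rw [← hcinv]; group
      calc z * z = (s * x * s)⁻¹ * (z⁻¹ * x⁻¹) * z := by rw [← h1]
        _ = _ := by rw [mul_assoc, mul_assoc z⁻¹, hzc x⁻¹, ← mul_assoc z⁻¹, inv_mul_cancel, one_mul]
    have hz1 : z = 1 := by
      have hzz2 : z * z = 1 := (Subgroup.eq_bot_iff_forall _).mp hPZ _ ⟨hzz ▸ P.mul_mem
        (P.inv_mem (by have := h.normal.conj_mem x hx s; rwa [hsinv] at this)) (P.inv_mem hx),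
        Subgroup.mul_mem _ hz hz⟩
      by_contra hne
      have ho : orderOf z = 2 := orderOf_eq_prime (by rw [pow_two, hzz2]) hne
      have := Subgroup.orderOf_dvd_natCard (Subgroup.center G) hz
      rw [ho] at this
      exact (Nat.not_even_iff_odd.mpr hodd) (even_iff_two_dvd.mpr this)
    rw [hz1, mul_one] at hxz
    have hx2 := hexp x hx
    rw [← hxz] at hx2
    rw [show t₀ ^ 6 = (t₀ * t₀ * t₀) ^ 2 by simp [pow_succ, mul_assoc]]
    exact hx2
  set t := t₀ ^ 4 with ht
  have ht3 : t ^ 3 = 1 := by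
    rw [ht, ← pow_mul, show 4 * 3 = 6 * 2 from rfl, pow_mul, hc6, one_pow]
  have hft : f t = f t₀ := by
    rw [ht, map_pow]
    calc f t₀ ^ 4 = f t₀ * f t₀ * f t₀ * f t₀ := by simp [pow_succ]
      _ = f t₀ := by rw [hp3, one_mul]
  have hinv : s * t * s = t⁻¹ := by
    rw [ht, ← inv_pow, ← hinv₀]
    rw [show s * t₀ * s = s * t₀ * s⁻¹ by rw [hsinv], conj_pow, hsinv]
  have hnorm : Subgroup.zpowers s ≤ Subgroup.normalizer (Subgroup.zpowers t : Set G) := by
    rw [Subgroup.zpowers_le, Subgroup.mem_normalizer_iff]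
    intro a
    have e : ∀ k : ℤ, s * t ^ k * s⁻¹ = t ^ (-k) := fun k => by
      rw [← conj_zpow, hsinv, hinv, inv_zpow, zpow_neg]
    constructor
    · intro ha
      obtain ⟨k, rfl⟩ := Subgroup.mem_zpowers_iff.mp ha
      exact Subgroup.mem_zpowers_iff.mpr ⟨-k, (e k).symm⟩
    · intro ha
      obtain ⟨k, hk⟩ := Subgroup.mem_zpowers_iff.mp ha
      refine Subgroup.mem_zpowers_iff.mpr ⟨-k, ?_⟩
      rw [← e k, hk, hsinv, show s * (s * a * s) * s = (s * s) * a * (s * s) by group, hs2, one_mul,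
        mul_one]
  set K := Subgroup.zpowers t ⊔ Subgroup.zpowers s with hK
  have hft1 : f t ≠ 1 := hft ▸ hp3'
  haveI : Fact (Nat.Prime 3) := ⟨Nat.prime_three⟩
  have hot : orderOf t = 3 := orderOf_eq_prime ht3 fun e => hft1 (by rw [e, map_one])
  have hos : orderOf s = 2 := orderOf_eq_prime (by rw [pow_two, hs2]) fun e => hfs1 (by rw [e, map_one])
  have hKcard : Nat.card K = 6 := by
    rw [hK, SolvBasic.card_sup_of_inf_eq_bot hnorm (Subgroup.inf_eq_bot_of_coprime (by
      rw [Nat.card_zpowers, Nat.card_zpowers, hot, hos]; norm_num)), Nat.card_zpowers,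
      Nat.card_zpowers, hot, hos]
  have hKC : K ⊓ C = ⊥ := by
    have hd2 : 2 ∣ Nat.card (K.map f) := by
      have h1 := Subgroup.orderOf_dvd_natCard (K.map f)
        (Subgroup.mem_map_of_mem f ((le_sup_right : Subgroup.zpowers s ≤ K) (Subgroup.mem_zpowers s)))
      rwa [orderOf_eq_prime (p := 2) (by rw [pow_two, hfs]) hfs1] at h1
    have hd3 : 3 ∣ Nat.card (K.map f) := by
      have h1 := Subgroup.orderOf_dvd_natCard (K.map f)
        (Subgroup.mem_map_of_mem f ((le_sup_left : Subgroup.zpowers t ≤ K) (Subgroup.mem_zpowers t)))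
      rwa [orderOf_eq_prime (p := 3) (by rw [← map_pow, ht3, map_one]) hft1] at h1
    have h6 : 6 ∣ Nat.card (K.map f) := Nat.Coprime.mul_dvd_of_dvd_of_dvd (by norm_num : Nat.Coprime 2 3) hd2 hd3
    have h7 : Nat.card (K.map f) * Nat.card (K ⊓ f.ker : Subgroup G) = Nat.card K := by
      rw [← Subgroup.relIndex_ker, mul_comm, ← Subgroup.relIndex_bot_left,
        ← Subgroup.inf_relIndex_right f.ker K, inf_comm f.ker K,
        Subgroup.relIndex_mul_relIndex _ _ _ bot_le inf_le_left, Subgroup.relIndex_bot_left]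
    rw [hker, hKcard] at h7
    have h8 : Nat.card (K ⊓ C : Subgroup G) = 1 := by
      obtain ⟨q, hq⟩ := h6
      rw [hq, mul_assoc] at h7
      exact Nat.eq_one_of_mul_eq_one_left ((Nat.mul_eq_left (by norm_num : (6:ℕ) ≠ 0)).mp h7)
    exact Subgroup.card_eq_one.mp h8
  have hKP : P ⊓ K = ⊥ := le_bot_iff.mp (hKC ▸ fun x hx => ⟨hx.2, hPC hx.1⟩)
  set H := P ⊔ K with hH
  have hKN : K ≤ Subgroup.normalizer (P : Set G) := fun a _ => by
    rw [Subgroup.normalizer_eq_top]; trivial
  have hHcard : Nat.card H = 24 := by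
    rw [hH, SolvBasic.card_sup_of_inf_eq_bot hKN hKP, hcard, hKcard]
  have hHZ : H ⊓ Subgroup.center G = ⊥ := by
    rw [Subgroup.eq_bot_iff_forall]
    intro a ha
    obtain ⟨x, hx, k, hk, rfl⟩ := (SolvBasic.mem_sup_iff_of_le_normalizer hKN).mp ha.1
    have hkC : k ∈ C := by
      have : k = x⁻¹ * (x * k) := by group
      rw [this, hC]
      exact Subgroup.mul_mem _ ((le_sup_left : P ≤ _) (P.inv_mem hx))
        ((le_sup_right : Subgroup.center G ≤ _) ha.2)
    have hk1 : k = 1 := (Subgroup.eq_bot_iff_forall _).mp hKC k ⟨hk, hkC⟩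
    rw [hk1, mul_one] at ha ⊢
    exact (Subgroup.eq_bot_iff_forall _).mp hPZ x ⟨hx, ha.2⟩
  have hHnorm : Subgroup.center G ≤ Subgroup.normalizer (H : Set G) := fun z hz =>
    Subgroup.mem_normalizer_iff.mpr fun a => by
      rw [← Subgroup.mem_center_iff.mp hz a, mul_inv_cancel_right]
  have htop : H ⊔ Subgroup.center G = ⊤ := by
    refine Subgroup.eq_top_of_le_card _ ?_
    rw [SolvBasic.card_sup_of_inf_eq_bot hHnorm hHZ, hHcard]
    have h1 := Subgroup.card_mul_index C
    have h2 : C.index ∣ 6 := by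
      rw [hindex]
      have := Subgroup.card_subgroup_dvd_card f.range
      simpa [Nat.card_eq_fintype_card, Fintype.card_perm, Nat.factorial] using this
    have h4 : Nat.card C = 4 * Nat.card (Subgroup.center G) := by
      rw [hC, SolvBasic.card_sup_of_inf_eq_bot (fun a _ => by
        rw [Subgroup.normalizer_eq_top]; trivial) hPZ, hcard]
    rw [← h1, h4]
    have h5 := Nat.le_of_dvd (by norm_num) h2
    nlinarith
  refine ⟨H, ?_, hHZ, htop⟩
  -- `H` acts faithfully on the cosets of `K`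
  let K' : Subgroup H := K.subgroupOf H
  have hK'card : Nat.card K' = 6 := by
    rw [Nat.card_congr (Subgroup.subgroupOfEquivOfLe (le_sup_right : K ≤ H)).toEquiv, hKcard]
  have hquot : Nat.card (H ⧸ K') = 4 := by
    have h1 := Subgroup.card_mul_index K'
    rw [hK'card, hHcard, Subgroup.index_eq_card] at h1
    omega
  have hcore : K'.normalCore = ⊥ := by
    rw [Subgroup.eq_bot_iff_forall]
    intro a ha
    refine Subtype.ext ?_
    have hak : (a : G) ∈ K := Subgroup.normalCore_le K' ha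
    refine (Subgroup.eq_bot_iff_forall _).mp hKC a ⟨hak, Subgroup.mem_centralizer_iff.mpr fun x hx => ?_⟩
    let xH : H := ⟨x, (le_sup_left : P ≤ H) hx⟩
    have h1 : xH * a * xH⁻¹ ∈ K' := ha xH
    have h2 : x * a * x⁻¹ * (a : G)⁻¹ ∈ P ⊓ K := by
      refine ⟨?_, K.mul_mem h1 (K.inv_mem hak)⟩
      rw [show x * a * x⁻¹ * (a : G)⁻¹ = x * ((a : G) * x⁻¹ * (a : G)⁻¹) by group]
      exact P.mul_mem hx (h.normal.conj_mem _ (P.inv_mem hx) _)
    rw [hKP, Subgroup.mem_bot, mul_inv_eq_one, mul_inv_eq_iff_eq_mul] at h2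
    exact h2
  let φ : H →* Equiv.Perm (H ⧸ K') := MulAction.toPermHom H (H ⧸ K')
  have hφ : Function.Injective φ := by
    rw [← MonoidHom.ker_eq_bot_iff, ← Subgroup.normalCore_eq_ker, hcore]
  have hbij : Function.Bijective φ := by
    haveI : Fintype (H ⧸ K') := Fintype.ofFinite _
    refine (Nat.bijective_iff_injective_and_card φ).mpr ⟨hφ, ?_⟩
    rw [hHcard, Nat.card_eq_fintype_card, Fintype.card_perm, ← Nat.card_eq_fintype_card, hquot]
    rfl
  exact ⟨(MulEquiv.ofBijective φ hbij).trans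
    ((Finite.equivFin (H ⧸ K')).trans (finCongr hquot)).permCongrHom⟩

/-- A non-Sylow `O_p` gives the exceptional configuration. -/
theorem exceptional (h : Hyp p χ (Cfsg.pCore p G))
    (hns : (Nat.card ↥(Cfsg.pCore p G)).factorization p ≠ (Nat.card G).factorization p) :
    p = 2 ∧ Odd (Nat.card ↥(Subgroup.center G)) ∧ ∃ H : Subgroup G,
      Nonempty (↥H ≃* Equiv.Perm (Fin 4)) ∧ H ⊓ Subgroup.center G = ⊥ ∧ H ⊔ Subgroup.center G = ⊤ := by
  haveI : Fintype (Cfsg.pCore p G) := Fintype.ofFinite _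
  set P := Cfsg.pCore p G with hP
  haveI := h.normal
  obtain ⟨S, hPS⟩ := h.pgroup.exists_le_sylow
  have hlt : P < (S : Subgroup G) := lt_of_le_of_ne hPS fun e => hns (by
    rw [show Nat.card ↥P = Nat.card ↥(S : Subgroup G) from congrArg (fun K : Subgroup G => Nat.card K) e,
      Sylow.card_eq_multiplicity, Nat.Prime.factorization_pow Fact.out, Finsupp.single_eq_same])
  obtain ⟨g₀, hg₀S, hg₀P⟩ := SetLike.exists_of_lt hlt
  obtain ⟨a, ha⟩ := IsPGroup.iff_orderOf.mp S.isPGroup' ⟨g₀, hg₀S⟩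
  have hex : ∃ k, g₀ ^ p ^ k ∈ P := ⟨a, by
    rw [← ha, Subgroup.orderOf_mk, pow_orderOf_eq_one]; exact P.one_mem⟩
  obtain ⟨g, hgS, hgP, hgp⟩ : ∃ g ∈ (S : Subgroup G), g ∉ P ∧ g ^ p ∈ P := by
    obtain ⟨k, hk, hmin⟩ : ∃ k, g₀ ^ p ^ k ∈ P ∧ ∀ j < k, g₀ ^ p ^ j ∉ P :=
      ⟨Nat.find hex, Nat.find_spec hex, fun j hj => Nat.find_min hex hj⟩
    cases k with
    | zero => exact absurd (by simpa using hk) hg₀P
    | succ k =>
      exact ⟨g₀ ^ p ^ k, Subgroup.pow_mem _ hg₀S _, hmin k (Nat.lt_succ_self k),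
        by rw [← pow_mul, ← pow_succ]; exact hk⟩
  have hfix := h.fixed_unique S.isPGroup' hPS hgS hgP
  obtain ⟨hcomm, hd, -, htr⟩ := h.restrict
  obtain ⟨d, hd', hd2⟩ := h.two_le
  rw [hd, Nat.cast_inj] at hd'
  subst hd'
  letI : CommGroup P := { (inferInstance : Group P) with mul_comm := hcomm }
  let toIrr : (P →* ℂˣ) → Cfsg.IrrCharacter P := fun f => ⟨_, isIrrCharacter_linear f⟩
  have htoIrr : Function.Injective toIrr := fun a b e =>
    MonoidHom.ext fun x => Units.ext (congrFun (congrArg Subtype.val e) x)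
  haveI : Finite (P →* ℂˣ) := Finite.of_injective _ htoIrr
  let σ : (P →* ℂˣ) →* (P →* ℂˣ) :=
    { toFun := fun f => f.comp (conjHom P g)
      map_one' := rfl
      map_mul' := fun _ _ => rfl }
  let Fx : Subgroup (P →* ℂˣ) :=
    { carrier := {f | σ f = f}
      one_mem' := map_one σ
      mul_mem' := fun {a b} ha hb => by
        simp only [Set.mem_setOf_eq] at ha hb ⊢
        rw [map_mul, ha, hb]
      inv_mem' := fun {a} ha => by
        simp only [Set.mem_setOf_eq] at ha ⊢
        rw [map_inv, ha] }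
  have hFx : Nat.card Fx = 2 := by
    rw [← hfix, ← Nat.card_eq_finsetCard]
    refine Nat.card_congr (Equiv.ofBijective (fun f => ⟨toIrr f.1, Finset.mem_filter.mpr
      ⟨Finset.mem_univ _, ?_⟩⟩) ⟨fun a b e => ?_, fun φ => ?_⟩)
    · funext x
      exact congrArg (fun k : P →* ℂˣ => (k x : ℂ)) f.2
    · exact Subtype.ext (htoIrr (congrArg Subtype.val e))
    · obtain ⟨f, hf⟩ := exists_hom_of_degree_one (IsIrrCharacter.isCharacter φ.1.2)
        (degree_one_of_comm hcomm φ.1.2)
      refine ⟨⟨f, MonoidHom.ext fun x => Units.ext ?_⟩, Subtype.ext (Subtype.ext hf.symm)⟩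
      have := congrFun (Finset.mem_filter.mp φ.2).2 x
      rw [hf] at this
      exact this
  have hexp := h.exponent
  have hfp : ∀ f : P →* ℂˣ, f ^ p = 1 := fun f => MonoidHom.ext fun x => by
    rw [MonoidHom.pow_apply, ← map_pow, MonoidHom.one_apply,
      show x ^ p = 1 from Subtype.ext (hexp x x.2), map_one]
  -- `p = 2`
  have hp2 : p = 2 := by
    obtain ⟨f, hf, hf1⟩ : ∃ f ∈ Fx, f ≠ 1 := by
      haveI : Nontrivial Fx := Finite.one_lt_card_iff_nontrivial.mp (by rw [hFx]; norm_num)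
      obtain ⟨f, hf⟩ := exists_ne (1 : Fx)
      exact ⟨f, f.2, fun e => hf (Subtype.ext e)⟩
    have h1 : orderOf f = p := orderOf_eq_prime (hfp f) hf1
    have h2 := Subgroup.orderOf_dvd_natCard Fx hf
    rw [h1, hFx] at h2
    exact (Nat.prime_dvd_prime_iff_eq Fact.out Nat.prime_two).mp h2
  subst hp2
  rw [pow_two] at hgp
  -- `|P| = 4`
  have hσσ : ∀ f, σ (σ f) = f := fun f => MonoidHom.ext fun x => congrArg f (Subtype.ext (by
    show g * (g * x * g⁻¹) * g⁻¹ = x
    rw [show g * (g * (x : G) * g⁻¹) * g⁻¹ = (g * g) * x * (g * g)⁻¹ by group]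
    have := congrArg Subtype.val (hcomm ⟨g * g, hgp⟩ x)
    simp only [Subgroup.coe_mul] at this
    rw [this, mul_inv_cancel_right]))
  have hinv : ∀ f : P →* ℂˣ, f⁻¹ = f := fun f => MonoidHom.ext fun x => by
    rw [MonoidHom.inv_apply]
    refine inv_eq_of_mul_eq_one_right ?_
    exact (pow_two (f x)).symm.trans (DFunLike.congr_fun (hfp f) x)
  let ψ : (P →* ℂˣ) →* (P →* ℂˣ) := MonoidHom.id _ * σ
  have hψker : ψ.ker ≤ Fx := fun f hf => by
    have h1 : f * σ f = 1 := hf
    show σ f = f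
    refine MonoidHom.ext fun x => ?_
    have h2 : f x * σ f x = 1 := DFunLike.congr_fun h1 x
    rw [← inv_eq_of_mul_eq_one_right h2, ← MonoidHom.inv_apply, hinv]
  have hψrange : ψ.range ≤ Fx := by
    rintro _ ⟨f, rfl⟩
    show σ (f * σ f) = f * σ f
    rw [map_mul, hσσ]
    ext x
    simp [mul_comm]
  have hcardP : Nat.card P ∣ 4 := by
    rw [← CommGroup.card_monoidHom_of_hasEnoughRootsOfUnity P ℂ, ← Subgroup.card_mul_index ψ.ker,
      Subgroup.index_ker]
    have a1 := Subgroup.card_dvd_of_le hψker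
    have a2 := Subgroup.card_dvd_of_le hψrange
    rw [hFx] at a1 a2
    exact Nat.mul_dvd_mul a1 a2
  have hcard : Nat.card P = 4 := by
    have := Nat.le_of_dvd (by norm_num) hcardP
    interval_cases hc : Nat.card P <;> omega
  have hgC : g ∉ Subgroup.centralizer (P : Set G) := by
    intro hg
    have hall := (h.mem_centralizer_iff g).mp hg
    rw [Finset.filter_true_of_mem (fun φ _ => hall φ), Finset.card_univ, card_irr_of_comm hcomm,
      hcard] at hfix
    norm_num at hfix
  have h3 : 3 ∣ (Subgroup.centralizer (P : Set G)).index := by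
    obtain ⟨f, hf⟩ : ∃ f : P →* ℂˣ, f ≠ 1 := by
      haveI : Nontrivial (P →* ℂˣ) := Finite.one_lt_card_iff_nontrivial.mp
        (by rw [CommGroup.card_monoidHom_of_hasEnoughRootsOfUnity, hcard]; norm_num)
      exact exists_ne 1
    set φ := toIrr f
    have hφ : (φ : P → ℂ) ≠ fun _ => 1 := fun e => hf (MonoidHom.ext fun x => Units.ext (congrFun e x))
    have hle : Subgroup.centralizer (P : Set G) ≤ inertia P (φ : P → ℂ) := fun a ha =>
      (h.mem_centralizer_iff a).mp ha φ
    have hidx : (inertia P (φ : P → ℂ)).index = 3 := by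
      rw [← card_conjOrbit]
      have horb : conjOrbit P (φ : P → ℂ) = ((Finset.univ : Finset (Cfsg.IrrCharacter P)).erase
          ⟨fun _ => 1, isIrrCharacter_one⟩).image Subtype.val := by
        ext a
        rw [mem_conjOrbit, Finset.mem_image]
        constructor
        · rintro ⟨b, rfl⟩
          refine ⟨⟨_, isIrrCharacter_conjChar P φ.2 b⟩, Finset.mem_erase.mpr ⟨fun e => hφ ?_,
            Finset.mem_univ _⟩, rfl⟩
          have := congrArg (fun a : Cfsg.IrrCharacter P => conjChar P b⁻¹ (a : P → ℂ)) e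
          simp only [← conjChar_mul, mul_inv_cancel, conjChar_one] at this
          exact this.trans rfl
        · rintro ⟨a, ha, rfl⟩
          obtain ⟨b, hb⟩ := htr φ a hφ fun e => (Finset.mem_erase.mp ha).1 (Subtype.ext e)
          exact ⟨b, funext fun x => hb x (h.normal.conj_mem x x.2 b)⟩
      rw [horb, Finset.card_image_of_injective _ Subtype.val_injective,
        Finset.card_erase_of_mem (Finset.mem_univ _), Finset.card_univ, card_irr_of_comm hcomm, hcard]
    exact hidx ▸ Subgroup.index_dvd_of_le hle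
  exact ⟨rfl, exists_sym_four h hcard hgP hgp hgC h3⟩

end Cfsg.Agent.RootUnity
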