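import Cfsg.Prelude.Def_Characters
import Mathlib.RepresentationTheory.Basic
import Mathlib.LinearAlgebra.Trace
import Mathlib.Analysis.SpecialFunctions.Trigonometric.Basic
import Mathlib.Analysis.SpecificLimits.Basic
import Mathlib.GroupTheory.Subgroup.Simple
import Mathlib.Tactic

/-!
# Blichfeldt's sixty degree lemma

If `g` has an eigenvalue `μ` such that all eigenvalues of `g` lie strictly within 60 degrees of `μ`,
then every conjugate of `g` maps the `μ`-eigenspace to itself.
-/

set_option autoImplicit false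
set_option linter.unusedSectionVars false

namespace Cfsg.Agent.SixtyArc

open scoped ComplexConjugate

variable {G : Type*} [Group G] [Fintype G] {n : ℕ} (ρ : Representation ℂ G (Fin n → ℂ))

/-- An invariant positive sesquilinear form. -/
def form (u v : Fin n → ℂ) : ℂ := ∑ a : G, ∑ i : Fin n, conj (ρ a u i) * ρ a v i

/-- The associated norm squared. -/
def nsq (u : Fin n → ℂ) : ℝ := ∑ a : G, ∑ i : Fin n, Complex.normSq (ρ a u i)

theorem form_self (u : Fin n → ℂ) : form ρ u u = (nsq ρ u : ℂ) := by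
  simp [form, nsq, Complex.normSq_eq_conj_mul_self]

theorem nsq_nonneg (u : Fin n → ℂ) : 0 ≤ nsq ρ u :=
  Finset.sum_nonneg fun _ _ => Finset.sum_nonneg fun _ _ => Complex.normSq_nonneg _

theorem eq_zero_of_nsq {u : Fin n → ℂ} (h : nsq ρ u = 0) : u = 0 := by
  have h1 := (Finset.sum_eq_zero_iff_of_nonneg fun a _ =>
    Finset.sum_nonneg fun i _ => Complex.normSq_nonneg (ρ a u i)).1 h 1 (Finset.mem_univ _)
  have h2 := (Finset.sum_eq_zero_iff_of_nonneg fun i _ => Complex.normSq_nonneg (ρ 1 u i)).1 h1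
  funext i
  simpa using h2 i (Finset.mem_univ _)

theorem form_inv (g : G) (u v : Fin n → ℂ) : form ρ (ρ g u) (ρ g v) = form ρ u v := by
  unfold form
  refine Fintype.sum_equiv (Equiv.mulRight g) _ _ fun a => ?_
  simp only [Equiv.coe_mulRight, map_mul, Module.End.mul_apply]

theorem nsq_inv (g : G) (u : Fin n → ℂ) : nsq ρ (ρ g u) = nsq ρ u := by
  have := form_inv ρ g u u
  rw [form_self, form_self] at this
  exact_mod_cast this

theorem form_add_right (u v w : Fin n → ℂ) : form ρ u (v + w) = form ρ u v + form ρ u w := by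
  simp [form, mul_add, Finset.sum_add_distrib]

theorem form_smul_right (c : ℂ) (u v : Fin n → ℂ) : form ρ u (c • v) = c * form ρ u v := by
  simp only [form, map_smul, Pi.smul_apply, smul_eq_mul, Finset.mul_sum]
  exact Finset.sum_congr rfl fun a _ => Finset.sum_congr rfl fun i _ => by ring

theorem form_smul_left (c : ℂ) (u v : Fin n → ℂ) :
    form ρ (c • u) v = conj c * form ρ u v := by
  simp only [form, map_smul, Pi.smul_apply, smul_eq_mul, Finset.mul_sum, map_mul]
  exact Finset.sum_congr rfl fun a _ => Finset.sum_congr rfl fun i _ => by ring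

theorem form_zero_right (u : Fin n → ℂ) : form ρ u 0 = 0 := by simp [form]

theorem form_sum_right {J : Type*} (s : Finset J) (u : Fin n → ℂ) (f : J → Fin n → ℂ) :
    form ρ u (∑ j ∈ s, f j) = ∑ j ∈ s, form ρ u (f j) := by
  classical
  induction s using Finset.induction_on with
  | empty => simp [form_zero_right]
  | insert a s ha ih => rw [Finset.sum_insert ha, Finset.sum_insert ha, form_add_right, ih]

theorem form_comm (u v : Fin n → ℂ) : form ρ v u = conj (form ρ u v) := by
  simp only [form, map_sum, map_mul, Complex.conj_conj]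
  exact Finset.sum_congr rfl fun a _ => Finset.sum_congr rfl fun i _ => by ring

theorem nsq_add {u v : Fin n → ℂ} (h : form ρ u v = 0) :
    nsq ρ (u + v) = nsq ρ u + nsq ρ v := by
  have e : form ρ (u + v) (u + v) = form ρ u u + form ρ u v + form ρ v u + form ρ v v := by
    simp only [form, map_add, Pi.add_apply, add_mul, mul_add, Finset.sum_add_distrib]
    ring
  rw [form_comm ρ u v, h, map_zero, form_self, form_self, form_self] at e
  simp only [add_zero] at e
  exact_mod_cast e

theorem nsq_smul (c : ℂ) (u : Fin n → ℂ) : nsq ρ (c • u) = Complex.normSq c * nsq ρ u := by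
  simp [nsq, Finset.mul_sum]

theorem nsq_sum {J : Type*} (s : Finset J) (f : J → Fin n → ℂ)
    (h : ∀ i ∈ s, ∀ j ∈ s, i ≠ j → form ρ (f i) (f j) = 0) :
    nsq ρ (∑ j ∈ s, f j) = ∑ j ∈ s, nsq ρ (f j) := by
  classical
  induction s using Finset.induction_on with
  | empty => simp [nsq]
  | insert a s ha ih =>
    rw [Finset.sum_insert ha, Finset.sum_insert ha, nsq_add, ih]
    · exact fun i hi j hj => h i (Finset.mem_insert_of_mem hi) j (Finset.mem_insert_of_mem hj)
    · rw [form_sum_right]
      refine Finset.sum_eq_zero fun j hj => h a (Finset.mem_insert_self _ _) j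
        (Finset.mem_insert_of_mem hj) ?_
      rintro rfl
      exact ha hj

/-- Eigenvectors of a group element for distinct unimodular eigenvalues are orthogonal. -/
theorem form_eig {g : G} {u v : Fin n → ℂ} {α β : ℂ} (hu : ρ g u = α • u) (hv : ρ g v = β • v)
    (hα : conj α * α = 1) (hne : α ≠ β) : form ρ u v = 0 := by
  have h := form_inv ρ g u v
  rw [hu, hv, form_smul_left, form_smul_right] at h
  by_contra h0
  have h1 : conj α * β = 1 := mul_right_cancel₀ h0 (by rw [mul_assoc, h, one_mul])
  have hc : conj α ≠ 0 := fun e => by simp [e] at hα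
  exact hne (mul_left_cancel₀ hc (hα.trans h1.symm))

/-- No element of a non-abelian simple group acts, in a representation without fixed vectors,
with all eigenvalues strictly within sixty degrees of one of them. -/
theorem no_small_arc [IsSimpleGroup G] (hna : ∀ g : G, g ≠ 1 → ∃ a, a * g ≠ g * a)
    (hfix : ∀ v : Fin n → ℂ, (∀ a, ρ a v = v) → v = 0)
    {J : Type*} [Fintype J] (P : J → (Fin n → ℂ) →ₗ[ℂ] (Fin n → ℂ)) (μ : J → ℂ) (j₀ : J)
    (g : G) (hg : g ≠ 1)
    (hsum : ∀ v, ∑ j, P j v = v) (heig : ∀ j v, ρ g (P j v) = μ j • P j v)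
    (hunit : ∀ j, conj (μ j) * μ j = 1)
    (hdist : ∀ i j, i ≠ j → P i ≠ 0 → P j ≠ 0 → μ i ≠ μ j)
    (hinv : ∀ W : Submodule ℂ (Fin n → ℂ), (∀ w ∈ W, ρ g w ∈ W) → ∀ w ∈ W, P j₀ w ∈ W)
    (hidem : ∀ v, P j₀ (P j₀ v) = P j₀ v)
    (hne : P j₀ ≠ 0)
    (harc : ∀ j, P j ≠ 0 → Complex.normSq (μ j - μ j₀) < 1) : False := by
  classical
  set E : Submodule ℂ (Fin n → ℂ) := LinearMap.range (P j₀) with hE
  have hEmem : ∀ e, e ∈ E ↔ P j₀ e = e := fun e =>
    ⟨by rintro ⟨v, rfl⟩; exact hidem v, fun h => ⟨e, h⟩⟩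
  have horth : ∀ u v : Fin n → ℂ, ∀ i j, i ≠ j → form ρ (P i u) (P j v) = 0 := by
    intro u v i j hij
    by_cases hi : P i = 0
    · simp [hi, form]
    by_cases hj : P j = 0
    · simp [hj, form]
    exact form_eig ρ (heig i u) (heig j v) (hunit i) (hdist i j hij hi hj)
  -- the orthogonal decomposition
  have hsub : ∀ u, u - P j₀ u = ∑ j ∈ Finset.univ.erase j₀, P j u := fun u => by
    rw [sub_eq_iff_eq_add, Finset.sum_erase_add _ _ (Finset.mem_univ j₀), hsum]
  have hD : ∀ u e, e ∈ E → nsq ρ (u - P j₀ u) ≤ nsq ρ (u - e) := by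
    intro u e he
    have h1 : u - e = (u - P j₀ u) + (P j₀ (u - e)) := by
      rw [map_sub, (hEmem e).1 he]; abel
    rw [h1, nsq_add ρ, le_add_iff_nonneg_right]
    · exact nsq_nonneg ρ _
    · rw [hsub, form_comm, form_sum_right, Finset.sum_eq_zero, map_zero]
      exact fun j hj => horth _ _ _ _ (Finset.ne_of_mem_erase hj).symm
  obtain ⟨c, hc0, hc1, hc⟩ : ∃ c : ℝ, 0 ≤ c ∧ c < 1 ∧
      ∀ j, P j ≠ 0 → Complex.normSq (μ j - μ j₀) ≤ c := by
    set T : Finset ℝ := insert 0
      ((Finset.univ.filter fun j => P j ≠ 0).image fun j => Complex.normSq (μ j - μ j₀)) with hT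
    refine ⟨T.max' (Finset.insert_nonempty _ _), T.le_max' _ (Finset.mem_insert_self _ _), ?_,
      fun j hj => T.le_max' _ (Finset.mem_insert_of_mem (Finset.mem_image.2 ⟨j, by simp [hj], rfl⟩))⟩
    rw [Finset.max'_lt_iff]
    intro y hy
    rcases Finset.mem_insert.1 hy with rfl | hy
    · norm_num
    · obtain ⟨j, hj, rfl⟩ := Finset.mem_image.1 hy
      exact harc j (Finset.mem_filter.1 hj).2
  have hcon : ∀ u, nsq ρ (ρ g u - μ j₀ • u) ≤ c * nsq ρ (u - P j₀ u) := by
    intro u
    have e1 : ρ g u - μ j₀ • u = ∑ j ∈ Finset.univ.erase j₀, (μ j - μ j₀) • P j u := by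
      rw [Finset.sum_erase _ (by simp)]
      conv_lhs => rw [← hsum u, map_sum, Finset.smul_sum, ← Finset.sum_sub_distrib]
      exact Finset.sum_congr rfl fun j _ => by rw [heig, sub_smul]
    rw [e1, hsub, nsq_sum, nsq_sum, Finset.mul_sum]
    · refine Finset.sum_le_sum fun j _ => ?_
      rw [nsq_smul]
      by_cases hj : P j = 0
      · simp [hj, nsq]
      · exact mul_le_mul_of_nonneg_right (hc j hj) (nsq_nonneg ρ _)
    · exact fun i _ j _ hij => horth _ _ _ _ hij
    · intro i _ j _ hij
      rw [form_smul_left, form_smul_right, horth _ _ _ _ hij, mul_zero, mul_zero]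
  -- the distance of `a⁻¹ E` from `E`
  let C : ℝ → G → Prop := fun t a =>
    ∀ v ∈ E, nsq ρ (ρ a⁻¹ v - P j₀ (ρ a⁻¹ v)) ≤ t * nsq ρ v
  have hbase : ∀ a, C 1 a := fun a v _ => by
    have := hD (ρ a⁻¹ v) 0 E.zero_mem
    rwa [sub_zero, nsq_inv, ← one_mul (nsq ρ v)] at this
  let f : G → G := fun a => a * g⁻¹ * a⁻¹
  have hfinv : ∀ a, (f a)⁻¹ = a * g * a⁻¹ := fun a => by simp [f, mul_assoc]
  have hstep : ∀ t a, C t a → C (c * t) (f a) := by
    intro t a ha v hv
    have key : ρ (f a)⁻¹ v - μ j₀ • v = ρ a (ρ g (ρ a⁻¹ v) - μ j₀ • ρ a⁻¹ v) := by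
      rw [map_sub, map_smul, Representation.self_inv_apply, hfinv]
      simp [map_mul]
    refine (hD _ _ (E.smul_mem (μ j₀) hv)).trans ?_
    rw [key, nsq_inv]
    exact (hcon _).trans ((mul_le_mul_of_nonneg_left (ha v hv) hc0).trans_eq (by ring))
  have hstab : ∀ a, C 0 a → ∀ v ∈ E, ρ a⁻¹ v ∈ E := fun a ha v hv => by
    have h0 := ha v hv
    rw [zero_mul] at h0
    exact (hEmem _).2 (sub_eq_zero.1 (eq_zero_of_nsq ρ (le_antisymm h0 (nsq_nonneg ρ _)))).symm
  have hdesc : ∀ t a, t < 1 → C t a → C 0 (f a) → C 0 a := by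
    intro t a ht ha hfa v hv
    let W : Submodule ℂ (Fin n → ℂ) := E.map (ρ a⁻¹)
    have hWg : ∀ w ∈ W, ρ g w ∈ W := by
      rintro _ ⟨e, he, rfl⟩
      refine ⟨ρ (f a)⁻¹ e, hstab _ hfa e he, ?_⟩
      rw [hfinv, ← Module.End.mul_apply, ← map_mul, ← Module.End.mul_apply, ← map_mul]
      congr 2
      group
    have hv' : ρ a⁻¹ v ∈ W := ⟨v, hv, rfl⟩
    obtain ⟨e, he, hee⟩ : ρ a⁻¹ v - P j₀ (ρ a⁻¹ v) ∈ W := W.sub_mem hv' (hinv W hWg _ hv')
    have h1 := ha e he
    rw [hee, map_sub, hidem, sub_self, sub_zero] at h1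
    have h2 : nsq ρ e = nsq ρ (ρ a⁻¹ v - P j₀ (ρ a⁻¹ v)) := by rw [← hee, nsq_inv]
    rw [h2] at h1
    rw [zero_mul]
    nlinarith [nsq_nonneg ρ (ρ a⁻¹ v - P j₀ (ρ a⁻¹ v))]
  have hconj : ∀ a, C 0 (f a) := by
    intro a
    set a₁ := f a
    have hpow : ∀ m, C (c ^ (m + 1)) (f^[m] a₁) := by
      intro m
      induction m with
      | zero =>
        have := hstep _ _ (hbase a)
        rwa [mul_one, ← pow_one c] at this
      | succ m ih =>
        rw [Function.iterate_succ_apply', pow_succ']
        exact hstep _ _ ih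
    obtain ⟨i, j, hij, he⟩ : ∃ i j : ℕ, i < j ∧ f^[i] a₁ = f^[j] a₁ := by
      obtain ⟨i, j, hne, he⟩ := Finite.exists_ne_map_eq_of_infinite (fun m : ℕ => f^[m] a₁)
      rcases lt_or_gt_of_ne hne with h | h
      · exact ⟨i, j, h, he⟩
      · exact ⟨j, i, h, he.symm⟩
    have hper : ∀ N : ℕ, f^[i + (j - i) * N] a₁ = f^[i] a₁ := by
      intro N
      induction N with
      | zero => simp
      | succ N ih =>
        rw [show i + (j - i) * (N + 1) = (j - i) + (i + (j - i) * N) by ring,
          Function.iterate_add_apply, ih, ← Function.iterate_add_apply, Nat.sub_add_cancel hij.le,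
          he]
    have hzero : C 0 (f^[i] a₁) := by
      intro v hv
      rw [zero_mul]
      by_contra hpos
      push Not at hpos
      rcases (nsq_nonneg ρ v).lt_or_eq with hv0 | hv0
      · obtain ⟨N, hN⟩ := exists_pow_lt_of_lt_one (div_pos hpos hv0) hc1
        have h1 := hpow (i + (j - i) * N) v hv
        rw [hper] at h1
        have h2 : c ^ (i + (j - i) * N + 1) ≤ c ^ N := pow_le_pow_of_le_one hc0 hc1.le
          (le_trans (Nat.le_mul_of_pos_left N (Nat.sub_pos_of_lt hij)) (by omega))
        have h3 := h1.trans (mul_le_mul_of_nonneg_right h2 hv0.le)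
        rw [lt_div_iff₀ hv0] at hN
        linarith
      · have h1 := hbase (f^[i] a₁) v hv
        rw [← hv0, mul_zero] at h1
        linarith
    have hback : ∀ m, m ≤ i → C 0 (f^[i - m] a₁) := by
      intro m
      induction m with
      | zero => intro _; simpa using hzero
      | succ m ih =>
        intro hm
        refine hdesc (c ^ (i - (m + 1) + 1)) _ (pow_lt_one₀ hc0 hc1 (by omega)) (hpow _) ?_
        rw [← Function.iterate_succ_apply' f, show (i - (m + 1)).succ = i - m by omega]
        exact ih (by omega)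
    simpa using hback i le_rfl
  -- every group element preserves the eigenspace
  have hall : ∀ a, ∀ v ∈ E, ρ a v ∈ E := by
    let H : Subgroup G :=
      { carrier := {a | ∀ v ∈ E, ρ a v ∈ E}
        one_mem' := fun v hv => by simpa using hv
        mul_mem' := fun {a b} ha hb v hv => by
          rw [map_mul, Module.End.mul_apply]
          exact ha _ (hb v hv)
        inv_mem' := fun {a} ha v hv => by
          have hk : ∀ k : ℕ, ρ (a ^ k) v ∈ E := by
            intro k
            induction k with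
            | zero => simpa using hv
            | succ k ih =>
              rw [pow_succ', map_mul, Module.End.mul_apply]
              exact ha _ ih
          have hinv : a⁻¹ = a ^ (orderOf a - 1) := by
            rw [eq_comm, eq_inv_iff_mul_eq_one, ← pow_succ,
              Nat.sub_add_cancel (orderOf_pos a), pow_orderOf_eq_one]
          rw [hinv]
          exact hk _ }
    have hle : Subgroup.normalClosure ({g} : Set G) ≤ H := by
      rw [Subgroup.normalClosure, Subgroup.closure_le]
      intro y hy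
      obtain ⟨z, hz, hzy⟩ := Group.mem_conjugatesOfSet_iff.1 hy
      rw [Set.mem_singleton_iff] at hz
      subst hz
      obtain ⟨a, rfl⟩ := isConj_iff.1 hzy
      intro v hv
      rw [← hfinv]
      exact hstab _ (hconj a) v hv
    have htop : Subgroup.normalClosure ({g} : Set G) = ⊤ := by
      refine (Subgroup.normalClosure_normal.eq_bot_or_eq_top).resolve_left fun e => hg ?_
      exact Subgroup.mem_bot.1 (e ▸ Subgroup.subset_normalClosure rfl)
    exact fun a => hle (htop ▸ Subgroup.mem_top a)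
  -- the kernel of the action on the eigenspace
  let K : Subgroup G :=
    { carrier := {a | ∀ v ∈ E, ρ a v = v}
      one_mem' := fun v _ => by simp
      mul_mem' := fun {a b} ha hb v hv => by
        rw [map_mul, Module.End.mul_apply, hb v hv, ha v hv]
      inv_mem' := fun {a} ha v hv => by
        conv_lhs => rw [← ha v hv, Representation.inv_self_apply] }
  have hKn : K.Normal := ⟨fun a ha b v hv => by
    rw [map_mul, map_mul, Module.End.mul_apply, Module.End.mul_apply, ha _ (hall b⁻¹ v hv),
      Representation.self_inv_apply]⟩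
  rcases hKn.eq_bot_or_eq_top with hK | hK
  · obtain ⟨a, ha⟩ := hna g hg
    refine ha ?_
    have hmem : (g * a)⁻¹ * (a * g) ∈ K := by
      intro v hv
      have he : ∀ w ∈ E, ρ g w = μ j₀ • w := fun w hw => by
        conv_lhs => rw [← (hEmem w).1 hw, heig, (hEmem w).1 hw]
      have h1 : ρ (a * g) v = ρ (g * a) v := by
        rw [map_mul, map_mul, Module.End.mul_apply, Module.End.mul_apply, he v hv, map_smul,
          he _ (hall a v hv)]
      rw [map_mul, Module.End.mul_apply, h1, Representation.inv_self_apply]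
    rw [hK, Subgroup.mem_bot, inv_mul_eq_one] at hmem
    exact hmem.symm
  · refine hne (LinearMap.ext fun v => ?_)
    exact hfix (P j₀ v) fun a => (hK ▸ Subgroup.mem_top a : a ∈ K) _ ⟨v, rfl⟩

end Cfsg.Agent.SixtyArc
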