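import Cfsg.Agent.Lib.Char.CoherenceTI
import Cfsg.Prelude.Def_Transfer

/-!
# Case distinctions for TI kernels of Frobenius normalisers
-/

set_option linter.style.haveILetI false
set_option linter.unusedSectionVars false

namespace Cfsg.Agent.Char.TICases

open Cfsg.Agent.Char
open scoped Classical

universe u v

variable {L : Type u} [Group L] [Fintype L] (K : Subgroup L) [hK : K.Normal]
  (hF : ∀ k ∈ K, k ≠ 1 → Subgroup.centralizer ({k} : Set L) ≤ K)

include hF

theorem transitive (hK1 : K ≠ ⊥) (he : Nat.card K = K.index + 1) :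
    (∀ a ∈ K, ∀ b ∈ K, a * b = b * a) ∧ ∃ p : ℕ, p.Prime ∧ ∀ x ∈ K, x ^ p = 1 := by
  have hC : ∀ k ∈ K, k ≠ 1 → Subgroup.centralizer ({k} : Set L) = K ∧
      ∀ x ∈ K, x ≠ 1 → IsConj k x := by
    intro k hk hk1
    have hle := hF k hk hk1
    set s := (Finset.univ.filter fun x : L => x ∈ K).erase 1 with hs
    have hcard : s.card = K.index := by
      rw [hs, Finset.card_erase_of_mem (by simp), ← Fintype.card_subtype, ← Nat.card_eq_fintype_card]
      omega
    have hsub : classFinset k ⊆ s := fun x hx => by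
      obtain ⟨g, rfl⟩ := isConj_iff.mp (mem_classFinset.mp hx)
      simp only [hs, Finset.mem_erase, Finset.mem_filter, Finset.mem_univ, true_and]
      exact ⟨fun h => hk1 (conj_eq_one_iff.mp h), hK.conj_mem k hk g⟩
    have hidx := Subgroup.relIndex_mul_index hle
    have h1 : (classFinset k).card ≤ K.index := hcard ▸ Finset.card_le_card hsub
    rw [card_classFinset] at h1
    have h0 : 0 < K.index := Nat.pos_of_ne_zero Subgroup.index_ne_zero_of_finite
    have hr : (Subgroup.centralizer ({k} : Set L)).relIndex K = 1 := by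
      have h2 : (Subgroup.centralizer ({k} : Set L)).relIndex K ≠ 0 := Subgroup.index_ne_zero_of_finite
      by_contra hne
      have : 2 * K.index ≤ (Subgroup.centralizer ({k} : Set L)).relIndex K * K.index :=
        Nat.mul_le_mul_right _ (by omega)
      omega
    have hCK : Subgroup.centralizer ({k} : Set L) = K := le_antisymm hle (Subgroup.relIndex_eq_one.mp hr)
    refine ⟨hCK, fun x hx hx1 => ?_⟩
    have he' : classFinset k = s := Finset.eq_of_subset_of_card_le hsub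
      (by rw [hcard, card_classFinset, hCK])
    have : x ∈ classFinset k := by
      rw [he']; simp [hs, hx, hx1]
    exact mem_classFinset.mp this
  refine ⟨fun a ha b hb => ?_, ?_⟩
  · by_cases h : a = 1
    · simp [h]
    · have hb' : b ∈ Subgroup.centralizer ({a} : Set L) := (hC a ha h).1.symm ▸ hb
      exact (Subgroup.mem_centralizer_singleton_iff.mp hb').symm
  · obtain ⟨p, hp, hpK⟩ := Nat.exists_prime_and_dvd
      (fun h => hK1 (Subgroup.card_eq_one.mp h) : Nat.card K ≠ 1)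
    haveI := Fact.mk hp
    obtain ⟨⟨k, hk⟩, hord⟩ := exists_prime_orderOf_dvd_card' (G := K) p hpK
    rw [← Subgroup.orderOf_coe] at hord
    replace hord : orderOf k = p := hord
    refine ⟨p, hp, fun x hx => ?_⟩
    by_cases hx1 : x = 1
    · simp [hx1]
    · have hk1 : k ≠ 1 := fun h => hp.ne_one (by rw [← hord, h, orderOf_one])
      obtain ⟨g, rfl⟩ := isConj_iff.mp ((hC k hk hk1).2 x hx hx1)
      rw [conj_pow, show k ^ p = 1 from hord ▸ pow_orderOf_eq_one k]
      simp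

theorem card_single (hK1 : K ≠ ⊥) (hab : ∀ a ∈ K, ∀ b ∈ K, a * b = b * a)
    (he : Nat.card K = K.index + 1) :
    Nat.card {χ : L → ℂ // χ ∈ Cfsg.inducedIrrAbove K ⊥} = 1 := by
  have hirr : ∀ φ ∈ Cfsg.inducedIrrAbove K ⊥, Cfsg.IsIrrCharacter L φ := fun φ h =>
    Feit.above_irr K hF h
  have h1 : ∀ θ ∈ IndSet.over K ⊥, (θ : K → ℂ) 1 = 1 := fun θ _ =>
    degree_one_of_comm (fun a b => Subtype.ext (hab a a.2 b b.2)) θ.2
  have hsum := IndSet.sum_over_sq K (⊥ : Subgroup L)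
  rw [Finset.sum_congr rfl (g := fun _ => 1) (fun (θ : Cfsg.IrrCharacter K) hθ =>
      show Cfsg.charDegree (θ : K → ℂ) ^ 2 = 1 by
    rw [show Cfsg.charDegree (θ : K → ℂ) = 1 from
      Nat.cast_injective (R := ℂ) (by rw [← CharX.irr_deg, h1 θ hθ, Nat.cast_one]), one_pow]),
    Finset.sum_const, smul_eq_mul, mul_one, Subgroup.relIndex_bot_left, he] at hsum
  obtain ⟨φ₀, hφ₀⟩ : (Cfsg.inducedIrrAbove K ⊥).Nonempty :=
    IndSet.above_nonempty K fun h => hK1 (le_bot_iff.mp h)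
  obtain ⟨θ₁, hθ₁, rfl⟩ := (IndSet.mem_above_iff_exists K).mp hφ₀
  have hfib : (Finset.univ.filter fun φ : Cfsg.IrrCharacter K =>
      Cfsg.indFun K (φ : K → ℂ) = Cfsg.indFun K (θ₁ : K → ℂ)) = IndSet.over K ⊥ := by
    refine Finset.eq_of_subset_of_card_le (fun φ hφ => (IndSet.mem_over K).mpr ⟨fun h => ?_, fun a ha => ?_⟩) ?_
    · have := (Finset.mem_filter.mp hφ).2
      rw [h] at this
      obtain ⟨g, hg⟩ := (IndSet.ind_eq_iff K isIrrCharacter_one θ₁.2).mp this
      exact ((IndSet.mem_over K).mp hθ₁).1 (hg.symm.trans (IndSet.conjChar_const K g))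
    · rw [Subgroup.mem_bot] at ha
      rw [show a = 1 from Subtype.ext ha]
    · rw [Central.card_fiber_irr K (hirr _ hφ₀)]
      omega
  have hall : ∀ φ ∈ Cfsg.inducedIrrAbove K ⊥, φ = Cfsg.indFun K (θ₁ : K → ℂ) := fun φ hφ => by
    obtain ⟨θ, hθ, rfl⟩ := (IndSet.mem_above_iff_exists K).mp hφ
    rw [← hfib] at hθ
    exact (Finset.mem_filter.mp hθ).2
  rw [Nat.card_eq_one_iff_unique]
  exact ⟨⟨fun a b => Subtype.ext ((hall a.1 a.2).trans (hall b.1 b.2).symm)⟩, ⟨⟨_, hφ₀⟩⟩⟩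

omit hF in
theorem coherent_sub {G : Type v} [Group G] [Fintype G] {S X : Set (L → ℂ)}
    {τ : (L → ℂ) → (G → ℂ)} (hcoh : Cfsg.IsCoherent S ({1}ᶜ : Set L) τ) (hXS : X ⊆ S)
    (hirr : ∀ χ ∈ X, Cfsg.IsIrrCharacter L χ) {χ : L → ℂ} (hχ : χ ∈ X) (hc : Cfsg.conjFun χ ∈ X)
    (hne : Cfsg.conjFun χ ≠ χ) : Cfsg.IsCoherent X ({1}ᶜ : Set L) τ := by
  obtain ⟨-, τ₁, ⟨h1, h2, h3, h4⟩, hag⟩ := hcoh
  have m : ∀ {α}, α ∈ Cfsg.zspan X → α ∈ Cfsg.zspan S := fun h => Submodule.span_mono hXS h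
  exact ⟨⟨χ - Cfsg.conjFun χ, Coherence.mem_zspanOn_one.mpr
    ⟨Submodule.sub_mem _ (Submodule.subset_span hχ) (Submodule.subset_span hc),
      by rw [Pi.sub_apply, Coherence.conjFun_one (hirr χ hχ), sub_self]⟩, sub_ne_zero.mpr hne.symm⟩,
    τ₁, ⟨fun a ha b hb => h1 a (m ha) b (m hb), fun a ha n => h2 a (m ha) n,
      fun a ha b hb => h3 a (m ha) b (m hb), fun a ha => h4 a (m ha)⟩,
    fun α hα => hag α (Coherence.spanOn_mono hXS _ hα)⟩

end Cfsg.Agent.Char.TICases

namespace Cfsg.Agent.Char.TICases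

open Cfsg.Agent.Char
open scoped Classical

universe w

variable {G : Type w} [Group G] [Fintype G] (H : Subgroup G)
  [Fintype ↥(Subgroup.normalizer (H : Set G))]

theorem rel_eq (hC : ∀ k ∈ H, k ≠ 1 → Subgroup.centralizer ({k} : Set G) ≤ H) :
    {χ : ↥(Subgroup.normalizer (H : Set G)) → ℂ |
      Cfsg.IsIrrCharacter ↥(Subgroup.normalizer (H : Set G)) χ ∧
        ∃ x : ↥(Subgroup.normalizer (H : Set G)), (x : G) ∈ H ∧ χ x ≠ χ 1} =
      Cfsg.inducedIrrAbove (H.subgroupOf (Subgroup.normalizer (H : Set G))) ⊥ := by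
  rw [Feit.above_bot_eq _ (TIK.frob hC)]
  rfl

theorem sub_card : Nat.card (H.subgroupOf (Subgroup.normalizer (H : Set G))) = Nat.card H :=
  Nat.card_congr (Subgroup.subgroupOfEquivOfLe Subgroup.le_normalizer).toEquiv

theorem comm_iff (hab : ∀ a ∈ H.subgroupOf (Subgroup.normalizer (H : Set G)),
    ∀ b ∈ H.subgroupOf (Subgroup.normalizer (H : Set G)), a * b = b * a) :
    ∀ a ∈ H, ∀ b ∈ H, a * b = b * a := fun a ha b hb =>
  congrArg Subtype.val (hab ⟨a, Subgroup.le_normalizer ha⟩ ha ⟨b, Subgroup.le_normalizer hb⟩ hb)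

theorem exception (hC : ∀ k ∈ H, k ≠ 1 → Subgroup.centralizer ({k} : Set G) ≤ H) (hH : H ≠ ⊥)
    (he : Nat.card H = (H.subgroupOf (Subgroup.normalizer (H : Set G))).index + 1) :
    Nat.card {χ : ↥(Subgroup.normalizer (H : Set G)) → ℂ //
      Cfsg.IsIrrCharacter ↥(Subgroup.normalizer (H : Set G)) χ ∧
        ∃ x : ↥(Subgroup.normalizer (H : Set G)), (x : G) ∈ H ∧ χ x ≠ χ 1} = 1 ∧
      ∃ p : ℕ, p.Prime ∧ Cfsg.IsElementaryAbelian p H := by
  have hF := TIK.frob hC
  have hHL : H ≤ Subgroup.normalizer (H : Set G) := Subgroup.le_normalizer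
  have hK1 : H.subgroupOf (Subgroup.normalizer (H : Set G)) ≠ ⊥ := fun h => hH (by
    rw [← Subgroup.map_subgroupOf_eq_of_le hHL, h, Subgroup.map_bot])
  have he' := (sub_card H).trans he
  obtain ⟨hab, p, hp, hpow⟩ := transitive _ hF hK1 he'
  refine ⟨?_, p, hp, ⟨⟨fun a b => Subtype.ext
    (comm_iff H hab a a.2 b b.2)⟩⟩, fun a ha => congrArg Subtype.val (hpow ⟨a, hHL ha⟩ ha)⟩
  rw [← card_single _ hF hK1 hab he']
  exact Nat.card_congr (Equiv.setCongr (rel_eq H hC))

theorem coherent_cases (hTI : Cfsg.IsTISubset (H : Set G))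
    (hC : ∀ k ∈ H, k ≠ 1 → Subgroup.centralizer ({k} : Set G) ≤ H) (hH : H ≠ ⊥)
    (hlt : H < Subgroup.normalizer (H : Set G)) :
    Nat.card H = (H.subgroupOf (Subgroup.normalizer (H : Set G))).index + 1 ∨
    (∃ m : ℕ, Nat.card H = 2 ^ m ∧
      (⁅H.subgroupOf (Subgroup.normalizer (H : Set G)), H.subgroupOf (Subgroup.normalizer (H : Set G))⁆).relIndex
        (H.subgroupOf (Subgroup.normalizer (H : Set G))) ≤
          4 * (H.subgroupOf (Subgroup.normalizer (H : Set G))).index ^ 2 + 1 ∧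
      Odd (H.subgroupOf (Subgroup.normalizer (H : Set G))).index) ∨
    Cfsg.IsCoherent (Cfsg.inducedIrrAbove (H.subgroupOf (Subgroup.normalizer (H : Set G))) ⊥)
      ({1}ᶜ : Set _) (fun α => Cfsg.indFun (Subgroup.normalizer (H : Set G)) α) := by
  by_cases he : Nat.card H = (H.subgroupOf (Subgroup.normalizer (H : Set G))).index + 1
  · exact Or.inl he
  right
  have hF := TIK.frob hC
  have hHL : H ≤ Subgroup.normalizer (H : Set G) := Subgroup.le_normalizer
  have hK1 : H.subgroupOf (Subgroup.normalizer (H : Set G)) ≠ ⊥ := fun h => hH (by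
    rw [← Subgroup.map_subgroupOf_eq_of_le hHL, h, Subgroup.map_bot])
  have hKtop : H.subgroupOf (Subgroup.normalizer (H : Set G)) ≠ ⊤ := fun h =>
    hlt.not_ge (Subgroup.subgroupOf_eq_top.mp h)
  obtain ⟨hτ, hτ1⟩ := CohTI.isometry H hTI
  rcases Feit.coherent_or_exception _ hF hτ hτ1 hK1 hKtop (fun h => he ((sub_card H).symm.trans h))
    with h | ⟨p, hp, ⟨m, hm⟩, hnab, hq⟩
  · exact Or.inr h
  have hodd : Odd (H.subgroupOf (Subgroup.normalizer (H : Set G))).index :=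
    Nat.not_even_iff_odd.mp fun h => hnab (Feit.comm_of_even _ hF (even_iff_two_dvd.mp h))
  rcases hp.eq_two_or_odd' with rfl | hpo
  · exact Or.inl ⟨m, (sub_card H).symm.trans hm, hq, hodd⟩
  · refine Or.inr (CohTI.coherent_TI H hTI ?_ hH hlt.not_ge hF)
    rw [← Subgroup.card_mul_index (H.subgroupOf (Subgroup.normalizer (H : Set G))), hm]
    exact hpo.pow.mul hodd

end Cfsg.Agent.Char.TICases
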