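import Cfsg.Agent.Lib.Char.FrobeniusKernel
import Mathlib.GroupTheory.SchurZassenhaus

/-!
# The Frobenius-Wielandt theorem: normal complements relative to a normal subgroup
-/

set_option autoImplicit false
set_option linter.style.haveILetI false

namespace Cfsg.Agent.Char.RelFrob

open Cfsg Cfsg.Agent Cfsg.Agent.Char

universe u

variable {G : Type u} [Group G]

/-- `X` meets its conjugates by outside elements inside `X₀`. -/
def RelMalnormal (X X₀ : Subgroup G) : Prop :=
  ∀ g : G, g ∉ X → ∀ x ∈ X, g * x * g⁻¹ ∈ X → x ∈ X₀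

variable [Fintype G] {X X₀ : Subgroup G}

theorem indFun_eq (hX : RelMalnormal X X₀) {ψ : X → ℂ} (hψ : Cfsg.IsClassFunction X ψ) (t : X)
    (ht : (t : G) ∉ X₀) : Cfsg.indFun X ψ t = ψ t := by
  classical
  have key : ∀ x : G, Cfsg.extendByZero X ψ (x⁻¹ * t * x) = if x ∈ X then ψ t else 0 := by
    intro x
    split_ifs with hx
    · rw [extendByZero_mem X ψ (X.mul_mem (X.mul_mem (X.inv_mem hx) t.2) hx),
        ← hψ t ⟨x⁻¹, X.inv_mem hx⟩]
      congr 1
      ext
      simp
    · refine extendByZero_not_mem X ψ fun hc => ht ?_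
      exact hX x⁻¹ (fun h => hx (by simpa using X.inv_mem h)) t t.2 (by simpa using hc)
  rw [indFun_apply, Finset.sum_congr rfl fun x _ => key x, Finset.sum_ite, Finset.sum_const_zero,
    add_zero, Finset.sum_const, nsmul_eq_mul, ← Fintype.card_subtype, ← Nat.card_eq_fintype_card,
    ← mul_assoc, inv_mul_cancel₀ (Nat.cast_ne_zero.mpr Nat.card_pos.ne'), one_mul]

/-- An irreducible character of `X` trivial on `X₀` extends, constantly equal to its degree off the
conjugates of `X \ X₀`. -/
theorem exists_extension (hX : RelMalnormal X X₀) {φ : X → ℂ} (hφ : Cfsg.IsIrrCharacter X φ)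
    (hker : ∀ x : X, (x : G) ∈ X₀ → φ x = φ 1) :
    ∃ χ : G → ℂ, Cfsg.IsIrrCharacter G χ ∧ (∀ h : X, (h : G) ∉ X₀ → χ h = φ h) ∧ χ 1 = φ 1 ∧
      ∀ g : G, (∀ x : G, x⁻¹ * g * x ∈ X → x⁻¹ * g * x ∈ X₀) → χ g = φ 1 := by
  classical
  haveI : Fintype X := Fintype.ofFinite X
  by_cases h1 : φ = fun _ => 1
  · exact ⟨fun _ => 1, isIrrCharacter_one, fun h _ => (congrFun h1 h).symm, (congrFun h1 1).symm,
      fun g _ => (congrFun h1 1).symm⟩
  obtain ⟨d, hd0, hd⟩ := IsIrrCharacter.exists_degree hφ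
  set ψ : X → ℂ := φ - (d : ℂ) • (fun _ : X => (1 : ℂ)) with hψdef
  have hψc : Cfsg.IsClassFunction X ψ := by
    intro a b
    simp [hψdef, IsCharacter.isClassFunction (IsIrrCharacter.isCharacter hφ) a b]
  have hψ0 : ∀ x : X, (x : G) ∈ X₀ → ψ x = 0 := fun x hx => by
    simp [hψdef, hker x hx, hd]
  have hψ1 : ψ 1 = 0 := by simp [hψdef, hd]
  set χ : G → ℂ := (d : ℂ) • (fun _ : G => (1 : ℂ)) + Cfsg.indFun X ψ with hχdef
  have hχgen : Cfsg.IsGeneralizedCharacter G χ := by
    refine IsGeneralizedCharacter.add ?_ (IsGeneralizedCharacter.indFun X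
      ⟨φ, (d : ℂ) • (fun _ => 1), IsIrrCharacter.isCharacter hφ,
        IsCharacter.nsmul isCharacter_one d, rfl⟩)
    exact IsGeneralizedCharacter.of_isCharacter (IsCharacter.nsmul isCharacter_one d)
  have hon : ∀ h : X, (h : G) ∉ X₀ → χ h = φ h := by
    intro h hh
    rw [hχdef, Pi.add_apply, indFun_eq hX hψc h hh, hψdef]
    simp
  have hon1 : χ 1 = φ 1 := by simp [hχdef, indFun_one_apply, hψ1, hd]
  have hnorm : Cfsg.classInner χ χ = 1 := by
    have hone : Cfsg.IsClassFunction G (fun _ => (1 : ℂ)) := fun _ _ => rfl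
    have hψo : Cfsg.classInner ψ (fun _ => 1) = -(d : ℂ) := by
      rw [hψdef, classInner_sub_left, classInner_smul_left, classInner_irr_of_ne hφ isIrrCharacter_one h1,
        classInner_self_irr isIrrCharacter_one]
      ring
    have hi1 : Cfsg.classInner (Cfsg.indFun X ψ) (fun _ => 1) = -(d : ℂ) := by
      rw [classInner_indFun_left X ψ hone]
      exact hψo
    have hi2 : Cfsg.classInner (fun _ => 1) (Cfsg.indFun X ψ) = -(d : ℂ) := by
      rw [← classInner_conj_symm, hi1]
      simp
    have hii : Cfsg.classInner (Cfsg.indFun X ψ) (Cfsg.indFun X ψ) = 1 + (d : ℂ) * d := by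
      rw [classInner_indFun_left X ψ (isClassFunction_indFun X ψ)]
      have e : Cfsg.classInner ψ (fun h : X => Cfsg.indFun X ψ h) = Cfsg.classInner ψ ψ := by
        simp only [Cfsg.classInner]
        congr 1
        refine Finset.sum_congr rfl fun x _ => ?_
        by_cases hx : (x : G) ∈ X₀
        · simp [hψ0 x hx]
        · rw [indFun_eq hX hψc x hx]
      rw [e, hψdef]
      simp only [classInner_sub_left, classInner_sub_right, classInner_smul_left,
        classInner_smul_right, classInner_self_irr hφ, classInner_self_irr isIrrCharacter_one,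
        classInner_irr_of_ne hφ isIrrCharacter_one h1,
        classInner_irr_of_ne isIrrCharacter_one hφ (Ne.symm h1), map_natCast]
      ring
    rw [hχdef]
    simp only [classInner_add_left, classInner_add_right, classInner_smul_left,
      classInner_smul_right, classInner_self_irr isIrrCharacter_one, hi1, hi2, hii, map_natCast]
    ring
  rcases IsGeneralizedCharacter.of_norm_one hχgen hnorm with h | h
  · refine ⟨χ, h, hon, hon1, fun g hg => ?_⟩
    have h0 : Cfsg.indFun X ψ g = 0 := by
      rw [indFun_apply, Finset.sum_eq_zero fun x _ => ?_, mul_zero]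
      by_cases hx : x⁻¹ * g * x ∈ X
      · rw [extendByZero_mem X ψ hx]
        exact hψ0 _ (hg x hx)
      · exact extendByZero_not_mem X ψ hx
    simp [hχdef, h0, hd]
  · exfalso
    obtain ⟨e, he, he'⟩ := IsIrrCharacter.exists_degree h
    rw [Pi.neg_apply, hon1, hd] at he'
    have h0 : ((e + d : ℕ) : ℂ) = 0 := by push_cast; rw [← he']; ring
    rw [Nat.cast_eq_zero] at h0
    omega

/-- The Frobenius–Wielandt theorem for a complemented `X₀`. -/
theorem exists_normal_complement (hX : RelMalnormal X X₀) (H : Subgroup G) (hHX : H ≤ X)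
    (hX0X : X₀ ≤ X) (hX0n : (X₀.subgroupOf X).Normal) (hdisj : X₀ ⊓ H = ⊥)
    (hcard : Nat.card X = Nat.card X₀ * Nat.card H) :
    ∃ N : Subgroup G, N.Normal ∧ N.IsComplement' H := by
  classical
  haveI := hX0n
  haveI : Fintype X := Fintype.ofFinite X
  -- projection to `H`
  let ι : H →* X ⧸ X₀.subgroupOf X :=
    (QuotientGroup.mk' (X₀.subgroupOf X)).comp (Subgroup.inclusion hHX)
  have hιinj : Function.Injective ι := by
    rw [injective_iff_map_eq_one]
    intro h hh
    have h1 : Subgroup.inclusion hHX h ∈ X₀.subgroupOf X := (QuotientGroup.eq_one_iff _).mp hh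
    rw [Subgroup.mem_subgroupOf] at h1
    have h2 : (h : G) ∈ X₀ ⊓ H := ⟨by simpa using h1, h.2⟩
    rw [hdisj, Subgroup.mem_bot] at h2
    exact Subtype.ext h2
  have hιbij : Function.Bijective ι := by
    refine (Nat.bijective_iff_injective_and_card _).mpr ⟨hιinj, ?_⟩
    have h1 := Subgroup.card_eq_card_quotient_mul_card_subgroup (X₀.subgroupOf X)
    rw [Nat.card_congr (Subgroup.subgroupOfEquivOfLe hX0X).toEquiv, hcard, mul_comm] at h1
    exact Nat.eq_of_mul_eq_mul_right Nat.card_pos h1
  let π : X →* H := (MulEquiv.ofBijective ι hιbij).symm.toMonoidHom.comp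
    (QuotientGroup.mk' (X₀.subgroupOf X))
  have hπsurj : Function.Surjective π :=
    (MulEquiv.ofBijective ι hιbij).symm.surjective.comp (QuotientGroup.mk'_surjective _)
  have hπH : ∀ h : H, π (Subgroup.inclusion hHX h) = h := fun h =>
    (MulEquiv.ofBijective ι hιbij).symm_apply_apply h
  have hπ0 : ∀ x : X, (x : G) ∈ X₀ → π x = 1 := by
    intro x hx
    change (MulEquiv.ofBijective ι hιbij).symm (x : X ⧸ X₀.subgroupOf X) = 1
    rw [(QuotientGroup.eq_one_iff x).mpr (Subgroup.mem_subgroupOf.mpr hx), map_one]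
  haveI : Fintype H := Fintype.ofFinite H
  have hext : ∀ φ : Cfsg.IrrCharacter H, ∃ χ : G → ℂ, Cfsg.IsIrrCharacter G χ ∧
      (∀ h : H, χ (h : G) = (φ : H → ℂ) h) ∧
      ∀ g : G, (∀ x : G, x⁻¹ * g * x ∈ X → x⁻¹ * g * x ∈ X₀) → χ g = (φ : H → ℂ) 1 := by
    intro φ
    obtain ⟨χ, hirr, hon, h1, hoff⟩ := exists_extension hX (IsIrrCharacter.comp φ.2 π hπsurj)
      (fun x hx => by simp only [hπ0 x hx, map_one])
    refine ⟨χ, hirr, fun h => ?_, fun g hg => ?_⟩
    · by_cases hh : (h : G) ∈ X₀
      · have h2 : (h : G) ∈ X₀ ⊓ H := ⟨hh, h.2⟩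
        rw [hdisj, Subgroup.mem_bot] at h2
        rw [h2, h1, map_one]
        exact congrArg _ (Subtype.ext h2.symm)
      · have h3 := hon (Subgroup.inclusion hHX h) (by simpa using hh)
        rw [hπH] at h3
        simpa using h3
    · rw [hoff g hg, map_one]
  choose χ hirr hon hoff using hext
  choose N hNn hNmem hNmul using fun φ => IsCharacter.exists_kernel (IsIrrCharacter.isCharacter (hirr φ))
  set K := ⨅ φ, N φ with hK
  have hKn : K.Normal := Subgroup.normal_iInf_normal hNn
  have hχ1 : ∀ φ, χ φ 1 = (φ : H → ℂ) 1 := fun φ => by simpa using hon φ 1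
  have hbot : K ⊓ H = ⊥ := by
    rw [eq_bot_iff]
    intro x ⟨hxK, hxH⟩
    have hc : IsConj (⟨x, hxH⟩ : H) 1 := (isConj_iff_forall_irr _ _).mpr fun φ => by
      have := (hNmem φ x).mp (Subgroup.mem_iInf.mp hxK φ)
      rw [hχ1] at this
      rw [← hon φ ⟨x, hxH⟩, this]
    exact Subgroup.mem_bot.mpr (congrArg Subtype.val (isConj_one_left.mp hc))
  refine ⟨K, hKn, ?_⟩
  -- counting
  set U := Finset.univ.filter (fun g : G => g ∉ K) with hU
  set D := Finset.univ.filter (fun x : X => (x : G) ∉ X₀) with hD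
  have hDcard : D.card + Nat.card X₀ = Nat.card X := by
    have e : Nat.card X₀ = (Finset.univ.filter fun x : X => (x : G) ∈ X₀).card := by
      rw [← Fintype.card_subtype, ← Nat.card_eq_fintype_card]
      exact (Nat.card_congr ((Equiv.subtypeSubtypeEquivSubtypeInter _ _).trans
        (Equiv.subtypeEquivRight fun x => ⟨fun hx => hx.2, fun hx => ⟨hX0X hx, hx⟩⟩))).symm
    rw [hD, e, add_comm, Finset.card_filter_add_card_filter_not, Finset.card_univ,
      Nat.card_eq_fintype_card]
  have hUcard : U.card ≤ Nat.card (G ⧸ X) * D.card := by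
    have hsub : U ⊆ ((Finset.univ : Finset (G ⧸ X)) ×ˢ D).image
        (fun p => p.1.out * (p.2 : G) * p.1.out⁻¹) := by
      intro g hg
      rw [hU, Finset.mem_filter] at hg
      obtain ⟨x, hxX, hx0⟩ : ∃ x : G, x⁻¹ * g * x ∈ X ∧ x⁻¹ * g * x ∉ X₀ := by
        by_contra h
        push Not at h
        refine hg.2 (Subgroup.mem_iInf.mpr fun φ => ?_)
        rw [hNmem, hoff φ g h, hχ1]
      rw [Finset.mem_image]
      obtain ⟨h₀, hh₀⟩ := QuotientGroup.mk_out_eq_mul X x
      have hmem : (h₀ : G)⁻¹ * (x⁻¹ * g * x) * h₀ ∈ X :=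
        X.mul_mem (X.mul_mem (X.inv_mem h₀.2) hxX) h₀.2
      refine ⟨((x : G ⧸ X), ⟨_, hmem⟩), Finset.mem_product.mpr ⟨Finset.mem_univ _, ?_⟩, ?_⟩
      · rw [hD, Finset.mem_filter]
        refine ⟨Finset.mem_univ _, fun h => hx0 ?_⟩
        have := hX0n.conj_mem ⟨_, hmem⟩ (Subgroup.mem_subgroupOf.mpr h) h₀
        rw [Subgroup.mem_subgroupOf] at this
        simpa [mul_assoc] using this
      · simp only [hh₀]
        group
    refine (Finset.card_le_card hsub).trans (Finset.card_image_le.trans ?_)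
    simp [Nat.card_eq_fintype_card]
  have hKcard : U.card + Nat.card K = Nat.card G := by
    rw [Nat.card_eq_fintype_card (α := G), Nat.card_eq_fintype_card (α := K),
      Fintype.card_subtype, ← Finset.card_univ (α := G), hU, add_comm,
      Finset.card_filter_add_card_filter_not]
  have hGX : Nat.card G = Nat.card (G ⧸ X) * Nat.card X :=
    Subgroup.card_eq_card_quotient_mul_card_subgroup X
  have hge : Nat.card G ≤ Nat.card K * Nat.card H := by
    have h1 : Nat.card (G ⧸ X) * Nat.card X₀ ≤ Nat.card K := by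
      have h3 : Nat.card (G ⧸ X) * (D.card + Nat.card X₀) = U.card + Nat.card K := by
        rw [hDcard, hKcard, hGX]
      rw [Nat.mul_add] at h3
      omega
    rw [hGX, hcard, ← mul_assoc]
    exact Nat.mul_le_mul_right _ h1
  refine Subgroup.isComplement'_of_card_mul_and_disjoint (le_antisymm ?_ hge) (disjoint_iff.mpr hbot)
  have hinj : Function.Injective (fun p : K × H => (p.1 : G) * p.2) :=
    Subgroup.mul_injective_of_disjoint (disjoint_iff.mpr hbot)
  simpa [Nat.card_prod] using Nat.card_le_card_of_injective _ hinj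

end Cfsg.Agent.Char.RelFrob
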