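import Cfsg.Agent.Lib.Char.TIComplement
import Cfsg.Agent.Lib.Solvable.Coprime
import Cfsg.Prelude.Def_Solvable
import Mathlib.GroupTheory.SchurZassenhaus
import Mathlib.GroupTheory.Sylow

/-!
# A coprime action with equal fixed points gives a Frobenius complement
-/

set_option autoImplicit false
set_option linter.style.haveILetI false

namespace Cfsg.Agent.Char.RelFrob

open Cfsg Cfsg.Agent
open scoped Pointwise

universe u

/-- A subgroup acting fixed point freely on a nontrivial subgroup normalised by it is a Frobenius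
complement of their product. -/
theorem frobenius_of_fpf {G : Type u} [Group G] [Finite G] (R H : Subgroup G) (hR : R ≠ ⊥)
    (hH : H ≠ ⊥) (hdisj : R ⊓ H = ⊥) (hHR : H ≤ Subgroup.normalizer (R : Set G))
    (hfpf : ∀ h ∈ H, h ≠ 1 → ∀ r ∈ R, h * r = r * h → r = 1) :
    ∃ (F : Type u) (_ : Group F) (_ : Finite F) (C : Subgroup F),
      Cfsg.IsFrobeniusComplement C ∧ Nonempty (H ≃* C) := by
  set F₀ := R ⊔ H with hF
  have hHF : H ≤ F₀ := le_sup_right
  refine ⟨F₀, inferInstance, inferInstance, H.subgroupOf F₀, ⟨?_, ?_, ?_⟩,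
    ⟨(Subgroup.subgroupOfEquivOfLe hHF).symm⟩⟩
  · rw [Ne, Subgroup.subgroupOf_eq_bot, disjoint_iff, inf_eq_left.mpr hHF]
    exact hH
  · rw [Ne, Subgroup.subgroupOf_eq_top]
    intro h
    refine hR (le_bot_iff.mp ?_)
    rw [← hdisj]
    exact le_inf le_rfl (le_sup_left.trans h)
  · intro g hg
    rw [Subgroup.eq_bot_iff_forall]
    rintro x ⟨hx, hgx⟩
    replace hgx : (MulAut.conj g)⁻¹ • x ∈ H.subgroupOf F₀ :=
      Subgroup.mem_pointwise_smul_iff_inv_smul_mem.mp hgx
    simp only [MulAut.smul_def, MulAut.inv_def, MulAut.conj_symm_apply] at hgx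
    replace hx : (x : G) ∈ H := hx
    rw [Subgroup.mem_subgroupOf] at hg hgx
    have hmem : ((g : F₀) : G) ∈ ((R ⊔ H : Subgroup G) : Set G) := g.2
    rw [Subgroup.coe_mul_of_right_le_normalizer_left R H hHR] at hmem
    obtain ⟨r, hr, h, hh, hrh⟩ := hmem
    set y := r⁻¹ * (x : G) * r with hy
    have hyH : y ∈ H := by
      push_cast at hgx
      rw [← hrh] at hgx
      have := H.mul_mem (H.mul_mem hh hgx) (H.inv_mem hh)
      simpa [hy, mul_assoc] using this
    have hcomm : (x : G)⁻¹ * y ∈ R ⊓ H := by
      refine ⟨?_, H.mul_mem (H.inv_mem hx) hyH⟩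
      rw [hy, show (x : G)⁻¹ * (r⁻¹ * x * r) = ((x : G)⁻¹ * r⁻¹ * x) * r by group]
      refine R.mul_mem ?_ hr
      have := (Subgroup.mem_normalizer_iff.mp (hHR (H.inv_mem hx)) r⁻¹).mp (R.inv_mem hr)
      simpa using this
    rw [hdisj, Subgroup.mem_bot, hy, inv_mul_eq_one] at hcomm
    by_contra hne
    have hx1 : (x : G) ≠ 1 := fun e => hne (Subtype.ext e)
    have hc : (x : G) * r = r * x := by
      rw [eq_comm] at hcomm
      calc (x : G) * r = r * (r⁻¹ * x * r) := by group
        _ = r * x := by rw [hcomm]
    have hr1 := hfpf _ hx hx1 r hr hc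
    subst hr1
    simp only [one_mul] at hrh
    exact hg (hrh ▸ hh)

/-- The induction. -/
theorem exists_frobenius : ∀ (n : ℕ) (G : Type u) [Group G] [Finite G] (N H : Subgroup G),
    Nat.card G = n → N.Normal → N.IsComplement' H → (Nat.card N).Coprime (Nat.card H) → H ≠ ⊥ →
    (∀ h ∈ H, h ≠ 1 → ∀ x ∈ N, h * x = x * h → x ∈ Subgroup.centralizer (H : Set G)) →
    ¬ N ≤ Subgroup.centralizer (H : Set G) →
    ∃ (F : Type u) (_ : Group F) (_ : Finite F) (C : Subgroup F),
      Cfsg.IsFrobeniusComplement C ∧ Nonempty (H ≃* C) := by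
  intro n
  induction n using Nat.strong_induction_on with
  | _ n ih =>
  intro G _ _ N H hn hNn hcompl hcop hH hfix hnc
  haveI := hNn
  have hdisj : N ⊓ H = ⊥ := disjoint_iff.mp hcompl.disjoint
  have hHN : H ≤ Subgroup.normalizer (N : Set G) := Subgroup.le_normalizer_of_normal
  set K := N ⊓ Subgroup.centralizer (H : Set G) with hK
  -- a prime at which `K` is smaller than `N`
  obtain ⟨r, hr, R₀, hlt⟩ : ∃ r : ℕ, r.Prime ∧ ∃ R₀ : Sylow r K,
      (Nat.card (R₀ : Subgroup K)) < r ^ (Nat.card N).factorization r := by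
    by_contra h
    push Not at h
    refine hnc ?_
    have hKN : Nat.card N ∣ Nat.card K := by
      rw [← Nat.factorization_prime_le_iff_dvd Nat.card_pos.ne' Nat.card_pos.ne']
      intro r hr
      haveI := Fact.mk hr
      obtain ⟨R₀⟩ : Nonempty (Sylow r K) := inferInstance
      have h1 := h r hr R₀
      rw [R₀.card_eq_multiplicity] at h1
      exact (Nat.pow_le_pow_iff_right hr.one_lt).mp h1
    have hKeq : K = N := Subgroup.eq_of_le_of_card_ge inf_le_left (Nat.le_of_dvd Nat.card_pos hKN)
    rw [← hKeq]
    exact inf_le_right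
  haveI := Fact.mk hr
  set R₁ : Subgroup G := (R₀ : Subgroup K).map K.subtype with hR₁
  have hR₁K : R₁ ≤ K := Subgroup.map_subtype_le _
  have hR₁card : Nat.card R₁ = Nat.card (R₀ : Subgroup K) :=
    Subgroup.card_map_of_injective K.subtype_injective
  have hR₁p : IsPGroup r R₁ := R₀.isPGroup'.map _
  -- no proper subgroup works
  by_cases hnormal : R₁.Normal
  · rcases eq_or_ne R₁ ⊥ with hbot | hne
    · -- `r` does not divide `|K|`
      have hrK : ∀ x ∈ K, ∀ i : ℕ, x ^ r ^ i = 1 → x = 1 := by
        intro x hx i hi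
        by_contra hx1
        have hxp : IsPGroup r (Subgroup.zpowers (⟨x, hx⟩ : K)) := by
          obtain ⟨j, -, hj⟩ := (Nat.dvd_prime_pow hr).mp (orderOf_dvd_of_pow_eq_one hi)
          refine IsPGroup.of_card (n := j) ?_
          rw [Nat.card_zpowers, ← hj, ← Subgroup.orderOf_coe]
        obtain ⟨R', hR'⟩ := hxp.exists_le_sylow
        have h1 : Nat.card (R' : Subgroup K) = 1 := by
          rw [R'.card_eq_multiplicity, ← R₀.card_eq_multiplicity, ← hR₁card, hbot,
            Subgroup.card_bot]
        rw [Subgroup.card_eq_one] at h1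
        have h2 := hR' (Subgroup.mem_zpowers (⟨x, hx⟩ : K))
        rw [h1, Subgroup.mem_bot] at h2
        exact hx1 (congrArg Subtype.val h2)
      obtain ⟨R⟩ : Nonempty (Sylow r N) := inferInstance
      set R' : Subgroup G := (R : Subgroup N).map N.subtype with hR'
      have hR'p : IsPGroup r R' := R.isPGroup'.map _
      have hR'N : R' ≤ N := Subgroup.map_subtype_le _
      have hR'ne : R' ≠ ⊥ := by
        intro e
        have h1 : Nat.card R' = r ^ (Nat.card N).factorization r := by
          rw [hR', Subgroup.card_map_of_injective N.subtype_injective, R.card_eq_multiplicity]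
        rw [e, Subgroup.card_bot] at h1
        rw [← h1] at hlt
        exact absurd hlt (by simp [Nat.lt_one_iff, Nat.card_pos.ne'])
      set L := Subgroup.normalizer (R' : Set G) with hL
      have hLN : L ⊔ N = ⊤ := Sylow.normalizer_sup_eq_top R
      set NL := N.subgroupOf L with hNL
      have hidx : NL.index = Nat.card H := by
        rw [← hcompl.symm.index_eq_card]
        change N.relIndex L = N.index
        conv_rhs => rw [← Subgroup.relIndex_top_right N, ← hLN]
        exact (Subgroup.relIndex_sup_right (H := L) (K := N)).symm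
      have hcardNL : Nat.card NL ∣ Nat.card N := by
        exact Subgroup.card_comap_dvd_of_injective N L.subtype L.subtype_injective
      obtain ⟨H', hH'⟩ := Subgroup.exists_right_complement'_of_coprime (N := NL)
        (by rw [hidx]; exact hcop.coprime_dvd_left hcardNL)
      set H'' : Subgroup G := H'.map L.subtype with hH''
      have hH''L : H'' ≤ L := Subgroup.map_subtype_le _
      have hcard'' : Nat.card H'' = Nat.card H := by
        rw [hH'', Subgroup.card_map_of_injective L.subtype_injective, ← hidx,
          hH'.symm.index_eq_card]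
      have hd'' : N ⊓ H'' = ⊥ := by
        apply Subgroup.inf_eq_bot_of_coprime
        rw [hcard'']
        exact hcop
      -- `H''` is isomorphic to `H`
      have hiso : Nonempty (H ≃* H'') := by
        let f : ∀ A : Subgroup G, A →* G ⧸ N := fun A => (QuotientGroup.mk' N).comp A.subtype
        have hbij : ∀ A : Subgroup G, N ⊓ A = ⊥ → Nat.card A = Nat.card H →
            Function.Bijective (f A) := by
          intro A hA hcA
          refine (Nat.bijective_iff_injective_and_card _).mpr ⟨?_, ?_⟩
          · rw [injective_iff_map_eq_one]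
            intro a ha
            have h1 : (a : G) ∈ N ⊓ A := ⟨(QuotientGroup.eq_one_iff _).mp ha, a.2⟩
            rw [hA, Subgroup.mem_bot] at h1
            exact Subtype.ext h1
          · rw [hcA, ← hcompl.symm.index_eq_card, Subgroup.index_eq_card]
        exact ⟨(MulEquiv.ofBijective _ (hbij H hdisj rfl)).trans
          (MulEquiv.ofBijective _ (hbij H'' hd'' hcard'')).symm⟩
      obtain ⟨e⟩ := hiso
      obtain ⟨F, iF, iFf, C, hC, ⟨e'⟩⟩ := frobenius_of_fpf R' H'' hR'ne
        (by
          intro h
          rw [h, Subgroup.card_bot] at hcard''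
          exact hH (Subgroup.card_eq_one.mp hcard''.symm))
        (le_bot_iff.mp (le_trans (inf_le_inf_right _ hR'N) hd''.le))
        hH''L (by
          intro x hx hx1 y hy hxy
          -- pass to an element of prime order
          obtain ⟨q, hq, hqd⟩ := Nat.exists_prime_and_dvd (mt orderOf_eq_one_iff.mp hx1)
          haveI := Fact.mk hq
          set z := x ^ (orderOf x / q) with hz
          have hzo : orderOf z = q := by
            rw [hz, orderOf_pow_of_dvd _ (Nat.div_dvd_of_dvd hqd), Nat.div_div_self hqd
              (orderOf_pos x).ne']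
            intro h0
            exact absurd (Nat.eq_zero_of_dvd_of_div_eq_zero hqd h0) (orderOf_pos x).ne'
          have hzy : z * y = y * z := (Commute.pow_left hxy _)
          have hqH : q ∣ Nat.card H := by
            rw [← hcard'', ← hzo]
            exact Subgroup.orderOf_dvd_natCard _ (H''.pow_mem hx _)
          have hqN : ¬ q ∣ Nat.card N := fun h =>
            hq.ne_one (Nat.eq_one_of_dvd_coprimes hcop h hqH)
          -- a Sylow `q`-subgroup of `H` is one of `G`
          obtain ⟨Q⟩ : Nonempty (Sylow q H) := inferInstance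
          obtain ⟨Q', hQ'⟩ := (Q.isPGroup'.map H.subtype).exists_le_sylow
          have hQeq : (Q : Subgroup H).map H.subtype = (Q' : Subgroup G) := by
            refine Subgroup.eq_of_le_of_card_ge hQ' (le_of_eq ?_)
            rw [Q'.card_eq_multiplicity, Subgroup.card_map_of_injective H.subtype_injective,
              Q.card_eq_multiplicity, ← hcompl.card_mul, Nat.factorization_mul Nat.card_pos.ne'
                Nat.card_pos.ne']
            simp [Nat.factorization_eq_zero_of_not_dvd hqN]
          obtain ⟨S, hS⟩ := (IsPGroup.of_card (n := 1) (by rw [Nat.card_zpowers, hzo, pow_one]) :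
            IsPGroup q (Subgroup.zpowers z)).exists_le_sylow
          obtain ⟨g, hg⟩ := MulAction.exists_smul_eq G S Q'
          have hzH : g * z * g⁻¹ ∈ H := by
            have h1 : g * z * g⁻¹ ∈ ((g • S : Sylow q G) : Subgroup G) := by
              change g * z * g⁻¹ ∈ MulAut.conj g • (S : Subgroup G)
              exact ⟨z, hS (Subgroup.mem_zpowers z), rfl⟩
            rw [hg, ← hQeq] at h1
            exact Subgroup.map_subtype_le _ h1
          have hgy : g * y * g⁻¹ ∈ K := by
            refine ⟨hNn.conj_mem y (hR'N hy) g, hfix _ hzH ?_ _ (hNn.conj_mem y (hR'N hy) g) ?_⟩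
            · intro h1
              rw [conj_eq_one_iff] at h1
              rw [h1, orderOf_one] at hzo
              exact hq.ne_one hzo.symm
            · rw [show g * z * g⁻¹ * (g * y * g⁻¹) = g * (z * y) * g⁻¹ by group, hzy]
              group
          obtain ⟨i, hi⟩ := hR'p ⟨y, hy⟩
          have hi' : y ^ r ^ i = 1 := congrArg Subtype.val hi
          have := hrK _ hgy i (by rw [conj_pow, hi', mul_one, mul_inv_cancel])
          exact conj_eq_one_iff.mp this)
      exact ⟨F, iF, iFf, C, hC, ⟨e.trans e'⟩⟩
    · -- pass to the quotient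
      haveI := hnormal
      have hR₁N : R₁ ≤ N := hR₁K.trans inf_le_left
      let π := QuotientGroup.mk' R₁
      have hπinj : Function.Injective (π.comp H.subtype) := by
        rw [injective_iff_map_eq_one]
        intro a ha
        have h1 : (a : G) ∈ N ⊓ H := ⟨hR₁N ((QuotientGroup.eq_one_iff _).mp ha), a.2⟩
        rw [hdisj, Subgroup.mem_bot] at h1
        exact Subtype.ext h1
      have hcardH : Nat.card (H.map π) = Nat.card H := by
        rw [show H.map π = (π.comp H.subtype).range by
          rw [MonoidHom.range_comp, Subgroup.range_subtype]]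
        exact (Nat.card_congr (MonoidHom.ofInjective hπinj).toEquiv).symm
      have hcardN : Nat.card (N.map π) ∣ Nat.card N := Subgroup.card_map_dvd _ _
      haveI hNπn : (N.map π).Normal := hNn.map π (QuotientGroup.mk'_surjective _)
      have hlt' : Nat.card (G ⧸ R₁) < n := by
        rw [← hn, Subgroup.card_eq_card_quotient_mul_card_subgroup R₁]
        exact lt_mul_of_one_lt_right Nat.card_pos
          ((Subgroup.one_lt_card_iff_ne_bot _).mpr hne)
      have hcompl' : (N.map π).IsComplement' (H.map π) := by
        refine Subgroup.isComplement'_of_disjoint_and_mul_eq_univ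
          (disjoint_iff.mpr (Subgroup.inf_eq_bot_of_coprime
            ((hcop.coprime_dvd_left hcardN).coprime_dvd_right hcardH.dvd))) ?_
        refine Set.eq_univ_of_forall fun q => ?_
        obtain ⟨g, rfl⟩ := QuotientGroup.mk'_surjective R₁ q
        obtain ⟨⟨a, b⟩, hab⟩ := hcompl.2 g
        exact ⟨π a, ⟨_, a.2, rfl⟩, π b, ⟨_, b.2, rfl⟩, by rw [← hab, map_mul]⟩
      have hfix' : ∀ h ∈ H.map π, h ≠ 1 → ∀ x ∈ N.map π, h * x = x * h →
          x ∈ Subgroup.centralizer ((H.map π : Subgroup (G ⧸ R₁)) : Set (G ⧸ R₁)) := by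
        rintro _ ⟨h, hh, rfl⟩ hh1 _ ⟨x, hx, rfl⟩ hhx
        have hA : Subgroup.zpowers h ≤ Subgroup.normalizer (N : Set G) :=
          Subgroup.le_normalizer_of_normal
        have hcopA : (Nat.card (Subgroup.zpowers h)).Coprime (Nat.card N) :=
          hcop.symm.coprime_dvd_left (Subgroup.card_dvd_of_le (Subgroup.zpowers_le.mpr hh))
        have hm := CoprimeAct.map_inf_centralizer π hA hcopA
          (Or.inl (by letI : CommGroup (Subgroup.zpowers h) := IsCyclic.commGroup; infer_instance))
        have hx' : π x ∈ (N ⊓ Subgroup.centralizer (Subgroup.zpowers h : Set G)).map π := by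
          rw [hm]
          refine ⟨⟨x, hx, rfl⟩, Subgroup.mem_centralizer_iff.mpr ?_⟩
          rintro _ ⟨a, ⟨i, rfl⟩, rfl⟩
          rw [map_zpow]
          exact (Commute.zpow_left hhx i)
        obtain ⟨c, hc, hcx⟩ := hx'
        have hcK := hfix h hh (fun e => hh1 (by rw [e, map_one])) c hc.1
          (Subgroup.mem_centralizer_iff.mp hc.2 h (Subgroup.mem_zpowers h))
        rw [← hcx, Subgroup.mem_centralizer_iff]
        rintro _ ⟨a, ha, rfl⟩
        rw [← map_mul, ← map_mul, Subgroup.mem_centralizer_iff.mp hcK a ha]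
      have hnc' : ¬ N.map π ≤ Subgroup.centralizer ((H.map π : Subgroup (G ⧸ R₁)) : Set (G ⧸ R₁)) := by
        intro hc
        refine hnc fun x hx => Subgroup.mem_centralizer_iff.mpr fun h hh => ?_
        by_cases hh1 : h = 1
        · rw [hh1, one_mul, mul_one]
        have hA : Subgroup.zpowers h ≤ Subgroup.normalizer (N : Set G) :=
          Subgroup.le_normalizer_of_normal
        have hcopA : (Nat.card (Subgroup.zpowers h)).Coprime (Nat.card N) :=
          hcop.symm.coprime_dvd_left (Subgroup.card_dvd_of_le (Subgroup.zpowers_le.mpr hh))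
        have hm := CoprimeAct.map_inf_centralizer π hA hcopA
          (Or.inl (by letI : CommGroup (Subgroup.zpowers h) := IsCyclic.commGroup; infer_instance))
        have hx' : π x ∈ (N ⊓ Subgroup.centralizer (Subgroup.zpowers h : Set G)).map π := by
          rw [hm]
          refine ⟨⟨x, hx, rfl⟩, Subgroup.mem_centralizer_iff.mpr ?_⟩
          rintro _ ⟨a, ⟨i, rfl⟩, rfl⟩
          rw [map_zpow]
          exact Commute.zpow_left (Subgroup.mem_centralizer_iff.mp
            (hc ⟨x, hx, rfl⟩) _ ⟨h, hh, rfl⟩) i
        obtain ⟨c, hcm, hcx⟩ := hx'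
        have hcH := hfix h hh hh1 c hcm.1
          (Subgroup.mem_centralizer_iff.mp hcm.2 h (Subgroup.mem_zpowers h))
        have hxc : c⁻¹ * x ∈ R₁ := QuotientGroup.eq.mp hcx
        have hxH : x ∈ Subgroup.centralizer (H : Set G) := by
          have := mul_mem hcH (hR₁K hxc).2
          simpa using this
        exact Subgroup.mem_centralizer_iff.mp hxH h hh
      obtain ⟨F, iF, iFf, C, hC, ⟨e⟩⟩ := ih _ hlt' (G ⧸ R₁) (N.map π) (H.map π) rfl hNπn hcompl'
        ((hcop.coprime_dvd_left hcardN).coprime_dvd_right hcardH.dvd)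
        (fun h => hH (by
          rw [h, Subgroup.card_bot] at hcardH
          exact Subgroup.card_eq_one.mp hcardH.symm))
        hfix' hnc'
      refine ⟨F, iF, iFf, C, hC, ⟨(((MonoidHom.ofInjective hπinj).trans
        (MulEquiv.subgroupCongr ?_)).trans e)⟩⟩
      rw [MonoidHom.range_comp, Subgroup.range_subtype]
  · -- pass to the normaliser
    set L := Subgroup.normalizer (R₁ : Set G) with hL
    have hLne : L ≠ ⊤ := fun h => hnormal (Subgroup.normalizer_eq_top_iff.mp h)
    have hHL : H ≤ L := by
      intro h hh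
      rw [hL, Subgroup.mem_normalizer_iff]
      intro x
      have hc : ∀ y ∈ R₁, h * y * h⁻¹ = y := fun y hy => by
        rw [Subgroup.mem_centralizer_iff.mp (hR₁K hy).2 h hh, mul_inv_cancel_right]
      constructor
      · intro hx
        rwa [hc x hx]
      · intro hx
        have := hc _ hx
        rwa [← mul_left_cancel (mul_right_cancel this)]
    set NL := N.subgroupOf L
    set HL := H.subgroupOf L
    have hncL : ¬ NL ≤ Subgroup.centralizer (HL : Set L) := by
      intro hc
      obtain ⟨R', hR'⟩ := (hR₁p.comap_subtype (K := N)).exists_le_sylow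
      set R'' : Subgroup G := (R' : Subgroup N).map N.subtype with hR''
      have hR₁R'' : R₁ ≤ R'' := fun x hx =>
        ⟨⟨x, (hR₁K hx).1⟩, hR' hx, rfl⟩
      have hR''p : IsPGroup r R'' := R'.isPGroup'.map _
      have hcardlt : Nat.card R₁ < Nat.card R'' := by
        rw [hR₁card, hR'', Subgroup.card_map_of_injective N.subtype_injective,
          R'.card_eq_multiplicity]
        exact hlt
      haveI : Group.IsNilpotent R'' := hR''p.isNilpotent
      have hlt2 : R₁.subgroupOf R'' < ⊤ := by
        rw [lt_top_iff_ne_top, Ne, Subgroup.subgroupOf_eq_top]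
        intro h
        exact absurd (Subgroup.card_le_of_le h) (not_le.mpr hcardlt)
      obtain ⟨y, hy, hyR⟩ := SetLike.exists_of_lt
        (Group.normalizerCondition_of_isNilpotent (R₁.subgroupOf R'') hlt2)
      have hyL : (y : G) ∈ L := by
        rw [hL, Subgroup.mem_normalizer_iff]
        intro x
        constructor
        · intro hx
          have := (Subgroup.mem_normalizer_iff.mp hy ⟨x, hR₁R'' hx⟩).mp
            (Subgroup.mem_subgroupOf.mpr hx)
          simpa [Subgroup.mem_subgroupOf] using this
        · intro hx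
          have hxR : x ∈ R'' := by
            have := R''.mul_mem (R''.mul_mem (R''.inv_mem y.2) (hR₁R'' hx)) y.2
            simpa [mul_assoc] using this
          have := (Subgroup.mem_normalizer_iff.mp hy ⟨x, hxR⟩).mpr
            (by simpa [Subgroup.mem_subgroupOf] using hx)
          simpa [Subgroup.mem_subgroupOf] using this
      have hyN : (y : G) ∈ N := Subgroup.map_subtype_le _ y.2
      have hyK : (y : G) ∈ K := by
        refine ⟨hyN, Subgroup.mem_centralizer_iff.mpr fun h hh => ?_⟩
        have := Subgroup.mem_centralizer_iff.mp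
          (hc (show (⟨y, hyL⟩ : L) ∈ NL from hyN)) ⟨h, hHL hh⟩ hh
        exact congrArg Subtype.val this
      -- a larger `r`-subgroup of `K`
      have hJ : IsPGroup r ↥((R₁ ⊔ Subgroup.zpowers (y : G)).subgroupOf K) :=
        (hR''p.to_le (sup_le hR₁R'' (Subgroup.zpowers_le.mpr y.2))).comap_subtype
      have hle : (R₀ : Subgroup K) ≤ (R₁ ⊔ Subgroup.zpowers (y : G)).subgroupOf K := fun x hx =>
        Subgroup.mem_subgroupOf.mpr (Subgroup.mem_sup_left (Subgroup.mem_map_of_mem _ hx))
      have heq := R₀.is_maximal' hJ hle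
      have hy0 : (⟨(y : G), hyK⟩ : K) ∈ (R₁ ⊔ Subgroup.zpowers (y : G)).subgroupOf K :=
        Subgroup.mem_subgroupOf.mpr (Subgroup.mem_sup_right (Subgroup.mem_zpowers _))
      rw [heq] at hy0
      exact hyR (Subgroup.mem_subgroupOf.mpr (Subgroup.mem_map_of_mem K.subtype hy0))
    have hlt' : Nat.card L < n := by
      rw [← hn]
      exact lt_of_le_of_ne (Subgroup.card_le_card_group L)
        fun e => hLne (Subgroup.eq_top_of_card_eq L e)
    have hNLd : Nat.card NL ∣ Nat.card N := by
      exact Subgroup.card_comap_dvd_of_injective N L.subtype L.subtype_injective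
    have hHLc : Nat.card HL = Nat.card H :=
      Nat.card_congr (Subgroup.subgroupOfEquivOfLe hHL).toEquiv
    have hcomplL : NL.IsComplement' HL := by
      refine Subgroup.isComplement'_of_disjoint_and_mul_eq_univ (disjoint_iff.mpr
        (Subgroup.inf_eq_bot_of_coprime
          ((hcop.coprime_dvd_left hNLd).coprime_dvd_right hHLc.dvd))) ?_
      refine Set.eq_univ_of_forall fun g => ?_
      obtain ⟨⟨a, b⟩, hab⟩ := hcompl.2 (g : G)
      have haL : (a : G) ∈ L := by
        have := L.mul_mem g.2 (L.inv_mem (hHL b.2))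
        rwa [← hab, mul_inv_cancel_right] at this
      exact ⟨⟨a, haL⟩, a.2, ⟨b, hHL b.2⟩, b.2, Subtype.ext hab⟩
    obtain ⟨F, iF, iFf, C, hC, ⟨e⟩⟩ := ih _ hlt' L NL HL rfl inferInstance hcomplL
      ((hcop.coprime_dvd_left hNLd).coprime_dvd_right hHLc.dvd)
      (fun h => hH (by
        rw [h, Subgroup.card_bot] at hHLc
        exact Subgroup.card_eq_one.mp hHLc.symm))
      (fun h hh hh1 x hx hhx => Subgroup.mem_centralizer_iff.mpr fun a ha => Subtype.ext
        (Subgroup.mem_centralizer_iff.mp
          (hfix h hh (fun e => hh1 (Subtype.ext e)) x hx (congrArg Subtype.val hhx)) a ha))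
      hncL
    exact ⟨F, iF, iFf, C, hC, ⟨(Subgroup.subgroupOfEquivOfLe hHL).symm.trans e⟩⟩

end Cfsg.Agent.Char.RelFrob
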