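import Cfsg.Agent.Lib.Char.Induction
import Cfsg.Agent.Lib.Char.Integral
import Cfsg.Agent.Lib.Char.Clifford
import Cfsg.Agent.Lib.Solvable.Coprime
import Mathlib.LinearAlgebra.LinearIndependent.Defs
import Mathlib.FieldTheory.Fixed

/-!
Representations of `Q P` of small degree, `P` acting semiregularly on `Q / C_Q(P)`.
-/

set_option autoImplicit false
set_option linter.unusedSectionVars false
set_option linter.style.haveILetI false

namespace Cfsg.Agent.TISmallDeg

open Cfsg Cfsg.Agent Cfsg.Agent.Char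
open scoped commutatorElement ComplexConjugate Classical
open Module

universe u

variable {H : Type u} [Group H] [Fintype H] {n : ℕ}

/-- The nonabelian case: the index of the centre of the representation is at most `n ^ 2`. -/
theorem false_of_nonabelian (ρ : Representation ℂ H (Fin n → ℂ)) [ρ.IsIrreducible]
    (Q P C : Subgroup H) (hQn : Q.Normal) (hcop : (Nat.card P).Coprime (Nat.card Q))
    (hsol : Group.IsSolvable P) (hCQ : C ≤ Q)
    (hCc : ∀ c ∈ C, ∀ h : H, c * h = h * c)
    (hder : ∀ x ∈ Q, ∀ y ∈ Q, ⁅x, y⁆ ∈ C)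
    (hfix : ∀ u ∈ P, u ≠ 1 → ∀ c ∈ Q, u * c = c * u → c ∈ C)
    (hdeg : n ^ 2 ≤ Nat.card P)
    (hnab : ∃ x ∈ Q, ∃ y ∈ Q, ρ (x * y) ≠ ρ (y * x)) : False := by
  obtain ⟨x₀, hx₀, y₀, hy₀, hne⟩ := hnab
  let Z : Subgroup H :=
    { carrier := {x | x ∈ Q ∧ ∀ y ∈ Q, ρ (x * y) = ρ (y * x)}
      one_mem' := ⟨Q.one_mem, fun y _ => by rw [one_mul, mul_one]⟩
      mul_mem' := fun {a b} ha hb => ⟨Q.mul_mem ha.1 hb.1, fun y hy => by
        calc ρ (a * b * y) = ρ a * ρ (b * y) := by rw [mul_assoc, map_mul]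
          _ = ρ a * ρ (y * b) := by rw [hb.2 y hy]
          _ = ρ (a * y) * ρ b := by rw [map_mul, map_mul, mul_assoc]
          _ = ρ (y * a) * ρ b := by rw [ha.2 y hy]
          _ = ρ (y * (a * b)) := by rw [← map_mul, mul_assoc]⟩
      inv_mem' := fun {a} ha => ⟨Q.inv_mem ha.1, fun y hy => by
        calc ρ (a⁻¹ * y) = ρ a⁻¹ * ρ (y * a) * ρ a⁻¹ := by
              rw [← map_mul, ← map_mul]; congr 1; group
          _ = ρ a⁻¹ * ρ (a * y) * ρ a⁻¹ := by rw [ha.2 y hy]
          _ = ρ (y * a⁻¹) := by rw [← map_mul, ← map_mul]; congr 1; group⟩ }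
  have hZQ : Z ≤ Q := fun x hx => hx.1
  have hCZ : C ≤ Z := fun c hc => ⟨hCQ hc, fun y _ => by rw [hCc c hc y]⟩
  have hPQ : P ≤ Subgroup.normalizer (Q : Set H) := Subgroup.le_normalizer_of_normal
  have hZn : ∀ g : H, ∀ x ∈ Z, g * x * g⁻¹ ∈ Z := by
    intro g x hx
    refine ⟨hQn.conj_mem x hx.1 g, fun y hy => ?_⟩
    have := hx.2 (g⁻¹ * y * g) (by simpa using hQn.conj_mem y hy g⁻¹)
    calc ρ (g * x * g⁻¹ * y) = ρ g * ρ (x * (g⁻¹ * y * g)) * ρ g⁻¹ := by
          rw [← map_mul, ← map_mul]; congr 1; group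
      _ = ρ g * ρ ((g⁻¹ * y * g) * x) * ρ g⁻¹ := by rw [this]
      _ = ρ (y * (g * x * g⁻¹)) := by rw [← map_mul, ← map_mul]; congr 1; group
  haveI : Z.Normal := ⟨fun x hx g => hZn g x hx⟩
  -- the character vanishes outside `Z`
  have hvan : ∀ x ∈ Q, x ∉ Z → ρ.character x = 0 := by
    intro x hx hxZ
    obtain ⟨y, hy, hyx⟩ : ∃ y ∈ Q, ρ (x * y) ≠ ρ (y * x) := by
      by_contra h
      push Not at h
      exact hxZ ⟨hx, h⟩
    have hc : ⁅y, x⁆ ∈ C := hder y hy x hx
    obtain ⟨s, hs⟩ := schur_scalar ρ (ρ ⁅y, x⁆) (fun h v => by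
      rw [← Module.End.mul_apply, ← map_mul, ← Module.End.mul_apply, ← map_mul, hCc _ hc h])
    have hs1 : s ≠ 1 := by
      intro h
      refine hyx ?_
      calc ρ (x * y) = ρ ⁅y, x⁆ * ρ (x * y) := by
            rw [hs, h, one_smul, ← Module.End.one_eq_id, one_mul]
        _ = ρ (y * x) := by rw [← map_mul]; congr 1; simp only [commutatorElement_def]; group
    have h1 : ρ.character (y * x * y⁻¹) = ρ.character x := ρ.char_conj x y
    have h2 : ρ.character (y * x * y⁻¹) = s * ρ.character x := by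
      rw [show y * x * y⁻¹ = ⁅y, x⁆ * x by simp only [commutatorElement_def]; group]
      simp only [Representation.character, map_mul, hs]
      rw [smul_mul_assoc, map_smul, ← Module.End.one_eq_id, one_mul, smul_eq_mul]
    rw [h1] at h2
    have : (s - 1) * ρ.character x = 0 := by linear_combination -h2
    exact (mul_eq_zero.mp this).resolve_left (sub_ne_zero.mpr hs1)
  -- orthogonality on `Q`
  haveI : Fintype Q := Fintype.ofFinite _
  set ξ : Q → ℂ := fun q => ρ.character (q : H) with hξ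
  have hξc : Cfsg.IsCharacter Q ξ :=
    IsCharacter.restrict (isCharacter_of_rep ρ) Q
  obtain ⟨m, hm⟩ := IsCharacter.exists_classInner_nat hξc hξc
  have hm0 : m ≠ 0 := by
    intro h
    rw [h, Nat.cast_zero] at hm
    have h1 := congrFun (classInner_self_eq_zero hm) 1
    simp only [hξ, Subgroup.coe_one, Representation.char_one, Pi.zero_apply, Nat.cast_eq_zero] at h1
    have := finrank_pos_of_irreducible ρ
    omega
  have hsum : (Nat.card Q : ℝ) * m ≤ (Nat.card Z : ℝ) * (n : ℝ) ^ 2 := by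
    have h1 : ((∑ q : Q, Complex.normSq (ξ q) : ℝ) : ℂ) = (Nat.card Q : ℂ) * m := by
      rw [Complex.ofReal_sum, ← hm]
      simp only [Cfsg.classInner, Complex.mul_conj]
      rw [← mul_assoc, mul_inv_cancel₀ (Nat.cast_ne_zero.mpr Nat.card_pos.ne'), one_mul]
    have h2 : (∑ q : Q, Complex.normSq (ξ q)) = (Nat.card Q : ℝ) * m := by exact_mod_cast h1
    rw [← h2, ← Finset.sum_filter_of_ne (p := fun q : Q => (q : H) ∈ Z) (fun q _ hq => by
      by_contra hqZ
      exact hq (by simp [hξ, hvan q q.2 hqZ]))]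
    refine (Finset.sum_le_card_nsmul _ _ ((n : ℝ) ^ 2) fun q _ => ?_).trans (le_of_eq ?_)
    · rw [Complex.normSq_eq_norm_sq]
      have := norm_char_le ρ (q : H)
      rw [Module.finrank_fin_fun] at this
      exact pow_le_pow_left₀ (norm_nonneg _) this 2
    · rw [nsmul_eq_mul, ← Fintype.card_subtype, ← Nat.card_eq_fintype_card]
      congr 2
      exact Nat.card_congr ((Equiv.subtypeSubtypeEquivSubtypeInter (· ∈ Q) (· ∈ Z)).trans
        (Equiv.subtypeEquivRight fun x => and_iff_right_of_imp fun h => hZQ h))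
  have hle : Nat.card Q ≤ Nat.card Z * n ^ 2 := by
    have hm1 : (1 : ℝ) ≤ m := by exact_mod_cast Nat.one_le_iff_ne_zero.mpr hm0
    have : (Nat.card Q : ℝ) ≤ (Nat.card Z : ℝ) * (n : ℝ) ^ 2 :=
      le_trans (le_mul_of_one_le_right (Nat.cast_nonneg _) hm1) hsum
    exact_mod_cast this
  -- `P` is semiregular on `Q / Z`
  have hx₀Z : x₀ ∉ Z := fun h => hne (h.2 y₀ hy₀)
  set f := QuotientGroup.mk' Z with hf
  let φ : P → (Q.map f : Subgroup (H ⧸ Z)) := fun u =>
    ⟨f ((u : H) * x₀ * (u : H)⁻¹), Subgroup.mem_map_of_mem f (hQn.conj_mem x₀ hx₀ u)⟩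
  have hinj : Function.Injective φ := by
    intro a b hab
    by_contra hne'
    have hab' : f ((a : H) * x₀ * (a : H)⁻¹) = f ((b : H) * x₀ * (b : H)⁻¹) :=
      congrArg Subtype.val hab
    set u := (b : H)⁻¹ * a with hu
    have huP : u ∈ P := P.mul_mem (P.inv_mem b.2) a.2
    have hu1 : u ≠ 1 := fun h => hne' (Subtype.ext (inv_mul_eq_one.mp h).symm)
    have hmem : u * x₀ * u⁻¹ * x₀⁻¹ ∈ Z := by
      rw [← QuotientGroup.eq_one_iff]
      change f (u * x₀ * u⁻¹ * x₀⁻¹) = 1
      rw [hu]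
      have : f ((b : H)⁻¹ * a * x₀ * ((b : H)⁻¹ * a)⁻¹ * x₀⁻¹) =
          f (b : H)⁻¹ * f ((a : H) * x₀ * (a : H)⁻¹) * f b * f x₀⁻¹ := by
        rw [← map_mul, ← map_mul, ← map_mul]; congr 1; group
      rw [this, hab', ← map_mul, ← map_mul, ← map_mul,
        show (b : H)⁻¹ * ((b : H) * x₀ * (b : H)⁻¹) * b * x₀⁻¹ = 1 by group, map_one]
    haveI : Group.IsSolvable P := hsol
    have hA : Subgroup.zpowers u ≤ P := Subgroup.zpowers_le.mpr huP
    obtain ⟨c, hc, hkc⟩ := CoprimeAct.exists_mem_centralizer (A := Subgroup.zpowers u) (K := Q)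
      (hA.trans hPQ) (hcop.coprime_dvd_left (Subgroup.card_dvd_of_le hA))
      (Or.inl (SolvBasic.isSolvable_of_le hA)) hZQ Subgroup.le_normalizer_of_normal
      Subgroup.le_normalizer_of_normal hx₀ (fun a ha => by
        obtain ⟨k, rfl⟩ := Subgroup.mem_zpowers_iff.mp ha
        rw [← QuotientGroup.eq_one_iff]
        change f (u ^ k * x₀ * (u ^ k)⁻¹ * x₀⁻¹) = 1
        have hcomm : Commute (f u) (f x₀) := by
          have h1 : f (u * x₀ * u⁻¹ * x₀⁻¹) = 1 := by
            rw [← QuotientGroup.eq_one_iff] at hmem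
            exact hmem
          rw [map_mul, map_mul, map_mul, map_inv, map_inv] at h1
          exact mul_inv_eq_iff_eq_mul.mp (mul_inv_eq_one.mp h1)
        rw [map_mul, map_mul, map_mul, map_inv, map_inv, map_zpow, (hcomm.zpow_left k).eq,
          mul_inv_cancel_right, mul_inv_cancel])
    have hcC : c ∈ C := hfix u huP hu1 c hc.1
      (Subgroup.mem_centralizer_iff.mp hc.2 u (Subgroup.mem_zpowers u))
    exact hx₀Z (by simpa using Z.mul_mem (hCZ hcC) (Z.inv_mem hkc))
  have hnsurj : ¬ Function.Surjective φ := by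
    intro hs
    obtain ⟨u, hu⟩ := hs ⟨1, one_mem _⟩
    have h1 : f ((u : H) * x₀ * (u : H)⁻¹) = 1 := congrArg Subtype.val hu
    rw [hf, QuotientGroup.mk'_apply, QuotientGroup.eq_one_iff] at h1
    exact hx₀Z (by simpa [mul_assoc] using hZn (u : H)⁻¹ _ h1)
  have hlt : Nat.card P < Nat.card (Q.map f : Subgroup (H ⧸ Z)) := by
    refine lt_of_le_of_ne (Nat.card_le_card_of_injective φ hinj) fun h => hnsurj ?_
    exact ((Nat.bijective_iff_injective_and_card φ).mpr ⟨hinj, h⟩).2
  have hcardQ : Nat.card (Q.map f : Subgroup (H ⧸ Z)) * Nat.card Z = Nat.card Q := by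
    have h := Subgroup.card_mul_index (Z.subgroupOf Q)
    rw [Nat.card_congr (Subgroup.subgroupOfEquivOfLe hZQ).toEquiv] at h
    rw [mul_comm, ← h]
    congr 1
    rw [show (Z.subgroupOf Q).index = Z.relIndex Q from rfl,
      show Q.map f = (f.comp Q.subtype).range by rw [MonoidHom.range_comp, Subgroup.range_subtype],
      ← Subgroup.index_ker]
    congr 1
    ext x
    simp [Subgroup.mem_subgroupOf, hf, MonoidHom.mem_ker]
  have hZpos : 0 < Nat.card Z := Nat.card_pos
  have : Nat.card (Q.map f : Subgroup (H ⧸ Z)) ≤ n ^ 2 :=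
    Nat.le_of_mul_le_mul_right (hcardQ ▸ (hle.trans (le_of_eq (mul_comm _ _)))) hZpos
  omega

/-- The abelian case: the degree is at least `|P|`. -/
theorem false_of_abelian (ρ : Representation ℂ H (Fin n → ℂ)) [ρ.IsIrreducible]
    (Q P C : Subgroup H) (hQn : Q.Normal) (hcop : (Nat.card P).Coprime (Nat.card Q))
    (hsol : Group.IsSolvable P) (hCc : ∀ c ∈ C, ∀ h : H, c * h = h * c)
    (hfix : ∀ u ∈ P, u ≠ 1 → ∀ c ∈ Q, u * c = c * u → c ∈ C)
    (hQP : ⁅Q, P⁆ = Q) (hnt : ∃ x ∈ Q, ρ x ≠ 1) (hP : P ≠ ⊥)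
    (hdeg : n ^ 2 ≤ Nat.card P)
    (hab : ∀ x ∈ Q, ∀ y ∈ Q, ρ (x * y) = ρ (y * x)) : False := by
  haveI : Nontrivial (Fin n → ℂ) := nontrivial_of_irreducible ρ
  set σ : Representation ℂ Q (Fin n → ℂ) := ρ.comp Q.subtype with hσ
  obtain ⟨a, ha⟩ := exists_irreducible_subrep σ
  set τ := a.toRepresentation with hτ
  haveI : τ.IsIrreducible := ha
  have hτapp : ∀ (x : Q) (v : a.toSubmodule), ((τ x v : a.toSubmodule) : Fin n → ℂ) = ρ x v :=
    fun x v => rfl
  choose lam hlam using fun x : Q => schur_scalar τ (τ x) (fun y v => by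
    apply Subtype.ext
    simp only [hτapp]
    rw [← Module.End.mul_apply, ← map_mul, ← Module.End.mul_apply, ← map_mul,
      hab x x.2 y y.2])
  obtain ⟨⟨v, hv⟩, hv0⟩ : ∃ w : a.toSubmodule, w ≠ 0 :=
    haveI := nontrivial_of_irreducible τ
    exists_ne 0
  have hv0' : v ≠ 0 := fun h => hv0 (Subtype.ext h)
  have hval : ∀ x : Q, ρ x v = lam x • v := fun x => by
    have h1 := hτapp x ⟨v, hv⟩
    rw [hlam] at h1
    simpa using h1.symm
  have hmul : ∀ x y : Q, lam (x * y) = lam x * lam y := by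
    intro x y
    have h1 := hval (x * y)
    rw [Subgroup.coe_mul, map_mul, Module.End.mul_apply, hval y, map_smul, hval x, smul_smul] at h1
    rw [mul_comm (lam x)]
    exact (smul_left_injective ℂ hv0' h1).symm
  have hone : lam 1 = 1 := by
    have h1 := hval 1
    rw [Subgroup.coe_one, map_one, Module.End.one_apply] at h1
    exact (smul_left_injective ℂ hv0' (show (1 : ℂ) • v = lam 1 • v by rwa [one_smul])).symm
  let l : Q →* ℂ := ⟨⟨lam, hone⟩, hmul⟩
  -- `l` is not trivial
  have hlnt : ∃ x : Q, l x ≠ 1 := by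
    by_contra h
    push Not at h
    let W : Subrepresentation ρ :=
      ⟨⨅ x : Q, LinearMap.ker (ρ (x : H) - 1), fun g w hw => by
        simp only [Submodule.mem_iInf, LinearMap.mem_ker, LinearMap.sub_apply,
          Module.End.one_apply, sub_eq_zero] at hw ⊢
        intro x
        have := hw ⟨g⁻¹ * x * g, by simpa using hQn.conj_mem _ x.2 g⁻¹⟩
        calc ρ (x : H) (ρ g w) = ρ g (ρ (g⁻¹ * x * g) w) := by
              rw [← Module.End.mul_apply, ← map_mul, ← Module.End.mul_apply, ← map_mul]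
              congr 2
              group
          _ = ρ g w := by rw [this]⟩
    have hvW : v ∈ W.toSubmodule := by
      simp only [W, Submodule.mem_iInf, LinearMap.mem_ker, LinearMap.sub_apply,
        Module.End.one_apply, sub_eq_zero]
      intro x
      rw [hval x, show lam x = 1 from h x, one_smul]
    obtain ⟨x, hx, hxne⟩ := hnt
    rcases eq_bot_or_eq_top W with e | e
    · rw [congrArg Subrepresentation.toSubmodule e] at hvW
      exact hv0' ((Submodule.mem_bot ℂ).mp hvW)
    · refine hxne (LinearMap.ext fun w => ?_)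
      have hw : w ∈ W.toSubmodule := congrArg Subrepresentation.toSubmodule e ▸ Submodule.mem_top
      simp only [W, Submodule.mem_iInf, LinearMap.mem_ker, LinearMap.sub_apply,
        Module.End.one_apply, sub_eq_zero] at hw
      exact hw ⟨x, hx⟩
  have hlinv : ∀ x : Q, l x * l x⁻¹ = 1 := fun x => by
    rw [← map_mul, mul_inv_cancel, map_one]
  -- conjugates of `l`
  let cj : P → Q →* ℂ := fun u => l.comp
    { toFun := fun x : Q => (⟨(u : H)⁻¹ * x * u, by simpa using hQn.conj_mem _ x.2 (u : H)⁻¹⟩ : Q)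
      map_one' := Subtype.ext (by simp)
      map_mul' := fun x y => Subtype.ext (by simp [mul_assoc]) }
  have hinj : Function.Injective cj := by
    intro s t hst
    by_contra hne
    set u := (s : H)⁻¹ * t with hu
    have huP : u ∈ P := P.mul_mem (P.inv_mem s.2) t.2
    have hu1 : u ≠ 1 := fun h => hne (Subtype.ext (inv_mul_eq_one.mp h))
    have hAl : ∀ z z' : Q, (z : H) = z' → l z = l z' := fun z z' e => by rw [Subtype.ext e]
    have hfixl : ∀ x : Q, l ⟨u * x * u⁻¹, hQn.conj_mem _ x.2 u⟩ = l x := by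
      intro x
      have h1 := DFunLike.congr_fun hst ⟨(t : H) * x * (t : H)⁻¹, hQn.conj_mem _ x.2 t⟩
      simp only [cj, MonoidHom.comp_apply, MonoidHom.coe_mk, OneHom.coe_mk] at h1
      refine Eq.trans (hAl _ _ ?_) (h1.trans (hAl _ _ ?_))
      · simp only [hu]; group
      · simp only; group
    let L : Subgroup H := (l.ker).map Q.subtype
    have hder : ⁅Q, Subgroup.zpowers u⁆ ≤ L := by
      have hfixz : ∀ k : ℤ, ∀ x : Q, l ⟨u ^ k * x * (u ^ k)⁻¹, hQn.conj_mem _ x.2 _⟩ = l x := by
        intro k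
        induction k using Int.induction_on with
        | zero => intro x; congr 1; ext; simp
        | succ i ih =>
          intro x
          rw [← ih x, ← hfixl ⟨u ^ (i : ℤ) * x * (u ^ (i : ℤ))⁻¹, hQn.conj_mem _ x.2 _⟩]
          congr 1; ext
          simp only
          rw [zpow_add_one]
          group
        | pred i ih =>
          intro x
          rw [← ih x, ← hfixl ⟨u ^ (-(i : ℤ) - 1) * x * (u ^ (-(i : ℤ) - 1))⁻¹,
            hQn.conj_mem _ x.2 _⟩]
          congr 1; ext
          simp only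
          group
      rw [Subgroup.commutator_le]
      intro x hx g hg
      obtain ⟨k, rfl⟩ := Subgroup.mem_zpowers_iff.mp hg
      have hmem : u ^ k * x⁻¹ * (u ^ k)⁻¹ ∈ Q := hQn.conj_mem _ (Q.inv_mem hx) _
      refine ⟨⟨x, hx⟩ * ⟨_, hmem⟩, ?_, ?_⟩
      · show l _ = 1
        rw [map_mul, hfixz k ⟨x⁻¹, Q.inv_mem hx⟩]
        exact hlinv ⟨x, hx⟩
      · simp [commutatorElement_def, mul_assoc]
    have hA : Subgroup.zpowers u ≤ P := Subgroup.zpowers_le.mpr huP
    have hQsup := CoprimeAct.commutator_sup_centralizer (A := Subgroup.zpowers u) (K := Q)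
      Subgroup.le_normalizer_of_normal (hcop.coprime_dvd_left (Subgroup.card_dvd_of_le hA))
      (Or.inl (haveI := hsol; SolvBasic.isSolvable_of_le hA))
    -- `l` is trivial on `C`
    have hCl : ∀ c : Q, (c : H) ∈ C → l c = 1 := by
      intro c hc
      haveI : Fintype P := Fintype.ofFinite _
      let N : Q →* ℂ :=
        { toFun := fun x => ∏ w : P, cj w x
          map_one' := Finset.prod_eq_one fun w _ => map_one _
          map_mul' := fun x y => by
            rw [← Finset.prod_mul_distrib]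
            exact Finset.prod_congr rfl fun w _ => map_mul _ _ _ }
      have hNtriv : ∀ x : Q, N x = 1 := by
        have hle : ⁅Q, P⁆ ≤ N.ker.map Q.subtype := by
          rw [Subgroup.commutator_le]
          intro x hx g hg
          have hmem : g * x⁻¹ * g⁻¹ ∈ Q := hQn.conj_mem _ (Q.inv_mem hx) g
          refine ⟨⟨x, hx⟩ * ⟨_, hmem⟩, ?_, by simp [commutatorElement_def, mul_assoc]⟩
          show N _ = 1
          rw [map_mul]
          have e : N ⟨_, hmem⟩ = N (⟨x, hx⟩⁻¹) := by
            refine Fintype.prod_equiv (Equiv.mulLeft (⟨g, hg⟩ : P)⁻¹) _ _ fun w => ?_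
            simp only [cj, MonoidHom.comp_apply, MonoidHom.coe_mk, OneHom.coe_mk,
              Equiv.coe_mulLeft]
            congr 1
            ext
            simp [mul_assoc]
          rw [e, ← map_mul, mul_inv_cancel, map_one]
        intro x
        obtain ⟨z, hz, hzx⟩ := hle (hQP.symm ▸ x.2 : (x : H) ∈ ⁅Q, P⁆)
        rwa [← Subtype.ext (a1 := z) (a2 := x) hzx]
      have h1 := hNtriv c
      have hpow : l c ^ Nat.card P = 1 := by
        rw [← h1, Nat.card_eq_fintype_card, ← Finset.card_univ, ← Finset.prod_const]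
        refine Finset.prod_congr rfl fun w _ => ?_
        simp only [cj, MonoidHom.comp_apply, MonoidHom.coe_mk, OneHom.coe_mk]
        refine hAl _ _ ?_
        simp only
        rw [mul_assoc, hCc _ hc, inv_mul_cancel_left]
      have hpow2 : l c ^ Nat.card Q = 1 := by rw [← map_pow, pow_card_eq_one', map_one]
      have := orderOf_dvd_of_pow_eq_one hpow
      exact orderOf_eq_one_iff.mp
        (Nat.eq_one_of_dvd_coprimes hcop this (orderOf_dvd_of_pow_eq_one hpow2))
    have hQL : Q ≤ L := by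
      rw [← hQsup]
      refine sup_le hder fun c hc => ⟨⟨c, hc.1⟩, hCl _ ?_, rfl⟩
      exact hfix u huP hu1 c hc.1 (Subgroup.mem_centralizer_iff.mp hc.2 u (Subgroup.mem_zpowers u))
    obtain ⟨x, hx⟩ := hlnt
    obtain ⟨z, hz, hzx⟩ := hQL x.2
    exact hx (by rwa [← Subtype.ext (a1 := z) (a2 := x) hzx])
  -- translates of `v` are weight vectors
  let w : P → (Fin n → ℂ) := fun u => ρ (u : H) v
  have hw : ∀ (u : P) (x : Q), ρ (x : H) (w u) = cj u x • w u := by
    intro u x
    have h1 := hval ⟨(u : H)⁻¹ * x * u, by simpa using hQn.conj_mem _ x.2 (u : H)⁻¹⟩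
    simp only [w]
    rw [← Module.End.mul_apply, ← map_mul, show (x : H) * u = u * ((u : H)⁻¹ * x * u) by group,
      map_mul, Module.End.mul_apply, h1, map_smul]
    rfl
  haveI : Fintype P := Fintype.ofFinite _
  have hli : LinearIndependent ℂ w := by
    rw [Fintype.linearIndependent_iff]
    intro g hg i
    have hd := (linearIndependent_monoidHom Q ℂ).comp cj hinj
    rw [Fintype.linearIndependent_iff] at hd
    have key : ∀ j : Fin n, ∀ u : P, g u * w u j = 0 := by
      intro j
      refine hd (fun u => g u * w u j) (funext fun x => ?_)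
      have h1 := congrArg (ρ (x : H)) hg
      rw [map_sum, map_zero] at h1
      simp only [map_smul, hw] at h1
      have h2 := congrFun h1 j
      simp only [Finset.sum_apply, Pi.smul_apply, smul_eq_mul, Pi.zero_apply,
        Function.comp_apply] at h2 ⊢
      rw [← h2]
      exact Finset.sum_congr rfl fun u _ => by ring
    by_contra hgi
    have hw0 : w i = 0 := funext fun j => (mul_eq_zero.mp (key j i)).resolve_left hgi
    refine hv0' ?_
    have := congrArg (ρ (i : H)⁻¹) hw0
    simpa [w, ← Module.End.mul_apply, ← map_mul] using this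
  have hle := hli.fintype_card_le_finrank
  rw [Module.finrank_fin_fun, ← Nat.card_eq_fintype_card] at hle
  have hP2 : 1 < Nat.card P := P.one_lt_card_iff_ne_bot.mpr hP
  nlinarith

end Cfsg.Agent.TISmallDeg
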