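import Cfsg.Agent.Lib.Char.SixtyArc
import Cfsg.Agent.Lib.Blocks.RegularSum
import Cfsg.Agent.Lib.Blocks.SubsectionRow
import Cfsg.Agent.Lib.Blocks.Degree
import Cfsg.Agent.Lib.Blocks.Block
import Cfsg.Agent.Lib.Char.GlaubermanMod
import Mathlib.LinearAlgebra.Trace
import Mathlib.RingTheory.RootsOfUnity.Complex

/-!
# Brauer's bound for simple groups of order `p^a q^b g₀`
-/

set_option autoImplicit false
set_option linter.unusedSectionVars false
set_option linter.style.haveILetI false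

namespace Cfsg.Agent.ThreePartBound

open Cfsg Cfsg.Agent.Char Cfsg.Agent.CharX Cfsg.Agent.Blocks
open scoped ComplexConjugate

universe u

variable {G : Type u} [Group G] [Fintype G]

/-! ### Eigen projections for an element of prime order -/

section Proj

variable {n : ℕ} (ρ : Representation ℂ G (Fin n → ℂ)) (p : ℕ) (ζ : ℂ) (x : G)

noncomputable def eigProj (j : Fin p) : (Fin n → ℂ) →ₗ[ℂ] (Fin n → ℂ) :=
  (p : ℂ)⁻¹ • ∑ t : Fin p, (ζ ^ ((p - j.val) * t.val)) • ρ (x ^ t.val)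

/-- The multiplicity of an eigenvalue. -/
noncomputable def mult (j : Fin p) : ℕ := Module.finrank ℂ (LinearMap.range (eigProj ρ p ζ x j))

variable {p ζ x} (hp : p.Prime) (hζ : IsPrimitiveRoot ζ p) (hx : x ^ p = 1)
include hp hζ hx

theorem eigProj_apply_gen (j : Fin p) (v : Fin n → ℂ) :
    ρ x (eigProj ρ p ζ x j v) = ζ ^ j.val • eigProj ρ p ζ x j v := by
  haveI : NeZero p := ⟨hp.ne_zero⟩
  simp only [eigProj, LinearMap.smul_apply, LinearMap.coe_sum, Finset.sum_apply, map_smul, map_sum]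
  rw [smul_comm (ζ ^ j.val)]
  congr 1
  rw [Finset.smul_sum]
  refine Fintype.sum_equiv (Equiv.addRight (1 : Fin p)) _ _ fun t => ?_
  have e1 : x ^ ((t + 1 : Fin p) : ℕ) = x * x ^ t.val := by
    rw [← pow_succ', Fin.val_add, Fin.val_one', ← pow_eq_pow_mod _ hx,
      pow_add, pow_add, ← pow_eq_pow_mod _ hx, pow_one]
  have e2 : ζ ^ j.val * ζ ^ ((p - j.val) * ((t + 1 : Fin p) : ℕ)) = ζ ^ ((p - j.val) * t.val) := by
    have hz := hζ.pow_eq_one
    rw [Fin.val_add, Fin.val_one', pow_mul, ← pow_eq_pow_mod _ (by rw [← pow_mul, mul_comm,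
      pow_mul, hz, one_pow]), pow_add, ← pow_eq_pow_mod 1 (by rw [← pow_mul, mul_comm, pow_mul,
      hz, one_pow]), pow_one, ← pow_mul, mul_comm (ζ ^ ((p - j.val) * t.val)), ← mul_assoc,
      ← pow_add, Nat.add_sub_cancel' j.2.le, hz, one_mul]
  simp only [Equiv.coe_addRight]
  rw [smul_smul, e2, e1, map_mul, Module.End.mul_apply]

theorem eigProj_sum (v : Fin n → ℂ) : ∑ j, eigProj ρ p ζ x j v = v := by
  haveI : NeZero p := ⟨hp.ne_zero⟩
  have hp0 : (p : ℂ) ≠ 0 := Nat.cast_ne_zero.2 hp.ne_zero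
  simp only [eigProj, LinearMap.smul_apply, LinearMap.coe_sum, Finset.sum_apply]
  rw [← Finset.smul_sum, Finset.sum_comm]
  simp only [← Finset.sum_smul]
  rw [Finset.sum_eq_single (0 : Fin p)]
  · simp [smul_smul, hp0]
  · intro t _ ht
    have ht0 : t.val ≠ 0 := fun h => ht (Fin.ext h)
    have hne : ζ ^ t.val ≠ 1 := hζ.pow_ne_one_of_pos_of_lt ht0 t.2
    have e : ∀ j : Fin p, ζ ^ ((p - j.val) * t.val) = (ζ ^ t.val)⁻¹ ^ j.val := fun j => by
      rw [inv_pow, ← pow_mul, eq_comm]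
      refine inv_eq_of_mul_eq_one_right ?_
      rw [← pow_add, show t.val * j.val + (p - j.val) * t.val = p * t.val by
        rw [mul_comm t.val, ← add_mul, Nat.add_sub_cancel' j.2.le], pow_mul, hζ.pow_eq_one,
        one_pow]
    rw [Finset.sum_congr rfl fun j _ => e j, Fin.sum_univ_eq_sum_range
      (fun j => ((ζ ^ t.val)⁻¹) ^ j), geom_sum_eq (by simpa using hne), inv_pow, ← pow_mul,
      mul_comm, pow_mul, hζ.pow_eq_one, one_pow]
    simp
  · simp

theorem eigProj_apply_pow (j : Fin p) (k : ℕ) (v : Fin n → ℂ) :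
    ρ (x ^ k) (eigProj ρ p ζ x j v) = ζ ^ (j.val * k) • eigProj ρ p ζ x j v := by
  induction k with
  | zero => simp
  | succ k ih =>
    rw [pow_succ', map_mul, Module.End.mul_apply, ih, map_smul, eigProj_apply_gen ρ hp hζ hx,
      smul_smul, Nat.mul_succ, pow_add]

theorem eigProj_idem (j : Fin p) (v : Fin n → ℂ) :
    eigProj ρ p ζ x j (eigProj ρ p ζ x j v) = eigProj ρ p ζ x j v := by
  have hp0 : (p : ℂ) ≠ 0 := Nat.cast_ne_zero.2 hp.ne_zero
  have e : ∀ t : Fin p, ζ ^ ((p - j.val) * t.val) * ζ ^ (j.val * t.val) = 1 := fun t => by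
    rw [← pow_add, ← add_mul, Nat.sub_add_cancel j.2.le, pow_mul, hζ.pow_eq_one, one_pow]
  have hw := fun t => eigProj_apply_pow ρ hp hζ hx j t v
  generalize eigProj ρ p ζ x j v = w at hw ⊢
  simp only [eigProj, LinearMap.smul_apply, LinearMap.coe_sum, Finset.sum_apply, hw, smul_smul, e,
    one_smul]
  rw [Finset.sum_const, Finset.card_univ, Fintype.card_fin, ← Nat.cast_smul_eq_nsmul ℂ, smul_smul,
    inv_mul_cancel₀ hp0, one_smul]

theorem mult_trace (j : Fin p) :
    LinearMap.trace ℂ _ (eigProj ρ p ζ x j) = (mult ρ p ζ x j : ℂ) := by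
  refine LinearMap.IsProj.trace ⟨fun v => ⟨v, rfl⟩, ?_⟩
  rintro _ ⟨v, rfl⟩
  exact eigProj_idem ρ hp hζ hx j v

theorem eigProj_eq_zero_iff (j : Fin p) : eigProj ρ p ζ x j = 0 ↔ mult ρ p ζ x j = 0 := by
  rw [mult, Submodule.finrank_eq_zero, LinearMap.range_eq_bot]

theorem mult_mul (j : Fin p) : (p : ℂ) * (mult ρ p ζ x j : ℂ) =
    ∑ t : Fin p, ζ ^ ((p - j.val) * t.val) * ρ.character (x ^ t.val) := by
  have hp0 : (p : ℂ) ≠ 0 := Nat.cast_ne_zero.2 hp.ne_zero
  rw [← mult_trace ρ hp hζ hx, eigProj, map_smul, map_sum, smul_eq_mul, ← mul_assoc,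
    mul_inv_cancel₀ hp0, one_mul]
  simp [Representation.character]

theorem char_eq (k : ℕ) :
    ρ.character (x ^ k) = ∑ j : Fin p, ζ ^ (j.val * k) * (mult ρ p ζ x j : ℂ) := by
  have e : ρ (x ^ k) = ∑ j : Fin p, ζ ^ (j.val * k) • eigProj ρ p ζ x j := by
    refine LinearMap.ext fun v => ?_
    conv_lhs => rw [← eigProj_sum ρ hp hζ hx v, map_sum]
    simp only [LinearMap.coe_sum, Finset.sum_apply, LinearMap.smul_apply,
      eigProj_apply_pow ρ hp hζ hx]
  rw [Representation.character, e, map_sum]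
  simp [mult_trace ρ hp hζ hx]

end Proj

theorem normSq_exp_lt {θ : ℝ} (h : |θ| < Real.pi / 3) :
    Complex.normSq (Complex.exp (θ * Complex.I) - 1) < 1 := by
  have hc : 1 / 2 < Real.cos θ := by
    rw [← Real.cos_abs θ, ← Real.cos_pi_div_three]
    exact Real.cos_lt_cos_of_nonneg_of_le_pi (abs_nonneg θ) (by linarith [Real.pi_pos]) h
  rw [Complex.exp_mul_I, Complex.normSq_apply]
  simp only [Complex.sub_re, Complex.sub_im, Complex.add_re, Complex.add_im, Complex.mul_re,
    Complex.mul_im, Complex.cos_ofReal_re, Complex.cos_ofReal_im, Complex.sin_ofReal_re,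
    Complex.sin_ofReal_im, Complex.I_re, Complex.I_im, Complex.one_re, Complex.one_im]
  nlinarith [Real.sin_sq_add_cos_sq θ]

/-- A character with few eigenvalues at an element of large prime order. -/
theorem few_eigenvalues_false [IsSimpleGroup G] (hna : ∀ g : G, g ≠ 1 → ∃ a, a * g ≠ g * a)
    {n : ℕ} (ρ : Representation ℂ G (Fin n → ℂ)) (hfix : ∀ v : Fin n → ℂ, (∀ a, ρ a v = v) → v = 0)
    {p : ℕ} (hp : p.Prime) {ζ : ℂ} (hζ : ζ = Complex.exp (2 * Real.pi * Complex.I / p))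
    {x : G} (hx : orderOf x = p) (J : Finset (Fin p))
    (hJ : ∀ j, j ∉ J → eigProj ρ p ζ x j = 0) (hn : n ≠ 0) {d : ℕ} (hJd : J.card ≤ d)
    (hd : 6 ^ (d - 1) < p) : False := by
  classical
  have hpr : IsPrimitiveRoot ζ p := hζ ▸ Complex.isPrimitiveRoot_exp p hp.ne_zero
  have hxp : x ^ p = 1 := hx ▸ pow_orderOf_eq_one x
  haveI : Fact p.Prime := ⟨hp⟩
  haveI : NeZero p := ⟨hp.ne_zero⟩
  have hp2 : 2 ≤ p := hp.two_le
  obtain ⟨j₀, hj₀⟩ : ∃ j, eigProj ρ p ζ x j ≠ 0 := by
    by_contra hcon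
    push Not at hcon
    haveI : Nonempty (Fin n) := Fin.pos_iff_nonempty.1 (Nat.pos_of_ne_zero hn)
    have h0 := eigProj_sum ρ hp hpr hxp (fun _ => (1 : ℂ))
    simp [hcon] at h0
    exact absurd (congrFun h0 (Classical.arbitrary _)) (by simp)
  have hj₀J : j₀ ∈ J := by_contra fun h => hj₀ (hJ _ h)
  -- pigeonhole
  let F : Fin p → (↥(J.erase j₀) → Fin 6) := fun k j =>
    ⟨6 * ((((j.1.val + (p - j₀.val)) * k.val : ℕ)) % p) / p,
      (Nat.div_lt_iff_lt_mul hp.pos).2 (by
        have := Nat.mod_lt ((j.1.val + (p - j₀.val)) * k.val) hp.pos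
        omega)⟩
  obtain ⟨k₁, k₂, hne, hF⟩ : ∃ k₁ k₂, k₁ ≠ k₂ ∧ F k₁ = F k₂ := by
    refine Fintype.exists_ne_map_eq_of_card_lt F ?_
    rw [Fintype.card_fun, Fintype.card_fin, Fintype.card_fin, Fintype.card_coe,
      Finset.card_erase_of_mem hj₀J]
    exact lt_of_le_of_lt (Nat.pow_le_pow_right (by norm_num) (Nat.sub_le_sub_right hJd 1)) hd
  set k : ℕ := k₁.val + (p - k₂.val) with hk
  have hkd : ¬ p ∣ k := by
    intro h
    apply hne
    have h1 : ((k : ℕ) : ZMod p) = 0 := (ZMod.natCast_eq_zero_iff _ _).2 h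
    rw [hk, Nat.cast_add, Nat.cast_sub k₂.2.le, ZMod.natCast_self, zero_sub, ← sub_eq_add_neg,
      sub_eq_zero, ZMod.natCast_eq_natCast_iff', Nat.mod_eq_of_lt k₁.2, Nat.mod_eq_of_lt k₂.2] at h1
    exact Fin.ext h1
  have hg : x ^ k ≠ 1 := fun e => hkd (hx ▸ orderOf_dvd_of_pow_eq_one e)
  obtain ⟨l, hl⟩ : ∃ l : ℕ, (x ^ k) ^ l = x := by
    refine exists_pow_eq_self_of_coprime ?_
    rw [hx]
    exact Nat.Coprime.symm ((hp.coprime_iff_not_dvd).2 hkd)
  refine SixtyArc.no_small_arc ρ hna hfix (fun j => eigProj ρ p ζ x j)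
    (fun j => ζ ^ (j.val * k)) j₀ (x ^ k) hg (eigProj_sum ρ hp hpr hxp)
    (fun j v => eigProj_apply_pow ρ hp hpr hxp j k v) ?_ ?_ ?_ (eigProj_idem ρ hp hpr hxp j₀) hj₀ ?_
  · intro j
    rw [← Complex.normSq_eq_conj_mul_self, Complex.normSq_eq_norm_sq,
      norm_pow, hpr.norm'_eq_one hp.ne_zero]
    simp
  · intro i j hij _ _ e
    refine hij (Fin.ext ?_)
    rw [pow_eq_pow_mod (i.val * k) hpr.pow_eq_one, pow_eq_pow_mod (j.val * k) hpr.pow_eq_one] at e
    have e' := hpr.pow_inj (Nat.mod_lt _ hp.pos) (Nat.mod_lt _ hp.pos) e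
    have e'' : ((i.val : ZMod p)) * (k : ZMod p) = (j.val : ZMod p) * (k : ZMod p) := by
      rw [← Nat.cast_mul, ← Nat.cast_mul]
      exact (ZMod.natCast_eq_natCast_iff' _ _ _).2 e'
    have e3 := mul_right_cancel₀ (fun h => hkd ((ZMod.natCast_eq_zero_iff _ _).1 h)) e''
    rwa [ZMod.natCast_eq_natCast_iff', Nat.mod_eq_of_lt i.2, Nat.mod_eq_of_lt j.2] at e3
  · intro W hW w hw
    have hxW : ∀ (t : ℕ) (v : Fin n → ℂ), v ∈ W → ρ (x ^ t) v ∈ W := by
      have hgt : ∀ (t : ℕ) (v : Fin n → ℂ), v ∈ W → ρ ((x ^ k) ^ t) v ∈ W := by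
        intro t
        induction t with
        | zero => intro v hv; simpa using hv
        | succ t ih =>
          intro v hv
          rw [pow_succ', map_mul, Module.End.mul_apply]
          exact hW _ (ih v hv)
      intro t v hv
      rw [← hl, ← pow_mul]
      exact hgt _ v hv
    simp only [eigProj, LinearMap.smul_apply, LinearMap.coe_sum, Finset.sum_apply]
    exact W.smul_mem _ (Submodule.sum_mem _ fun t _ => W.smul_mem _ (hxW _ w hw))
  · intro j hj
    have hjJ : j ∈ J := by_contra fun h => hj (hJ _ h)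
    by_cases hjj : j = j₀
    · simp [hjj]
    have hcmp := congrArg Fin.val (congrFun hF ⟨j, Finset.mem_erase.2 ⟨hjj, hjJ⟩⟩)
    simp only [F] at hcmp
    set e := j.val + (p - j₀.val) with he
    set a := e * k₁.val % p with ha
    set b := e * k₂.val % p with hb
    -- the rotation
    have hdiff : |(a : ℝ) - b| < (p : ℝ) / 6 := by
      have h1 := Nat.div_add_mod (6 * a) p
      have h2 := Nat.div_add_mod (6 * b) p
      have h3 := Nat.mod_lt (6 * a) hp.pos
      have h4 := Nat.mod_lt (6 * b) hp.pos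
      rw [hcmp] at h1
      have h5 : 6 * a < 6 * b + p := by omega
      have h6 : 6 * b < 6 * a + p := by omega
      have h5' : (6 : ℝ) * a < 6 * b + p := by exact_mod_cast h5
      have h6' : (6 : ℝ) * b < 6 * a + p := by exact_mod_cast h6
      rw [abs_lt]; constructor <;> linarith
    set θ : ℝ := 2 * Real.pi * ((a : ℝ) - b) / p with hθ
    have hθ' : |θ| < Real.pi / 3 := by
      have hpR : (0 : ℝ) < p := Nat.cast_pos.2 hp.pos
      rw [hθ, abs_div, abs_mul, abs_of_pos (by positivity : (0 : ℝ) < 2 * Real.pi),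
        abs_of_pos hpR, div_lt_iff₀ hpR]
      nlinarith [Real.pi_pos, hdiff]
    have hexp : Complex.exp (θ * Complex.I) = ζ ^ a * (ζ ^ b)⁻¹ := by
      rw [hζ, ← Complex.exp_nat_mul, ← Complex.exp_nat_mul, ← Complex.exp_neg, ← Complex.exp_add,
        hθ]
      congr 1
      push_cast
      ring
    have hmodpow : ∀ A B : ℕ, A ≡ B [MOD p] → ζ ^ A = ζ ^ B := fun A B h => by
      rw [pow_eq_pow_mod A hpr.pow_eq_one, pow_eq_pow_mod B hpr.pow_eq_one, h]
    have hmu : ζ ^ (j.val * k) = ζ ^ (j₀.val * k) * Complex.exp (θ * Complex.I) := by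
      rw [hexp, ← mul_assoc, ← div_eq_mul_inv, eq_div_iff (pow_ne_zero _ (hpr.ne_zero hp.ne_zero)),
        ← pow_add, ← pow_add, ha, hb]
      refine hmodpow _ _ ?_
      rw [← ZMod.natCast_eq_natCast_iff]
      simp only [Nat.cast_add, Nat.cast_mul, ZMod.natCast_mod, he, hk, Nat.cast_sub j₀.2.le,
        Nat.cast_sub k₂.2.le, ZMod.natCast_self]
      ring
    rw [hmu, ← mul_sub_one, map_mul, Complex.normSq_eq_norm_sq (ζ ^ _), norm_pow,
      hpr.norm'_eq_one hp.ne_zero]
    simpa using normSq_exp_lt hθ'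

/-- Brauer: the bound on `p` in terms of the third part of the order. -/
theorem main [IsSimpleGroup G] (hna : ∀ g : G, g ≠ 1 → ∃ a, a * g ≠ g * a) (p q g₀ a b : ℕ)
    (hp : p.Prime) (hq : q.Prime) (hpq : p ≠ q) (ha : 0 < a)
    (hG : Nat.card G = p ^ a * q ^ b * g₀) (hcop : ¬ p ∣ g₀) : p < 6 ^ (g₀ - 1) := by
  classical
  by_contra hlt
  push Not at hlt
  have hg₀ : g₀ ≠ 0 := fun h => hcop (h ▸ dvd_zero p)
  have hlt' : 6 ^ (g₀ - 1) < p := by
    refine lt_of_le_of_ne hlt fun e => ?_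
    rcases Nat.eq_zero_or_pos (g₀ - 1) with h | h
    · rw [h, pow_zero] at e
      exact hp.one_lt.ne e
    · have h2 : 2 ∣ p := e ▸ (Dvd.dvd.pow (by norm_num) h.ne')
      have h3 : 3 ∣ p := e ▸ (Dvd.dvd.pow (by norm_num) h.ne')
      have e2 := (Nat.prime_dvd_prime_iff_eq Nat.prime_two hp).1 h2
      have e3 := (Nat.prime_dvd_prime_iff_eq Nat.prime_three hp).1 h3
      omega
  haveI : Fact p.Prime := ⟨hp⟩
  obtain ⟨M, hM⟩ := GlaubermanMod.exists_isPModular p
  haveI : M.IsPrime := hM.2.1.isPrime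
  obtain ⟨P⟩ : Nonempty (Sylow p G) := inferInstance
  -- a central element of order `p`
  obtain ⟨x, hxord, hxP⟩ : ∃ x : G, orderOf x = p ∧
      (P : Subgroup G) ≤ Subgroup.centralizer ({x} : Set G) := by
    have hP1 : (P : Subgroup G) ≠ ⊥ := P.ne_bot_of_dvd_card
      (hG ▸ dvd_mul_of_dvd_left (dvd_mul_of_dvd_left (dvd_pow_self p ha.ne') _) _)
    haveI : Nontrivial (P : Subgroup G) := (Subgroup.nontrivial_iff_ne_bot _).2 hP1
    haveI := P.isPGroup'.center_nontrivial
    obtain ⟨z, hz⟩ : ∃ z : Subgroup.center (P : Subgroup G), orderOf z = p := by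
      refine exists_prime_orderOf_dvd_card' p ?_
      obtain ⟨k, hk⟩ := IsPGroup.iff_card.1
        (P.isPGroup'.to_subgroup (Subgroup.center (P : Subgroup G)))
      have h1 : 1 < Nat.card (Subgroup.center (P : Subgroup G)) := Finite.one_lt_card
      rw [hk] at h1 ⊢
      exact dvd_pow_self p (by rintro rfl; simp at h1)
    refine ⟨((z : (P : Subgroup G)) : G), by rw [Subgroup.orderOf_coe, Subgroup.orderOf_coe, hz],
      fun y hy => ?_⟩
    rw [Subgroup.mem_centralizer_singleton_iff]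
    exact congrArg Subtype.val (Subgroup.mem_center_iff.1 z.2 ⟨y, hy⟩)
  set ι : ℕ := (Subgroup.centralizer ({x} : Set G)).index with hι
  have hιp : ¬ p ∣ ι := fun h => P.not_dvd_index (h.trans (Subgroup.index_dvd_of_le hxP))
  have hx1 : x ≠ 1 := fun e => by rw [e, orderOf_one] at hxord; exact hp.one_lt.ne hxord
  -- a character in the principal block
  set B : Set (IrrCharacter G) := principalBlock M G
  have horth : ∑ χ ∈ Finset.univ.filter (· ∈ B),
      ((charDegree (χ : G → ℂ) : ℕ) : ℂ) * (χ : G → ℂ) x = 0 := by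
    have h := blockPart_eq_zero hM (isPBlock_principalBlock M G)
      (fun g : G => if g = 1 then (1 : ℂ) else 0) (x := x) (g := x) (a := x)
      ⟨1, mul_one x, Commute.one_right x, ⟨1, by rw [hxord, pow_one]⟩, by simpa using hp.ne_one⟩
      (IsConj.refl x) (fun u z huz hxz => if_neg fun e => by
        subst e
        have hz1 : z = 1 := isPPart_unique hp huz ((isPPart_one_iff hp).2 (by simpa using hp.ne_one))
        exact hx1 (isConj_one_left.1 (hz1 ▸ hxz)))
    rw [blockPart_eq_sum] at h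
    have hne : (Nat.card G : ℂ)⁻¹ ≠ 0 := inv_ne_zero (Nat.cast_ne_zero.2 Nat.card_pos.ne')
    refine mul_left_cancel₀ hne ?_
    rw [mul_zero, ← h, Finset.mul_sum]
    refine Finset.sum_congr rfl fun χ _ => ?_
    simp [classInner, irr_deg χ, mul_assoc]
  obtain ⟨χ, hχB, hχne, hqd, hχx⟩ : ∃ χ : IrrCharacter G, χ ∈ B ∧
      (χ : G → ℂ) ≠ (fun _ => 1) ∧ ¬ q ∣ charDegree (χ : G → ℂ) ∧ (χ : G → ℂ) x ≠ 0 := by
    by_contra hcon
    push Not at hcon
    have hmem : Char.principal G ∈ Finset.univ.filter (· ∈ B) :=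
      Finset.mem_filter.2 ⟨Finset.mem_univ _, principal_mem_principalBlock⟩
    rw [← Finset.add_sum_erase _ _ hmem] at horth
    have hone : ((charDegree (Char.principal G : G → ℂ) : ℕ) : ℂ) * (Char.principal G : G → ℂ) x = 1 := by
      rw [← irr_deg]
      show (1 : ℂ) * 1 = 1
      norm_num
    rw [hone] at horth
    have hint : IsIntegral ℤ (((1 : ℕ) : ℂ) / (q : ℂ)) := by
      have hq0 : (q : ℂ) ≠ 0 := Nat.cast_ne_zero.2 hq.ne_zero
      rw [show ((1 : ℕ) : ℂ) = - ∑ χ ∈ (Finset.univ.filter (· ∈ B)).erase (Char.principal G),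
        ((charDegree (χ : G → ℂ) : ℕ) : ℂ) * (χ : G → ℂ) x by
          rw [Nat.cast_one]; linear_combination horth, neg_div, Finset.sum_div]
      refine (IsIntegral.sum _ fun χ hχ => ?_).neg
      obtain ⟨hne, hχ⟩ := Finset.mem_erase.1 hχ
      by_cases hd : q ∣ charDegree (χ : G → ℂ)
      · obtain ⟨e, he⟩ := hd
        rw [he, Nat.cast_mul, mul_assoc, mul_div_cancel_left₀ _ hq0]
        exact isIntegral_algebraMap.mul (irr_isIntegral χ x)
      · have h0 := hcon χ (Finset.mem_filter.1 hχ).2 (fun e => hne (Subtype.ext e)) hd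
        rw [h0, mul_zero, zero_div]
        exact isIntegral_zero
    exact hq.not_dvd_one (dvd_of_isIntegral_div hq.ne_zero hint)
  obtain ⟨n, ρ, hirr, hρ⟩ := χ.2
  have hn : charDegree (χ : G → ℂ) = n := by
    have h1 := irr_deg χ
    have h2 : (χ : G → ℂ) 1 = (n : ℂ) := by
      rw [← hρ, Representation.char_one, Module.finrank_fin_fun]
    rw [h2] at h1
    exact_mod_cast h1.symm
  have hn0 : n ≠ 0 := fun e => hqd (hn ▸ e ▸ dvd_zero q)
  -- no fixed vectors
  have hfix : ∀ v : Fin n → ℂ, (∀ g, ρ g v = v) → v = 0 := by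
    let A : (Fin n → ℂ) →ₗ[ℂ] (Fin n → ℂ) := (Nat.card G : ℂ)⁻¹ • ∑ g : G, ρ g
    have hG0 : (Nat.card G : ℂ) ≠ 0 := Nat.cast_ne_zero.2 Nat.card_pos.ne'
    have hAinv : ∀ (h : G) v, ρ h (A v) = A v := fun h v => by
      simp only [A, LinearMap.smul_apply, LinearMap.coe_sum, Finset.sum_apply, map_smul, map_sum]
      congr 1
      exact Fintype.sum_equiv (Equiv.mulLeft h) _ _ fun g => by simp [map_mul]
    have hAfix : ∀ v, (∀ g, ρ g v = v) → A v = v := fun v hv => by
      simp only [A, LinearMap.smul_apply, LinearMap.coe_sum, Finset.sum_apply, hv]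
      rw [Finset.sum_const, Finset.card_univ, ← Nat.cast_smul_eq_nsmul ℂ, smul_smul,
        ← Nat.card_eq_fintype_card, inv_mul_cancel₀ hG0, one_smul]
    have hproj : LinearMap.IsProj (LinearMap.range A) A := by
      refine ⟨fun v => ⟨v, rfl⟩, ?_⟩
      rintro _ ⟨v, rfl⟩
      exact hAfix _ fun g => hAinv g v
    have htr := hproj.trace
    have hsum0 : ∑ g : G, (χ : G → ℂ) g = 0 := by
      have h1 := classInner_irr_of_ne χ.2 isIrrCharacter_one hχne
      simpa [classInner, hG0] using h1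
    rw [show LinearMap.trace ℂ _ A = 0 by
      simp only [A, map_smul, map_sum, smul_eq_mul]
      rw [show ∑ g : G, LinearMap.trace ℂ (Fin n → ℂ) (ρ g) = ∑ g : G, (χ : G → ℂ) g by
        rw [← hρ]; rfl, hsum0, mul_zero], eq_comm, Nat.cast_eq_zero, Submodule.finrank_eq_zero,
      LinearMap.range_eq_bot] at htr
    intro v hv
    have h2 := hAfix v hv
    rw [htr] at h2
    exact h2.symm
  set ζ : ℂ := Complex.exp (2 * Real.pi * Complex.I / p) with hζdef
  have hζ : IsPrimitiveRoot ζ p := Complex.isPrimitiveRoot_exp p hp.ne_zero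
  have hxp : x ^ p = 1 := hxord ▸ pow_orderOf_eq_one x
  set m : Fin p → ℕ := fun j => mult ρ p ζ x j with hm
  have hchar : ∀ t, (χ : G → ℂ) (x ^ t) = ∑ j : Fin p, ζ ^ (j.val * t) * (m j : ℂ) := fun t => by
    rw [← hρ]
    exact char_eq ρ hp hζ hxp t
  have hmn : ∑ j, m j = n := by
    have := hchar 0
    rw [pow_zero, irr_deg χ, hn] at this
    simp only [mul_zero, pow_zero, one_mul] at this
    exact_mod_cast this.symm
  obtain ⟨h, d, hpd, hdeq⟩ : ∃ h d, ¬ p ∣ d ∧ n = p ^ h * d := Nat.exists_eq_pow_mul_and_not_dvd hn0 p hp.ne_one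
  have hdg : d ∣ g₀ := by
    have h1 : d ∣ p ^ a * q ^ b * g₀ := hG ▸ (Dvd.intro_left _ hdeq.symm).trans (hn ▸ charDegree_dvd_card χ)
    have hcp : d.Coprime (p ^ a) := ((hp.coprime_iff_not_dvd).2 hpd).symm.pow_right a
    have hcq : d.Coprime (q ^ b) := ((hq.coprime_iff_not_dvd).2 fun e =>
      hqd (hn ▸ hdeq ▸ e.mul_left _)).symm.pow_right b
    exact (hcp.mul_right hcq).dvd_of_dvd_mul_left h1
  have hd6 : 6 ^ (d - 1) < p :=
    lt_of_le_of_lt (Nat.pow_le_pow_right (by norm_num)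
      (Nat.sub_le_sub_right (Nat.le_of_dvd (Nat.pos_of_ne_zero hg₀) hdg) 1)) hlt'
  -- all multiplicities are divisible by `p ^ h`
  have hdiv : ∀ j, p ^ h ∣ m j := by
    rcases Nat.eq_zero_or_pos h with rfl | hh
    · exact fun j => by simp
    set e : ℕ := p ^ h
    have he0 : (e : ℂ) ≠ 0 := Nat.cast_ne_zero.2 (pow_ne_zero _ hp.ne_zero)
    -- the values at the powers are divisible by `p ^ h`
    have hC : ∀ t, ¬ p ∣ t → IsIntegral ℤ ((χ : G → ℂ) (x ^ t) / e) := by
      intro t ht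
      have hcent : Subgroup.centralizer ({x ^ t} : Set G) = Subgroup.centralizer ({x} : Set G) := by
        obtain ⟨l, hl⟩ := exists_pow_eq_self_of_coprime (x := x) (n := t)
          (by rw [hxord]; exact ((hp.coprime_iff_not_dvd).2 ht).symm)
        ext y
        simp only [Subgroup.mem_centralizer_singleton_iff]
        refine ⟨fun hy => ?_, fun hy => ?_⟩
        · have := (show Commute y (x ^ t) from hy).pow_right l
          rwa [hl] at this
        · exact (show Commute y x from hy).pow_right t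
      have hω : IsIntegral ℤ (centralChar (χ : G → ℂ) (x ^ t)) := centralChar_isIntegral χ _
      rw [centralChar, hcent, ← hι, irr_deg χ, hn, hdeq] at hω
      have hco : Int.gcd (ι : ℤ) (e : ℤ) = 1 := by
        rw [Int.gcd_natCast_natCast]
        exact (((hp.coprime_iff_not_dvd).2 hιp).symm).pow_right h
      have hbez := Int.gcd_eq_gcd_ab (ι : ℤ) (e : ℤ)
      rw [hco] at hbez
      have hd0 : (d : ℂ) ≠ 0 := Nat.cast_ne_zero.2 fun e => hpd (e ▸ dvd_zero p)
      set u : ℤ := Int.gcdA ι e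
      set v : ℤ := Int.gcdB ι e
      have hbez' : (1 : ℂ) = (ι : ℂ) * u + (e : ℂ) * v := by exact_mod_cast hbez
      have key : (χ : G → ℂ) (x ^ t) / e =
          (u : ℂ) * d * ((ι : ℂ) * (χ : G → ℂ) (x ^ t) / ((e * d : ℕ) : ℂ)) +
            (v : ℂ) * (χ : G → ℂ) (x ^ t) := by
        rw [Nat.cast_mul]
        field_simp
        linear_combination (χ : G → ℂ) (x ^ t) * hbez'
      rw [key]
      exact ((isIntegral_algebraMap.mul isIntegral_algebraMap).mul hω).add
        (isIntegral_algebraMap.mul (irr_isIntegral χ _))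
    have hζint : ∀ s : ℕ, IsIntegral ℤ (ζ ^ s) := fun s =>
      (isIntegral_of_pow_eq_one hp.pos hζ.pow_eq_one).pow s
    have hζmem : ∀ s : ℕ, MemLocalIdeal M (ζ ^ s - 1) := fun s =>
      memLocalIdeal_sub_one_of_pow_eq_one hM (k := 1)
        (by rw [pow_one, ← pow_mul, mul_comm, pow_mul, hζ.pow_eq_one, one_pow])
    -- differences of multiplicities
    have hdiff : ∀ i j : Fin p, (e : ℤ) ∣ (m i : ℤ) - m j := by
      intro i j
      set A : ℂ := (p : ℂ) * ((m i : ℂ) - m j) / e with hA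
      have hterm : A = ∑ t : Fin p, (ζ ^ ((p - i.val) * t.val) - ζ ^ ((p - j.val) * t.val)) *
          ((χ : G → ℂ) (x ^ t.val) / e) := by
        rw [hA, mul_sub, mult_mul ρ hp hζ hxp, mult_mul ρ hp hζ hxp, ← Finset.sum_sub_distrib,
          Finset.sum_div, hρ]
        exact Finset.sum_congr rfl fun t _ => by ring
      have hAI : IsIntegral ℤ A ∧ MemLocalIdeal M A := by
        rw [hterm]
        refine ⟨IsIntegral.sum _ fun t _ => ?_, memLocalIdeal_sum _ _ fun t _ => ?_⟩ <;>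
          by_cases ht : p ∣ t.val
        · rw [Nat.eq_zero_of_dvd_of_lt ht t.2]
          simpa using isIntegral_zero
        · exact ((hζint _).sub (hζint _)).mul (hC _ ht)
        · rw [Nat.eq_zero_of_dvd_of_lt ht t.2]
          simpa using memLocalIdeal_zero
        · rw [mul_comm]
          refine MemLocalIdeal.mul_left (mem_locRing_of_isIntegral (hC _ ht)) ?_
          rw [show ∀ y z : ℂ, y - z = (y - 1) + (-(z - 1)) from fun y z => by ring]
          exact MemLocalIdeal.add (hζmem _) (MemLocalIdeal.neg (hζmem _))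
      have hAq : A = (((p : ℚ) * ((m i : ℚ) - m j) / e : ℚ) : ℂ) := by
        rw [hA]; push_cast; ring
      obtain ⟨z, hz⟩ := exists_int_of_isIntegral (hAq ▸ hAI.1)
      have hAz : A = (z : ℂ) := by rw [hAq, hz]; norm_num
      obtain ⟨z', rfl⟩ := (intCast_memLocalIdeal_iff hM z).1 (hAz ▸ hAI.2)
      refine ⟨z', ?_⟩
      have h1 : (p : ℂ) * ((m i : ℂ) - m j) = (p : ℂ) * ((e : ℂ) * z') := by
        rw [hA, div_eq_iff he0] at hAz
        rw [hAz]; push_cast; ring
      have h2 := mul_left_cancel₀ (Nat.cast_ne_zero.2 hp.ne_zero) h1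
      exact_mod_cast h2
    haveI : NeZero p := ⟨hp.ne_zero⟩
    choose E hE using fun j => hdiff j 0
    have hmj : ∀ j, (m j : ℂ) = (m 0 : ℂ) + (e : ℂ) * (E j : ℂ) := fun j => by
      have := congrArg (fun z : ℤ => (z : ℂ)) (hE j)
      push_cast at this
      linear_combination this
    -- the principal block congruence
    have hsum0 : ∑ j : Fin p, ζ ^ j.val = 0 := by
      rw [Fin.sum_univ_eq_sum_range (fun j => ζ ^ j)]
      exact hζ.geom_sum_eq_zero hp.one_lt
    have hval : (χ : G → ℂ) x = (e : ℂ) * ∑ j : Fin p, ζ ^ j.val * (E j : ℂ) := by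
      have := hchar 1
      rw [pow_one] at this
      rw [this, Finset.mul_sum]
      refine Eq.trans (Finset.sum_congr rfl fun j _ =>
        (by rw [mul_one, hmj j] : _ = ζ ^ j.val * ((m 0 : ℂ) + (e : ℂ) * (E j : ℂ)))) ?_
      rw [← sub_eq_zero, ← Finset.sum_sub_distrib]
      calc _ = ∑ j : Fin p, (m 0 : ℂ) * ζ ^ j.val := Finset.sum_congr rfl fun j _ => by ring
        _ = 0 := by rw [← Finset.mul_sum, hsum0, mul_zero]
    have hd0 : (d : ℂ) ≠ 0 := Nat.cast_ne_zero.2 fun e => hpd (e ▸ dvd_zero p)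
    have hι0 : (ι : ℂ) ≠ 0 := Nat.cast_ne_zero.2 fun e => hιp (e ▸ dvd_zero p)
    set c : ℂ := ∑ j : Fin p, ζ ^ j.val * (E j : ℂ) with hc
    have hcd : MemLocalIdeal M ((d : ℂ) - c) := by
      have hb := mem_principalBlock_iff.1 hχB x
      rw [centralChar, ← hι, irr_deg χ, hn, hdeq, hval, Nat.cast_mul] at hb
      rw [show (d : ℂ) - c = ((d : ℂ) * (ι : ℂ)⁻¹) *
          ((ι : ℂ) - (ι : ℂ) * ((e : ℂ) * c) / ((e : ℂ) * (d : ℂ))) by field_simp]
      exact MemLocalIdeal.mul_left ((locRing M).mul_mem (natCast_mem (locRing M) _)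
        (inv_natCast_memLocalRing hM hιp)) hb
    have hdE : (p : ℤ) ∣ (d : ℤ) - ∑ j, E j := by
      rw [← intCast_memLocalIdeal_iff hM]
      push_cast
      rw [show (d : ℂ) - ∑ j, (E j : ℂ) = ((d : ℂ) - c) + ∑ j : Fin p, (E j : ℂ) * (ζ ^ j.val - 1) by
        rw [hc]; simp only [mul_sub, mul_one, Finset.sum_sub_distrib]
        rw [show ∑ j : Fin p, (E j : ℂ) * ζ ^ j.val = ∑ j : Fin p, ζ ^ j.val * (E j : ℂ) from
          Finset.sum_congr rfl fun j _ => mul_comm _ _]
        ring]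
      refine MemLocalIdeal.add hcd (memLocalIdeal_sum _ _ fun j _ => ?_)
      exact MemLocalIdeal.mul_left (mem_locRing_of_isIntegral isIntegral_algebraMap) (hζmem _)
    have hm0 : (e : ℤ) ∣ (m 0 : ℤ) := by
      obtain ⟨s, hs⟩ := hdE
      refine ⟨s, ?_⟩
      have h1 : (p : ℤ) * (m 0 : ℤ) + (e : ℤ) * ∑ j, E j = (e : ℤ) * d := by
        have h2 : ((∑ j, m j : ℕ) : ℤ) = (e : ℤ) * d := by rw [hmn, hdeq]; push_cast; rfl
        push_cast at h2
        rw [← h2, Finset.sum_congr rfl (fun j _ =>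
          (by linarith [hE j] : (m j : ℤ) = (m 0 : ℤ) + (e : ℤ) * E j)), Finset.sum_add_distrib,
          Finset.sum_const, Finset.card_univ, Fintype.card_fin, nsmul_eq_mul, ← Finset.mul_sum]
      refine mul_left_cancel₀ (Nat.cast_ne_zero.2 hp.ne_zero : (p : ℤ) ≠ 0) ?_
      linear_combination h1 + (e : ℤ) * hs
    intro j
    have := hE j
    exact Int.natCast_dvd_natCast.1 (by
      rw [show (m j : ℤ) = (m 0 : ℤ) + (e : ℤ) * E j by linarith]
      exact dvd_add hm0 (dvd_mul_right _ _))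
  -- at most `d` eigenvalues
  refine few_eigenvalues_false hna ρ hfix hp hζdef hxord (Finset.univ.filter fun j => m j ≠ 0)
    (fun j hj => ?_) hn0 (d := d) ?_ hd6
  · rw [eigProj_eq_zero_iff ρ hp hζ hxp]
    simpa [hm] using hj
  · have h1 : (Finset.univ.filter fun j => m j ≠ 0).card * p ^ h ≤ n := by
      rw [← hmn, ← Finset.sum_filter_ne_zero (s := Finset.univ) (f := m), ← smul_eq_mul,
        ← Finset.sum_const]
      exact Finset.sum_le_sum fun j hj => Nat.le_of_dvd
        (Nat.pos_of_ne_zero (Finset.mem_filter.1 hj).2) (hdiv j)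
    rw [hdeq, mul_comm (p ^ h) d] at h1
    exact Nat.le_of_mul_le_mul_right h1 (pow_pos hp.pos _)

end Cfsg.Agent.ThreePartBound
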