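import Cfsg.Prelude.Def_Solvable
import Cfsg.Prelude.Def_Transfer
import Cfsg.Agent.Lib.Solvable.FixedPointFree
import Cfsg.Agent.Lib.Solvable.Fitting
import Cfsg.Agent.Lib.LocalEven.Zsigmondy
import Mathlib.GroupTheory.SemidirectProduct
import Mathlib.GroupTheory.SpecificGroups.ZGroup
import Mathlib.GroupTheory.SpecificGroups.Quaternion
import Mathlib.GroupTheory.SchurZassenhaus
import Mathlib.FieldTheory.Finite.Basic

/-!
# Solvable transitive linear groups with point stabilisers of `p`-power order

A faithful action on an elementary abelian `p`-group `V`, transitive on `V ∖ 1`, in which only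
`p`-elements fix a point, with trivial `p`-core: there is a normal `p`-complement and the Sylow
`p`-subgroups are commutative.
-/

set_option autoImplicit false
set_option linter.style.haveILetI false

namespace Cfsg.Agent.TransPStab

open scoped commutatorElement

universe u v

/-- A fixed-point-free `r`-group of automorphisms is cyclic or generalised quaternion. -/
theorem cyclic_or_quat_of_fpf {Z : Type u} [Group Z] [Finite Z] [Nontrivial Z] {P : Type v} [Group P]
    [Finite P] {r : ℕ} [Fact r.Prime] (hP : IsPGroup r P) (φ : P →* MulAut Z)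
    (hfpf : ∀ a : P, a ≠ 1 → ∀ z : Z, φ a z = z → z = 1) :
    IsCyclic P ∨ (r = 2 ∧ ∃ n : ℕ, Nonempty (P ≃* QuaternionGroup (2 ^ n))) := by
  haveI : Finite (Z ⋊[φ] P) := Finite.of_equiv _ SemidirectProduct.equivProd.symm
  set K := (SemidirectProduct.inl : Z →* Z ⋊[φ] P).range with hK
  set A := (SemidirectProduct.inr : P →* Z ⋊[φ] P).range with hA
  have hKne : K ≠ ⊥ := by
    obtain ⟨z, hz⟩ := exists_ne (1 : Z)
    intro h
    have : SemidirectProduct.inl (φ := φ) z ∈ K := ⟨z, rfl⟩
    rw [h, Subgroup.mem_bot, ← map_one (SemidirectProduct.inl (φ := φ))] at this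
    exact hz (SemidirectProduct.inl_injective this)
  have hAK : A ≤ Subgroup.normalizer (K : Set (Z ⋊[φ] P)) := by
    rw [show Subgroup.normalizer (K : Set (Z ⋊[φ] P)) = ⊤ from by
      rw [hK, SemidirectProduct.range_inl_eq_ker_rightHom]; exact Subgroup.normalizer_eq_top _]
    exact le_top
  have hf : ∀ a ∈ A, a ≠ 1 → K ⊓ Subgroup.centralizer {a} = ⊥ := by
    rintro _ ⟨a, rfl⟩ ha
    rw [eq_bot_iff]
    rintro _ ⟨⟨z, rfl⟩, hz⟩
    rw [Subgroup.mem_bot]
    have ha' : a ≠ 1 := fun h => ha (by rw [h, map_one])
    have h2 := SemidirectProduct.inl_aut (φ := φ) a z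
    rw [← (Subgroup.mem_centralizer_singleton_iff.mp hz), mul_assoc, ← map_mul,
      mul_inv_cancel, map_one, mul_one] at h2
    rw [hfpf a ha' z (SemidirectProduct.inl_injective h2), map_one]
  have hab := FpfStruct.abCyclic hKne hAK hf
  have hAp : IsPGroup r A := by
    rw [hA]
    exact IsPGroup.of_surjective hP _ (MonoidHom.rangeRestrict_surjective _)
  let e : P ≃* A := MonoidHom.ofInjective (SemidirectProduct.inr_injective (φ := φ))
  rcases FpfStruct.cyclic_or_quaternion hAp hab with h | ⟨h2, n, ⟨f⟩⟩
  · exact Or.inl (isCyclic_of_surjective e.symm e.symm.surjective)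
  · exact Or.inr ⟨h2, n, ⟨e.trans f⟩⟩

theorem card_q8_not_sq : Fintype.card {x : QuaternionGroup 2 // x ^ 2 ≠ 1} = 6 := by decide

open QuaternionGroup in
/-- An automorphism of prime order at least `5` of a generalised quaternion group is trivial. -/
theorem quat_aut_eq_one {n : ℕ} (hn : 1 ≤ n) (φ : MulAut (QuaternionGroup (2 ^ n))) {r : ℕ}
    (hr : r.Prime) (h5 : 5 ≤ r) (hφ : φ ^ r = 1) : φ = 1 := by
  classical
  haveI := Fact.mk hr
  haveI : NeZero (2 ^ n) := ⟨pow_ne_zero _ two_ne_zero⟩
  set Q := QuaternionGroup (2 ^ n)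
  let S := {x : Q // orderOf x = 2 * 2 ^ n}
  have hmap : ∀ x : Q, orderOf (φ x) = orderOf x := fun x => MulEquiv.orderOf_eq φ x
  -- the number of generators of maximal cyclic subgroups
  have hS : ¬ r ∣ Nat.card S := by
    rcases Nat.eq_or_lt_of_le hn with rfl | hn2
    · have hne : Nat.card S = 6 := by
        have key : ∀ x : QuaternionGroup 2, orderOf x = 4 ↔ x ^ 2 ≠ 1 := by
          intro x
          constructor
          · intro h h2
            have := orderOf_dvd_of_pow_eq_one h2
            rw [h] at this
            exact absurd (Nat.le_of_dvd two_pos this) (by norm_num)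
          · intro h
            have h4 : ∀ y : QuaternionGroup 2, y ^ 4 = 1 := by decide
            exact orderOf_eq_prime_pow (p := 2) (n := 1) h (h4 x)
        rw [show Nat.card S = Nat.card {x : QuaternionGroup 2 // orderOf x = 4} from rfl,
          Nat.card_congr (Equiv.subtypeEquivRight key), Nat.card_eq_fintype_card]
        convert card_q8_not_sq
      rw [hne]
      intro hd
      have := Nat.le_of_dvd (by norm_num) hd
      interval_cases r <;> norm_num at *
    · have hcard : Nat.card S ∣ 2 ^ n := by
        have e : S ≃ {i : ZMod (2 * 2 ^ n) // addOrderOf i = 2 * 2 ^ n} :=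
          { toFun := fun x => match x with
              | ⟨a i, h⟩ => ⟨i, by
                  rw [QuaternionGroup.orderOf_a] at h
                  rwa [← ZMod.natCast_zmod_val i, ZMod.addOrderOf_coe _ (by positivity)]⟩
              | ⟨xa i, h⟩ => absurd h (by
                  rw [QuaternionGroup.orderOf_xa]
                  have : 2 ^ 2 ≤ 2 ^ n := Nat.pow_le_pow_right two_pos hn2
                  omega)
            invFun := fun i => ⟨a i.1, by
              rw [QuaternionGroup.orderOf_a]
              have h := i.2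
              rwa [← ZMod.natCast_zmod_val i.1, ZMod.addOrderOf_coe _ (by positivity)] at h⟩
            left_inv := fun x => by
              rcases x with ⟨i | i, h⟩
              · rfl
              · exfalso
                rw [QuaternionGroup.orderOf_xa] at h
                have : 2 ^ 2 ≤ 2 ^ n := Nat.pow_le_pow_right two_pos hn2
                omega
            right_inv := fun i => rfl }
        rw [Nat.card_congr e, Nat.card_eq_fintype_card, Fintype.card_subtype,
          IsAddCyclic.card_addOrderOf_eq_totient (by rw [ZMod.card]),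
          show 2 * 2 ^ n = 2 ^ (n + 1) by ring, Nat.totient_prime_pow Nat.prime_two (Nat.succ_pos n)]
        simp
      intro hd
      have := (Nat.prime_dvd_prime_iff_eq hr Nat.prime_two).1 (hr.dvd_of_dvd_pow (hd.trans hcard))
      omega
  -- a fixed generator
  letI act : MulAction (Subgroup.zpowers φ) S :=
    { smul := fun ψ x => ⟨(ψ : MulAut Q) x.1, by rw [MulEquiv.orderOf_eq]; exact x.2⟩
      one_smul := fun x => Subtype.ext rfl
      mul_smul := fun a b x => Subtype.ext rfl }
  have hpz : IsPGroup r (Subgroup.zpowers φ) := fun x => by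
    refine ⟨1, Subtype.ext ?_⟩
    obtain ⟨k, hk⟩ := x.2
    simp only [pow_one, SubgroupClass.coe_pow, OneMemClass.coe_one]
    rw [← hk, ← zpow_natCast, ← zpow_mul, mul_comm, zpow_mul, zpow_natCast, hφ, one_zpow]
  obtain ⟨⟨x, hxo⟩, hx⟩ := hpz.nonempty_fixed_point_of_prime_not_dvd_card S hS
  have hfix : φ x = x := congrArg Subtype.val (hx ⟨φ, Subgroup.mem_zpowers φ⟩)
  have hidx : (Subgroup.zpowers x).index = 2 := by
    have h := (Subgroup.zpowers x).card_mul_index
    rw [Nat.card_zpowers, hxo, Nat.card_eq_fintype_card, QuaternionGroup.card] at h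
    refine Nat.eq_of_mul_eq_mul_left (by positivity : 0 < 2 * 2 ^ n) (h.trans ?_)
    ring
  have hA : ∀ y ∈ Subgroup.zpowers x, φ y = y := by
    rintro _ ⟨k, rfl⟩
    rw [map_zpow, hfix]
  refine MulEquiv.ext fun y => ?_
  show φ y = y
  by_cases hy : y ∈ Subgroup.zpowers x
  · exact hA y hy
  set c := y⁻¹ * φ y with hc
  have hcA : c ∈ Subgroup.zpowers x := by
    have h1 : φ y ∉ Subgroup.zpowers x := fun h => hy (by
      have h2 : φ (φ y) = φ y := hA _ h
      rwa [← φ.injective h2])
    rw [hc, Subgroup.mul_mem_iff_of_index_two hidx, inv_mem_iff]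
    exact iff_of_false hy h1
  have hpow : ∀ k : ℕ, (φ ^ k) y = y * c ^ k := by
    intro k
    induction k with
    | zero => simp
    | succ k ih =>
      rw [pow_succ', MulAut.mul_apply, ih, map_mul, map_pow, hA c hcA, pow_succ',
        show φ y = y * c by rw [hc, mul_inv_cancel_left], mul_assoc]
  have h1 := hpow r
  rw [hφ, MulAut.one_apply, left_eq_mul] at h1
  obtain ⟨k, hk⟩ : ∃ k, orderOf c = 2 ^ k := by
    have hd : orderOf c ∣ 2 ^ (n + 2) := by
      have := orderOf_dvd_natCard c
      rw [Nat.card_eq_fintype_card, QuaternionGroup.card] at this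
      rwa [show 2 ^ (n + 2) = 4 * 2 ^ n by ring]
    obtain ⟨k, -, hk⟩ := (Nat.dvd_prime_pow Nat.prime_two).1 hd
    exact ⟨k, hk⟩
  have hd := orderOf_dvd_of_pow_eq_one h1
  rw [hk] at hd
  rcases Nat.eq_zero_or_pos k with h0 | h0
  · rw [h0, pow_zero, orderOf_eq_one_iff] at hk
    calc φ y = y * c := by rw [hc, mul_inv_cancel_left]
      _ = y := by rw [hk, mul_one]
  · have := (Nat.prime_dvd_prime_iff_eq Nat.prime_two hr).1 ((dvd_pow_self 2 h0.ne').trans hd)
    omega

section Linear

variable {V : Type v} [CommGroup V] [Finite V]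

/-- Automorphisms commuting with one that generates the module from a vector commute there. -/
theorem comm_of_generates (ρ a b : MulAut V) (ha : ∀ w, a (ρ w) = ρ (a w))
    (hb : ∀ w, b (ρ w) = ρ (b w)) (v : V)
    (hgen : Subgroup.closure (Set.range fun i : ℕ => (ρ ^ i) v) = ⊤) :
    a (b v) = b (a v) := by
  let T : Subgroup V :=
    { carrier := {t | ∃ f : V →* V, (∀ e : V →* V, (∀ x, e (ρ x) = ρ (e x)) → ∀ x, f (e x) = e (f x)) ∧
        f v = t}
      one_mem' := ⟨1, fun e _ x => (map_one e).symm, rfl⟩
      mul_mem' := by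
        rintro _ _ ⟨f, hf, rfl⟩ ⟨g, hg, rfl⟩
        refine ⟨f * g, fun e he x => ?_, rfl⟩
        rw [MonoidHom.mul_apply, MonoidHom.mul_apply, hf e he, hg e he, map_mul]
      inv_mem' := by
        rintro _ ⟨f, hf, rfl⟩
        refine ⟨f⁻¹, fun e he x => ?_, rfl⟩
        rw [MonoidHom.inv_apply, MonoidHom.inv_apply, hf e he, map_inv] }
  have hT : T = ⊤ := by
    rw [eq_top_iff, ← hgen, Subgroup.closure_le]
    rintro _ ⟨i, rfl⟩
    refine ⟨(ρ ^ i).toMonoidHom, fun e he x => ?_, rfl⟩
    show (ρ ^ i) (e x) = e ((ρ ^ i) x)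
    induction i with
    | zero => rfl
    | succ i ih => rw [pow_succ', MulAut.mul_apply, MulAut.mul_apply, he, ih]
  obtain ⟨f, hf, hfv⟩ : a v ∈ T := hT ▸ Subgroup.mem_top _
  obtain ⟨g, hg, hgv⟩ : b v ∈ T := hT ▸ Subgroup.mem_top _
  have hgρ : ∀ x, g (ρ x) = ρ (g x) := hg ρ.toMonoidHom fun x => rfl
  calc a (b v) = a (g v) := by rw [hgv]
    _ = g (a v) := (hg a.toMonoidHom ha v).symm
    _ = g (f v) := by rw [hfv]
    _ = f (g v) := (hf g hgρ v).symm
    _ = f (b v) := by rw [hgv]
    _ = b (f v) := hf b.toMonoidHom hb v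
    _ = b (a v) := by rw [hfv]

end Linear

/-- A group whose quotient by a normal subgroup of order prime to `p` is commutative has a normal
`p`-complement and commutative Sylow `p`-subgroups. -/
theorem of_commutative_quotient {H : Type u} [Group H] [Finite H] (p : ℕ) [Fact p.Prime]
    (F : Subgroup H) [F.Normal] (hF : ¬ p ∣ Nat.card F) (hab : ∀ a b : H, ⁅a, b⁆ ∈ F) :
    Cfsg.HasNormalPComplement p H ∧ ∀ P : Sylow p H, IsMulCommutative (P : Subgroup H) := by
  classical
  have hp : p.Prime := Fact.out
  refine ⟨?_, fun P => ⟨⟨fun a b => Subtype.ext (commutatorElement_eq_one_iff_mul_comm.mp ?_)⟩⟩⟩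
  swap
  · obtain ⟨k, hk⟩ := IsPGroup.iff_orderOf.mp P.isPGroup' ⁅a, b⁆
    have hd : orderOf ((⁅a, b⁆ : (P : Subgroup H)) : H) ∣ Nat.card F :=
      Subgroup.orderOf_dvd_natCard F (hab a b)
    rw [Subgroup.orderOf_coe, hk] at hd
    rcases Nat.eq_zero_or_pos k with h0 | h0
    · rw [h0, pow_zero, orderOf_eq_one_iff] at hk
      exact congrArg Subtype.val hk
    · exact absurd ((dvd_pow_self p h0.ne').trans hd) hF
  set m := Nat.card H / p ^ (Nat.card H).factorization p with hm
  have hmp : ¬ p ∣ m := Nat.not_dvd_ordCompl hp Nat.card_pos.ne'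
  have hmul : p ^ (Nat.card H).factorization p * m = Nat.card H :=
    Nat.ordProj_mul_ordCompl_eq_self _ _
  have hcomm : ∀ x y : H ⧸ F, Commute x y := by
    intro x y
    obtain ⟨a, rfl⟩ := QuotientGroup.mk_surjective x
    obtain ⟨b, rfl⟩ := QuotientGroup.mk_surjective y
    show (a : H ⧸ F) * b = b * a
    rw [← commutatorElement_eq_one_iff_mul_comm]
    exact (QuotientGroup.eq_one_iff _).mpr (hab a b)
  let f : H →* H ⧸ F :=
    MonoidHom.mk' (fun h => (h : H ⧸ F) ^ m) fun a b => by
      rw [QuotientGroup.mk_mul]; exact (hcomm _ _).mul_pow m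
  have hkey : ∀ (g : H) (q : ℕ), q.Prime → orderOf g = q → g ∈ f.ker → q ≠ p := by
    intro g q hq hg hgk hqp
    have hgp : g ^ p = 1 := by rw [← hqp, ← hg, pow_orderOf_eq_one]
    have h1 : (g : H ⧸ F) ^ m = 1 := hgk
    have h2 : (g : H ⧸ F) ^ p = 1 := by rw [← QuotientGroup.mk_pow, hgp, QuotientGroup.mk_one]
    have hgF : g ∈ F := by
      rw [← QuotientGroup.eq_one_iff]
      have h3 := Nat.dvd_gcd (orderOf_dvd_of_pow_eq_one h1) (orderOf_dvd_of_pow_eq_one h2)
      rwa [Nat.Coprime.gcd_eq_one (((Nat.Prime.coprime_iff_not_dvd hp).mpr hmp).symm),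
        Nat.dvd_one, orderOf_eq_one_iff] at h3
    have := Subgroup.orderOf_dvd_natCard F hgF
    rw [hg, hqp] at this
    exact hF this
  have hKp : ¬ p ∣ Nat.card f.ker := by
    intro hd
    obtain ⟨g, hg⟩ := exists_prime_orderOf_dvd_card' p hd
    rw [← Subgroup.orderOf_coe] at hg
    exact hkey g p hp hg g.2 rfl
  have hidx : IsPGroup p f.range := by
    rintro ⟨_, g, rfl⟩
    refine ⟨(Nat.card H).factorization p, Subtype.ext ?_⟩
    show ((g : H ⧸ F) ^ m) ^ p ^ _ = 1
    rw [← pow_mul, mul_comm, hmul, ← QuotientGroup.mk_pow, pow_card_eq_one', QuotientGroup.mk_one]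
  obtain ⟨k, hk⟩ := IsPGroup.iff_card.mp hidx
  let P : Sylow p H := default
  refine ⟨P, f.ker, inferInstance, ?_⟩
  have hP := P.card_eq_multiplicity
  have hki : f.ker.index = p ^ k := by rw [Subgroup.index_ker, hk]
  refine Subgroup.isComplement'_of_coprime ?_ ?_
  · have hfac : (Nat.card H).factorization p = k := by
      rw [← f.ker.card_mul_index, hki, Nat.factorization_mul Nat.card_pos.ne' (pow_ne_zero _ hp.ne_zero),
        Finsupp.add_apply, Nat.factorization_eq_zero_of_not_dvd hKp, hp.factorization_pow,
        Finsupp.single_eq_same, zero_add]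
    rw [hP, hfac, ← hki, f.ker.card_mul_index]
  · rw [hP]
    exact (((Nat.Prime.coprime_iff_not_dvd hp).mpr hKp).pow_left _).symm

variable {H : Type u} [Group H] [Finite H] {V : Type v} [CommGroup V] [Finite V]

theorem main [Group.IsSolvable H] (p : ℕ) [Fact p.Prime] (φ : H →* MulAut V) (hV : ∀ v : V, v ^ p = 1)
    (hVn : Nontrivial V) (hinj : Function.Injective φ) (hcore : Cfsg.pCore p H = ⊥)
    (htrans : ∀ v w : V, v ≠ 1 → w ≠ 1 → ∃ h, φ h v = w)
    (hstab : ∀ v : V, v ≠ 1 → ∀ h : H, φ h v = v → ∃ k : ℕ, h ^ p ^ k = 1) :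
    Cfsg.HasNormalPComplement p H ∧ ∀ P : Sylow p H, IsMulCommutative (P : Subgroup H) := by
  classical
  have hp : p.Prime := Fact.out
  have hVp : IsPGroup p V := fun v => ⟨1, by rw [pow_one, hV]⟩
  obtain ⟨n, hn⟩ := IsPGroup.iff_card.mp hVp
  have hn0 : n ≠ 0 := fun h => by
    rw [h, pow_zero, Nat.card_eq_one_iff_unique] at hn
    exact not_subsingleton V hn.1
  have hfpf : ∀ g : H, ¬ p ∣ orderOf g → g ≠ 1 → ∀ v : V, φ g v = v → v = 1 := by
    intro g hg hg1 v hv
    by_contra hv1
    obtain ⟨k, hk⟩ := hstab v hv1 g hv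
    obtain ⟨j, -, hj⟩ := (Nat.dvd_prime_pow hp).mp (orderOf_dvd_of_pow_eq_one hk)
    rcases Nat.eq_zero_or_pos j with h0 | h0
    · rw [h0, pow_zero, orderOf_eq_one_iff] at hj
      exact hg1 hj
    · exact hg (hj ▸ dvd_pow_self p h0.ne')
  set F := Cfsg.fittingSubgroup H with hFdef
  haveI hFnil : Group.IsNilpotent F := FittingCores.fitting_nilpotent
  haveI hFn : F.Normal := Subgroup.sSup_normal _ fun N hN => hN.1
  have hsylN : ∀ (r : ℕ) [Fact r.Prime] (T : Sylow r F), ((T : Subgroup F).map F.subtype).Normal := by
    intro r _ T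
    haveI : (T : Subgroup F).Normal := inferInstance
    haveI : (T : Subgroup F).Characteristic := T.characteristic_of_normal inferInstance
    exact ConjAct.normal_of_characteristic_of_normal
  have hFp : ¬ p ∣ Nat.card F := by
    intro hd
    let T : Sylow p F := default
    haveI := hsylN p T
    have hle : (T : Subgroup F).map F.subtype ≤ Cfsg.pCore p H :=
      le_sSup ⟨inferInstance, T.isPGroup'.map _⟩
    rw [hcore, le_bot_iff, Subgroup.map_eq_bot_iff_of_injective _ F.subtype_injective] at hle
    have := T.card_eq_multiplicity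
    rw [hle, Subgroup.card_bot] at this
    have h1 := hp.factorization_pos_of_dvd Nat.card_pos.ne' hd
    exact (Nat.one_lt_pow h1.ne' hp.one_lt).ne this
  have hFfpf : ∀ a ∈ F, a ≠ 1 → ∀ v : V, φ a v = v → v = 1 := fun a ha =>
    hfpf a fun hd => hFp (hd.trans (Subgroup.orderOf_dvd_natCard F ha))
  by_cases hFab : ∀ a ∈ F, ∀ b ∈ F, a * b = b * a
  · -- commutative Fitting subgroup: it is cyclic
    haveI : IsZGroup F := by
      refine ⟨fun r hr T => ?_⟩
      haveI := Fact.mk hr
      rcases cyclic_or_quat_of_fpf T.isPGroup' ((φ.comp F.subtype).comp (T : Subgroup F).subtype)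
        (fun a ha => hFfpf _ (a : F).2 (fun e => ha (Subtype.ext (Subtype.ext e)))) with h | ⟨-, k, ⟨f⟩⟩
      · exact h
      · rcases Nat.eq_zero_or_pos k with rfl | hk
        · haveI : IsCyclic (QuaternionGroup (2 ^ 0)) := QuaternionGroup.quaternionGroup_one_isCyclic
          exact isCyclic_of_surjective f.symm f.symm.surjective
        · exfalso
          haveI : NeZero (2 ^ k) := ⟨pow_ne_zero _ two_ne_zero⟩
          have h := congrArg f (show f.symm (QuaternionGroup.a 1) * f.symm (QuaternionGroup.xa 0) =
            f.symm (QuaternionGroup.xa 0) * f.symm (QuaternionGroup.a 1) from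
            Subtype.ext (Subtype.ext (hFab _ (f.symm (QuaternionGroup.a 1)).1.2 _
              (f.symm (QuaternionGroup.xa 0)).1.2)))
          simp only [map_mul, MulEquiv.apply_symm_apply, QuaternionGroup.a_mul_xa,
            QuaternionGroup.xa_mul_a, QuaternionGroup.xa.injEq, zero_sub, zero_add] at h
          have h2 : ((2 : ℕ) : ZMod (2 * 2 ^ k)) = 0 := by push_cast; linear_combination -h
          rw [ZMod.natCast_eq_zero_iff] at h2
          have := Nat.le_of_dvd two_pos h2
          have : 2 ≤ 2 ^ k := Nat.le_self_pow hk.ne' 2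
          omega
    haveI hcyc : IsCyclic F := inferInstance
    refine of_commutative_quotient p F hFp fun a b => ?_
    obtain ⟨⟨z, hz⟩, hgen⟩ := IsCyclic.exists_generator (α := F)
    have hconj : ∀ g : H, ∃ i : ℤ, ∀ x ∈ F, g * x * g⁻¹ = x ^ i := by
      intro g
      obtain ⟨i, hi⟩ := hgen ⟨g * z * g⁻¹, hFn.conj_mem z hz g⟩
      have hi' : z ^ i = g * z * g⁻¹ := congrArg Subtype.val hi
      refine ⟨i, fun x hx => ?_⟩
      obtain ⟨j, hj⟩ := hgen ⟨x, hx⟩
      have hj' : z ^ j = x := congrArg Subtype.val hj
      rw [← hj', ← conj_zpow, ← hi', ← zpow_mul, ← zpow_mul, mul_comm]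
    refine FittingCores.centralizer_fitting_le (G := H) (Subgroup.mem_centralizer_iff.mpr fun x hx => ?_)
    obtain ⟨i, hi⟩ := hconj a
    obtain ⟨j, hj⟩ := hconj b
    have hab : a * b * x * (a * b)⁻¹ = b * a * x * (b * a)⁻¹ := by
      calc a * b * x * (a * b)⁻¹ = a * (b * x * b⁻¹) * a⁻¹ := by group
        _ = x ^ (j * i) := by rw [hj x hx, hi _ (zpow_mem hx j), ← zpow_mul]
        _ = x ^ (i * j) := by rw [mul_comm]
        _ = b * (a * x * a⁻¹) * b⁻¹ := by rw [hi x hx, hj _ (zpow_mem hx i), ← zpow_mul]
        _ = b * a * x * (b * a)⁻¹ := by group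
    have hba : (b * a)⁻¹ * (a * b) * x = x * ((b * a)⁻¹ * (a * b)) := by
      calc (b * a)⁻¹ * (a * b) * x = (b * a)⁻¹ * (a * b * x * (a * b)⁻¹) * (a * b) := by group
        _ = x * ((b * a)⁻¹ * (a * b)) := by rw [hab]; group
    have hcen : ∀ c : H, (∀ y ∈ F, c * y = y * c) → ∀ g : H, ∀ y ∈ F, g * c * g⁻¹ * y = y * (g * c * g⁻¹) := by
      intro c hc g y hy
      have := hc _ (hFn.conj_mem' y hy g)
      calc g * c * g⁻¹ * y = g * (c * (g⁻¹ * y * g)) * g⁻¹ := by group
        _ = y * (g * c * g⁻¹) := by rw [this]; group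
    rw [show ⁅a, b⁆ = (b * a) * ((b * a)⁻¹ * (a * b)) * (b * a)⁻¹ by
      rw [commutatorElement_def]; group]
    have hall : ∀ y ∈ F, (b * a)⁻¹ * (a * b) * y = y * ((b * a)⁻¹ * (a * b)) := by
      intro y hy
      obtain ⟨k, hk⟩ := hgen ⟨y, hy⟩
      have hk' : z ^ k = y := congrArg Subtype.val hk
      have habz : a * b * y * (a * b)⁻¹ = b * a * y * (b * a)⁻¹ := by
        calc a * b * y * (a * b)⁻¹ = a * (b * y * b⁻¹) * a⁻¹ := by group
          _ = y ^ (j * i) := by rw [hj y hy, hi _ (zpow_mem hy j), ← zpow_mul]
          _ = y ^ (i * j) := by rw [mul_comm]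
          _ = b * (a * y * a⁻¹) * b⁻¹ := by rw [hi y hy, hj _ (zpow_mem hy i), ← zpow_mul]
          _ = b * a * y * (b * a)⁻¹ := by group
      calc (b * a)⁻¹ * (a * b) * y = (b * a)⁻¹ * (a * b * y * (a * b)⁻¹) * (a * b) := by group
        _ = y * ((b * a)⁻¹ * (a * b)) := by rw [habz]; group
    exact (hcen _ hall (b * a) x hx).symm
  · -- a quaternion normal subgroup
    obtain ⟨Q, hQn, hQF, k, hk, ⟨e⟩⟩ : ∃ Q : Subgroup H, Q.Normal ∧ Q ≤ F ∧
        ∃ k : ℕ, 1 ≤ k ∧ Nonempty (Q ≃* QuaternionGroup (2 ^ k)) := by
      by_contra hno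
      apply hFab
      haveI : IsZGroup F := by
        refine ⟨fun r hr T => ?_⟩
        haveI := Fact.mk hr
        rcases cyclic_or_quat_of_fpf T.isPGroup' ((φ.comp F.subtype).comp (T : Subgroup F).subtype)
          (fun a ha => hFfpf _ (a : F).2 (fun e => ha (Subtype.ext (Subtype.ext e)))) with h | ⟨-, k, ⟨f⟩⟩
        · exact h
        · rcases Nat.eq_zero_or_pos k with rfl | hk
          · haveI : IsCyclic (QuaternionGroup (2 ^ 0)) := QuaternionGroup.quaternionGroup_one_isCyclic
            exact isCyclic_of_surjective f.symm f.symm.surjective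
          · exact absurd ⟨_, hsylN r T, Subgroup.map_subtype_le _, k, hk,
              ⟨(((T : Subgroup F).equivMapOfInjective F.subtype F.subtype_injective).symm).trans f⟩⟩ hno
      haveI : IsCyclic F := inferInstance
      intro a ha b hb
      exact congrArg Subtype.val (IsCyclic.commGroup.mul_comm (⟨a, ha⟩ : F) ⟨b, hb⟩)
    haveI : NeZero (2 ^ k) := ⟨pow_ne_zero _ two_ne_zero⟩
    obtain ⟨a₀, b₀, hab₀⟩ : ∃ a b : Q, a * b ≠ b * a := by
      refine ⟨e.symm (QuaternionGroup.a 1), e.symm (QuaternionGroup.xa 0), fun h => ?_⟩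
      have h' := congrArg e h
      simp only [map_mul, MulEquiv.apply_symm_apply, QuaternionGroup.a_mul_xa,
        QuaternionGroup.xa_mul_a, QuaternionGroup.xa.injEq, zero_sub, zero_add] at h'
      have h2 : ((2 : ℕ) : ZMod (2 * 2 ^ k)) = 0 := by push_cast; linear_combination -h'
      rw [ZMod.natCast_eq_zero_iff] at h2
      have := Nat.le_of_dvd two_pos h2
      have : 2 ≤ 2 ^ k := Nat.le_self_pow (by omega) 2
      omega
    -- an element of prime order at least five centralises `Q`
    have hcent : ∀ ρ : H, ∀ r : ℕ, r.Prime → 5 ≤ r → ρ ^ r = 1 → ∀ x ∈ Q, ρ * x = x * ρ := by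
      intro ρ r hr h5 hρ x hx
      haveI := hQn
      let ψ : MulAut (QuaternionGroup (2 ^ k)) :=
        e.symm.trans ((MulAut.conjNormal ρ : MulAut Q).trans e)
      have hψ : ψ ^ r = 1 := by
        have hit : ∀ i : ℕ, ∀ y, (ψ ^ i) y = e ((MulAut.conjNormal (ρ ^ i) : MulAut Q) (e.symm y)) := by
          intro i
          induction i with
          | zero => intro y; simp
          | succ i ih =>
            intro y
            rw [pow_succ', MulAut.mul_apply, ih, pow_succ' ρ, map_mul, MulAut.mul_apply]
            simp [ψ]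
        refine MulEquiv.ext fun y => ?_
        rw [hit, hρ, map_one]
        simp
      have h1 := DFunLike.congr_fun (quat_aut_eq_one hk ψ hr h5 hψ) (e ⟨x, hx⟩)
      simp only [ψ, MulEquiv.trans_apply, MulEquiv.symm_apply_apply, MulAut.one_apply,
        EmbeddingLike.apply_eq_iff_eq] at h1
      have h2 := congrArg Subtype.val h1
      rw [MulAut.conjNormal_apply] at h2
      exact mul_inv_eq_iff_eq_mul.mp h2
    have hQfpf : ∀ x ∈ Q, x ≠ 1 → ∀ v : V, φ x v = v → v = 1 := fun x hx => hFfpf x (hQF hx)
    -- a common commuting vector is impossible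
    have hcontra : ∀ v : V, v ≠ 1 → ¬ φ ((a₀ : H) * b₀) v = φ ((b₀ : H) * a₀) v := by
      intro v hv heq
      apply hab₀
      apply Subtype.ext
      show (a₀ : H) * b₀ = b₀ * a₀
      by_contra hne
      refine hv (hQfpf (((b₀ : H) * a₀)⁻¹ * (a₀ * b₀)) (mul_mem (inv_mem (mul_mem b₀.2 a₀.2))
        (mul_mem a₀.2 b₀.2)) (fun h1 => hne ?_) v ?_)
      · exact (inv_mul_eq_one.mp h1).symm
      · rw [map_mul, MulAut.mul_apply, heq, ← MulAut.mul_apply, ← map_mul, inv_mul_cancel, map_one,
          MulAut.one_apply]
    rcases Nat.lt_or_ge n 2 with h1 | h2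
    · -- `V` is cyclic
      exfalso
      obtain rfl : n = 1 := by omega
      rw [pow_one] at hn
      obtain ⟨v, hv⟩ := exists_ne (1 : V)
      haveI : IsCyclic V := isCyclic_of_prime_card hn
      obtain ⟨z, hz⟩ := IsCyclic.exists_generator (α := V)
      refine hcontra v hv ?_
      have hmap : ∀ σ : MulAut V, ∃ i : ℤ, ∀ w, σ w = w ^ i := by
        intro σ
        obtain ⟨i, hi⟩ := hz (σ z)
        refine ⟨i, fun w => ?_⟩
        obtain ⟨j, rfl⟩ := hz w
        simp only at hi ⊢
        rw [map_zpow, ← hi, ← zpow_mul, ← zpow_mul, mul_comm]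
      obtain ⟨i, hi⟩ := hmap (φ (a₀ : H))
      obtain ⟨j, hj⟩ := hmap (φ (b₀ : H))
      rw [map_mul, map_mul, MulAut.mul_apply, MulAut.mul_apply, hj v, hi, hi v, hj, ← zpow_mul,
        ← zpow_mul, mul_comm]
    have hp2 : p ≠ 2 := by
      rintro rfl
      refine hFp (dvd_trans ?_ (Subgroup.card_dvd_of_le hQF))
      rw [Nat.card_congr e.toEquiv, Nat.card_eq_fintype_card, QuaternionGroup.card]
      exact dvd_mul_of_dvd_left (by norm_num) _
    have hp3 : 3 ≤ p := by have := hp.two_le; omega
    rcases Nat.eq_or_lt_of_le h2 with h2 | h3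
    · subst h2
      by_cases hpd : p ∣ Nat.card H
      · obtain ⟨ρ, hρ⟩ := exists_prime_orderOf_dvd_card' p hpd
        have hρ1 : ρ ≠ 1 := fun h => by rw [h, orderOf_one] at hρ; exact hp.one_lt.ne hρ
        have hρp : ρ ^ p = 1 := by rw [← hρ, pow_orderOf_eq_one]
        rcases Nat.eq_or_lt_of_le hp3 with h | h5
        · -- `p = 3`
          subst h
          have hQ8 : Nat.card Q = 8 ∧ Nat.card F = 8 := by
            have hle : Nat.card F ≤ 8 := by
              obtain ⟨v, hv⟩ := exists_ne (1 : V)
              have : Nat.card F ≤ Nat.card {w : V // w ≠ 1} := by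
                refine Nat.card_le_card_of_injective (fun a => ⟨φ (a : H) v, fun h => hv ?_⟩)
                  fun a b hab => ?_
                · exact (φ (a : H)).injective (h.trans (map_one _).symm)
                · have hab' : φ (a : H) v = φ (b : H) v := congrArg Subtype.val hab
                  by_contra hne
                  refine hv (hFfpf ((b : H)⁻¹ * a) (mul_mem (inv_mem b.2) a.2)
                    (fun h => hne (Subtype.ext (inv_mul_eq_one.mp h).symm)) v ?_)
                  rw [map_mul, MulAut.mul_apply, hab', ← MulAut.mul_apply, ← map_mul, inv_mul_cancel,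
                    map_one, MulAut.one_apply]
              refine this.trans ?_
              haveI := Fintype.ofFinite V
              rw [Nat.card_eq_fintype_card, Fintype.card_subtype_compl, Fintype.card_subtype_eq,
                ← Nat.card_eq_fintype_card, hn]
              norm_num
            have hQ : 8 ≤ Nat.card Q := by
              rw [Nat.card_congr e.toEquiv, Nat.card_eq_fintype_card, QuaternionGroup.card]
              have : 2 ≤ 2 ^ k := Nat.le_self_pow (by omega) 2
              omega
            have := Subgroup.card_le_of_le hQF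
            omega
          -- the Sylow subgroups are commutative
          have hPab : ∀ P : Sylow 3 H, ∀ s ∈ (P : Subgroup H), ∀ t ∈ (P : Subgroup H), s * t = t * s := by
            intro P s hs t ht
            letI act : MulAction (P : Subgroup H) V :=
              MulAction.compHom V ((φ).comp (P : Subgroup H).subtype)
            have hdvd : 3 ∣ Nat.card V := hn ▸ dvd_pow_self 3 two_ne_zero
            have h1 : (1 : V) ∈ MulAction.fixedPoints (P : Subgroup H) V := fun g =>
              map_one (φ (g : H))
            obtain ⟨v, hv, hv1⟩ :=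
              P.isPGroup'.exists_fixed_point_of_prime_dvd_card_of_fixed_point V hdvd h1
            set U := Subgroup.zpowers v with hU
            have hUc : Nat.card U = 3 := by
              rw [hU, Nat.card_zpowers, orderOf_eq_prime (hV v) hv1.symm]
            have hUi : U.index = 3 := by
              have := U.card_mul_index
              rw [hUc, hn] at this
              omega
            have hfixU : ∀ g : (P : Subgroup H), ∀ w ∈ U, φ (g : H) w = w := by
              rintro g _ ⟨i, rfl⟩
              rw [map_zpow, show φ (g : H) v = v from hv g]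
            have hshift : ∀ g : (P : Subgroup H), ∀ w : V, w⁻¹ * φ (g : H) w ∈ U := by
              intro g w
              by_cases hwU : w ∈ U
              · rw [hfixU g w hwU, inv_mul_cancel]; exact one_mem U
              obtain ⟨j, hj⟩ := P.isPGroup' g
              -- `g` is the square of `h`
              set h : (P : Subgroup H) := g ^ ((3 ^ j + 1) / 2) with hh
              have hgh : h * h = g := by
                rw [hh, ← pow_add]
                have hodd : (3 ^ j) % 2 = 1 := by rw [Nat.pow_mod]; simp
                rw [show (3 ^ j + 1) / 2 + (3 ^ j + 1) / 2 = 3 ^ j + 1 by omega, pow_succ, hj, one_mul]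
              haveI : Fact (Nat.Prime 3) := ⟨Nat.prime_three⟩
              have hw1 : (w : V ⧸ U) ≠ 1 := fun e => hwU ((QuotientGroup.eq_one_iff w).mp e)
              obtain ⟨i, hi⟩ := mem_powers_iff_mem_zpowers.mpr
                (mem_zpowers_of_prime_card (G := V ⧸ U) (p := 3) hUi (g := (w : V ⧸ U))
                  (g' := ((φ (h : H) w : V) : V ⧸ U)) hw1)
              simp only at hi
              rw [← QuotientGroup.mk_pow, QuotientGroup.eq] at hi
              set u := (w ^ i)⁻¹ * φ (h : H) w with hu
              have hhw : φ (h : H) w = w ^ i * u := by rw [hu, mul_inv_cancel_left]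
              have hi3 : i % 3 = 1 ∨ i % 3 = 2 := by
                by_contra hno
                have h0 : i % 3 = 0 := by omega
                apply hwU
                have hwi : w ^ i = 1 := by rw [← Nat.mod_add_div i 3, h0, zero_add, pow_mul, hV, one_pow]
                rw [hwi, one_mul] at hhw
                exact (φ (h : H)).injective ((hfixU h u hi).trans hhw.symm) ▸ hi
              have hii : w ^ (i * i) = w := by
                conv_rhs => rw [← pow_one w]
                rw [← Nat.mod_add_div (i * i) 3, pow_add, pow_mul, hV, one_pow, mul_one, Nat.mul_mod]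
                rcases hi3 with e | e <;> simp [e]
              rw [← hgh, Subgroup.coe_mul, map_mul, MulAut.mul_apply, hhw, map_mul, map_pow, hhw,
                hfixU h u hi, mul_pow, ← pow_mul, hii, mul_assoc, inv_mul_cancel_left]
              exact mul_mem (pow_mem hi i) hi
            have hc : φ (s * t) = φ (t * s) := by
              refine MulEquiv.ext fun w => ?_
              have h1 := hshift ⟨s, hs⟩ w
              have h2 := hshift ⟨t, ht⟩ w
              calc φ (s * t) w = φ s (w * (w⁻¹ * φ t w)) := by
                    rw [map_mul, MulAut.mul_apply, mul_inv_cancel_left]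
                _ = φ s w * (w⁻¹ * φ t w) := by rw [map_mul, hfixU ⟨s, hs⟩ _ h2]
                _ = φ t w * (w⁻¹ * φ s w) := by
                    simp [mul_comm, mul_assoc, mul_left_comm]
                _ = φ t (w * (w⁻¹ * φ s w)) := by rw [map_mul, hfixU ⟨t, ht⟩ _ h1]
                _ = φ (t * s) w := by rw [map_mul φ, MulAut.mul_apply, mul_inv_cancel_left]
            exact hinj hc
          refine ⟨?_, fun P => ⟨⟨fun a b => Subtype.ext (hPab P a a.2 b b.2)⟩⟩⟩
          let P : Sylow 3 H := default
          refine ⟨P, F, hFn, Subgroup.isComplement'_of_coprime ?_ ?_⟩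
          · letI act : MulAction H V := MulAction.compHom V φ
            obtain ⟨v, hv⟩ := exists_ne (1 : V)
            have horb : MulAction.orbit H v = {w : V | w ≠ 1} := by
              ext w
              constructor
              · rintro ⟨g, rfl⟩ hg
                exact hv ((φ g).injective (hg.trans (map_one _).symm))
              · intro hw
                obtain ⟨g, hg⟩ := htrans v w hv hw
                exact ⟨g, hg⟩
            have hst : IsPGroup 3 (MulAction.stabilizer H v) := fun g => by
              obtain ⟨j, hj⟩ := hstab v hv g g.2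
              exact ⟨j, Subtype.ext hj⟩
            obtain ⟨j, hj⟩ := IsPGroup.iff_card.mp hst
            have hc := MulAction.index_stabilizer H v
            rw [horb, show ({w : V | w ≠ 1} : Set V) = {1}ᶜ by ext; simp, Set.ncard_compl,
              Set.ncard_singleton, hn] at hc
            have hH : Nat.card H = 3 ^ j * 8 := by
              rw [← (MulAction.stabilizer H v).card_mul_index, hj, hc]
              norm_num
            have hfac : (Nat.card H).factorization 3 = j := by
              rw [hH, Nat.factorization_mul (pow_ne_zero _ (by norm_num)) (by norm_num),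
                Finsupp.add_apply, hp.factorization_pow, Finsupp.single_eq_same,
                Nat.factorization_eq_zero_of_not_dvd (by norm_num : ¬ 3 ∣ 8), add_zero]
            rw [hQ8.2, P.card_eq_multiplicity, hfac, hH, mul_comm]
          · rw [hQ8.2, P.card_eq_multiplicity]
            exact Nat.Coprime.pow_right _ (by norm_num)
        · -- `p ≥ 5`
          exfalso
          have h5' : 5 ≤ p := by
            rcases Nat.eq_or_lt_of_le h5 with h | h
            · exact absurd (h ▸ hp) (by norm_num)
            · omega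
          set U : Subgroup V :=
            { carrier := {w | φ ρ w = w}
              one_mem' := map_one _
              mul_mem' := fun {x y} hx hy => (map_mul _ x y).trans (congrArg₂ (· * ·) hx hy)
              inv_mem' := fun {x} hx => (map_inv _ x).trans (congrArg (·⁻¹) hx) } with hU
          have hUne : U ≠ ⊤ := fun h => hρ1 (hinj (by
            rw [map_one]
            exact MulEquiv.ext fun w => (h ▸ Subgroup.mem_top w : w ∈ U)))
          obtain ⟨v, hv, hv1⟩ : ∃ v ∈ U, (1 : V) ≠ v := by
            letI act : MulAction (Subgroup.zpowers ρ) V :=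
              MulAction.compHom V (φ.comp (Subgroup.zpowers ρ).subtype)
            have hPρ : IsPGroup p (Subgroup.zpowers ρ) :=
              IsPGroup.of_card (n := 1) (by rw [Nat.card_zpowers, hρ, pow_one])
            have h1 : (1 : V) ∈ MulAction.fixedPoints (Subgroup.zpowers ρ) V := fun g =>
              map_one (φ (g : H))
            obtain ⟨v, hv, hv1⟩ := hPρ.exists_fixed_point_of_prime_dvd_card_of_fixed_point V
              (hn ▸ dvd_pow_self p two_ne_zero) h1
            exact ⟨v, hv ⟨ρ, Subgroup.mem_zpowers ρ⟩, hv1⟩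
          have hUc : Nat.card U = p := by
            obtain ⟨j, hj2, hj⟩ := (Nat.dvd_prime_pow hp).mp (hn ▸ U.card_subgroup_dvd_card)
            have hne0 : j ≠ 0 := fun h => by
              rw [h, pow_zero, Subgroup.card_eq_one] at hj
              rw [hj, Subgroup.mem_bot] at hv
              exact hv1 hv.symm
            have hne2 : j ≠ 2 := fun h => hUne (Subgroup.eq_top_of_card_eq U (by rw [hj, h, hn]))
            rw [hj, show j = 1 by omega, pow_one]
          have hinv : ∀ x ∈ Q, ∀ w ∈ U, φ x w ∈ U := fun x hx w hw => by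
            show φ ρ (φ x w) = φ x w
            rw [← MulAut.mul_apply, ← map_mul, hcent ρ p hp h5' hρp x hx, map_mul, MulAut.mul_apply,
              show φ ρ w = w from hw]
          have hgen : ∀ w ∈ U, w ∈ Subgroup.zpowers v := fun w hw => by
            have hle : Subgroup.zpowers v ≤ U := Subgroup.zpowers_le.mpr hv
            rw [Subgroup.eq_of_le_of_card_ge hle (by
              rw [hUc, Nat.card_zpowers, orderOf_eq_prime (hV v) hv1.symm])]
            exact hw
          obtain ⟨i, hi⟩ := hgen _ (hinv _ a₀.2 v hv)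
          obtain ⟨j, hj⟩ := hgen _ (hinv _ b₀.2 v hv)
          simp only at hi hj
          refine hcontra v hv1.symm ?_
          rw [map_mul, map_mul, MulAut.mul_apply, MulAut.mul_apply, ← hi, ← hj, map_zpow, map_zpow,
            ← hi, ← hj, ← zpow_mul, ← zpow_mul, mul_comm]
      · exact of_commutative_quotient p ⊤ (by rwa [Subgroup.card_top]) fun _ _ => Subgroup.mem_top _
    · -- `n ≥ 3`
      exfalso
      obtain ⟨r, hr, hrd, hrk⟩ := Cfsg.Agent.LEZsig.zsigmondy p n hp.one_lt (by omega)
        (fun h => hp2 h.1) (fun h => by omega)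
      haveI := Fact.mk hr
      have hrp : r ≠ p := by
        rintro rfl
        exact hr.not_dvd_one (by
          have h1 : r ∣ r ^ n := dvd_pow_self r hn0
          have := Nat.dvd_sub h1 hrd
          rwa [show r ^ n - (r ^ n - 1) = 1 by have := Nat.one_le_pow n r hr.pos; omega] at this)
      have hr5 : 5 ≤ r := by
        have hferm : r ∣ p ^ (r - 1) - 1 := by
          have h := Nat.ModEq.pow_totient ((Nat.coprime_primes hp hr).mpr hrp.symm)
          rw [Nat.totient_prime hr] at h
          exact (Nat.modEq_iff_dvd' (Nat.one_le_pow _ _ hp.pos)).mp h.symm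
        have h1 : ¬ (0 < r - 1 ∧ r - 1 < n) := fun h => hrk _ h.1 h.2 hferm
        have := hr.two_le
        have h4 : r ≠ 4 := fun h => absurd (h ▸ hr) (by norm_num)
        omega
      obtain ⟨v, hv⟩ := exists_ne (1 : V)
      have hrH : r ∣ Nat.card H := by
        letI act : MulAction H V := MulAction.compHom V φ
        have horb : MulAction.orbit H v = {w : V | w ≠ 1} := by
          ext w
          constructor
          · rintro ⟨g, rfl⟩ hg
            exact hv ((φ g).injective (hg.trans (map_one _).symm))
          · intro hw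
            obtain ⟨g, hg⟩ := htrans v w hv hw
            exact ⟨g, hg⟩
        have hc := MulAction.index_stabilizer H v
        rw [horb] at hc
        refine dvd_trans ?_ (Subgroup.index_dvd_card (MulAction.stabilizer H v))
        rw [hc, show ({w : V | w ≠ 1} : Set V) = {1}ᶜ by ext; simp, Set.ncard_compl,
          Set.ncard_singleton, hn]
        exact hrd
      obtain ⟨ρ, hρ⟩ := exists_prime_orderOf_dvd_card' r hrH
      have hρ1 : ρ ≠ 1 := fun h => by rw [h, orderOf_one] at hρ; exact hr.one_lt.ne hρ
      have hρr : ρ ^ r = 1 := by rw [← hρ, pow_orderOf_eq_one]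
      have hρfpf : ∀ w : V, φ ρ w = w → w = 1 := hfpf ρ (by
        rw [hρ]; exact fun h => hrp ((Nat.prime_dvd_prime_iff_eq hp hr).mp h).symm) hρ1
      set T := Subgroup.closure (Set.range fun i : ℕ => ((φ ρ) ^ i) v) with hT
      have hTtop : T = ⊤ := by
        have hTinv : ∀ w ∈ T, φ ρ w ∈ T := by
          intro w hw
          induction hw using Subgroup.closure_induction with
          | mem x hx =>
            obtain ⟨i, rfl⟩ := hx
            exact Subgroup.subset_closure ⟨i + 1, by simp only [pow_succ', MulAut.mul_apply]⟩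
          | one => rw [map_one]; exact one_mem _
          | mul x y _ _ hx hy => rw [map_mul]; exact mul_mem hx hy
          | inv x _ hx => rw [map_inv]; exact inv_mem hx
        let σ : Equiv.Perm T := Equiv.ofBijective (fun w => ⟨φ ρ w.1, hTinv _ w.2⟩)
          (Finite.injective_iff_bijective.mp fun a b h =>
            Subtype.ext ((φ ρ).injective (congrArg Subtype.val h)))
        have hσ : σ ^ r = 1 := by
          refine Equiv.ext fun w => Subtype.ext ?_
          have hit : ∀ i : ℕ, ((σ ^ i) w : V) = (φ (ρ ^ i)) (w : V) := by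
            intro i
            induction i with
            | zero => simp
            | succ i ih =>
              rw [pow_succ', Equiv.Perm.mul_apply, pow_succ' ρ, map_mul, MulAut.mul_apply, ← ih]
              rfl
          rw [hit, hρr, map_one]
          simp
        have hPσ : IsPGroup r (Subgroup.zpowers σ) := fun x => by
          refine ⟨1, Subtype.ext ?_⟩
          obtain ⟨i, hi⟩ := x.2
          simp only [pow_one, SubgroupClass.coe_pow, OneMemClass.coe_one]
          rw [← hi, ← zpow_natCast, ← zpow_mul, mul_comm, zpow_mul, zpow_natCast, hσ, one_zpow]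
        have hmod := hPσ.card_modEq_card_fixedPoints T
        have hfix : MulAction.fixedPoints (Subgroup.zpowers σ) T = {1} := by
          ext w
          constructor
          · intro hw
            exact Subtype.ext (hρfpf w (congrArg Subtype.val (hw ⟨σ, Subgroup.mem_zpowers σ⟩)))
          · rintro rfl ⟨g, i, rfl⟩
            exact Equiv.Perm.zpow_apply_eq_self_of_apply_eq_self (Subtype.ext (map_one _)) i
        rw [hfix, Nat.card_coe_set_eq, Set.ncard_singleton] at hmod
        obtain ⟨j, hjn, hj⟩ := (Nat.dvd_prime_pow hp).mp (hn ▸ T.card_subgroup_dvd_card)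
        have hvT : v ∈ T := Subgroup.subset_closure ⟨0, by simp⟩
        have hj0 : j ≠ 0 := fun h => hv (by
          rw [h, pow_zero, Subgroup.card_eq_one] at hj
          rw [hj, Subgroup.mem_bot] at hvT
          exact hvT)
        refine Subgroup.eq_top_of_card_eq T ?_
        rw [hj, hn]
        by_contra hne
        have hjn' : j < n := lt_of_le_of_ne hjn fun h => hne (h ▸ rfl)
        rw [hj] at hmod
        exact hrk j (Nat.pos_of_ne_zero hj0) hjn'
          ((Nat.modEq_iff_dvd' (Nat.one_le_pow _ _ hp.pos)).mp hmod.symm)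
      have hcomm : ∀ x ∈ Q, ∀ w, φ x (φ ρ w) = φ ρ (φ x w) := fun x hx w => by
        rw [← MulAut.mul_apply, ← map_mul, ← hcent ρ r hr hr5 hρr x hx, map_mul, MulAut.mul_apply]
      refine hcontra v hv ?_
      rw [map_mul, map_mul, MulAut.mul_apply, MulAut.mul_apply]
      exact comm_of_generates (φ ρ) (φ (a₀ : H)) (φ (b₀ : H)) (hcomm _ a₀.2) (hcomm _ b₀.2) v hTtop

end Cfsg.Agent.TransPStab
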