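import Cfsg.Agent.Lib.Char.Degree
import Cfsg.Prelude.Def_Transfer
import Mathlib.GroupTheory.PGroup
import Mathlib.GroupTheory.Sylow
import Mathlib.Tactic.Group

/-!
# Irreducible characters which are non-zero on exactly two conjugacy classes
-/

set_option linter.style.haveILetI false

namespace Cfsg.Agent.TwoClasses

open Cfsg.Agent.Char Cfsg.Agent.CharX Module
open scoped ComplexConjugate

universe u

variable {G : Type u} [Group G] [Finite G]

open scoped Classical in
/-- Basic structure: the support is a normal subgroup on whose non-identity elements `G` is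
transitive; every other irreducible character is trivial on it, and `χ` is faithful. -/
theorem structure_exists (hG : 2 < Nat.card G) (χ : Cfsg.IrrCharacter G)
    (hχ : Nat.card {C : ConjClasses G // ∃ g ∈ C.carrier, (χ : G → ℂ) g ≠ 0} = 2) :
    ∃ N : Subgroup G, N.Normal ∧ N ≠ ⊥ ∧
      (∀ g, g ∈ N ↔ (χ : G → ℂ) g ≠ 0) ∧
      (∀ x ∈ N, ∀ y ∈ N, x ≠ 1 → y ≠ 1 → IsConj x y) ∧
      (∀ ψ : Cfsg.IrrCharacter G, ψ ≠ χ → ∀ x ∈ N, (ψ : G → ℂ) x = (ψ : G → ℂ) 1) ∧
      (∀ g, (χ : G → ℂ) g = (χ : G → ℂ) 1 → g = 1) ∧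
      (∀ x ∈ N, x ≠ 1 → ((Nat.card N : ℂ) - 1) * (χ : G → ℂ) x = -(χ : G → ℂ) 1) := by
  haveI := Fintype.ofFinite G
  have hcl := IsCharacter.isClassFunction (IsIrrCharacter.isCharacter χ.2)
  have hcon : ∀ a b, IsConj a b → (χ : G → ℂ) a = (χ : G → ℂ) b :=
    fun a b h => isClassFunction_iff.mp hcl a b h
  have h1ne : (χ : G → ℂ) 1 ≠ 0 := IsIrrCharacter.one_ne_zero χ.2
  obtain ⟨A, B, hAB, hall⟩ := Nat.card_eq_two_iff.1 hχ
  have hone : ∃ g ∈ (ConjClasses.mk (1 : G)).carrier, (χ : G → ℂ) g ≠ 0 :=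
    ⟨1, ConjClasses.mem_carrier_mk, h1ne⟩
  obtain ⟨c, hc1, hcne, honly⟩ : ∃ c : G, ¬ IsConj c 1 ∧ (χ : G → ℂ) c ≠ 0 ∧
      ∀ g, (χ : G → ℂ) g ≠ 0 → IsConj g 1 ∨ IsConj g c := by
    obtain ⟨D, hD⟩ : ∃ D, D ≠ (⟨ConjClasses.mk 1, hone⟩ : {C : ConjClasses G // ∃ g ∈ C.carrier, (χ : G → ℂ) g ≠ 0}) ∧
        ∀ X, X = (⟨ConjClasses.mk 1, hone⟩ : {C : ConjClasses G // ∃ g ∈ C.carrier, (χ : G → ℂ) g ≠ 0}) ∨ X = D := by
      have hmem : ∀ X, X = A ∨ X = B := fun X => by
        have : X ∈ ({A, B} : Set _) := hall ▸ Set.mem_univ X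
        simpa using this
      rcases hmem ⟨ConjClasses.mk 1, hone⟩ with h | h
      · exact ⟨B, h ▸ hAB.symm, fun X => h ▸ hmem X⟩
      · exact ⟨A, h ▸ hAB, fun X => h ▸ (hmem X).symm⟩
    obtain ⟨c, hcD, hcne⟩ := D.2
    rw [ConjClasses.mem_carrier_iff_mk_eq] at hcD
    refine ⟨c, fun h => hD.1 (Subtype.ext ?_), hcne, fun g hg => ?_⟩
    · rw [← hcD]; exact ConjClasses.mk_eq_mk_iff_isConj.2 h
    · rcases hD.2 ⟨ConjClasses.mk g, g, ConjClasses.mem_carrier_mk, hg⟩ with h | h
      · exact Or.inl (ConjClasses.mk_eq_mk_iff_isConj.1 (congrArg Subtype.val h))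
      · exact Or.inr (ConjClasses.mk_eq_mk_iff_isConj.1 ((congrArg Subtype.val h).trans hcD.symm))
  set s := Finset.univ.filter fun g : G => IsConj g c with hs
  have hns : (1 : G) ∉ s := fun h => hc1 (Finset.mem_filter.1 h).2.symm
  have hsum : ∀ ψ : G → ℂ, Cfsg.IsClassFunction G ψ →
      ∑ g : G, (χ : G → ℂ) g * conj (ψ g) =
        (χ : G → ℂ) 1 * conj (ψ 1) + (s.card : ℂ) * ((χ : G → ℂ) c * conj (ψ c)) := by
    intro ψ hψ
    rw [← Finset.sum_subset (Finset.subset_univ (insert 1 s)) fun g _ hg => ?_]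
    · rw [Finset.sum_insert hns,
        Finset.sum_congr rfl (fun g hg => by
          rw [hcon g c (Finset.mem_filter.1 hg).2, isClassFunction_iff.mp hψ g c (Finset.mem_filter.1 hg).2]),
        Finset.sum_const, nsmul_eq_mul]
    · rw [mul_eq_zero]
      refine Or.inl (by_contra fun hne => hg ?_)
      rcases honly g hne with h | h
      · rw [isConj_one_left.1 h]; exact Finset.mem_insert_self _ _
      · exact Finset.mem_insert_of_mem (Finset.mem_filter.2 ⟨Finset.mem_univ _, h⟩)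
  have hχ1 : (χ : G → ℂ) ≠ fun _ => 1 := by
    intro h
    -- then every element is the identity or conjugate to `c`
    have hcov : s.card + 1 = Nat.card G := by
      have : insert (1 : G) s = Finset.univ := Finset.eq_univ_of_forall fun g => by
        rcases honly g (by rw [h]; exact one_ne_zero) with h' | h'
        · rw [isConj_one_left.1 h']; exact Finset.mem_insert_self _ _
        · exact Finset.mem_insert_of_mem (Finset.mem_filter.2 ⟨Finset.mem_univ _, h'⟩)
      rw [Nat.card_eq_fintype_card, ← Finset.card_univ, ← this,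
        Finset.card_insert_of_notMem hns]
    have hdvd : s.card ∣ Nat.card G := by
      have : s = classFinset c := Finset.ext fun g => by
        simp only [hs, classFinset, Finset.mem_filter, Finset.mem_univ, true_and]; exact isConj_comm
      rw [this, card_classFinset]
      exact Subgroup.index_dvd_card _
    have : s.card ∣ 1 := (Nat.dvd_add_right (dvd_refl _)).1 (hcov ▸ hdvd)
    rw [Nat.dvd_one] at this
    omega
  have horth : ∀ ψ : Cfsg.IrrCharacter G, ψ ≠ χ →
      (χ : G → ℂ) 1 * conj ((ψ : G → ℂ) 1) + (s.card : ℂ) * ((χ : G → ℂ) c * conj ((ψ : G → ℂ) c)) = 0 := by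
    intro ψ hne
    rw [← hsum _ (IsCharacter.isClassFunction (IsIrrCharacter.isCharacter ψ.2))]
    have := classInner_irr_of_ne χ.2 ψ.2 (fun h => hne (Subtype.ext h.symm))
    rw [Cfsg.classInner, mul_eq_zero] at this
    exact this.resolve_left (inv_ne_zero (Nat.cast_ne_zero.2 Nat.card_pos.ne'))
  have hrel : (s.card : ℂ) * (χ : G → ℂ) c = -(χ : G → ℂ) 1 := by
    have := horth (principal G) (fun h => hχ1 (h ▸ rfl))
    simp only [principal, map_one, mul_one] at this
    linear_combination this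
  have htriv : ∀ ψ : Cfsg.IrrCharacter G, ψ ≠ χ → (ψ : G → ℂ) c = (ψ : G → ℂ) 1 := by
    intro ψ hne
    have h0 : (χ : G → ℂ) 1 * (conj ((ψ : G → ℂ) 1) - conj ((ψ : G → ℂ) c)) = 0 := by
      linear_combination (horth ψ hne) - conj ((ψ : G → ℂ) c) * hrel
    rw [mul_eq_zero, or_iff_right h1ne, sub_eq_zero] at h0
    exact ((starRingEnd ℂ).injective h0).symm
  choose K hKn hK using fun ψ : Cfsg.IrrCharacter G =>
    IsCharacter.exists_kernel (IsIrrCharacter.isCharacter ψ.2)
  let N : Subgroup G := ⨅ ψ ∈ {ψ : Cfsg.IrrCharacter G | ψ ≠ χ}, K ψ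
  have hNn : N.Normal := Subgroup.normal_iInf_normal fun ψ => Subgroup.normal_iInf_normal fun _ => hKn ψ
  have hmemN : ∀ g, g ∈ N ↔ ∀ ψ : Cfsg.IrrCharacter G, ψ ≠ χ → (ψ : G → ℂ) g = (ψ : G → ℂ) 1 := fun g => by
    simp only [N, Subgroup.mem_iInf, Set.mem_setOf_eq, (hK _).1]
  have hN : ∀ g, g ∈ N ↔ (IsConj g 1 ∨ IsConj g c) := by
    intro g
    rw [hmemN]
    constructor
    · intro h
      by_contra hno
      push_neg at hno
      have hχg : (χ : G → ℂ) g = 0 := by_contra fun hne => by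
        rcases honly g hne with h' | h'
        · exact hno.1 h'
        · exact hno.2 h'
      have hcol := column_orth_of_not_isConj hno.1
      rw [← Finset.add_sum_erase _ _ (Finset.mem_univ χ), hχg, zero_mul, zero_add,
        Finset.sum_congr rfl (fun ψ hψ => by rw [h ψ (Finset.mem_erase.1 hψ).1])] at hcol
      have hpos : 0 < ∑ ψ ∈ Finset.univ.erase χ, Cfsg.charDegree (ψ : G → ℂ) ^ 2 :=
        Finset.sum_pos (fun ψ _ => pow_pos (irr_deg_pos ψ) 2)
          ⟨principal G, Finset.mem_erase.2 ⟨fun h => hχ1 (h ▸ rfl), Finset.mem_univ _⟩⟩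
      simp only [irr_deg, map_natCast] at hcol
      refine hpos.ne' (Nat.cast_injective (R := ℂ) ?_)
      rw [Nat.cast_sum, Nat.cast_zero, ← hcol]
      exact Finset.sum_congr rfl fun ψ _ => by rw [Nat.cast_pow, sq]
    · rintro (h | h) ψ hne
      · rw [isConj_one_left.1 h]
      · rw [isClassFunction_iff.mp (IsCharacter.isClassFunction (IsIrrCharacter.isCharacter ψ.2)) g c h]
        exact htriv ψ hne
  have hsupp : ∀ g, g ∈ N ↔ (χ : G → ℂ) g ≠ 0 := fun g => by
    rw [hN]
    refine ⟨?_, honly g⟩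
    rintro (h | h)
    · rw [hcon g 1 h]; exact h1ne
    · rw [hcon g c h]; exact hcne
  have hcN : c ∈ N := (hN c).2 (Or.inr (IsConj.refl c))
  have hnot1 : ∀ x ∈ N, x ≠ 1 → IsConj x c := fun x hx h1 =>
    ((hN x).1 hx).resolve_left fun h => h1 (isConj_one_left.1 h)
  have hcard : Nat.card N = s.card + 1 := by
    have : (Finset.univ.filter fun g => g ∈ N) = insert 1 s := Finset.ext fun g => by
      simp only [Finset.mem_filter, Finset.mem_univ, true_and, Finset.mem_insert, hs, hN,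
        isConj_one_left]
    rw [Nat.card_eq_fintype_card, Fintype.card_subtype, this,
      Finset.card_insert_of_notMem hns]
  refine ⟨N, hNn, ?_, hsupp, fun x hx y hy hx1 hy1 => (hnot1 x hx hx1).trans (hnot1 y hy hy1).symm,
    fun ψ hne x hx => (hmemN x).1 hx ψ hne, fun g hg => ?_, fun x hx hx1 => ?_⟩
  · intro h
    rw [h, Subgroup.mem_bot] at hcN
    exact hc1 (hcN ▸ IsConj.refl _)
  · by_contra hg1
    have := hcon g c (hnot1 g ((hsupp g).2 (hg ▸ h1ne)) hg1)
    rw [hg] at this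
    rw [← this] at hrel
    have : ((s.card + 1 : ℕ) : ℂ) * (χ : G → ℂ) 1 = 0 := by push_cast; linear_combination hrel
    rw [mul_eq_zero, Nat.cast_eq_zero] at this
    exact h1ne (this.resolve_left (by omega))
  · rw [hcon x c (hnot1 x hx hx1), hcard, ← hrel]
    push_cast; ring

/-- Any normal subgroup other than the trivial one contains the support. -/
theorem le_of_normal (χ : Cfsg.IrrCharacter G) (N : Subgroup G)
    (htriv : ∀ ψ : Cfsg.IrrCharacter G, ψ ≠ χ → ∀ x ∈ N, (ψ : G → ℂ) x = (ψ : G → ℂ) 1)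
    (hfaith : ∀ g, (χ : G → ℂ) g = (χ : G → ℂ) 1 → g = 1)
    (K : Subgroup G) [K.Normal] (hK : K ≠ ⊥) : N ≤ K := by
  haveI := Fintype.ofFinite G
  haveI := Fintype.ofFinite (G ⧸ K)
  intro x hx
  rw [← QuotientGroup.eq_one_iff (N := K), ← isConj_one_left, isConj_iff_forall_irr]
  intro φ
  have hne : infl K φ ≠ χ := by
    intro h
    obtain ⟨⟨y, hy⟩, hy1⟩ := K.ne_bot_iff_exists_ne_one.1 hK
    exact hy1 (Subtype.ext (hfaith y (by rw [← h]; exact infl_trivialOn K φ y hy)))
  exact htriv _ hne x hx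

/-- The support is elementary abelian. -/
theorem exists_prime (N : Subgroup G) [N.Normal] (hN : N ≠ ⊥)
    (htrans : ∀ x ∈ N, ∀ y ∈ N, x ≠ 1 → y ≠ 1 → IsConj x y)
    (hmin : ∀ K : Subgroup G, K.Normal → K ≠ ⊥ → N ≤ K) :
    ∃ p : ℕ, p.Prime ∧ Cfsg.IsElementaryAbelian p N := by
  obtain ⟨⟨c, hc⟩, hc1⟩ := N.ne_bot_iff_exists_ne_one.1 hN
  have hc1' : c ≠ 1 := fun h => hc1 (Subtype.ext h)
  have hord : ∀ x ∈ N, x ≠ 1 → orderOf x = orderOf c := fun x hx hx1 => by
    obtain ⟨g, rfl⟩ := isConj_iff.1 (htrans x hx c hc hx1 hc1')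
    exact ((MulAut.conj g).orderOf_eq x).symm
  let p := (orderOf c).minFac
  have hp : p.Prime := Nat.minFac_prime (by rwa [ne_eq, orderOf_eq_one_iff])
  haveI := Fact.mk hp
  have hcp : orderOf c = p := by
    obtain ⟨m, hm⟩ : p ∣ orderOf c := Nat.minFac_dvd _
    have hpos := (isOfFinOrder_of_finite c).orderOf_pos
    have hm0 : m ≠ 0 := fun h => by rw [h, mul_zero] at hm; omega
    have ho : orderOf (c ^ m) = p := by
      rw [orderOf_pow_of_dvd hm0 ⟨p, hm.trans (mul_comm _ _)⟩, hm, Nat.mul_div_cancel _ (Nat.pos_of_ne_zero hm0)]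
    rw [← ho]
    exact (hord _ (N.pow_mem hc m) fun h => by rw [h, orderOf_one] at ho; exact hp.one_lt.ne ho).symm
  have hpow : ∀ a ∈ N, a ^ p = 1 := fun a ha => by
    by_cases h : a = 1
    · rw [h, one_pow]
    · rw [← hcp, ← hord a ha h, pow_orderOf_eq_one]
  have hP : IsPGroup p N := fun a => ⟨1, Subtype.ext (by simpa using hpow a a.2)⟩
  haveI : Nontrivial N := (Subgroup.nontrivial_iff_ne_bot N).2 hN
  have hle : N ≤ (Subgroup.center N).map N.subtype := hmin _ inferInstance (by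
    intro h
    haveI := hP.center_nontrivial
    obtain ⟨z, hz⟩ := exists_ne (1 : Subgroup.center N)
    have : ((z : N) : G) ∈ (Subgroup.center N).map N.subtype := ⟨z, z.2, rfl⟩
    rw [h, Subgroup.mem_bot] at this
    exact hz (Subtype.ext (Subtype.ext this)))
  refine ⟨p, hp, ⟨⟨fun a b => ?_⟩⟩, hpow⟩
  obtain ⟨z, hz, hza⟩ := hle a.2
  rw [← show z = a from Subtype.ext hza]
  exact (Subgroup.mem_center_iff.1 hz b).symm

open scoped Classical in
/-- Centralisers of elements off the support are those of the quotient. -/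
theorem card_centralizer (χ : Cfsg.IrrCharacter G) (N : Subgroup G) [N.Normal] (hN : N ≠ ⊥)
    (htriv : ∀ ψ : Cfsg.IrrCharacter G, ψ ≠ χ → ∀ x ∈ N, (ψ : G → ℂ) x = (ψ : G → ℂ) 1)
    (hfaith : ∀ g, (χ : G → ℂ) g = (χ : G → ℂ) 1 → g = 1) (x : G) (hx : (χ : G → ℂ) x = 0) :
    Nat.card (Subgroup.centralizer ({x} : Set G)) =
      Nat.card (Subgroup.centralizer ({(x : G ⧸ N)} : Set (G ⧸ N))) := by
  haveI := Fintype.ofFinite G
  haveI := Fintype.ofFinite (G ⧸ N)
  rw [← Nat.cast_inj (R := ℂ), ← column_orth_of_isConj (IsConj.refl x),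
    ← column_orth_of_isConj (IsConj.refl (x : G ⧸ N))]
  rw [← Finset.sum_filter_add_sum_filter_not Finset.univ
    (fun ψ : Cfsg.IrrCharacter G => ∀ y ∈ N, (ψ : G → ℂ) y = (ψ : G → ℂ) 1),
    sum_trivialOn' N _ (fun ψ => by simp) (fun f => f x * conj (f x)), Finset.sum_eq_zero (s := Finset.filter (fun ψ : Cfsg.IrrCharacter G => ¬ _) _) ?_, add_zero]
  · rfl
  · intro ψ hψ
    have : ψ = χ := by_contra fun hne => (Finset.mem_filter.1 hψ).2 (htriv ψ hne)
    rw [this, hx, zero_mul]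

open scoped Classical in
/-- The numerology: `|G| = q (q - 1) m ^ 2` and `χ 1 = (q - 1) m` with `m` a power of `p`. -/
theorem numerology (χ : Cfsg.IrrCharacter G) (N : Subgroup G) [N.Normal] (hN : N ≠ ⊥)
    (hsupp : ∀ g, g ∈ N ↔ (χ : G → ℂ) g ≠ 0)
    (hrel : ∀ x ∈ N, x ≠ 1 → ((Nat.card N : ℂ) - 1) * (χ : G → ℂ) x = -(χ : G → ℂ) 1)
    (p : ℕ) [hp : Fact p.Prime] (hNp : IsPGroup p N) :
    ∃ m a : ℕ, m = p ^ a ∧ Nat.card G = Nat.card N * (Nat.card N - 1) * m ^ 2 ∧
      Cfsg.charDegree (χ : G → ℂ) = (Nat.card N - 1) * m := by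
  haveI := Fintype.ofFinite G
  have hq2 : 1 < Nat.card N := (Subgroup.one_lt_card_iff_ne_bot N).2 hN
  have hq1c : ((Nat.card N - 1 : ℕ) : ℂ) = (Nat.card N : ℂ) - 1 := by
    rw [Nat.cast_sub hq2.le, Nat.cast_one]
  have hq1ne : ((Nat.card N : ℂ) - 1) ≠ 0 := by
    rw [← hq1c, Nat.cast_ne_zero]; omega
  obtain ⟨⟨c, hc⟩, hc1⟩ := N.ne_bot_iff_exists_ne_one.1 hN
  have hc1' : c ≠ 1 := fun h => hc1 (Subtype.ext h)
  set d := Cfsg.charDegree (χ : G → ℂ) with hd
  have hdvd : (Nat.card N - 1) ∣ d := by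
    refine dvd_of_isIntegral_div (by omega) ?_
    have e : (χ : G → ℂ) c = -((d : ℂ) / ((Nat.card N - 1 : ℕ) : ℂ)) := by
      rw [hq1c, ← neg_div, eq_div_iff hq1ne, mul_comm, hrel c hc hc1', irr_deg]
    have := IsCharacter.isIntegral (IsIrrCharacter.isCharacter χ.2) c
    rw [e] at this
    simpa using this.neg
  obtain ⟨m, hm⟩ := hdvd
  have hval : ∀ x ∈ N, x ≠ 1 → (χ : G → ℂ) x = -(m : ℂ) := fun x hx hx1 => by
    have := hrel x hx hx1
    rw [irr_deg, ← hd, hm, Nat.cast_mul, hq1c] at this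
    exact mul_left_cancel₀ hq1ne (by linear_combination this)
  have hcard : Nat.card G = Nat.card N * (Nat.card N - 1) * m ^ 2 := by
    have h := classInner_self_irr χ.2
    rw [Cfsg.classInner, inv_mul_eq_one₀ (Nat.cast_ne_zero.2 Nat.card_pos.ne')] at h
    have hrest : ∀ x ∈ (Finset.univ.filter fun g => g ∈ N).erase 1,
        (χ : G → ℂ) x * conj ((χ : G → ℂ) x) = (m : ℂ) ^ 2 := fun x hx => by
      rw [Finset.mem_erase, Finset.mem_filter] at hx
      rw [hval x hx.2.2 hx.1, map_neg, map_natCast]; ring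
    rw [← Finset.sum_subset (Finset.subset_univ (Finset.univ.filter fun g => g ∈ N)) (fun x _ hx => by
        have : (χ : G → ℂ) x = 0 := by_contra fun h => hx (Finset.mem_filter.2 ⟨Finset.mem_univ _, (hsupp x).2 h⟩)
        rw [this, zero_mul]),
      ← Finset.add_sum_erase _ _ (Finset.mem_filter.2 ⟨Finset.mem_univ (1 : G), N.one_mem⟩),
      Finset.sum_congr rfl hrest, Finset.sum_const, nsmul_eq_mul,
      Finset.card_erase_of_mem (Finset.mem_filter.2 ⟨Finset.mem_univ (1 : G), N.one_mem⟩),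
      ← Fintype.card_subtype, ← Nat.card_eq_fintype_card, irr_deg, map_natCast, ← hd, hm] at h
    apply Nat.cast_injective (R := ℂ)
    rw [h]
    push_cast [hq1c, Nat.cast_sub hq2.le]
    ring
  have hm0 : 0 < m := Nat.pos_of_ne_zero fun h => by
    have := irr_deg_pos χ; rw [← hd, hm, h, mul_zero] at this; exact lt_irrefl 0 this
  have hr : ∀ r, r.Prime → r ≠ p → ¬ r ∣ m := by
    intro r hr hrp hrm
    haveI := Fact.mk hr
    let R : Sylow r G := default
    have hRN : ∀ x ∈ (R : Subgroup G), x ∈ N → x = 1 := fun x hxR hxN => by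
      obtain ⟨k, hk⟩ := (IsPGroup.iff_orderOf.1 R.isPGroup') ⟨x, hxR⟩
      obtain ⟨l, hl⟩ := (IsPGroup.iff_orderOf.1 hNp) ⟨x, hxN⟩
      rw [Subgroup.orderOf_mk] at hk hl
      rcases Nat.eq_zero_or_pos k with h0 | h0
      · rwa [h0, pow_zero, orderOf_eq_one_iff] at hk
      · exact absurd ((Nat.prime_dvd_prime_iff_eq hr hp.out).1
          (hr.dvd_of_dvd_pow ((dvd_pow_self r h0.ne').trans (dvd_of_eq (hk.symm.trans hl))))) hrp
    have hRd : Nat.card (R : Subgroup G) ∣ d := by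
      obtain ⟨e, he⟩ := IsCharacter.exists_classInner_nat
        (IsCharacter.restrict (IsIrrCharacter.isCharacter χ.2) (R : Subgroup G))
        (isCharacter_one (G := (R : Subgroup G)))
      refine ⟨e, Nat.cast_injective (R := ℂ) ?_⟩
      rw [Nat.cast_mul, ← he, Cfsg.classInner, ← mul_assoc,
        mul_inv_cancel₀ (Nat.cast_ne_zero.2 Nat.card_pos.ne'), one_mul, Finset.sum_eq_single 1]
      · simp [irr_deg, hd]
      · intro x _ hx1
        have : (χ : G → ℂ) x = 0 := by_contra fun h => hx1 (Subtype.ext (hRN x x.2 ((hsupp x).2 h)))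
        simp [this]
      · exact fun h => absurd (Finset.mem_univ _) h
    rw [Sylow.card_eq_multiplicity, hm] at hRd
    have hne1 : Nat.card N - 1 ≠ 0 := by omega
    have hle := (hr.pow_dvd_iff_le_factorization (mul_ne_zero hne1 hm0.ne')).1 hRd
    have hGf : (Nat.card G).factorization r =
        (Nat.card N).factorization r + ((Nat.card N - 1).factorization r + 2 * m.factorization r) := by
      rw [hcard, Nat.factorization_mul (mul_ne_zero (by omega) hne1) (pow_ne_zero 2 hm0.ne'),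
        Nat.factorization_mul (by omega) hne1, Nat.factorization_pow]
      simp [add_assoc]
    rw [hGf, Nat.factorization_mul hne1 hm0.ne', Finsupp.add_apply] at hle
    have : 0 < m.factorization r := hr.factorization_pos_of_dvd hm0.ne' hrm
    omega
  exact ⟨m, _, Nat.eq_prime_pow_of_unique_prime_dvd (p := p) hm0.ne' fun {r} hr' hrm => by
    by_contra hne; exact hr r hr' hne hrm, hcard, hm⟩

/-- A centraliser of a non-identity element of the support is a Sylow `p`-subgroup. -/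
theorem card_centralizer_mem (N : Subgroup G) [N.Normal] (x : G) (hx : x ∈ N) (hx1 : x ≠ 1)
    (htrans : ∀ a ∈ N, ∀ b ∈ N, a ≠ 1 → b ≠ 1 → IsConj a b) :
    (Subgroup.centralizer ({x} : Set G)).index = Nat.card N - 1 := by
  classical
  haveI := Fintype.ofFinite G
  have h : classFinset x = (Finset.univ.filter fun g => g ∈ N).erase 1 := Finset.ext fun g => by
    simp only [classFinset, Finset.mem_filter, Finset.mem_univ, true_and, Finset.mem_erase]
    refine ⟨fun h => ⟨fun h1 => hx1 (isConj_one_left.1 (h1 ▸ h)), ?_⟩, fun h => htrans x hx g h.2 hx1 h.1⟩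
    obtain ⟨c, rfl⟩ := isConj_iff.1 h
    exact Subgroup.Normal.conj_mem inferInstance x hx c
  rw [← card_classFinset, h, Finset.card_erase_of_mem (Finset.mem_filter.2 ⟨Finset.mem_univ _, N.one_mem⟩),
    ← Fintype.card_subtype, ← Nat.card_eq_fintype_card]

end Cfsg.Agent.TwoClasses
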