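import Cfsg.Agent.Lib.Char.TwoClasses
import Cfsg.Agent.Lib.Char.DegreeCenter
import Cfsg.Agent.Lib.Char.Complete
import Cfsg.Agent.Lib.Involutions.BaerSuzuki
import Cfsg.Agent.Lib.Involutions.Basic
import Cfsg.Agent.S0200
import Mathlib.GroupTheory.Nilpotent
import Mathlib.GroupTheory.Commutator.Basic

/-!
# Characters non-zero on two classes whose support is the whole `p`-core
-/

set_option linter.style.haveILetI false
set_option linter.unusedSectionVars false

namespace Cfsg.Agent.TwoClasses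

open Cfsg.Agent.Char Cfsg.Agent.CharX
open scoped ComplexConjugate

universe u

theorem eq_bot_of_le_commutator {P : Type u} [Group P] [Group.IsNilpotent P] {N : Subgroup P}
    (h : N ≤ ⁅N, (⊤ : Subgroup P)⁆) : N = ⊥ := by
  obtain ⟨n, hn⟩ := Subgroup.nilpotent_iff_lowerCentralSeries.1 (‹Group.IsNilpotent P›)
  have key : ∀ i, N ≤ (⊤ : Subgroup P).lowerCentralSeries i := by
    intro i
    induction i with
    | zero => simp
    | succ i ih =>
      rw [Subgroup.lowerCentralSeries_succ]
      exact h.trans (Subgroup.commutator_mono ih le_rfl)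
  exact le_bot_iff.1 (hn ▸ key n)

/-- The square of a degree is at most the index of the centre. -/
theorem sq_degree_le_index_center {Q : Type u} [Group Q] [Finite Q] (φ : Cfsg.IrrCharacter Q) :
    Cfsg.charDegree (φ : Q → ℂ) ^ 2 ≤ (Subgroup.center Q).index := by
  classical
  haveI := Fintype.ofFinite Q
  set d := Cfsg.charDegree (φ : Q → ℂ)
  have h := classInner_self_eq (φ : Q → ℂ)
  rw [classInner_self_irr φ.2] at h
  have h' : (1 : ℝ) = (Nat.card Q : ℝ)⁻¹ * ∑ g : Q, ‖(φ : Q → ℂ) g‖ ^ 2 := by exact_mod_cast h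
  rw [eq_inv_mul_iff_mul_eq₀ (Nat.cast_ne_zero.2 Nat.card_pos.ne'), mul_one] at h'
  set s := Finset.univ.filter fun g : Q => g ∈ Subgroup.center Q
  have hs : ∀ z ∈ s, ‖(φ : Q → ℂ) z‖ ^ 2 = (d : ℝ) ^ 2 := by
    intro z hz
    obtain ⟨c, hc, hmul, -⟩ := IsIrrCharacter.exists_central_scalar φ.2 (Finset.mem_filter.1 hz).2
    have := hmul 1
    rw [mul_one, irr_deg] at this
    rw [this, norm_mul, hc, one_mul, Complex.norm_natCast]
  have hle : ∑ z ∈ s, ‖(φ : Q → ℂ) z‖ ^ 2 ≤ (Nat.card Q : ℝ) :=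
    (Finset.sum_le_univ_sum_of_nonneg fun g => sq_nonneg _).trans h'.ge
  rw [Finset.sum_congr rfl hs, Finset.sum_const, nsmul_eq_mul] at hle
  have hsc : s.card = Nat.card (Subgroup.center Q) := by
    rw [Nat.card_eq_fintype_card, Fintype.card_subtype]
  have hle' : s.card * d ^ 2 ≤ Nat.card Q := by exact_mod_cast hle
  rw [hsc, ← (Subgroup.center Q).card_mul_index] at hle'
  exact Nat.le_of_mul_le_mul_left hle' Nat.card_pos

/-- A nilpotent group with an element outside the normal subgroup `N` which is centralised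
by a supplement to `N` has an irreducible character of small degree orthogonal to the
trivial character on `N`. -/
theorem exists_small_irr {P : Type u} [Group P] [Finite P] [Group.IsNilpotent P] (N : Subgroup P)
    [N.Normal] [Fintype N] (hN : N ≠ ⊥) (t : P) (ht : t ∉ N)
    (hc : ∀ k : P, ∃ n ∈ N, Commute (n * k) t) :
    ∃ θ : Cfsg.IrrCharacter P, Cfsg.charDegree (θ : P → ℂ) ^ 2 < N.index ∧
      ∑ n : N, (θ : P → ℂ) n = 0 := by
  classical
  set M : Subgroup P := ⁅N, ⊤⁆ with hM
  haveI : M.Normal := Subgroup.commutator_normal N ⊤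
  haveI := Fintype.ofFinite (P ⧸ M)
  have hMN : M ≤ N := Subgroup.commutator_le_left N ⊤
  obtain ⟨n₀, hn₀, hn₀M⟩ := SetLike.not_le_iff_exists.1 fun h => hN (eq_bot_of_le_commutator h)
  have hcen : ∀ n ∈ N, (n : P ⧸ M) ∈ Subgroup.center (P ⧸ M) := by
    intro n hn
    refine Subgroup.mem_center_iff.2 fun x => ?_
    induction x using QuotientGroup.induction_on with
    | _ k =>
      rw [← QuotientGroup.mk_mul, ← QuotientGroup.mk_mul, QuotientGroup.eq]
      have := Subgroup.commutator_mem_commutator (H₁ := N) (H₂ := ⊤) (inv_mem hn)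
        (Subgroup.mem_top k⁻¹)
      rw [← hM] at this
      convert this using 1
      rw [commutatorElement_def]; group
  have htc : (t : P ⧸ M) ∈ Subgroup.center (P ⧸ M) := by
    refine Subgroup.mem_center_iff.2 fun x => ?_
    induction x using QuotientGroup.induction_on with
    | _ k =>
      obtain ⟨n, hn, hcomm⟩ := hc k
      have h1 : Commute ((n : P ⧸ M) * (k : P ⧸ M)) (t : P ⧸ M) := hcomm.map (QuotientGroup.mk' M)
      have h2 : Commute (n : P ⧸ M) (t : P ⧸ M) :=
        (Subgroup.mem_center_iff.1 (hcen n hn) _).symm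
      have h3 := (Commute.inv_left h2).mul_left h1
      rwa [inv_mul_cancel_left] at h3
  have hne : ¬ IsConj (n₀ : P ⧸ M) 1 := fun h =>
    hn₀M ((QuotientGroup.eq_one_iff n₀).1 (isConj_one_left.1 h))
  rw [isConj_iff_forall_irr] at hne
  push Not at hne
  obtain ⟨φ, hφ⟩ := hne
  refine ⟨infl M φ, ?_, ?_⟩
  · have hdeg : Cfsg.charDegree (infl M φ : P → ℂ) = Cfsg.charDegree (φ : P ⧸ M → ℂ) := by
      refine Nat.cast_injective (R := ℂ) ?_
      rw [← irr_deg, ← irr_deg]; rfl
    rw [hdeg]
    refine (sq_degree_le_index_center φ).trans_lt ?_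
    have hlt : N < N ⊔ Subgroup.zpowers t := by
      refine lt_of_le_of_ne le_sup_left fun h => ht ?_
      rw [h]; exact le_sup_right (a := N) (Subgroup.mem_zpowers t)
    calc (Subgroup.center (P ⧸ M)).index
        ≤ ((N ⊔ Subgroup.zpowers t).map (QuotientGroup.mk' M)).index := by
          refine Nat.le_of_dvd (Nat.pos_of_ne_zero Subgroup.index_ne_zero_of_finite)
            (Subgroup.index_dvd_of_le ?_)
          rw [Subgroup.map_sup, sup_le_iff, MonoidHom.map_zpowers, Subgroup.zpowers_le]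
          exact ⟨Subgroup.map_le_iff_le_comap.2 fun n hn => hcen n hn, htc⟩
      _ = (N ⊔ Subgroup.zpowers t).index := by
          rw [Subgroup.index_map_eq _ (QuotientGroup.mk'_surjective M)
            (by rw [QuotientGroup.ker_mk']; exact hMN.trans le_sup_left)]
      _ < N.index := Subgroup.index_strictAnti hlt
  · obtain ⟨c, -, hmul, hc1⟩ := IsIrrCharacter.exists_central_scalar φ.2 (hcen n₀ hn₀)
    have hc0 : c ≠ 1 := fun h => hφ (hc1.1 h)
    have key : ∑ n : N, (infl M φ : P → ℂ) n = c * ∑ n : N, (infl M φ : P → ℂ) n := by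
      rw [Finset.mul_sum]
      refine (Fintype.sum_equiv (Equiv.mulLeft (⟨n₀, hn₀⟩ : N)) _ _ fun n => ?_).symm
      exact (hmul _).symm
    have h0 : (1 - c) * ∑ n : N, (infl M φ : P → ℂ) n = 0 := by linear_combination key
    exact (mul_eq_zero.1 h0).resolve_left (sub_ne_zero.2 hc0.symm)

variable {G : Type u} [Group G] [Finite G]

/-- With `P / N` of order `m ^ 2`, such a character contradicts the integrality of inner products. -/
theorem false_of_small_irr (χ : Cfsg.IrrCharacter G) (N : Subgroup G)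
    (hsupp : ∀ g, g ∈ N ↔ (χ : G → ℂ) g ≠ 0) {m : ℕ}
    (hval : ∀ x ∈ N, x ≠ 1 → (χ : G → ℂ) x = -(m : ℂ))
    (hdeg : Cfsg.charDegree (χ : G → ℂ) = (Nat.card N - 1) * m) (P : Subgroup G) (hNP : N ≤ P)
    (hP : Nat.card P = Nat.card N * m ^ 2) [Fintype (N.subgroupOf P)] (θ : Cfsg.IrrCharacter P)
    (hθ : Cfsg.charDegree (θ : P → ℂ) ^ 2 < (N.subgroupOf P).index)
    (hsum : ∑ n : N.subgroupOf P, (θ : P → ℂ) n = 0) : False := by
  classical
  haveI := Fintype.ofFinite P
  set d := Cfsg.charDegree (θ : P → ℂ)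
  have hcard : Nat.card (N.subgroupOf P) = Nat.card N :=
    Nat.card_congr (Subgroup.subgroupOfEquivOfLe hNP).toEquiv
  have hidx : (N.subgroupOf P).index = m ^ 2 := by
    have := (N.subgroupOf P).card_mul_index
    rw [hcard, hP] at this
    exact Nat.eq_of_mul_eq_mul_left Nat.card_pos this
  obtain ⟨e, he⟩ := IsCharacter.exists_classInner_nat
    (IsCharacter.restrict (IsIrrCharacter.isCharacter χ.2) P) (IsIrrCharacter.isCharacter θ.2)
  rw [Cfsg.classInner, inv_mul_eq_iff_eq_mul₀ (Nat.cast_ne_zero.2 Nat.card_pos.ne')] at he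
  rw [← Finset.sum_subset (Finset.subset_univ (Finset.univ.filter fun k : P => k ∈ N.subgroupOf P))
    (fun k _ hk => by
      have : (χ : G → ℂ) k = 0 := by_contra fun h =>
        hk (Finset.mem_filter.2 ⟨Finset.mem_univ _, Subgroup.mem_subgroupOf.2 ((hsupp _).2 h)⟩)
      simp [this]),
    ← Finset.sum_subtype_eq_sum_filter, Finset.subtype_univ,
    ← Finset.add_sum_erase _ _ (Finset.mem_univ (1 : N.subgroupOf P))] at he
  rw [Finset.sum_congr rfl (fun (x : N.subgroupOf P) hx => by
    rw [hval _ (Subgroup.mem_subgroupOf.1 x.2) (fun h => (Finset.mem_erase.1 hx).1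
      (Subtype.ext (Subtype.ext h)))]), ← Finset.mul_sum] at he
  rw [← Finset.add_sum_erase _ _ (Finset.mem_univ (1 : N.subgroupOf P))] at hsum
  have hsum' := congrArg conj hsum
  rw [map_zero, map_add, map_sum] at hsum'
  simp only [OneMemClass.coe_one, irr_deg, map_natCast, hdeg] at he hsum'
  rw [eq_neg_of_add_eq_zero_right hsum'] at he
  have hN1 : 1 ≤ Nat.card N := Nat.card_pos
  rw [hP] at he
  push_cast [Nat.cast_sub hN1] at he
  have hnat : Nat.card N * (m * d) = Nat.card N * (m * (m * e)) := by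
    apply Nat.cast_injective (R := ℂ)
    push_cast
    linear_combination he
  have hm : 0 < m := Nat.pos_of_ne_zero fun h => by rw [hidx, h] at hθ; simp at hθ
  have hde := Nat.eq_of_mul_eq_mul_left hm (Nat.eq_of_mul_eq_mul_left Nat.card_pos hnat)
  rcases Nat.eq_zero_or_pos e with h | h
  · rw [h, mul_zero] at hde; exact (irr_deg_pos θ).ne' hde
  · rw [hidx, hde, mul_pow] at hθ
    have : 1 ≤ e ^ 2 := Nat.one_le_pow _ _ h
    nlinarith

/-- An elementary abelian 2-group: the fixed points of an involutory automorphism inverting a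
fixed-point-free automorphism of odd order are norms. -/
theorem exists_norm_of_inverted {A : Type u} [CommGroup A] (h2 : ∀ v : A, v * v = 1)
    (τ a : A ≃* A) (hta : ∀ v, τ (a v) = a.symm (τ v)) {r : ℕ} (hr : Odd r)
    (har : ∀ v, (⇑a)^[r] v = v) (hfix : ∀ v, a v = v → v = 1) {v : A} (hv : τ v = v) :
    ∃ w, v = w * τ w := by
  obtain ⟨k, rfl⟩ := hr
  have hs : ∀ i, ∀ j, i ≤ j → (⇑a.symm)^[i] ((⇑a)^[j] v) = (⇑a)^[j - i] v := by
    intro i
    induction i with
    | zero => intro j _; rfl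
    | succ i ih =>
      intro j hj
      rw [Function.iterate_succ_apply']
      rw [ih j (by omega), show j - i = (j - (i + 1)) + 1 by omega, Function.iterate_succ_apply',
        MulEquiv.symm_apply_apply]
  have hτ : ∀ i, τ ((⇑a)^[i] v) = (⇑a.symm)^[i] v := by
    intro i
    induction i with
    | zero => exact hv
    | succ i ih => rw [Function.iterate_succ_apply', hta, ih]; exact (Function.iterate_succ_apply' (⇑a.symm) i v).symm
  have hinv : ∀ i ≤ 2 * k + 1, τ ((⇑a)^[i] v) = (⇑a)^[2 * k + 1 - i] v := fun i hi => by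
    rw [hτ, ← hs i _ hi, har]
  set f : ℕ → A := fun i => (⇑a)^[i] v with hf
  have hall : ∏ i ∈ Finset.range (2 * k + 1), f i = 1 := by
    refine hfix _ ?_
    rw [map_prod]
    have h1 := Finset.prod_range_succ' f (2 * k + 1)
    have h2' := Finset.prod_range_succ f (2 * k + 1)
    rw [h2', show f (2 * k + 1) = f 0 from har v] at h1
    refine Eq.trans (Finset.prod_congr rfl fun i _ => ?_) (mul_right_cancel h1).symm
    exact (Function.iterate_succ_apply' (⇑a) i v).symm
  refine ⟨∏ i ∈ Finset.range k, f (i + 1), ?_⟩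
  have hτw : τ (∏ i ∈ Finset.range k, f (i + 1)) = ∏ i ∈ Finset.range k, f (k + 1 + i) := by
    rw [map_prod, ← Finset.prod_range_reflect (fun i => f (k + 1 + i)) k]
    refine Finset.prod_congr rfl fun i hi => ?_
    rw [Finset.mem_range] at hi
    show τ ((⇑a)^[i + 1] v) = (⇑a)^[k + 1 + (k - 1 - i)] v
    rw [hinv (i + 1) (by omega)]
    congr 1
    omega
  rw [hτw, show 2 * k + 1 = (k + 1) + k by omega, Finset.prod_range_add, Finset.prod_range_succ',
    show f 0 = v from rfl] at *
  rw [mul_comm _ v, mul_assoc] at hall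
  have := mul_left_cancel ((h2 v).trans hall.symm)
  exact this

/-- The conclusion of the numerology: `m = 1` when the support is the whole core. -/
theorem m_eq_one (χ : Cfsg.IrrCharacter G) (N : Subgroup G) [N.Normal] (hN : N ≠ ⊥)
    (hsupp : ∀ g, g ∈ N ↔ (χ : G → ℂ) g ≠ 0)
    (hrel : ∀ x ∈ N, x ≠ 1 → ((Nat.card N : ℂ) - 1) * (χ : G → ℂ) x = -(χ : G → ℂ) 1)
    (htrans : ∀ a ∈ N, ∀ b ∈ N, a ≠ 1 → b ≠ 1 → IsConj a b)
    (p : ℕ) [hp : Fact p.Prime] (hel : Cfsg.IsElementaryAbelian p N)
    (hcore : ∀ K : Subgroup G, K.Normal → IsPGroup p K → K ≤ N) {m : ℕ}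
    (hG : Nat.card G = Nat.card N * (Nat.card N - 1) * m ^ 2)
    (hdeg : Cfsg.charDegree (χ : G → ℂ) = (Nat.card N - 1) * m) {a : ℕ} (hma : m = p ^ a) :
    m = 1 := by
  classical
  haveI := hel.1
  have hcomm : ∀ x ∈ N, ∀ y ∈ N, x * y = y * x := fun x hx y hy =>
    congrArg Subtype.val (mul_comm' (⟨x, hx⟩ : N) ⟨y, hy⟩)
  have hpow : ∀ x ∈ N, x ^ p = 1 := hel.2
  have hNp : IsPGroup p N := fun x => ⟨1, Subtype.ext (by simpa using hpow x x.2)⟩
  obtain ⟨b, hb⟩ := (IsPGroup.iff_card).1 hNp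
  have hq2 : 1 < Nat.card N := (Subgroup.one_lt_card_iff_ne_bot N).2 hN
  have hb0 : 0 < b := Nat.pos_of_ne_zero fun h => by
    rw [hb, h, pow_zero] at hq2; exact lt_irrefl _ hq2
  have hq1 : ¬ p ∣ Nat.card N - 1 := fun h => by
    have := Nat.dvd_sub (hb ▸ dvd_pow_self p hb0.ne' : p ∣ Nat.card N) h
    rw [show Nat.card N - (Nat.card N - 1) = 1 by omega] at this
    exact hp.out.not_dvd_one this
  have hq1c : ((Nat.card N - 1 : ℕ) : ℂ) = (Nat.card N : ℂ) - 1 := by
    rw [Nat.cast_sub hq2.le, Nat.cast_one]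
  have hval : ∀ x ∈ N, x ≠ 1 → (χ : G → ℂ) x = -(m : ℂ) := fun x hx hx1 => by
    have := hrel x hx hx1
    rw [irr_deg, hdeg, Nat.cast_mul, hq1c] at this
    refine mul_left_cancel₀ (a := (Nat.card N : ℂ) - 1) (by rw [← hq1c, Nat.cast_ne_zero]; omega) ?_
    linear_combination this
  -- centralisers of non-identity elements of `N` are `p`-groups
  have hCp : ∀ x ∈ N, x ≠ 1 → IsPGroup p (Subgroup.centralizer ({x} : Set G)) := by
    intro x hx hx1
    refine IsPGroup.of_card (n := b + a * 2) ?_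
    have h := (Subgroup.centralizer ({x} : Set G)).index_mul_card
    rw [card_centralizer_mem N x hx hx1 htrans, hG, hma, ← pow_mul, mul_comm (Nat.card N),
      mul_assoc] at h
    rw [Nat.eq_of_mul_eq_mul_left (by omega) h, hb, pow_add]
  have hfree : ∀ y : G, ¬ p ∣ orderOf y → y ≠ 1 → ∀ x ∈ N, y * x = x * y → x = 1 := by
    intro y hy hy1 x hx hyx
    by_contra hx1
    obtain ⟨k, hk⟩ := (hCp x hx hx1) ⟨y, Subgroup.mem_centralizer_singleton_iff.2 hyx⟩
    have hk' : y ^ p ^ k = 1 := congrArg Subtype.val hk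
    obtain ⟨j, -, hj⟩ := (Nat.dvd_prime_pow hp.out).1 (orderOf_dvd_of_pow_eq_one hk')
    rcases Nat.eq_zero_or_pos j with h | h
    · rw [h, pow_zero, orderOf_eq_one_iff] at hj; exact hy1 hj
    · exact hy (hj ▸ dvd_pow_self p h.ne')
  obtain ⟨⟨c, hc⟩, hc1⟩ := N.ne_bot_iff_exists_ne_one.1 hN
  have hc1' : c ≠ 1 := fun h => hc1 (Subtype.ext h)
  have hCN : ∀ g : G, (∀ x ∈ N, g * x = x * g) → g ∈ N := by
    intro g hg
    haveI : (Subgroup.centralizer (N : Set G)).Normal := inferInstance
    refine hcore (Subgroup.centralizer (N : Set G)) inferInstance ((hCp c hc hc1').to_le ?_)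
      (Subgroup.mem_centralizer_iff.2 fun x hx => (hg x hx).symm)
    exact Subgroup.centralizer_le (Set.singleton_subset_iff.2 hc)
  by_contra hm1
  have ha : 0 < a := Nat.pos_of_ne_zero fun h => hm1 (by rw [hma, h, pow_zero])
  let S : Sylow p G := default
  have hNS : N ≤ (S : Subgroup G) := hNp.le_sylow_of_normal S
  have hScard : Nat.card (S : Subgroup G) = Nat.card N * m ^ 2 := by
    rw [S.card_eq_multiplicity, hG, Nat.factorization_mul (mul_ne_zero (by omega) (by omega))
      (pow_ne_zero 2 (hma ▸ pow_ne_zero a hp.out.ne_zero)),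
      Nat.factorization_mul (by omega) (by omega), hma, hb, ← pow_mul, hp.out.factorization_pow,
      hp.out.factorization_pow, ← pow_add]
    congr 1
    rw [Finsupp.add_apply, Finsupp.add_apply, Nat.factorization_eq_zero_of_not_dvd (hb ▸ hq1),
      Finsupp.single_eq_same, Finsupp.single_eq_same, add_zero]
  have hSlt : N < (S : Subgroup G) := by
    refine lt_of_le_of_ne hNS fun h => ?_
    have := hScard
    rw [← h] at this
    have h2 : 1 < m ^ 2 := Nat.one_lt_pow two_ne_zero (by
      have := Nat.one_lt_pow ha.ne' hp.out.one_lt; omega)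
    nlinarith
  -- an element of `S` outside `N` centralised by a supplement of `N`
  suffices hex : ∃ t : G, t ∈ (S : Subgroup G) ∧ t ∉ N ∧
      ∀ k ∈ (S : Subgroup G), ∃ n ∈ N, Commute (n * k) t by
    obtain ⟨t, htS, htN, hk⟩ := hex
    haveI : Group.IsNilpotent (S : Subgroup G) := S.isPGroup'.isNilpotent
    haveI := Fintype.ofFinite (N.subgroupOf (S : Subgroup G))
    have hne : N.subgroupOf (S : Subgroup G) ≠ ⊥ := by
      intro h
      have hmem : (⟨c, hNS hc⟩ : (S : Subgroup G)) ∈ N.subgroupOf (S : Subgroup G) :=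
        Subgroup.mem_subgroupOf.2 hc
      rw [h, Subgroup.mem_bot] at hmem
      exact hc1' (congrArg Subtype.val hmem)
    obtain ⟨θ, hθ, hsum⟩ := exists_small_irr (N.subgroupOf (S : Subgroup G)) hne
      ⟨t, htS⟩ (fun h => htN (Subgroup.mem_subgroupOf.1 h)) (fun k => by
        obtain ⟨n, hn, h⟩ := hk k k.2
        exact ⟨⟨n, hNS hn⟩, Subgroup.mem_subgroupOf.2 hn, Subtype.ext h.eq⟩)
    exact false_of_small_irr χ N hsupp hval hdeg _ hNS hScard θ hθ hsum
  by_cases hp2 : p = 2
  · subst hp2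
    have h2 : ∀ x ∈ N, x * x = 1 := fun x hx => by rw [← sq]; exact hpow x hx
    haveI : Nontrivial ((S : Subgroup G).map (QuotientGroup.mk' N)) :=
      (Subgroup.nontrivial_iff_ne_bot _).2 fun h => hSlt.not_ge (by
        intro x hx
        exact (QuotientGroup.eq_one_iff x).1 (Subgroup.mem_bot.1 (h ▸ Subgroup.mem_map_of_mem _ hx)))
    have hbar : IsPGroup 2 ((S : Subgroup G).map (QuotientGroup.mk' N)) := S.isPGroup'.map _
    haveI := hbar.center_nontrivial
    obtain ⟨n, hn, hcard⟩ := hbar.to_subgroup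
      (Subgroup.center ((S : Subgroup G).map (QuotientGroup.mk' N)))
      |> fun h => IsPGroup.nontrivial_iff_card h |>.1 inferInstance
    obtain ⟨zc, hzc⟩ := exists_prime_orderOf_dvd_card'
      (G := Subgroup.center ((S : Subgroup G).map (QuotientGroup.mk' N))) 2
      (hcard ▸ dvd_pow_self 2 hn.ne')
    obtain ⟨t₀, ht₀S, ht₀⟩ := zc.1.2
    have hord : orderOf (QuotientGroup.mk' N t₀) = 2 := by
      rw [ht₀, Subgroup.orderOf_coe, Subgroup.orderOf_coe, hzc]
    obtain ⟨h', hh1, hhodd, hhinv⟩ := Cfsg.Agent.S0200.result (QuotientGroup.mk' N t₀) hord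
      (fun L hL hLp hmem => by
        haveI := hL
        have hp' : IsPGroup 2 (L.comap (QuotientGroup.mk' N)) :=
          hLp.comap_of_ker_isPGroup _ (by rw [QuotientGroup.ker_mk']; exact hNp)
        have hle := hcore _ inferInstance hp'
        have h1 : QuotientGroup.mk' N t₀ = 1 := (QuotientGroup.eq_one_iff t₀).2 (hle hmem)
        rw [h1, orderOf_one] at hord
        norm_num at hord)
    obtain ⟨y₀, rfl⟩ := QuotientGroup.mk'_surjective N h'
    -- a lift of odd order
    obtain ⟨i, r, hr, hir⟩ := Nat.exists_eq_two_pow_mul_odd (orderOf_pos y₀).ne'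
    set y := y₀ ^ 2 ^ i with hy
    have hyr : y ^ r = 1 := by rw [hy, ← pow_mul, ← hir, pow_orderOf_eq_one]
    have hyodd : ¬ 2 ∣ orderOf y := fun h =>
      (Nat.not_even_iff_odd.2 hr) (even_iff_two_dvd.2 (h.trans (orderOf_dvd_of_pow_eq_one hyr)))
    have hy1 : QuotientGroup.mk' N y ≠ 1 := fun h => by
      rw [hy, map_pow] at h
      obtain ⟨j, -, hj⟩ := (Nat.dvd_prime_pow Nat.prime_two).1 (orderOf_dvd_of_pow_eq_one h)
      rcases Nat.eq_zero_or_pos j with h0 | h0
      · rw [h0, pow_zero, orderOf_eq_one_iff] at hj; exact hh1 hj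
      · exact (Nat.not_even_iff_odd.2 hhodd) (even_iff_two_dvd.2 (hj ▸ dvd_pow_self 2 h0.ne'))
    have hyne : y ≠ 1 := fun h => hy1 (by rw [h, map_one])
    have hinv : t₀ * y * t₀⁻¹ * y ∈ N := by
      rw [← QuotientGroup.eq_one_iff (N := N)]
      show QuotientGroup.mk' N (t₀ * y * t₀⁻¹ * y) = 1
      rw [hy, map_mul, map_mul, map_mul, map_inv, map_pow, ← conj_pow,
        hhinv, inv_pow, inv_mul_cancel]
    -- fixed points are norms
    letI : CommGroup N := { (inferInstance : Group N) with mul_comm := fun x y => mul_comm' x y }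
    have hnorm : ∀ v ∈ N, t₀ * v * t₀⁻¹ = v → ∃ w ∈ N, v = w * (t₀ * w * t₀⁻¹) := by
      intro v hv hfixv
      obtain ⟨w, hw⟩ := exists_norm_of_inverted (A := N) (fun x => Subtype.ext (h2 x x.2))
        (MulAut.conjNormal t₀) (MulAut.conjNormal y) (fun x => Subtype.ext (by
          show ((MulAut.conjNormal t₀ (MulAut.conjNormal y x) : N) : G) =
            (((MulAut.conjNormal y : MulAut N)⁻¹ (MulAut.conjNormal t₀ x) : N) : G)
          rw [← map_inv]
          simp only [MulAut.conjNormal_apply, inv_inv]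
          have h := hcomm _ hinv _ (Subgroup.Normal.conj_mem inferInstance (x : G) x.2 t₀ :
            t₀ * x * t₀⁻¹ ∈ N)
          calc t₀ * (y * x * y⁻¹) * t₀⁻¹ = y⁻¹ * y *
                ((t₀ * y * t₀⁻¹ * y) * (y⁻¹ * (t₀ * x * t₀⁻¹) * y) * (t₀ * y * t₀⁻¹ * y)⁻¹) := by
                group
            _ = y⁻¹ * (t₀ * x * t₀⁻¹) * y := by
                rw [hcomm _ hinv _ (Subgroup.Normal.conj_mem' inferInstance _
                  (Subgroup.Normal.conj_mem inferInstance (x : G) x.2 t₀) y)]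
                group))
        hr (fun x => by
          have h : ∀ i : ℕ, (⇑(MulAut.conjNormal y : MulAut N))^[i] x =
              (MulAut.conjNormal (y ^ i) : MulAut N) x := by
            intro i
            induction i with
            | zero => simp
            | succ i ih => rw [Function.iterate_succ_apply', ih, pow_succ', map_mul, MulAut.mul_apply]
          rw [h r, hyr, map_one, MulAut.one_apply])
        (fun x hx => Subtype.ext (hfree y hyodd hyne x x.2 (by
          have h := congrArg Subtype.val hx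
          rw [MulAut.conjNormal_apply] at h
          calc y * x = y * x * y⁻¹ * y := by group
            _ = x * y := by rw [h])))
        (v := ⟨v, hv⟩) (Subtype.ext (by rw [MulAut.conjNormal_apply]; exact hfixv))
      exact ⟨w, w.2, by simpa using congrArg Subtype.val hw⟩
    have hsq : t₀ * t₀ ∈ N := by
      rw [← QuotientGroup.eq_one_iff (N := N)]
      show QuotientGroup.mk' N (t₀ * t₀) = 1
      rw [map_mul, ← sq, ← hord, pow_orderOf_eq_one]
    obtain ⟨w, hw, hwe⟩ := hnorm _ hsq (by group)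
    set t := w * t₀ with htdef
    have htt : t * t = 1 := by
      calc t * t = (w * (t₀ * w * t₀⁻¹)) * (t₀ * t₀) := by rw [htdef]; group
        _ = 1 := by rw [← hwe]; exact h2 _ hsq
    have htN : t ∉ N := fun h => by
      have h' : t₀ ∈ N := by
        have := N.mul_mem (N.inv_mem hw) h
        rwa [htdef, inv_mul_cancel_left] at this
      have h1 : QuotientGroup.mk' N t₀ = 1 := (QuotientGroup.eq_one_iff t₀).2 h'
      rw [h1, orderOf_one] at hord
      norm_num at hord
    refine ⟨t, mul_mem (hNS hw) ht₀S, htN, fun k hk => ?_⟩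
    have htinv : t⁻¹ = t := inv_eq_of_mul_eq_one_right htt
    have hu : k * t * k⁻¹ * t⁻¹ ∈ N := by
      rw [← QuotientGroup.eq_one_iff (N := N)]
      show QuotientGroup.mk' N (k * t * k⁻¹ * t⁻¹) = 1
      have hw1 : QuotientGroup.mk' N t = QuotientGroup.mk' N t₀ := by
        rw [htdef, map_mul, show QuotientGroup.mk' N w = 1 from (QuotientGroup.eq_one_iff w).2 hw,
          one_mul]
      have hcen := Subgroup.mem_center_iff.1 zc.2 ⟨_, Subgroup.mem_map_of_mem _ hk⟩
      have hcen' := congrArg Subtype.val hcen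
      simp only [Subgroup.coe_mul, ← ht₀] at hcen'
      rw [map_mul, map_mul, map_mul, map_inv, map_inv, hw1, hcen', mul_inv_cancel_right,
        mul_inv_cancel]
    set u := k * t * k⁻¹ * t⁻¹ with hudef
    have hufix : t * u * t⁻¹ = u := by
      have h1 : u * (t * u * t⁻¹) = 1 := by
        have : k * t * k⁻¹ = u * t := by rw [hudef]; group
        calc u * (t * u * t⁻¹) = (u * t) * (u * t) * (t * t)⁻¹ := by group
          _ = (k * t * k⁻¹) * (k * t * k⁻¹) := by rw [this, htt, inv_one, mul_one]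
          _ = k * (t * t) * k⁻¹ := by group
          _ = 1 := by rw [htt, mul_one, mul_inv_cancel]
      exact mul_left_cancel (h1.trans (h2 u hu).symm)
    have hconj : ∀ x ∈ N, t * x * t⁻¹ = t₀ * x * t₀⁻¹ := fun x hx => by
      have hx' : t₀ * x * t₀⁻¹ ∈ N := Subgroup.Normal.conj_mem inferInstance x hx t₀
      calc t * x * t⁻¹ = w * (t₀ * x * t₀⁻¹) * w⁻¹ := by rw [htdef]; group
        _ = t₀ * x * t₀⁻¹ := by rw [hcomm w hw _ hx', mul_inv_cancel_right]
    obtain ⟨v, hv, hve⟩ := hnorm u hu (by rw [← hconj u hu]; exact hufix)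
    refine ⟨v⁻¹, N.inv_mem hv, ?_⟩
    show v⁻¹ * k * t = t * (v⁻¹ * k)
    have hvv : v⁻¹ = v := inv_eq_of_mul_eq_one_right (h2 v hv)
    have hkt : k * t = v * t * v⁻¹ * k := by
      calc k * t = u * t * k := by rw [hudef]; group
        _ = v * (t * v * t⁻¹) * t * k := by rw [hve, hconj v hv]
        _ = v * t * v⁻¹ * k := by rw [hvv]; group
    calc v⁻¹ * k * t = v⁻¹ * (k * t) := by group
      _ = v⁻¹ * (v * t * v⁻¹ * k) := by rw [hkt]
      _ = t * (v⁻¹ * k) := by group
  · -- `p` odd: a central involution modulo `N`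
    have hoddp : Odd p := hp.out.odd_of_ne_two hp2
    have heven : 2 ∣ Nat.card G := by
      have : Odd (Nat.card N) := hb ▸ hoddp.pow
      obtain ⟨i, hi⟩ := this
      rw [hG, show Nat.card N - 1 = 2 * i by omega]
      exact ⟨Nat.card N * i * m ^ 2, by ring⟩
    obtain ⟨z, hz⟩ := exists_prime_orderOf_dvd_card' (G := G) 2 heven
    have hz1 : z ≠ 1 := fun h => by rw [h, orderOf_one] at hz; norm_num at hz
    have hzz : z * z = 1 := Invol.mul_self hz
    have hzp : ¬ p ∣ orderOf z := by
      rw [hz]; exact fun h => hp2 ((Nat.prime_dvd_prime_iff_eq hp.out Nat.prime_two).1 h)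
    have hinv : ∀ x ∈ N, z * x * z⁻¹ = x⁻¹ := by
      intro x hx
      have hx' : z * x * z⁻¹ ∈ N := Subgroup.Normal.conj_mem inferInstance x hx z
      have := hfree z hzp hz1 _ (N.mul_mem hx hx') (by
        calc z * (x * (z * x * z⁻¹)) = (z * x * z⁻¹) * ((z * z) * x * z⁻¹) := by group
          _ = (z * x * z⁻¹) * x * z⁻¹ := by rw [hzz, one_mul]; group
          _ = x * (z * x * z⁻¹) * z⁻¹ := by rw [hcomm _ hx' _ hx]
          _ = x * (z * x * z⁻¹) * z := by rw [Invol.inv_self hz])
      exact eq_inv_of_mul_eq_one_right this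
    have hu : ∀ g : G, g * z * g⁻¹ * z⁻¹ ∈ N := by
      intro g
      refine hCN _ fun x hx => ?_
      have hx' : z⁻¹ * x * z = x⁻¹ := by
        rw [Invol.inv_self hz]
        nth_rw 2 [← Invol.inv_self hz]
        exact hinv x hx
      have hg' : g⁻¹ * x⁻¹ * g ∈ N := Subgroup.Normal.conj_mem' inferInstance _ (N.inv_mem hx) g
      calc g * z * g⁻¹ * z⁻¹ * x = g * z * g⁻¹ * (z⁻¹ * x * z) * z⁻¹ := by group
        _ = g * (z * (g⁻¹ * x⁻¹ * g) * z⁻¹) * z * g⁻¹ * z⁻¹ := by rw [hx']; group
        _ = g * (g⁻¹ * x⁻¹ * g)⁻¹ * z * g⁻¹ * z⁻¹ := by rw [hinv _ hg']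
        _ = x * (g * z * g⁻¹ * z⁻¹) := by group
    obtain ⟨i, hi⟩ := hoddp
    have hsupp' : ∀ g : G, ∃ n ∈ N, Commute (n * g) z := by
      intro g
      set u := g * z * g⁻¹ * z⁻¹ with hudef
      refine ⟨(u ^ (i + 1))⁻¹, N.inv_mem (N.pow_mem (hu g) _), ?_⟩
      set w := u ^ (i + 1) with hwdef
      have hw : w ∈ N := N.pow_mem (hu g) _
      have hww : w * w = u := by
        rw [hwdef, ← pow_add, show i + 1 + (i + 1) = p + 1 by omega, pow_succ, hpow u (hu g),
          one_mul]
      have hgz : g * z = w * z * w⁻¹ * g := by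
        calc g * z = u * z * g := by rw [hudef]; group
          _ = w * (z * (w⁻¹) * z⁻¹) * z * g := by rw [hinv _ (N.inv_mem hw), inv_inv, hww]
          _ = w * z * w⁻¹ * g := by group
      show w⁻¹ * g * z = z * (w⁻¹ * g)
      rw [mul_assoc, hgz]; group
    set R := Subgroup.centralizer ({z} : Set G) ⊓ (S : Subgroup G) with hR
    have hRp : IsPGroup p R := S.isPGroup'.to_le inf_le_right
    haveI : Nontrivial R := by
      refine (Subgroup.nontrivial_iff_ne_bot _).2 fun h => hSlt.not_ge fun k hk => ?_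
      obtain ⟨n, hn, hcomm'⟩ := hsupp' k
      have : n * k ∈ R := ⟨Subgroup.mem_centralizer_singleton_iff.2 hcomm'.eq, mul_mem (hNS hn) hk⟩
      rw [h, Subgroup.mem_bot] at this
      rw [eq_inv_of_mul_eq_one_right this]
      exact N.inv_mem hn
    haveI := hRp.center_nontrivial
    obtain ⟨t, ht1⟩ := exists_ne (1 : Subgroup.center R)
    refine ⟨((t : R) : G), (t : R).2.2, fun htN => ?_, fun k hk => ?_⟩
    · refine ht1 (Subtype.ext (Subtype.ext ?_))
      exact hfree z hzp hz1 _ htN (Subgroup.mem_centralizer_singleton_iff.1 (t : R).2.1).symm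
    · obtain ⟨n, hn, hcomm'⟩ := hsupp' k
      exact ⟨n, hn, congrArg Subtype.val (Subgroup.mem_center_iff.1 t.2
        ⟨n * k, Subgroup.mem_centralizer_singleton_iff.2 hcomm'.eq, mul_mem (hNS hn) hk⟩)⟩

end Cfsg.Agent.TwoClasses
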