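import Cfsg.Agent.Lib.Char.PermChar
import Mathlib.GroupTheory.GroupAction.MultipleTransitivity

/-!
# Counting orbits on pairs
-/

set_option linter.style.haveILetI false
set_option linter.unusedSectionVars false

namespace Cfsg.Agent.Char

universe u v

variable {G : Type u} [Group G]

/-- Burnside's lemma with `Nat.card`. -/
theorem sum_natCard_fixedBy [Fintype G] (X : Type v) [MulAction G X] [Finite X] :
    ∑ g : G, Nat.card (MulAction.fixedBy X g) =
      Nat.card (Quotient (MulAction.orbitRel G X)) * Nat.card G := by
  classical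
  haveI : Fintype X := Fintype.ofFinite X
  haveI : Fintype (Quotient (MulAction.orbitRel G X)) := Fintype.ofFinite _
  simp only [Nat.card_eq_fintype_card]
  exact MulAction.sum_card_fixedBy_eq_card_orbits_mul_card_group G X

/-- Two orbits when an invariant two-valued function separates them. -/
theorem card_orbits_eq_two [Finite G] {X : Type v} [MulAction G X] [Finite X] (P : X → Prop)
    (hinv : ∀ (g : G) x, P (g • x) ↔ P x) {a b : X} (ha : P a) (hb : ¬ P b) :
    Nat.card (Quotient (MulAction.orbitRel G X)) = 2 ↔
      ∀ x y : X, (P x ↔ P y) → ∃ g : G, g • x = y := by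
  classical
  let f : Quotient (MulAction.orbitRel G X) → Bool :=
    Quotient.lift (fun x => decide (P x)) (fun x y h => by
      obtain ⟨g, rfl⟩ := (MulAction.orbitRel_apply.mp h : x ∈ MulAction.orbit G y)
      simp [hinv])
  have hf : Function.Surjective f := fun c => by
    cases c
    · exact ⟨Quotient.mk _ b, by simp [f, hb]⟩
    · exact ⟨Quotient.mk _ a, by simp [f, ha]⟩
  constructor
  · intro h x y hxy
    have hbij := (Nat.bijective_iff_surjective_and_card f).mpr ⟨hf, by simp [h]⟩
    have e : Quotient.mk (MulAction.orbitRel G X) y = Quotient.mk _ x :=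
      hbij.1 (by simp [f, hxy])
    exact MulAction.orbitRel_apply.mp (Quotient.exact e)
  · intro h
    rw [Nat.card_eq_of_bijective f ⟨?_, hf⟩]
    · simp
    rintro ⟨x⟩ ⟨y⟩ e
    have hxy : P x ↔ P y := by simpa [f] using e
    obtain ⟨g, rfl⟩ := h x y hxy
    exact (Quotient.sound (MulAction.orbitRel_apply.mpr (MulAction.mem_orbit x g))).symm

end Cfsg.Agent.Char
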