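import Cfsg.Agent.Lib.Solvable.Coprime
import Mathlib.GroupTheory.SchurZassenhaus
import Mathlib.LinearAlgebra.Matrix.ToLin
import Mathlib.LinearAlgebra.Matrix.GeneralLinearGroup.Defs
import Mathlib.Algebra.Module.ZMod
import Mathlib.RingTheory.Nilpotent.Basic
import Mathlib.LinearAlgebra.Dimension.Finrank
import Mathlib.FieldTheory.Finiteness
import Mathlib.Algebra.Field.ZMod
import Mathlib.GroupTheory.Solvable

/-!
# Orders of fixed points of coprime actions: relations among subgroups give relations among orders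
-/

set_option linter.style.haveILetI false
set_option linter.unusedSectionVars false
set_option maxHeartbeats 1000000

namespace Cfsg.Agent.Char.Wielandt

universe u v w

variable {p : ℕ} [hp : Fact p.Prime]

/-- The reduction of matrices from `ZMod (p ^ k)` to `ZMod p`. -/
noncomputable def red (p k n : ℕ) :
    Matrix (Fin n) (Fin n) (ZMod (p ^ (k + 1))) →+* Matrix (Fin n) (Fin n) (ZMod p) :=
  (ZMod.castHom (dvd_pow_self p (Nat.succ_ne_zero k)) (ZMod p)).mapMatrix

theorem exists_red (k n : ℕ) (M : Matrix (Fin n) (Fin n) (ZMod p)) :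
    ∃ M', red p k n M' = M := by
  refine ⟨M.map fun x => (x.val : ZMod (p ^ (k + 1))), ?_⟩
  ext i j
  simp [red, RingHom.mapMatrix_apply]

theorem red_nilpotent (k n : ℕ) {M : Matrix (Fin n) (Fin n) (ZMod (p ^ (k + 1)))}
    (h : red p k n M = 0) : IsNilpotent M := by
  haveI : NeZero (p ^ (k + 1)) := ⟨pow_ne_zero _ hp.out.ne_zero⟩
  have hdvd : ∀ i j, p ∣ (M i j).val := fun i j => by
    have h1 := congrFun (congrFun h i) j
    simp only [red, RingHom.mapMatrix_apply, Matrix.map_apply, Matrix.zero_apply] at h1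
    rw [ZMod.castHom_apply, ZMod.cast_eq_val] at h1
    exact (ZMod.natCast_eq_zero_iff _ _).mp h1
  choose q hq using hdvd
  have hM : M = (p : ZMod (p ^ (k + 1))) • Matrix.of fun i j => (q i j : ZMod (p ^ (k + 1))) := by
    ext i j
    rw [Matrix.smul_apply, Matrix.of_apply, smul_eq_mul, ← Nat.cast_mul, ← hq, ZMod.natCast_zmod_val]
  refine ⟨k + 1, ?_⟩
  rw [hM, smul_pow, ← Nat.cast_pow, ZMod.natCast_self, zero_smul]

theorem isUnit_of_red_one (k n : ℕ) {M : Matrix (Fin n) (Fin n) (ZMod (p ^ (k + 1)))}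
    (h : red p k n M = 1) : IsUnit M := by
  have := (red_nilpotent k n (M := M - 1) (by rw [map_sub, h, map_one, sub_self])).isUnit_one_add
  rwa [add_sub_cancel] at this

/-- A representation of a group of order prime to `p` lifts. -/
theorem exists_lift {G : Type u} [Group G] [Finite G] (hG : ¬ p ∣ Nat.card G) (k n : ℕ)
    (ρ : G →* (Matrix (Fin n) (Fin n) (ZMod p))ˣ) :
    ∃ ρ' : G →* (Matrix (Fin n) (Fin n) (ZMod (p ^ (k + 1))))ˣ,
      ∀ g, Units.map (red p k n).toMonoidHom (ρ' g) = ρ g := by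
  classical
  haveI : NeZero (p ^ (k + 1)) := ⟨pow_ne_zero _ hp.out.ne_zero⟩
  let f := Units.map (red p k n).toMonoidHom
  let P := ρ.range.comap f
  have hsurj : Function.Surjective f := by
    intro v
    obtain ⟨A, hA⟩ := exists_red k n (v : Matrix (Fin n) (Fin n) (ZMod p))
    obtain ⟨B, hB⟩ := exists_red k n ((v⁻¹ : _ˣ) : Matrix (Fin n) (Fin n) (ZMod p))
    have h1 : IsUnit (A * B) := isUnit_of_red_one k n (by rw [map_mul, hA, hB, Units.mul_inv])
    have h2 : IsUnit A := by
      obtain ⟨w, hw⟩ := h1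
      refine IsUnit.of_mul_eq_one (B * ((w⁻¹ : _ˣ) : Matrix _ _ _)) ?_
      rw [← mul_assoc, ← hw, Units.mul_inv]
    exact ⟨h2.unit, Units.ext hA⟩
  let g : P →* ρ.range := f.subgroupComap ρ.range
  have hgs : Function.Surjective g := fun y => by
    obtain ⟨x, hx⟩ := hsurj y.1
    exact ⟨⟨x, show f x ∈ ρ.range by rw [hx]; exact y.2⟩, Subtype.ext hx⟩
  have hker : IsPGroup p g.ker := by
    refine fun x => ?_
    obtain ⟨x, hx⟩ := x
    have h1 : red p k n ((x.1 : _ˣ) : Matrix _ _ _) = 1 :=
      congrArg (fun z : ρ.range => ((z.1 : (Matrix (Fin n) (Fin n) (ZMod p))ˣ) : Matrix (Fin n) (Fin n) (ZMod p)))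
        (MonoidHom.mem_ker.mp hx)
    have h0 : red p k n (((x.1 : (Matrix (Fin n) (Fin n) (ZMod (p ^ (k + 1))))ˣ) :
        Matrix (Fin n) (Fin n) (ZMod (p ^ (k + 1)))) - 1) = 0 := by
      rw [map_sub, h1, map_one, sub_self]
    obtain ⟨m, hm⟩ := red_nilpotent k n h0
    -- a power of `p` kills a unipotent element
    refine ⟨(k + 1) * m, Subtype.ext (Subtype.ext (Units.ext ?_))⟩
    simp only [Subgroup.coe_pow, Units.val_pow_eq_pow_val, Subgroup.coe_one, Units.val_one]
    set N := ((x.1 : _ˣ) : Matrix (Fin n) (Fin n) (ZMod (p ^ (k + 1)))) - 1 with hN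
    have hx' : ((x.1 : _ˣ) : Matrix (Fin n) (Fin n) (ZMod (p ^ (k + 1)))) = 1 + N := by
      rw [hN, add_sub_cancel]
    rw [hx']
    have hpN : ∃ C, N = (p : ZMod (p ^ (k + 1))) • C := by
      have hz : red p k n N = 0 := by rw [hN, map_sub, h1, map_one, sub_self]
      have hdvd : ∀ i j, p ∣ (N i j).val := fun i j => by
        have e := congrFun (congrFun hz i) j
        simp only [red, RingHom.mapMatrix_apply, Matrix.map_apply, Matrix.zero_apply] at e
        rw [ZMod.castHom_apply, ZMod.cast_eq_val] at e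
        exact (ZMod.natCast_eq_zero_iff _ _).mp e
      choose q hq using hdvd
      refine ⟨Matrix.of fun i j => (q i j : ZMod (p ^ (k + 1))), ?_⟩
      ext i j
      rw [Matrix.smul_apply, Matrix.of_apply, smul_eq_mul, ← Nat.cast_mul, ← hq, ZMod.natCast_zmod_val]
    have hstep : ∀ j : ℕ, ∃ C, (1 + N) ^ p ^ j = 1 + (p : ZMod (p ^ (k + 1))) ^ (j + 1) • C := by
      intro j
      induction j with
      | zero =>
        obtain ⟨C, hC⟩ := hpN
        exact ⟨C, by rw [pow_zero, pow_one, zero_add, pow_one, hC]⟩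
      | succ j ih =>
        obtain ⟨C, hC⟩ := ih
        rw [show p ^ (j + 1) = p ^ j * p from pow_succ p j, pow_mul, hC]
        set a := (p : ZMod (p ^ (k + 1))) with ha
        set D := a ^ (j + 1) • C with hD
        have hgeom := geom_sum_mul (1 + D) p
        have hS : ∃ E, ∑ i ∈ Finset.range p, (1 + D) ^ i = a • E := by
          have hi : ∀ i, ∃ E, (1 + D) ^ i = 1 + a • E := by
            intro i
            induction i with
            | zero => exact ⟨0, by simp⟩
            | succ i ihi =>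
              obtain ⟨E, hE⟩ := ihi
              refine ⟨E + (1 + a • E) * (a ^ j • C), ?_⟩
              rw [pow_succ (1 + D), hE, mul_add, mul_one, smul_add, add_assoc, hD,
                ← mul_smul_comm, smul_smul, ← pow_succ' a]
          choose E hE using hi
          refine ⟨(1 : Matrix _ _ _) + ∑ i ∈ Finset.range p, E i, ?_⟩
          rw [Finset.sum_congr rfl fun i _ => hE i, Finset.sum_add_distrib, Finset.sum_const,
            Finset.card_range, smul_add, Finset.smul_sum, ha, Nat.cast_smul_eq_nsmul]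
        obtain ⟨E, hE⟩ := hS
        refine ⟨E * C, ?_⟩
        rw [hE, add_sub_cancel_left] at hgeom
        rw [← sub_eq_iff_eq_add', ← hgeom, hD, smul_mul_assoc, mul_smul_comm, smul_smul,
          ← pow_succ']
    obtain ⟨C, hC⟩ := hstep ((k + 1) * m)
    rw [hC]
    rcases Nat.eq_zero_or_pos m with rfl | hm0
    · rw [pow_zero] at hm
      haveI : Subsingleton (Matrix (Fin n) (Fin n) (ZMod (p ^ (k + 1)))) :=
        subsingleton_of_zero_eq_one hm.symm
      exact Subsingleton.elim _ _
    · rw [show (p : ZMod (p ^ (k + 1))) ^ ((k + 1) * m + 1) = 0 by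
        obtain ⟨t, ht⟩ : ∃ t, (k + 1) * m + 1 = (k + 1) + t :=
          Nat.exists_eq_add_of_le (by nlinarith)
        rw [ht, pow_add (p : ZMod (p ^ (k + 1))), show (p : ZMod (p ^ (k + 1))) ^ (k + 1) = 0 by rw [← Nat.cast_pow, ZMod.natCast_self], zero_mul],
        zero_smul, add_zero]
  have hcop : Nat.Coprime (Nat.card g.ker) g.ker.index := by
    obtain ⟨a, ha⟩ := IsPGroup.iff_card.mp hker
    rw [ha, Subgroup.index_ker, MonoidHom.range_eq_top.mpr hgs, Subgroup.card_top]
    exact Nat.Coprime.pow_left a ((hp.out.coprime_iff_not_dvd).mpr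
      fun h => hG (h.trans (Subgroup.card_range_dvd ρ)))
  obtain ⟨C, hC⟩ := Subgroup.exists_right_complement'_of_coprime hcop
  let j : C →* ρ.range := g.comp C.subtype
  have hj : Function.Bijective j := by
    refine ⟨(injective_iff_map_eq_one j).mpr fun c hc => ?_, fun y => ?_⟩
    · exact Subtype.ext (Subgroup.disjoint_def.mp hC.disjoint (MonoidHom.mem_ker.mpr hc) c.2)
    · obtain ⟨x, rfl⟩ := hgs y
      obtain ⟨a, ha, c, hc, rfl⟩ := Subgroup.mem_sup_of_normal_left.mp
        (hC.sup_eq_top ▸ Subgroup.mem_top x : x ∈ g.ker ⊔ C)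
      exact ⟨⟨c, hc⟩, by rw [map_mul, MonoidHom.mem_ker.mp ha, one_mul]; rfl⟩
  refine ⟨(P.subtype.comp C.subtype).comp
    ((MulEquiv.ofBijective j hj).symm.toMonoidHom.comp ρ.rangeRestrict), fun x => ?_⟩
  exact congrArg Subtype.val ((MulEquiv.ofBijective j hj).apply_symm_apply (ρ.rangeRestrict x))

/-- The trace of a lifted idempotent is the rank. -/
theorem trace_idempotent {k n d : ℕ} {e : Matrix (Fin n) (Fin n) (ZMod (p ^ (k + 1)))}
    (he : e * e = e) (A : Matrix (Fin n) (Fin d) (ZMod p)) (B : Matrix (Fin d) (Fin n) (ZMod p))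
    (hAB : A * B = red p k n e) (hBA : B * A = 1) : Matrix.trace e = (d : ZMod (p ^ (k + 1))) := by
  set c := ZMod.castHom (dvd_pow_self p (Nat.succ_ne_zero k)) (ZMod p) with hc
  let A' : Matrix (Fin n) (Fin d) (ZMod (p ^ (k + 1))) := A.map fun x => (x.val : ZMod (p ^ (k + 1)))
  let B' : Matrix (Fin d) (Fin n) (ZMod (p ^ (k + 1))) := B.map fun x => (x.val : ZMod (p ^ (k + 1)))
  have hA : A'.map c = A := by ext i j; simp [A', hc]
  have hB : B'.map c = B := by ext i j; simp [B', hc]
  have hAB' : A * B = e.map c := hAB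
  set M := B' * e * A' with hM
  have hM1 : red p k d M = 1 := by
    show (B' * e * A').map c = 1
    rw [Matrix.map_mul, Matrix.map_mul, hA, hB, ← hAB', ← Matrix.mul_assoc, hBA, Matrix.one_mul, hBA]
  obtain ⟨u, hu⟩ := isUnit_of_red_one k d hM1
  have hu1 : red p k d ((u⁻¹ : _ˣ) : Matrix _ _ _) = 1 := by
    have h := congrArg (red p k d) (Units.inv_mul u)
    rwa [map_mul, hu, hM1, map_one, mul_one] at h
  set v := ((u⁻¹ : _ˣ) : Matrix (Fin d) (Fin d) (ZMod (p ^ (k + 1)))) with hv
  have hvM : v * M = 1 := by rw [← hu]; exact Units.inv_mul u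
  set f := e * A' * v * (B' * e) with hf
  have hef : e * f = f := by simp only [hf, ← Matrix.mul_assoc, he]
  have hfe : f * e = f := by simp only [hf, Matrix.mul_assoc, he]
  have hff : f * f = f := by
    calc f * f = e * A' * (v * (B' * (e * e) * A')) * v * (B' * e) := by
          simp only [hf, Matrix.mul_assoc]
      _ = f := by rw [he, ← hM, hvM, Matrix.mul_one]
  have hred : red p k n f = red p k n e := by
    show (e * A' * v * (B' * e)).map c = e.map c
    rw [Matrix.map_mul, Matrix.map_mul, Matrix.map_mul, Matrix.map_mul, hA, hB, ← hAB',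
      show v.map c = 1 from hu1, Matrix.mul_one, Matrix.mul_assoc A B A, hBA, Matrix.mul_one,
      ← Matrix.mul_assoc B A B, hBA, Matrix.one_mul]
  obtain ⟨m, hm⟩ := red_nilpotent k n (M := e - f) (by rw [map_sub, hred, sub_self])
  have hidem : IsIdempotentElem (e - f) := by
    show (e - f) * (e - f) = e - f
    rw [sub_mul, mul_sub, mul_sub, he, hef, hfe, hff, sub_self, sub_zero]
  have hzero : e = f := by
    rcases Nat.eq_zero_or_pos m with rfl | hm0
    · rw [pow_zero] at hm
      haveI : Subsingleton (Matrix (Fin n) (Fin n) (ZMod (p ^ (k + 1)))) :=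
        subsingleton_of_zero_eq_one hm.symm
      exact Subsingleton.elim _ _
    · obtain ⟨m', rfl⟩ := Nat.exists_eq_succ_of_ne_zero hm0.ne'
      rw [hidem.pow_succ_eq] at hm
      exact sub_eq_zero.mp hm
  rw [hzero, hf, Matrix.trace_mul_comm, ← Matrix.mul_assoc, ← Matrix.mul_assoc (B' * e) e A', Matrix.mul_assoc B' e e, he,
    ← hM, ← hu, hv, Units.mul_inv, Matrix.trace_one, Fintype.card_fin]

/-- The linear case. -/
theorem linear_formula {G : Type u} [Group G] [Finite G] (hG : ¬ p ∣ Nat.card G) {ι : Type w}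
    [Fintype ι] (S : ι → Subgroup G) (a b : ι → ℕ) [∀ i, DecidablePred (· ∈ S i)]
    (hrel : ∀ g : G, ∑ i, (if g ∈ S i then a i else 0) = ∑ i, (if g ∈ S i then b i else 0))
    (n : ℕ) (ρ : G →* (Matrix (Fin n) (Fin n) (ZMod p))ˣ) :
    ∏ i, Nat.card {x : Fin n → ZMod p //
        ∀ g ∈ S i, (ρ g : Matrix (Fin n) (Fin n) (ZMod p)).mulVec x = x} ^ (a i * Nat.card (S i)) =
      ∏ i, Nat.card {x : Fin n → ZMod p //
        ∀ g ∈ S i, (ρ g : Matrix (Fin n) (Fin n) (ZMod p)).mulVec x = x} ^ (b i * Nat.card (S i)) := by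
  classical
  haveI : Fintype G := Fintype.ofFinite G
  let ρL : G →* Module.End (ZMod p) (Fin n → ZMod p) :=
    (Matrix.toLinAlgEquiv' : Matrix (Fin n) (Fin n) (ZMod p) ≃ₐ[ZMod p] _).toMonoidHom.comp
      ((Units.coeHom _).comp ρ)
  have hρL : ∀ g x, ρL g x = (ρ g : Matrix (Fin n) (Fin n) (ZMod p)).mulVec x := fun g x => rfl
  have hS : ∀ i, ¬ p ∣ Nat.card (S i) := fun i h => hG (h.trans (Subgroup.card_subgroup_dvd_card _))
  let W : ι → Submodule (ZMod p) (Fin n → ZMod p) := fun i =>
    { carrier := {x | ∀ g ∈ S i, ρL g x = x}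
      add_mem' := fun {x y} hx hy g hg => by rw [map_add, hx g hg, hy g hg]
      zero_mem' := fun g _ => map_zero _
      smul_mem' := fun c x hx g hg => by rw [map_smul, hx g hg] }
  let d : ι → ℕ := fun i => Module.finrank (ZMod p) (W i)
  have hcard : ∀ i, Nat.card {x : Fin n → ZMod p //
      ∀ g ∈ S i, (ρ g : Matrix (Fin n) (Fin n) (ZMod p)).mulVec x = x} = p ^ d i := fun i => by
    show Nat.card (W i) = _
    rw [Module.natCard_eq_pow_finrank (K := ZMod p), Nat.card_zmod]
  simp only [hcard, ← pow_mul, Finset.prod_pow_eq_pow_sum]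
  congr 1
  set X := ∑ i, d i * (a i * Nat.card (S i)) with hX
  set Y := ∑ i, d i * (b i * Nat.card (S i)) with hY
  set k := X + Y with hk
  obtain ⟨ρ', hρ'⟩ := exists_lift hG k n ρ
  haveI : NeZero (p ^ (k + 1)) := ⟨pow_ne_zero _ hp.out.ne_zero⟩
  have hunit : ∀ i, IsUnit ((Nat.card (S i) : ℕ) : ZMod (p ^ (k + 1))) := fun i =>
    (ZMod.isUnit_iff_coprime _ _).mpr
      (Nat.Coprime.pow_right _ ((hp.out.coprime_iff_not_dvd.mpr (hS i)).symm))
  let T : ι → Matrix (Fin n) (Fin n) (ZMod (p ^ (k + 1))) := fun i =>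
    ∑ g : S i, ((ρ' (g : G) : _ˣ) : Matrix _ _ _)
  have hTT : ∀ i, T i * T i = (Nat.card (S i) : ZMod (p ^ (k + 1))) • T i := fun i => by
    rw [Finset.sum_mul, Nat.cast_smul_eq_nsmul, Nat.card_eq_fintype_card, ← Finset.card_univ,
      ← Finset.sum_const]
    refine Finset.sum_congr rfl fun g _ => ?_
    rw [Finset.mul_sum]
    exact Fintype.sum_equiv (Equiv.mulLeft g) _ _ fun h => by simp
  have htr : ∀ i, Matrix.trace (T i) = ((Nat.card (S i) * d i : ℕ) : ZMod (p ^ (k + 1))) := by
    intro i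
    obtain ⟨s, hs⟩ := hunit i
    set e := ((s⁻¹ : _ˣ) : ZMod (p ^ (k + 1))) • T i with he
    have hee : e * e = e := by
      rw [he, smul_mul_smul_comm, hTT, smul_smul, ← hs, mul_assoc, Units.inv_mul, mul_one]
    set E : Module.End (ZMod p) (Fin n → ZMod p) :=
      Matrix.toLin' (red p k n e) with hE
    have hq : ∃ q : ZMod p, E = q • ∑ g : S i, ρL (g : G) ∧ q * (Nat.card (S i) : ZMod p) = 1 := by
      refine ⟨ZMod.castHom (dvd_pow_self p (Nat.succ_ne_zero k)) (ZMod p) (s⁻¹ : _ˣ), ?_, ?_⟩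
      · have h1 : red p k n e = ZMod.castHom (dvd_pow_self p (Nat.succ_ne_zero k)) (ZMod p)
            ((s⁻¹ : _ˣ) : ZMod (p ^ (k + 1))) • red p k n (T i) := by
          ext x y
          simp only [red, he, RingHom.mapMatrix_apply, Matrix.map_apply, Matrix.smul_apply,
            smul_eq_mul, map_mul]
        rw [hE, h1, map_smul, map_sum, map_sum]
        congr 1
        refine Finset.sum_congr rfl fun g _ => ?_
        exact congrArg (fun u : (Matrix (Fin n) (Fin n) (ZMod p))ˣ =>
          Matrix.toLin' (u : Matrix (Fin n) (Fin n) (ZMod p))) (hρ' (g : G))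
      · rw [← map_natCast (ZMod.castHom (dvd_pow_self p (Nat.succ_ne_zero k)) (ZMod p)), ← map_mul,
          ← hs, Units.inv_mul, map_one]
    obtain ⟨q, hEq, hq1⟩ := hq
    have hEW : ∀ x, E x ∈ W i := by
      intro x g hg
      rw [hEq, LinearMap.smul_apply, map_smul, LinearMap.sum_apply, map_sum]
      congr 1
      refine Fintype.sum_equiv (Equiv.mulLeft (⟨g, hg⟩ : S i)) _ _ fun h => ?_
      simp
    have hEid : ∀ x ∈ W i, E x = x := fun x hx => by
      rw [hEq, LinearMap.smul_apply, LinearMap.sum_apply, Finset.sum_congr rfl fun (g : S i) _ => hx g g.2,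
        Finset.sum_const, Finset.card_univ, ← Nat.card_eq_fintype_card, ← Nat.cast_smul_eq_nsmul (ZMod p),
        smul_smul, hq1, one_smul]
    let bW := (Module.finBasis (ZMod p) (W i)).equivFun
    let Al : (Fin (d i) → ZMod p) →ₗ[ZMod p] (Fin n → ZMod p) :=
      (W i).subtype ∘ₗ bW.symm.toLinearMap
    let Bl : (Fin n → ZMod p) →ₗ[ZMod p] (Fin (d i) → ZMod p) :=
      bW.toLinearMap ∘ₗ E.codRestrict (W i) hEW
    have h := trace_idempotent (k := k) hee (LinearMap.toMatrix' Al) (LinearMap.toMatrix' Bl) (by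
        rw [← LinearMap.toMatrix'_comp, show Al ∘ₗ Bl = E from LinearMap.ext fun x => by
          simp [Al, Bl], hE, LinearMap.toMatrix'_toLin'])
      (by
        rw [← LinearMap.toMatrix'_comp, show Bl ∘ₗ Al = LinearMap.id from LinearMap.ext fun x => by
          have : E.codRestrict (W i) hEW ((bW.symm x : W i) : Fin n → ZMod p) = bW.symm x :=
            Subtype.ext (hEid _ (bW.symm x).2)
          simp [Al, Bl, this], LinearMap.toMatrix'_id])
    rw [he, Matrix.trace_smul, smul_eq_mul] at h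
    rw [Nat.cast_mul, ← h, ← mul_assoc, ← hs, Units.mul_inv, one_mul]
  have hsum : ∀ c : ι → ℕ, ∑ i, (c i : ZMod (p ^ (k + 1))) * Matrix.trace (T i) =
      Matrix.trace (∑ g : G, (∑ i, if g ∈ S i then c i else 0) •
        ((ρ' g : _ˣ) : Matrix (Fin n) (Fin n) (ZMod (p ^ (k + 1))))) := by
    intro c
    simp only [Finset.sum_smul, Matrix.trace_sum]
    rw [Finset.sum_comm]
    refine Finset.sum_congr rfl fun i _ => ?_
    simp only [ite_smul, zero_smul, apply_ite Matrix.trace, Matrix.trace_zero]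
    rw [← Finset.sum_filter, Finset.sum_subtype (p := fun g => g ∈ S i) _ (by simp),
      show T i = ∑ g : S i, ((ρ' (g : G) : _ˣ) : Matrix (Fin n) (Fin n) (ZMod (p ^ (k + 1)))) from rfl,
      Matrix.trace_sum, Finset.mul_sum]
    refine Finset.sum_congr rfl fun g _ => ?_
    rw [Matrix.trace_smul, nsmul_eq_mul]
  have hval : ∀ c : ι → ℕ, ∑ i, (c i : ZMod (p ^ (k + 1))) * Matrix.trace (T i) =
      ((∑ i, d i * (c i * Nat.card (S i)) : ℕ) : ZMod (p ^ (k + 1))) := fun c => by
    rw [Nat.cast_sum]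
    refine Finset.sum_congr rfl fun i _ => ?_
    rw [htr]
    push_cast
    ring
  have heq : (X : ZMod (p ^ (k + 1))) = Y := by
    rw [hX, hY, ← hval, ← hval, hsum, hsum]
    simp only [hrel]
  have hlt : k + 1 < p ^ (k + 1) := Nat.lt_pow_self hp.out.one_lt
  have := (ZMod.natCast_eq_natCast_iff' X Y (p ^ (k + 1))).mp heq
  rwa [Nat.mod_eq_of_lt (by omega), Nat.mod_eq_of_lt (by omega)] at this

/-- The case of a module. -/
theorem module_formula {G : Type u} [Group G] [Finite G] (hG : ¬ p ∣ Nat.card G) {ι : Type w}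
    [Fintype ι] (S : ι → Subgroup G) (a b : ι → ℕ) [∀ i, DecidablePred (· ∈ S i)]
    (hrel : ∀ g : G, ∑ i, (if g ∈ S i then a i else 0) = ∑ i, (if g ∈ S i then b i else 0))
    {V : Type v} [AddCommGroup V] [Module (ZMod p) V] [Finite V]
    (act : G →* Module.End (ZMod p) V) :
    ∏ i, Nat.card {x : V // ∀ g ∈ S i, act g x = x} ^ (a i * Nat.card (S i)) =
      ∏ i, Nat.card {x : V // ∀ g ∈ S i, act g x = x} ^ (b i * Nat.card (S i)) := by
  classical
  haveI : Module.Finite (ZMod p) V := Module.Finite.of_finite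
  set m := Module.finrank (ZMod p) V with hm
  let eqv : V ≃ₗ[ZMod p] (Fin m → ZMod p) := (Module.finBasis (ZMod p) V).equivFun
  let ρM : G →* Matrix (Fin m) (Fin m) (ZMod p) :=
    (LinearMap.toMatrixAlgEquiv' : _ ≃ₐ[ZMod p] Matrix (Fin m) (Fin m) (ZMod p)).toMonoidHom.comp
      { toFun := fun g => eqv.conj (act g)
        map_one' := by rw [map_one]; exact LinearMap.ext fun x => by simp [LinearEquiv.conj_apply]
        map_mul' := fun g h => by
          rw [map_mul]; exact LinearMap.ext fun x => by simp [LinearEquiv.conj_apply] }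
  have hfix : ∀ i, Nat.card {x : Fin m → ZMod p //
      ∀ g ∈ S i, (ρM.toHomUnits g : Matrix (Fin m) (Fin m) (ZMod p)).mulVec x = x} =
      Nat.card {x : V // ∀ g ∈ S i, act g x = x} := by
    intro i
    refine (Nat.card_congr (eqv.toEquiv.subtypeEquiv fun x => ?_)).symm
    refine forall_congr' fun g => imp_congr_right fun _ => ?_
    show act g x = x ↔ (LinearMap.toMatrix' (eqv.conj (act g))).mulVec (eqv x) = eqv x
    rw [LinearMap.toMatrix'_mulVec, LinearEquiv.conj_apply_apply, LinearEquiv.symm_apply_apply,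
      eqv.injective.eq_iff]
  simp only [← hfix]
  exact linear_formula hG S a b hrel m ρM.toHomUnits

omit hp

variable {G : Type u} [Group G]

/-- The fixed points in `K` of the image of `S`. -/
abbrev fixC {X : Type v} [Group X] (φ : G →* X) (K : Subgroup X) (S : Subgroup G) : Subgroup X :=
  K ⊓ Subgroup.centralizer ((S.map φ : Subgroup X) : Set X)

theorem card_inf_mul_card_map {X : Type v} [Group X] [Finite X] (M A : Subgroup X) [M.Normal] :
    Nat.card (M ⊓ A : Subgroup X) * Nat.card (A.map (QuotientGroup.mk' M)) = Nat.card A := by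
  have h := Subgroup.relIndex_mul_relIndex ⊥ (M ⊓ A) A bot_le inf_le_right
  rw [Subgroup.relIndex_bot_left, Subgroup.relIndex_bot_left, Subgroup.inf_relIndex_right] at h
  rw [← Subgroup.relIndex_ker, QuotientGroup.ker_mk']
  exact h

/-- The case of an abelian group of exponent `p`. -/
theorem abelian_formula {p : ℕ} [Fact p.Prime] {G : Type u} [Group G] [Finite G]
    (hG : ¬ p ∣ Nat.card G) {ι : Type w}
    [Fintype ι] (S : ι → Subgroup G) (a b : ι → ℕ) [∀ i, DecidablePred (· ∈ S i)]
    (hrel : ∀ g : G, ∑ i, (if g ∈ S i then a i else 0) = ∑ i, (if g ∈ S i then b i else 0))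
    {A : Type v} [CommGroup A] [Finite A] (hA : ∀ x : A, x ^ p = 1) (act : G → A →* A)
    (hone : ∀ x, act 1 x = x) (hmul : ∀ g h x, act (g * h) x = act g (act h x)) :
    ∏ i, Nat.card {x : A // ∀ g ∈ S i, act g x = x} ^ (a i * Nat.card (S i)) =
      ∏ i, Nat.card {x : A // ∀ g ∈ S i, act g x = x} ^ (b i * Nat.card (S i)) := by
  have hexp : ∀ x : Additive A, p • x = 0 := fun x => Additive.toMul.injective (by
    rw [toMul_nsmul, toMul_zero]; exact hA (Additive.toMul x))
  letI : Module (ZMod p) (Additive A) := AddCommGroup.zmodModule (n := p) hexp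
  let actL : G →* Module.End (ZMod p) (Additive A) :=
    { toFun := fun g =>
        { toFun := fun x => Additive.ofMul (act g (Additive.toMul x))
          map_add' := fun x y => congrArg Additive.ofMul (map_mul (act g) _ _)
          map_smul' := fun c x => ZMod.map_smul ((act g).toAdditive) c x }
      map_one' := LinearMap.ext fun x => Additive.toMul.injective (hone (Additive.toMul x))
      map_mul' := fun g h => LinearMap.ext fun x =>
        Additive.toMul.injective (hmul g h (Additive.toMul x)) }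
  exact module_formula hG S a b hrel actL

/-- Relations among the subgroups of `G` give relations among the orders of fixed points. -/
theorem formula [Finite G] {ι : Type w} [Fintype ι] (S : ι → Subgroup G) (a b : ι → ℕ)
    [∀ i, DecidablePred (· ∈ S i)]
    (hrel : ∀ g : G, ∑ i, (if g ∈ S i then a i else 0) = ∑ i, (if g ∈ S i then b i else 0)) :
    ∀ (n : ℕ) (X : Type v) [Group X] [Finite X] (φ : G →* X) (K : Subgroup X) [K.Normal],
      Nat.card K = n → Nat.Coprime (Nat.card K) (Nat.card G) → Group.IsSolvable K →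
      ∏ i, Nat.card (fixC φ K (S i)) ^ (a i * Nat.card (S i)) =
        ∏ i, Nat.card (fixC φ K (S i)) ^ (b i * Nat.card (S i)) := by
  classical
  intro n
  induction n using Nat.strong_induction_on with
  | _ n ih =>
  intro X _ _ φ K hKn hn hcop hsolv
  by_cases hK1 : K = ⊥
  · have h1 : ∀ i, Nat.card (fixC φ K (S i)) = 1 := fun i =>
      Subgroup.card_eq_one.mpr (by simp [fixC, hK1])
    simp only [h1, one_pow]
  -- the reduction along an invariant subgroup
  have reduce : ∀ M : Subgroup X, M.Normal → M ≤ K → M ≠ ⊥ → M ≠ K →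
      ∏ i, Nat.card (fixC φ K (S i)) ^ (a i * Nat.card (S i)) =
        ∏ i, Nat.card (fixC φ K (S i)) ^ (b i * Nat.card (S i)) := by
    intro M hM hMK hM1 hMne
    haveI := hM
    set f := QuotientGroup.mk' M
    haveI : (K.map f).Normal := hKn.map f (QuotientGroup.mk'_surjective M)
    have hMcard : Nat.card M < n := by
      rw [← hn]
      exact lt_of_le_of_ne (Subgroup.card_le_of_le hMK)
        fun e => hMne (Subgroup.eq_of_le_of_card_ge hMK e.ge)
    have hQcard : Nat.card (K.map f) < n := by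
      rw [← hn, ← card_inf_mul_card_map M K, inf_eq_left.mpr hMK]
      exact lt_mul_left Nat.card_pos ((Subgroup.one_lt_card_iff_ne_bot M).mpr hM1)
    have hsplit : ∀ i, Nat.card (fixC φ K (S i)) =
        Nat.card (fixC φ M (S i)) * Nat.card (fixC (f.comp φ) (K.map f) (S i)) := by
      intro i
      rw [← card_inf_mul_card_map M (fixC φ K (S i))]
      congr 1
      · rw [show M ⊓ fixC φ K (S i) = fixC φ M (S i) by
          rw [fixC, fixC, ← inf_assoc, inf_eq_left.mpr hMK]]
      · congr 1
        rw [fixC, fixC, CoprimeAct.map_inf_centralizer f Subgroup.le_normalizer_of_normal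
          ((hcop.symm.coprime_dvd_left (Subgroup.card_subgroup_dvd_card (S i))).coprime_dvd_left
            (Subgroup.card_map_dvd (S i) φ)) (Or.inr hsolv), Subgroup.map_map]
    simp only [hsplit, mul_pow, Finset.prod_mul_distrib]
    haveI := hsolv
    rw [ih _ hMcard X φ M rfl (hcop.coprime_dvd_left (Subgroup.card_dvd_of_le hMK))
        (Group.isSolvable_of_isSolvable_injective (Subgroup.inclusion_injective hMK)),
      ih _ hQcard (X ⧸ M) (f.comp φ) (K.map f) rfl
        (hcop.coprime_dvd_left (Subgroup.card_map_dvd K f))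
        (Group.isSolvable_of_surjective (f := f.subgroupMap K) (f.subgroupMap_surjective K))]
  haveI := hsolv
  by_cases hcomm : ⁅K, K⁆ = ⊥
  swap
  · exact reduce _ inferInstance (Subgroup.commutator_le_right K K) hcomm
      (by
        haveI := K.nontrivial_iff_ne_bot.2 hK1
        have h := Subgroup.map_subtype_lt_map_subtype.2
          (Group.IsSolvable.commutator_lt_top_of_nontrivial K)
        rw [Subgroup.map_subtype_commutator, ← MonoidHom.range_eq_map, Subgroup.range_subtype] at h
        exact h.ne)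
  have hab : ∀ x ∈ K, ∀ y ∈ K, x * y = y * x := fun x hx y hy => by
    have := Subgroup.commutator_mem_commutator hx hy
    rw [hcomm, Subgroup.mem_bot] at this
    exact commutatorElement_eq_one_iff_mul_comm.mp this
  obtain ⟨p, hp, hdvd⟩ := Nat.exists_prime_and_dvd
    (fun h => hK1 (Subgroup.card_eq_one.mp h) : Nat.card K ≠ 1)
  haveI := Fact.mk hp
  let Ω : Subgroup X :=
    { carrier := {x | x ∈ K ∧ x ^ p = 1}
      one_mem' := ⟨K.one_mem, one_pow p⟩
      mul_mem' := fun {x y} hx hy =>
        ⟨K.mul_mem hx.1 hy.1, by rw [Commute.mul_pow (hab x hx.1 y hy.1), hx.2, hy.2, one_mul]⟩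
      inv_mem' := fun {x} hx => ⟨K.inv_mem hx.1, by rw [inv_pow, hx.2, inv_one]⟩ }
  have hΩn : Ω.Normal := ⟨fun x hx g =>
    ⟨hKn.conj_mem x hx.1 g, by rw [conj_pow, hx.2, mul_one, mul_inv_cancel]⟩⟩
  have hΩ1 : Ω ≠ ⊥ := fun h => by
    obtain ⟨y, hy⟩ := exists_prime_orderOf_dvd_card' (G := K) p hdvd
    have hyΩ : (y : X) ∈ Ω :=
      ⟨y.2, by rw [← Subgroup.coe_pow, ← hy, pow_orderOf_eq_one]; rfl⟩
    rw [h, Subgroup.mem_bot, OneMemClass.coe_eq_one] at hyΩ
    rw [hyΩ, orderOf_one] at hy
    exact hp.ne_one hy.symm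
  by_cases hΩK : Ω = K
  swap
  · exact reduce Ω hΩn (fun x hx => hx.1) hΩ1 hΩK
  letI : CommGroup K :=
    { (inferInstance : Group K) with mul_comm := fun x y => Subtype.ext (hab x x.2 y y.2) }
  have hexp : ∀ x : K, x ^ p = 1 := fun x => by
    refine Subtype.ext ?_
    have : (x : X) ∈ Ω := hΩK.symm ▸ x.2
    simpa using this.2
  let conjK : G → K →* K := fun g =>
    { toFun := fun x => ⟨φ g * x * (φ g)⁻¹, hKn.conj_mem _ x.2 _⟩
      map_one' := Subtype.ext (by simp)
      map_mul' := fun x y => Subtype.ext (by simp [mul_assoc]) }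
  have hpG : ¬ p ∣ Nat.card G := fun h =>
    hp.ne_one (Nat.eq_one_of_dvd_coprimes hcop hdvd h)
  have hfix : ∀ i, Nat.card {x : K // ∀ g ∈ S i, conjK g x = x} =
      Nat.card (fixC φ K (S i)) := by
    intro i
    refine (Nat.card_congr ?_).symm
    refine Equiv.trans (Equiv.subtypeSubtypeEquivSubtypeInter (fun x => x ∈ K)
      (fun x => x ∈ Subgroup.centralizer ((S i).map φ : Set X))).symm ?_
    refine (Equiv.refl K).subtypeEquiv fun x => ?_
    constructor
    · intro hx g hg
      refine Subtype.ext ?_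
      show φ g * (x : X) * (φ g)⁻¹ = x
      rw [Subgroup.mem_centralizer_iff.mp hx _ ⟨g, hg, rfl⟩, mul_inv_cancel_right]
    · intro hx
      rw [Subgroup.mem_centralizer_iff]
      rintro _ ⟨g, hg, rfl⟩
      have h : φ g * (x : X) * (φ g)⁻¹ = x := congrArg Subtype.val (hx g hg)
      exact mul_inv_eq_iff_eq_mul.mp h
  simp only [← hfix]
  exact abelian_formula hpG S a b hrel hexp conjK (fun x => Subtype.ext (by simp [conjK]))
    (fun g h x => Subtype.ext (by simp [conjK, mul_assoc]))

end Cfsg.Agent.Char.Wielandt
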